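import Mathlib

set_option autoImplicit false

namespace Cfsg.Agent.Lib.Helper8

open Module

variable {F V : Type*} [Field F] [AddCommGroup V] [Module F V]

/-- the underlying linear map of an abstract transvection -/
def altTransvLin (B : LinearMap.BilinForm F V) (a : V) (c : F) : V →ₗ[F] V :=
  LinearMap.id + c • (B.flip a).smulRight a

theorem altTransvLin_apply (B : LinearMap.BilinForm F V) (a : V) (c : F) (v : V) :
    altTransvLin B a c v = v + (c * B v a) • a := by
  simp [altTransvLin, LinearMap.smulRight_apply, smul_smul]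

/-- the abstract transvection `v ↦ v + c B(v, a) a` -/
def altTransv (B : LinearMap.BilinForm F V) (hA : B.IsAlt) (a : V) (c : F) : V ≃ₗ[F] V :=
  LinearEquiv.ofLinearMap (altTransvLin B a c) (altTransvLin B a (-c))
    (by
      ext v
      simp only [LinearMap.comp_apply, altTransvLin_apply, LinearMap.id_apply, map_add, map_smul,
        hA a, mul_zero]
      module)
    (by
      ext v
      simp only [LinearMap.comp_apply, altTransvLin_apply, LinearMap.id_apply, map_add, map_smul,
        hA a, mul_zero]
      module)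

theorem altTransv_apply (B : LinearMap.BilinForm F V) (hA : B.IsAlt) (a : V) (c : F) (v : V) :
    altTransv B hA a c v = v + (c * B v a) • a :=
  altTransvLin_apply B a c v

theorem altTransv_isometry (B : LinearMap.BilinForm F V) (hA : B.IsAlt) (a : V) (c : F) (u v : V) :
    B (altTransv B hA a c u) (altTransv B hA a c v) = B u v := by
  rw [altTransv_apply, altTransv_apply]
  have hneg : B a v = -B v a := (LinearMap.IsAlt.neg hA v a).symm
  simp only [map_add, map_smul, LinearMap.add_apply, LinearMap.smul_apply, smul_eq_mul, hA a, hneg]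
  ring

theorem altTransv_fix (B : LinearMap.BilinForm F V) (hA : B.IsAlt) (a : V) (c : F) (v : V)
    (h : B v a = 0) : altTransv B hA a c v = v := by
  rw [altTransv_apply, h, mul_zero, zero_smul, add_zero]

theorem altTransv_move (B : LinearMap.BilinForm F V) (hA : B.IsAlt) (p q : V) (h : B p q ≠ 0) :
    altTransv B hA (p - q) (B p q)⁻¹ p = q := by
  rw [altTransv_apply, map_sub, hA p, zero_sub, mul_neg, inv_mul_cancel₀ h, neg_smul, one_smul]
  abel

variable [FiniteDimensional F V]

/-- the one-step extension lemma -/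
theorem witt_step (B : LinearMap.BilinForm F V) (hB : B.Nondegenerate) (hA : B.IsAlt)
    (X : Submodule F V) (x y : V) (hx : x ∉ X) (hy : y ∉ X)
    (hxy : ∀ x' ∈ X, B y x' = B x x') :
    ∃ h : V ≃ₗ[F] V, (∀ u v, B (h u) (h v) = B u v) ∧ (∀ x' ∈ X, h x' = x') ∧ h x = y := by
  have hneg : ∀ u v, B u v = -B v u := fun u v => (LinearMap.IsAlt.neg hA v u).symm
  have hperp : ∀ x' ∈ X, B x' (x - y) = 0 := by
    intro x' hx'
    rw [map_sub, hneg x' x, hneg x' y, hxy x' hx']
    ring
  by_cases hBxy : B x y = 0
  · -- need an auxiliary vector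
    have hoo := LinearMap.BilinForm.orthogonal_orthogonal hB (LinearMap.IsAlt.isRefl hA) X
    have ex1 : ∃ u ∈ B.orthogonal X, B u x ≠ 0 := by
      by_contra hcon
      push Not at hcon
      apply hx
      rw [← hoo, LinearMap.BilinForm.mem_orthogonal_iff]
      exact hcon
    have ex2 : ∃ u ∈ B.orthogonal X, B u y ≠ 0 := by
      by_contra hcon
      push Not at hcon
      apply hy
      rw [← hoo, LinearMap.BilinForm.mem_orthogonal_iff]
      exact hcon
    obtain ⟨u1, hu1, h1⟩ := ex1
    obtain ⟨u2, hu2, h2⟩ := ex2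
    obtain ⟨u, hu, hux, huy⟩ : ∃ u ∈ B.orthogonal X, B u x ≠ 0 ∧ B u y ≠ 0 := by
      by_cases h3 : B u1 y = 0
      · by_cases h4 : B u2 x = 0
        · refine ⟨u1 + u2, Submodule.add_mem _ hu1 hu2, ?_, ?_⟩
          · rw [map_add, LinearMap.add_apply, h4, add_zero]; exact h1
          · rw [map_add, LinearMap.add_apply, h3, zero_add]; exact h2
        · exact ⟨u2, hu2, h4, h2⟩
      · exact ⟨u1, hu1, h1, h3⟩
    rw [LinearMap.BilinForm.mem_orthogonal_iff] at hu
    set z := x + u with hz
    have hxz : B x z ≠ 0 := by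
      rw [hz, map_add, hA x, zero_add, hneg]
      exact neg_ne_zero.2 hux
    have hzy : B z y ≠ 0 := by
      rw [hz, map_add, LinearMap.add_apply, hBxy, zero_add]
      exact huy
    refine ⟨(altTransv B hA (x - z) (B x z)⁻¹).trans (altTransv B hA (z - y) (B z y)⁻¹), ?_, ?_, ?_⟩
    · intro a b
      simp only [LinearEquiv.trans_apply, altTransv_isometry]
    · intro x' hx'
      have e1 : B x' (x - z) = 0 := by
        rw [hz, map_sub, map_add, hu x' hx']
        ring
      have e2 : B x' (z - y) = 0 := by
        have : z - y = (x - y) + u := by rw [hz]; abel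
        rw [this, map_add, hperp x' hx', hu x' hx', add_zero]
      rw [LinearEquiv.trans_apply, altTransv_fix B hA _ _ _ e1, altTransv_fix B hA _ _ _ e2]
    · rw [LinearEquiv.trans_apply, altTransv_move B hA x z hxz, altTransv_move B hA z y hzy]
  · refine ⟨altTransv B hA (x - y) (B x y)⁻¹, altTransv_isometry B hA _ _, ?_, ?_⟩
    · intro x' hx'
      exact altTransv_fix B hA _ _ _ (hperp x' hx')
    · exact altTransv_move B hA x y hBxy

/-- Witt's lemma for families -/
theorem witt_family (B : LinearMap.BilinForm F V) (hB : B.Nondegenerate) (hA : B.IsAlt) :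
    ∀ (n : ℕ) (x y : Fin n → V), LinearIndependent F x → LinearIndependent F y →
      (∀ i j, B (y i) (y j) = B (x i) (x j)) →
      ∃ g : V ≃ₗ[F] V, (∀ u v, B (g u) (g v) = B u v) ∧ ∀ i, g (x i) = y i := by
  intro n
  induction n with
  | zero =>
    intro x y _ _ _
    exact ⟨LinearEquiv.refl F V, fun _ _ => rfl, fun i => i.elim0⟩
  | succ n ih =>
    intro x y hx hy hxy
    rw [linearIndependent_finSucc'] at hx hy
    obtain ⟨g', hg'iso, hg'⟩ := ih (Fin.init x) (Fin.init y) hx.1 hy.1
      (fun i j => hxy i.castSucc j.castSucc)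
    set X : Submodule F V := Submodule.span F (Set.range (Fin.init x)) with hX
    set y' := g'.symm (y (Fin.last n)) with hy'
    have hg'y' : g' y' = y (Fin.last n) := by rw [hy']; exact g'.apply_symm_apply _
    have hy'X : y' ∉ X := by
      intro hmem
      apply hy.2
      have : g' y' ∈ Submodule.map (g' : V →ₗ[F] V) X := ⟨y', hmem, rfl⟩
      rw [hX, Submodule.map_span] at this
      rw [← hg'y']
      refine Submodule.span_mono ?_ this
      rintro _ ⟨_, ⟨i, rfl⟩, rfl⟩
      exact ⟨i, (hg' i).symm⟩
    have hcond : ∀ x' ∈ X, B y' x' = B (x (Fin.last n)) x' := by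
      intro x' hx'
      induction hx' using Submodule.span_induction with
      | mem z hz =>
        obtain ⟨i, rfl⟩ := hz
        have : B y' (Fin.init x i) = B (g' y') (g' (Fin.init x i)) := (hg'iso _ _).symm
        rw [this, hg'y', hg' i]
        exact hxy (Fin.last n) i.castSucc
      | zero => simp
      | add a b _ _ ha hb => rw [map_add, map_add, ha, hb]
      | smul c a _ ha => rw [map_smul, map_smul, ha]
    obtain ⟨h, hiso, hfix, hmove⟩ := witt_step B hB hA X (x (Fin.last n)) y' hx.2 hy'X hcond
    refine ⟨h.trans g', ?_, ?_⟩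
    · intro u v
      simp only [LinearEquiv.trans_apply, hg'iso, hiso]
    · intro i
      refine Fin.lastCases ?_ (fun j => ?_) i
      · rw [LinearEquiv.trans_apply, hmove, hg'y']
      · rw [LinearEquiv.trans_apply]
        have : h (x j.castSucc) = x j.castSucc :=
          hfix _ (Submodule.subset_span ⟨j, rfl⟩)
        rw [this]
        exact hg' j

end Cfsg.Agent.Lib.Helper8
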