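import Mathlib

set_option autoImplicit false

namespace Cfsg.Agent.Lib.Helper8

open Module QuadraticMap

variable {F V : Type*} [Field F] [AddCommGroup V] [Module F V]

theorem quad_expand (Q : QuadraticForm F V) (v p w : V) (a b : F) :
    Q (v + a • p + b • w) = Q v + a * a * Q p + b * b * Q w + a * polar Q v p + b * polar Q v w
      + a * b * polar Q p w := by
  rw [QuadraticMap.map_add Q, QuadraticMap.map_add Q v, QuadraticMap.map_smul,
    QuadraticMap.map_smul, polar_add_left, polar_smul_right, polar_smul_left, polar_smul_right,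
    polar_smul_right]
  simp only [smul_eq_mul]
  ring

theorem quad_sub (Q : QuadraticForm F V) (x y : V) : Q (x - y) = Q x + Q y - polar Q x y := by
  have := quad_expand Q x y 0 (-1) 0
  simp at this
  rw [sub_eq_add_neg, this]; ring

theorem polar_of_preserving (Q : QuadraticForm F V) (g : V →ₗ[F] V) (hg : ∀ v, Q (g v) = Q v)
    (u v : V) : polar Q (g u) (g v) = polar Q u v := by
  simp only [polar, ← map_add, hg]

variable [FiniteDimensional F V]

omit [FiniteDimensional F V] in
/-- a linear map preserving `Q`, whose polar form is nondegenerate, is injective -/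
theorem injective_of_quad_preserving (Q : QuadraticForm F V)
    (hQ : (QuadraticMap.polarBilin Q).Nondegenerate) (g : V →ₗ[F] V)
    (hg : ∀ v, Q (g v) = Q v) : Function.Injective g := by
  rw [injective_iff_map_eq_zero]
  intro v hv
  apply hQ.1
  intro u
  show polar Q v u = 0
  rw [← polar_of_preserving Q g hg, hv]
  simp [polar]

/-- the equivalence attached to a `Q`-preserving linear map -/
noncomputable def quadEquiv (Q : QuadraticForm F V)
    (hQ : (QuadraticMap.polarBilin Q).Nondegenerate) (g : V →ₗ[F] V)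
    (hg : ∀ v, Q (g v) = Q v) : V ≃ₗ[F] V :=
  LinearEquiv.ofInjectiveEndo g (injective_of_quad_preserving Q hQ g hg)

theorem quadEquiv_apply (Q : QuadraticForm F V)
    (hQ : (QuadraticMap.polarBilin Q).Nondegenerate) (g : V →ₗ[F] V)
    (hg : ∀ v, Q (g v) = Q v) (v : V) : quadEquiv Q hQ g hg v = g v := by
  simp [quadEquiv]

/-- separation: a vector outside a subspace is detected by the orthogonal complement -/
theorem exists_orth_of_notMem (Q : QuadraticForm F V)
    (hQ : (QuadraticMap.polarBilin Q).Nondegenerate) (X : Submodule F V) (x : V) (hx : x ∉ X) :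
    ∃ u : V, (∀ x' ∈ X, polar Q u x' = 0) ∧ polar Q u x ≠ 0 := by
  have hrefl : (QuadraticMap.polarBilin Q).IsRefl := by
    intro a b h
    show polar Q b a = 0
    rw [polar_comm]; exact h
  have hoo := LinearMap.BilinForm.orthogonal_orthogonal hQ hrefl X
  by_contra hcon
  push Not at hcon
  apply hx
  rw [← hoo, LinearMap.BilinForm.mem_orthogonal_iff]
  intro u hu
  rw [LinearMap.BilinForm.mem_orthogonal_iff] at hu
  show polar Q u x = 0
  apply hcon
  intro x' hx'
  rw [polar_comm]
  exact hu x' hx'

/-- the reflection step -/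
theorem witt_refl_step (Q : QuadraticForm F V) (hQ : (QuadraticMap.polarBilin Q).Nondegenerate)
    (X : Submodule F V) (x y : V) (hxy : ∀ x' ∈ X, polar Q y x' = polar Q x x')
    (hQxy : Q y = Q x) (hne : Q (x - y) ≠ 0) :
    ∃ h : V ≃ₗ[F] V, (∀ v, Q (h v) = Q v) ∧ (∀ x' ∈ X, h x' = x') ∧ h x = y := by
  set p := x - y with hp
  let g : V →ₗ[F] V := LinearMap.id - (Q p)⁻¹ • (QuadraticMap.polarBilin Q p).smulRight p
  have hg_apply : ∀ v, g v = v + (-((Q p)⁻¹ * polar Q p v)) • p := by
    intro v
    simp only [g, LinearMap.sub_apply, LinearMap.id_apply, LinearMap.smul_apply,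
      LinearMap.smulRight_apply, QuadraticMap.polarBilin_apply_apply, smul_smul, neg_smul]
    abel
  have hg : ∀ v, Q (g v) = Q v := by
    intro v
    rw [hg_apply]
    have := quad_expand Q v p 0 (-((Q p)⁻¹ * polar Q p v)) 0
    simp only [zero_smul, add_zero, mul_zero, zero_mul] at this
    rw [this, polar_comm Q v p]
    field_simp
    ring
  refine ⟨quadEquiv Q hQ g hg, fun v => by rw [quadEquiv_apply]; exact hg v, ?_, ?_⟩
  · intro x' hx'
    rw [quadEquiv_apply, hg_apply]
    have : polar Q p x' = 0 := by
      rw [hp, polar_sub_left, hxy x' hx', sub_self]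
    rw [this, mul_zero, neg_zero, zero_smul, add_zero]
  · rw [quadEquiv_apply, hg_apply]
    have h1 : polar Q p x = Q p := by
      rw [hp, polar_sub_left, quad_sub, polar_self, hQxy, polar_comm Q y x]
      ring
    rw [h1, inv_mul_cancel₀ hne, neg_smul, one_smul, hp]
    abel

/-- the one-step extension lemma for quadratic forms -/
theorem witt_step_quad (Q : QuadraticForm F V) (hQ : (QuadraticMap.polarBilin Q).Nondegenerate)
    (X : Submodule F V) (x y : V) (hx : x ∉ X) (hy : y ∉ X)
    (hxy : ∀ x' ∈ X, polar Q y x' = polar Q x x') (hQxy : Q y = Q x) :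
    ∃ h : V ≃ₗ[F] V, (∀ v, Q (h v) = Q v) ∧ (∀ x' ∈ X, h x' = x') ∧ h x = y := by
  by_cases hne : Q (x - y) = 0
  swap
  · exact witt_refl_step Q hQ X x y hxy hQxy hne
  set p := x - y with hp
  have hpX : ∀ x' ∈ X, polar Q p x' = 0 := by
    intro x' hx'
    rw [hp, polar_sub_left, hxy x' hx', sub_self]
  have hpx : polar Q p x = 0 := by
    rw [hp, polar_sub_left, polar_self, polar_comm Q y x]
    have := quad_sub Q x y
    rw [hne, hQxy] at this
    rw [this]; ring
  by_cases hmem : x ∈ X ⊔ Submodule.span F {p}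
  · -- two reflections
    obtain ⟨x1, hx1, p', hp', hsum⟩ := Submodule.mem_sup.1 hmem
    obtain ⟨d, rfl⟩ := Submodule.mem_span_singleton.1 hp'
    have hd0 : d ≠ 0 := by
      rintro rfl
      apply hx
      rw [← hsum, zero_smul, add_zero]; exact hx1
    have hd1 : d - 1 ≠ 0 := by
      intro h
      apply hy
      have : y = x1 + (d - 1) • p := by
        rw [sub_smul, one_smul, ← add_sub_assoc, hsum, hp]; abel
      rw [this, h, zero_smul, add_zero]; exact hx1
    have hpnX : p ∉ X := by
      intro h
      apply hx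
      rw [← hsum]
      exact X.add_mem hx1 (X.smul_mem d h)
    obtain ⟨q0, hq0X, hq0p⟩ := exists_orth_of_notMem Q hQ X p hpnX
    -- normalize
    obtain ⟨q1, hq1⟩ : ∃ q1 : V, q1 = (polar Q q0 p)⁻¹ • q0 := ⟨_, rfl⟩
    have hq1p : polar Q q1 p = 1 := by
      rw [hq1, polar_smul_left, smul_eq_mul, inv_mul_cancel₀ hq0p]
    have hq1X : ∀ x' ∈ X, polar Q q1 x' = 0 := by
      intro x' hx'
      rw [hq1, polar_smul_left, hq0X x' hx', smul_zero]
    obtain ⟨q, hq⟩ : ∃ q : V, q = q1 + (-(Q q1)) • p := ⟨_, rfl⟩
    have hQq : Q q = 0 := by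
      have := quad_expand Q q1 p 0 (-(Q q1)) 0
      simp only [zero_smul, add_zero, mul_zero, zero_mul] at this
      rw [hq, this, hne, hq1p]; ring
    have hqp : polar Q q p = 1 := by
      rw [hq, polar_add_left, polar_smul_left, polar_self, hne, hq1p]; simp
    have hqX : ∀ x' ∈ X, polar Q q x' = 0 := by
      intro x' hx'
      rw [hq, polar_add_left, polar_smul_left, hq1X x' hx', hpX x' hx']; simp
    obtain ⟨z, hz⟩ : ∃ z : V, z = x1 + q := ⟨_, rfl⟩
    have hzX : ∀ x' ∈ X, polar Q z x' = polar Q x x' := by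
      intro x' hx'
      rw [hz, ← hsum, polar_add_left, polar_add_left, polar_smul_left, hqX x' hx', hpX x' hx']
      simp
    have hpx1 : polar Q p x1 = 0 := hpX x1 hx1
    have hqx1 : polar Q q x1 = 0 := hqX x1 hx1
    have hQx : Q x = Q x1 := by
      have := quad_expand Q x1 p 0 d 0
      simp only [zero_smul, add_zero, mul_zero, zero_mul] at this
      rw [← hsum, this, hne, polar_comm Q x1 p, hpx1]; ring
    have hQz : Q z = Q x := by
      rw [hz, QuadraticMap.map_add Q, hQq, polar_comm Q x1 q, hqx1, hQx]; ring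
    have hxz : x - z = d • p + (-1 : F) • q := by
      rw [hz, ← hsum]; simp only [neg_smul, one_smul]; abel
    have hzy : z - y = (-(d - 1)) • p + (1 : F) • q := by
      have : y = x1 + (d - 1) • p := by
        rw [sub_smul, one_smul, ← add_sub_assoc, hsum, hp]; abel
      rw [hz, this]; simp only [neg_smul, one_smul]; abel
    have hQxz : Q (x - z) ≠ 0 := by
      have := quad_expand Q 0 p q d (-1)
      simp only [zero_add] at this
      have e : Q (x - z) = -d := by
        rw [hxz, this, hne, hQq, polar_comm Q p q, hqp]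
        simp only [QuadraticMap.map_zero, polar_zero_left]
        ring
      rw [e]; exact neg_ne_zero.2 hd0
    have hQzy : Q (z - y) ≠ 0 := by
      have := quad_expand Q 0 p q (-(d - 1)) 1
      simp only [zero_add] at this
      have e : Q (z - y) = -(d - 1) := by
        rw [hzy, this, hne, hQq, polar_comm Q p q, hqp]
        simp only [QuadraticMap.map_zero, polar_zero_left]
        ring
      rw [e]; exact neg_ne_zero.2 hd1
    obtain ⟨h1, h1Q, h1X, h1x⟩ := witt_refl_step Q hQ X x z hzX hQz hQxz
    obtain ⟨h2, h2Q, h2X, h2z⟩ := witt_refl_step Q hQ X z y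
      (fun x' hx' => by rw [hxy x' hx', hzX x' hx']) (by rw [hQxy, hQz]) hQzy
    refine ⟨h1.trans h2, ?_, ?_, ?_⟩
    · intro v; rw [LinearEquiv.trans_apply, h2Q, h1Q]
    · intro x' hx'; rw [LinearEquiv.trans_apply, h1X x' hx', h2X x' hx']
    · rw [LinearEquiv.trans_apply, h1x, h2z]
  · -- Siegel transformation
    obtain ⟨w0, hw0X, hw0x⟩ := exists_orth_of_notMem Q hQ _ x hmem
    obtain ⟨w, hw⟩ : ∃ w : V, w = (-(polar Q w0 x)⁻¹) • w0 := ⟨_, rfl⟩
    have hwx : polar Q w x = -1 := by
      rw [hw, polar_smul_left, smul_eq_mul, neg_mul, inv_mul_cancel₀ hw0x]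
    have hwX : ∀ x' ∈ X, polar Q w x' = 0 := by
      intro x' hx'
      rw [hw, polar_smul_left, hw0X x' (Submodule.mem_sup_left hx'), smul_zero]
    have hwp : polar Q w p = 0 := by
      rw [hw, polar_smul_left,
        hw0X p (Submodule.mem_sup_right (Submodule.mem_span_singleton_self p)), smul_zero]
    let g : V →ₗ[F] V := LinearMap.id + (QuadraticMap.polarBilin Q w).smulRight p
      - (QuadraticMap.polarBilin Q p).smulRight w
      - Q w • (QuadraticMap.polarBilin Q p).smulRight p
    have hg_apply : ∀ v, g v = v + (polar Q w v - Q w * polar Q p v) • p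
        + (-(polar Q p v)) • w := by
      intro v
      simp only [g, LinearMap.sub_apply, LinearMap.add_apply, LinearMap.id_apply,
        LinearMap.smul_apply, LinearMap.smulRight_apply, QuadraticMap.polarBilin_apply_apply,
        smul_smul, neg_smul, sub_smul]
      abel
    have hg : ∀ v, Q (g v) = Q v := by
      intro v
      rw [hg_apply, quad_expand, hne, polar_comm Q p w, hwp, polar_comm Q v p, polar_comm Q v w]
      ring
    refine ⟨quadEquiv Q hQ g hg, fun v => by rw [quadEquiv_apply]; exact hg v, ?_, ?_⟩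
    · intro x' hx'
      rw [quadEquiv_apply, hg_apply, hwX x' hx', hpX x' hx']
      simp
    · rw [quadEquiv_apply, hg_apply, hwx, hpx, hp]
      simp only [mul_zero, sub_zero, neg_zero, zero_smul, add_zero, neg_smul, one_smul]
      abel

/-- Witt's lemma for families, quadratic forms -/
theorem witt_family_quad (Q : QuadraticForm F V) (hQ : (QuadraticMap.polarBilin Q).Nondegenerate) :
    ∀ (n : ℕ) (x y : Fin n → V), LinearIndependent F x → LinearIndependent F y →
      (∀ i, Q (y i) = Q (x i)) →
      (∀ i j, polar Q (y i) (y j) = polar Q (x i) (x j)) →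
      ∃ g : V ≃ₗ[F] V, (∀ v, Q (g v) = Q v) ∧ ∀ i, g (x i) = y i := by
  intro n
  induction n with
  | zero =>
    intro x y _ _ _ _
    exact ⟨LinearEquiv.refl F V, fun _ => rfl, fun i => i.elim0⟩
  | succ n ih =>
    intro x y hx hy hQxy hxy
    rw [linearIndependent_finSucc'] at hx hy
    obtain ⟨g', hg'iso, hg'⟩ := ih (Fin.init x) (Fin.init y) hx.1 hy.1
      (fun i => hQxy i.castSucc) (fun i j => hxy i.castSucc j.castSucc)
    set X : Submodule F V := Submodule.span F (Set.range (Fin.init x)) with hX
    set y' := g'.symm (y (Fin.last n)) with hy'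
    have hg'y' : g' y' = y (Fin.last n) := by rw [hy']; exact g'.apply_symm_apply _
    have hy'X : y' ∉ X := by
      intro hmem
      apply hy.2
      have : g' y' ∈ Submodule.map (g' : V →ₗ[F] V) X := ⟨y', hmem, rfl⟩
      rw [hX, Submodule.map_span] at this
      rw [← hg'y']
      refine Submodule.span_mono ?_ this
      rintro _ ⟨_, ⟨i, rfl⟩, rfl⟩
      exact ⟨i, (hg' i).symm⟩
    have hpol : ∀ u v, polar Q (g' u) (g' v) = polar Q u v :=
      polar_of_preserving Q (g' : V →ₗ[F] V) hg'iso
    have hcond : ∀ x' ∈ X, polar Q y' x' = polar Q (x (Fin.last n)) x' := by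
      intro x' hx'
      induction hx' using Submodule.span_induction with
      | mem z hz =>
        obtain ⟨i, rfl⟩ := hz
        rw [← hpol y' (Fin.init x i), hg'y', hg' i]
        exact hxy (Fin.last n) i.castSucc
      | zero => simp
      | add a b _ _ ha hb => rw [polar_add_right, polar_add_right, ha, hb]
      | smul c a _ ha => rw [polar_smul_right, polar_smul_right, ha]
    have hQy' : Q y' = Q (x (Fin.last n)) := by
      rw [← hg'iso y', hg'y']; exact hQxy _
    obtain ⟨h, hiso, hfix, hmove⟩ :=
      witt_step_quad Q hQ X (x (Fin.last n)) y' hx.2 hy'X hcond hQy'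
    refine ⟨h.trans g', ?_, ?_⟩
    · intro v
      simp only [LinearEquiv.trans_apply, hg'iso, hiso]
    · intro i
      refine Fin.lastCases ?_ (fun j => ?_) i
      · rw [LinearEquiv.trans_apply, hmove, hg'y']
      · rw [LinearEquiv.trans_apply]
        have : h (x j.castSucc) = x j.castSucc :=
          hfix _ (Submodule.subset_span ⟨j, rfl⟩)
        rw [this]
        exact hg' j

end Cfsg.Agent.Lib.Helper8
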