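import Mathlib
import Cfsg.Prelude.Def_Classical

set_option autoImplicit false

namespace Cfsg.Agent.Lib.Helper8

open QuadraticMap

variable (m : ℕ) (F : Type*) [Field F]

/-- the bilinear map `Σ x_i y'_i` on `F^(2m)` -/
def plusBil : LinearMap.BilinMap F (Fin m ⊕ Fin m → F) F :=
  LinearMap.mk₂ F (fun x y => ∑ i : Fin m, x (Sum.inl i) * y (Sum.inr i))
    (fun x x' y => by simp [add_mul, Finset.sum_add_distrib])
    (fun c x y => by simp [Finset.mul_sum, mul_assoc])
    (fun x y y' => by simp [mul_add, Finset.sum_add_distrib])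
    (fun c x y => by simp [Finset.mul_sum, mul_left_comm])

/-- `quadFormPlus` as a quadratic form -/
def plusForm : QuadraticForm F (Fin m ⊕ Fin m → F) := (plusBil m F).toQuadraticMap

theorem plusForm_coe : Cfsg.quadFormPlus m F = ⇑(plusForm m F) := by
  funext v
  simp [plusForm, plusBil, Cfsg.quadFormPlus]

theorem polar_plusForm (x y : Fin m ⊕ Fin m → F) :
    polar (⇑(plusForm m F)) x y
      = ∑ i : Fin m, (x (Sum.inl i) * y (Sum.inr i) + y (Sum.inl i) * x (Sum.inr i)) := by
  rw [plusForm, LinearMap.BilinMap.polar_toQuadraticMap]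
  simp [plusBil, Finset.sum_add_distrib]

theorem plusForm_nondegenerate : (QuadraticMap.polarBilin (plusForm m F)).Nondegenerate := by
  have hleft : (QuadraticMap.polarBilin (plusForm m F)).SeparatingLeft := by
    intro x hx
    have hx' : ∀ y, polar (⇑(plusForm m F)) x y = 0 := hx
    funext j
    rcases j with i | i
    · have := hx' (Pi.single (Sum.inr i) 1)
      rw [polar_plusForm] at this
      simpa [Pi.single_apply, Finset.sum_add_distrib] using this
    · have := hx' (Pi.single (Sum.inl i) 1)
      rw [polar_plusForm] at this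
      simpa [Pi.single_apply, Finset.sum_add_distrib] using this
  refine ⟨hleft, ?_⟩
  intro y hy
  apply hleft
  intro x
  have := hy x
  simp only [QuadraticMap.polarBilin_apply_apply] at this ⊢
  rw [polar_comm]; exact this

theorem plusForm_exists_ne_zero (hm : 1 ≤ m) : ∃ v, plusForm m F v ≠ 0 := by
  refine ⟨Sum.elim (fun i : Fin m => if (i : ℕ) = 0 then (1 : F) else 0)
    (fun i : Fin m => if (i : ℕ) = 0 then (1 : F) else 0), ?_⟩
  rw [← plusForm_coe]
  unfold Cfsg.quadFormPlus
  simp only [Sum.elim_inl, Sum.elim_inr]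
  rw [Finset.sum_eq_single (⟨0, hm⟩ : Fin m)]
  · simp
  · intro b _ hb
    have : (b : ℕ) ≠ 0 := fun h => hb (Fin.ext h)
    simp [this]
  · intro h; exact absurd (Finset.mem_univ _) h

end Cfsg.Agent.Lib.Helper8
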