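import Mathlib
import Cfsg.Prelude.Def_Classical

set_option autoImplicit false

namespace Cfsg.Agent.Lib.Helper8

open QuadraticMap

variable (m : ℕ) (F : Type*) [Field F] (a b : F)

/-- a bilinear map whose diagonal is `quadFormMinus` -/
def minusBil : LinearMap.BilinMap F ((Fin m ⊕ Fin m) ⊕ Fin 2 → F) F :=
  LinearMap.mk₂ F (fun x y => (∑ i : Fin m, x (Sum.inl (Sum.inl i)) * y (Sum.inl (Sum.inr i)))
      + (x (Sum.inr 0) * y (Sum.inr 0) + a * x (Sum.inr 0) * y (Sum.inr 1)
        + b * x (Sum.inr 1) * y (Sum.inr 1)))
    (fun x x' y => by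
      simp only [Pi.add_apply, add_mul, mul_add, Finset.sum_add_distrib]; ring)
    (fun c x y => by
      simp only [Pi.smul_apply, smul_eq_mul, Finset.mul_sum, mul_add]
      congr 1
      · apply Finset.sum_congr rfl; intro i _; ring
      · ring)
    (fun x y y' => by
      simp only [Pi.add_apply, mul_add, Finset.sum_add_distrib]; ring)
    (fun c x y => by
      simp only [Pi.smul_apply, smul_eq_mul, Finset.mul_sum, mul_add]
      congr 1
      · apply Finset.sum_congr rfl; intro i _; ring
      · ring)

/-- `quadFormMinus` as a quadratic form -/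
def minusForm : QuadraticForm F ((Fin m ⊕ Fin m) ⊕ Fin 2 → F) :=
  (minusBil m F a b).toQuadraticMap

theorem minusForm_coe : Cfsg.quadFormMinus m F a b = ⇑(minusForm m F a b) := by
  funext v
  simp only [minusForm, minusBil, Cfsg.quadFormMinus, LinearMap.BilinMap.toQuadraticMap_apply,
    LinearMap.mk₂_apply]
  ring

theorem polar_minusForm (x y : (Fin m ⊕ Fin m) ⊕ Fin 2 → F) :
    polar (⇑(minusForm m F a b)) x y
      = (∑ i : Fin m, (x (Sum.inl (Sum.inl i)) * y (Sum.inl (Sum.inr i))
          + y (Sum.inl (Sum.inl i)) * x (Sum.inl (Sum.inr i))))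
        + (2 * x (Sum.inr 0) * y (Sum.inr 0)
          + a * (x (Sum.inr 0) * y (Sum.inr 1) + y (Sum.inr 0) * x (Sum.inr 1))
          + 2 * b * x (Sum.inr 1) * y (Sum.inr 1)) := by
  rw [minusForm, LinearMap.BilinMap.polar_toQuadraticMap]
  simp only [minusBil, LinearMap.mk₂_apply, Finset.sum_add_distrib]
  ring

theorem minusForm_nondegenerate (h2 : (2 : F) = 0) (ha : a ≠ 0) :
    (QuadraticMap.polarBilin (minusForm m F a b)).Nondegenerate := by
  have hleft : (QuadraticMap.polarBilin (minusForm m F a b)).SeparatingLeft := by
    intro x hx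
    have hx' : ∀ y, polar (⇑(minusForm m F a b)) x y = 0 := hx
    funext j
    rcases j with (i | i) | i
    · have := hx' (Pi.single (Sum.inl (Sum.inr i)) 1)
      rw [polar_minusForm] at this
      simpa [Pi.single_apply, Finset.sum_add_distrib] using this
    · have := hx' (Pi.single (Sum.inl (Sum.inl i)) 1)
      rw [polar_minusForm] at this
      simpa [Pi.single_apply, Finset.sum_add_distrib] using this
    · fin_cases i
      · have := hx' (Pi.single (Sum.inr 1) 1)
        rw [polar_minusForm] at this
        simp [h2] at this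
        rcases this with h | h
        · exact absurd h ha
        · simpa using h
      · have := hx' (Pi.single (Sum.inr 0) 1)
        rw [polar_minusForm] at this
        simp [h2] at this
        rcases this with h | h
        · exact absurd h ha
        · simpa using h
  refine ⟨hleft, ?_⟩
  intro y hy
  apply hleft
  intro x
  have := hy x
  simp only [QuadraticMap.polarBilin_apply_apply] at this ⊢
  rw [polar_comm]; exact this

theorem minusForm_exists_ne_zero : ∃ v, minusForm m F a b v ≠ 0 := by
  refine ⟨Pi.single (Sum.inr 0) 1, ?_⟩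
  rw [← minusForm_coe]
  unfold Cfsg.quadFormMinus
  simp

end Cfsg.Agent.Lib.Helper8
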