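import Mathlib
import Cfsg.Prelude.Def_ClassicalGeometry
import Cfsg.Agent.Lib.Helper13.Orth
import Cfsg.Agent.Lib.Helper8.WittQuad

set_option autoImplicit false

namespace Cfsg.Agent.Lib.Helper8

open Matrix Module QuadraticMap
open Cfsg.Agent.Lib.Helper13

variable {ι : Type} [Fintype ι] [DecidableEq ι] {F : Type*} [Field F]

/-- the set of reflections in `GL` -/
def reflSetGL (Q : QuadraticForm F (ι → F)) : Set (Matrix.GeneralLinearGroup ι F) :=
  {g | ∃ v : ι → F, Q v ≠ 0 ∧ (g : Matrix ι ι F) = Cfsg.reflectionMatrix (⇑Q) v}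

theorem reflectionGL_mem_reflSetGL (Q : QuadraticForm F (ι → F)) (v : ι → F) (hv : Q v ≠ 0) :
    reflectionGL Q v hv ∈ reflSetGL Q := ⟨v, hv, rfl⟩

theorem reflSetGL_subset (Q : QuadraticForm F (ι → F)) :
    reflSetGL Q ⊆ (Cfsg.isometryGroup F (⇑Q) : Set (Matrix.GeneralLinearGroup ι F)) := by
  rintro g ⟨v, hv, hg⟩
  rw [SetLike.mem_coe, mem_isometryGroup_iff]
  intro x
  rw [hg]
  exact reflectionMatrix_preserves Q v hv x

/-- a reflection swaps two vectors of equal norm with nonsingular difference -/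
theorem reflection_swap (Q : QuadraticForm F (ι → F)) (u w : ι → F) (huw : Q u = Q w)
    (hne : Q (u - w) ≠ 0) : Cfsg.reflectionMatrix (⇑Q) (u - w) *ᵥ u = w := by
  rw [reflectionMatrix_mulVec]
  have h1 : polar (⇑Q) (u - w) u = Q (u - w) := by
    rw [polar_sub_left, quad_sub, polar_self, huw, polar_comm (⇑Q) w u]
    ring
  rw [h1, inv_mul_cancel₀ hne, one_smul]
  abel

theorem reflection_swap_neg (Q : QuadraticForm F (ι → F)) (u w : ι → F) (huw : Q u = Q w)
    (hne : Q (u + w) ≠ 0) : Cfsg.reflectionMatrix (⇑Q) (u + w) *ᵥ u = -w := by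
  have h := reflection_swap Q u (-w) (by rw [huw, QuadraticMap.map_neg]) (by rwa [sub_neg_eq_add])
  rwa [sub_neg_eq_add] at h

/-- Cartan–Dieudonné, odd characteristic, downward induction on the number of fixed vectors
of an orthogonal basis -/
theorem cartan_dieudonne_aux (h2 : (2 : F) ≠ 0) (Q : QuadraticForm F (ι → F))
    (n : ℕ) (b : Basis (Fin n) F (ι → F))
    (hb : ∀ i j, i ≠ j → polar (⇑Q) (b i) (b j) = 0) (hbQ : ∀ i, Q (b i) ≠ 0) :
    ∀ (m k : ℕ), k + m = n → ∀ g : Matrix.GeneralLinearGroup ι F,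
      g ∈ Cfsg.isometryGroup F (⇑Q) →
      (∀ i : Fin n, (i : ℕ) < k → (g : Matrix ι ι F) *ᵥ b i = b i) →
      g ∈ Subgroup.closure (reflSetGL Q) := by
  intro m
  induction m with
  | zero =>
    intro k hk g _ hfix
    have h1 : Matrix.toLin' (g : Matrix ι ι F) = LinearMap.id := by
      apply b.ext
      intro i
      rw [Matrix.toLin'_apply, LinearMap.id_apply]
      exact hfix i (by have := i.2; omega)
    have h3 : (g : Matrix ι ι F) = 1 := by
      apply Matrix.toLin'.injective
      rw [h1, Matrix.toLin'_one]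
    have : g = 1 := Units.ext h3
    rw [this]
    exact Subgroup.one_mem _
  | succ m ih =>
    intro k hk g hg hfix
    have hkn : k < n := by omega
    set w := b ⟨k, hkn⟩ with hw
    set u := (g : Matrix ι ι F) *ᵥ w with hu
    have hgQ := (mem_isometryGroup_iff (⇑Q) g).1 hg
    have hpol := polar_mulVec_of_preserves Q (g : Matrix ι ι F) hgQ
    have huQ : Q u = Q w := hgQ w
    have hwQ : Q w ≠ 0 := hbQ _
    have hub : ∀ i : Fin n, (i : ℕ) < k → polar (⇑Q) u (b i) = 0 := by
      intro i hi
      have : polar (⇑Q) u (b i) = polar (⇑Q) u ((g : Matrix ι ι F) *ᵥ b i) := by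
        rw [hfix i hi]
      rw [this, hu, hpol, hw]
      apply hb
      intro h
      have := congrArg Fin.val h
      simp at this
      omega
    have hwb : ∀ i : Fin n, (i : ℕ) < k → polar (⇑Q) w (b i) = 0 := by
      intro i hi
      rw [hw]
      apply hb
      intro h
      have := congrArg Fin.val h
      simp at this
      omega
    -- the key step: finish given a suitable ρ
    have key : ∀ ρ : Matrix.GeneralLinearGroup ι F, ρ ∈ Subgroup.closure (reflSetGL Q) →
        (∀ i : Fin n, (i : ℕ) < k → (ρ : Matrix ι ι F) *ᵥ b i = b i) →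
        (ρ : Matrix ι ι F) *ᵥ u = w → g ∈ Subgroup.closure (reflSetGL Q) := by
      intro ρ hρ hρfix hρu
      have hρG : ρ ∈ Cfsg.isometryGroup F (⇑Q) :=
        (Subgroup.closure_le _).2 (reflSetGL_subset Q) hρ
      have h1 : ρ * g ∈ Subgroup.closure (reflSetGL Q) := by
        apply ih (k + 1) (by omega) (ρ * g) (Subgroup.mul_mem _ hρG hg)
        intro i hi
        rw [Matrix.GeneralLinearGroup.coe_mul, ← Matrix.mulVec_mulVec]
        by_cases hik : (i : ℕ) < k
        · rw [hfix i hik, hρfix i hik]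
        · have : i = ⟨k, hkn⟩ := Fin.ext (by simp; omega)
          rw [this, ← hw, ← hu, hρu]
      have : g = ρ⁻¹ * (ρ * g) := by group
      rw [this]
      exact Subgroup.mul_mem _ (Subgroup.inv_mem _ hρ) h1
    have hsum : Q (u - w) + Q (u + w) = 4 * Q w := by
      rw [quad_sub, QuadraticMap.map_add (⇑Q), huQ]; ring
    by_cases hA : Q (u - w) = 0
    · -- case B
      have hB : Q (u + w) ≠ 0 := by
        intro hB
        rw [hA, hB, zero_add] at hsum
        have h4 : (4 : F) ≠ 0 := by
          have : (4 : F) = 2 * 2 := by norm_num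
          rw [this]; exact mul_ne_zero h2 h2
        exact mul_ne_zero h4 hwQ hsum.symm
      apply key (reflectionGL Q w hwQ * reflectionGL Q (u + w) hB)
      · apply Subgroup.mul_mem
        · exact Subgroup.subset_closure (reflectionGL_mem_reflSetGL Q w hwQ)
        · exact Subgroup.subset_closure (reflectionGL_mem_reflSetGL Q (u + w) hB)
      · intro i hi
        rw [Matrix.GeneralLinearGroup.coe_mul, ← Matrix.mulVec_mulVec, coe_reflectionGL,
          coe_reflectionGL,
          reflectionMatrix_mulVec_of_polar_eq_zero Q (u + w) (b i)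
            (by rw [polar_add_left, hub i hi, hwb i hi, add_zero]),
          reflectionMatrix_mulVec_of_polar_eq_zero Q w (b i) (hwb i hi)]
      · rw [Matrix.GeneralLinearGroup.coe_mul, ← Matrix.mulVec_mulVec, coe_reflectionGL,
          coe_reflectionGL, reflection_swap_neg Q u w huQ hB, Matrix.mulVec_neg,
          reflectionMatrix_mulVec_self Q w hwQ, neg_neg]
    · -- case A
      apply key (reflectionGL Q (u - w) hA)
      · exact Subgroup.subset_closure (reflectionGL_mem_reflSetGL Q (u - w) hA)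
      · intro i hi
        rw [coe_reflectionGL]
        exact reflectionMatrix_mulVec_of_polar_eq_zero Q (u - w) (b i)
            (by rw [polar_sub_left, hub i hi, hwb i hi, sub_zero])
      · rw [coe_reflectionGL]
        exact reflection_swap Q u w huQ hA

/-- Cartan–Dieudonné in odd characteristic: isometries are products of reflections -/
theorem cartan_dieudonne_odd (h2 : (2 : F) ≠ 0) (Q : QuadraticForm F (ι → F))
    (hQ : (QuadraticMap.polarBilin Q).Nondegenerate) (g : Matrix.GeneralLinearGroup ι F)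
    (hg : g ∈ Cfsg.isometryGroup F (⇑Q)) : g ∈ Subgroup.closure (reflSetGL Q) := by
  have : Invertible (2 : F) := invertibleOfNonzero h2
  have hsymm : (QuadraticMap.polarBilin Q).IsSymm := by
    refine ⟨fun x y => ?_⟩
    simp only [RingHom.id_apply, QuadraticMap.polarBilin_apply_apply]
    exact polar_comm _ _ _
  obtain ⟨b, hb⟩ := LinearMap.BilinForm.exists_orthogonal_basis hsymm
  have hbQ : ∀ i, Q (b i) ≠ 0 := by
    intro i hi
    have := LinearMap.BilinForm.iIsOrtho.not_isOrtho_basis_self_of_nondegenerate hb hQ i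
    apply this
    show QuadraticMap.polarBilin Q (b i) (b i) = 0
    rw [QuadraticMap.polarBilin_apply_apply, polar_self, hi, smul_zero]
  exact cartan_dieudonne_aux h2 Q _ b (fun i j hij => hb hij) hbQ _ 0 (zero_add _) g hg
    (fun i hi => absurd hi (Nat.not_lt_zero _))

end Cfsg.Agent.Lib.Helper8

namespace Cfsg.Agent.Lib.Helper8

open Matrix Module QuadraticMap
open Cfsg.Agent.Lib.Helper13

variable {ι : Type} [Fintype ι] [DecidableEq ι] {F : Type*} [Field F]

/-- the set of reflections inside the isometry group -/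
def reflSet (Q : QuadraticForm F (ι → F)) : Set ↥(Cfsg.isometryGroup F (⇑Q)) :=
  {g | ∃ v : ι → F, Q v ≠ 0 ∧
    ((g : Matrix.GeneralLinearGroup ι F) : Matrix ι ι F) = Cfsg.reflectionMatrix (⇑Q) v}

theorem subtype_image_reflSet (Q : QuadraticForm F (ι → F)) :
    (Cfsg.isometryGroup F (⇑Q)).subtype '' reflSet Q = reflSetGL Q := by
  ext g
  constructor
  · rintro ⟨x, hx, rfl⟩
    exact hx
  · intro hg
    exact ⟨⟨g, reflSetGL_subset Q hg⟩, hg, rfl⟩

/-- Cartan–Dieudonné in odd characteristic, inside the isometry group -/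
theorem closure_reflSet_eq_top (h2 : (2 : F) ≠ 0) (Q : QuadraticForm F (ι → F))
    (hQ : (QuadraticMap.polarBilin Q).Nondegenerate) : Subgroup.closure (reflSet Q) = ⊤ := by
  rw [eq_top_iff]
  intro x _
  have h := cartan_dieudonne_odd h2 Q hQ (x : Matrix.GeneralLinearGroup ι F) x.2
  rw [← subtype_image_reflSet, ← MonoidHom.map_closure] at h
  obtain ⟨y, hy, hyx⟩ := h
  have : y = x := Subtype.ext hyx
  rwa [← this]

theorem reflectionMatrix_mul_self (Q : QuadraticForm F (ι → F)) (v : ι → F) (hv : Q v ≠ 0) :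
    Cfsg.reflectionMatrix (⇑Q) v * Cfsg.reflectionMatrix (⇑Q) v = 1 := by
  apply Matrix.toLin'.injective
  apply LinearMap.ext
  intro x
  rw [Matrix.toLin'_mul, LinearMap.comp_apply, Matrix.toLin'_apply, Matrix.toLin'_apply,
    Matrix.toLin'_one, LinearMap.id_apply, reflectionMatrix_mulVec Q v x,
    Matrix.mulVec_sub, Matrix.mulVec_smul, reflectionMatrix_mulVec_self Q v hv,
    reflectionMatrix_mulVec]
  simp

theorem inv_mem_reflSet (Q : QuadraticForm F (ι → F)) (x : ↥(Cfsg.isometryGroup F (⇑Q)))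
    (hx : x ∈ reflSet Q) : x⁻¹ = x := by
  obtain ⟨v, hv, hxv⟩ := hx
  rw [inv_eq_iff_mul_eq_one]
  apply Subtype.ext
  apply Units.ext
  rw [Subgroup.coe_mul, Subgroup.coe_one, Units.val_mul, Units.val_one, hxv]
  exact reflectionMatrix_mul_self Q v hv

/-- the set of products of two reflections -/
def reflPairSet (Q : QuadraticForm F (ι → F)) : Set ↥(Cfsg.isometryGroup F (⇑Q)) :=
  {g | ∃ u v : ι → F, Q u ≠ 0 ∧ Q v ≠ 0 ∧
    ((g : Matrix.GeneralLinearGroup ι F) : Matrix ι ι F)
      = Cfsg.reflectionMatrix (⇑Q) u * Cfsg.reflectionMatrix (⇑Q) v}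

theorem mul_mem_reflPairSet (Q : QuadraticForm F (ι → F)) (x y : ↥(Cfsg.isometryGroup F (⇑Q)))
    (hx : x ∈ reflSet Q) (hy : y ∈ reflSet Q) : x * y ∈ reflPairSet Q := by
  obtain ⟨u, hu, hxu⟩ := hx
  obtain ⟨v, hv, hyv⟩ := hy
  refine ⟨u, v, hu, hv, ?_⟩
  rw [Subgroup.coe_mul, Units.val_mul, hxu, hyv]

/-- determinant of an element of the isometry group -/
def isoDet (Q : QuadraticForm F (ι → F)) (g : ↥(Cfsg.isometryGroup F (⇑Q))) : F :=
  ((g : Matrix.GeneralLinearGroup ι F) : Matrix ι ι F).det

theorem isoDet_mul (Q : QuadraticForm F (ι → F)) (g h : ↥(Cfsg.isometryGroup F (⇑Q))) :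
    isoDet Q (g * h) = isoDet Q g * isoDet Q h := by
  simp only [isoDet, Subgroup.coe_mul, Units.val_mul, Matrix.det_mul]

theorem isoDet_refl (Q : QuadraticForm F (ι → F)) (g : ↥(Cfsg.isometryGroup F (⇑Q)))
    (hg : g ∈ reflSet Q) : isoDet Q g = -1 := by
  obtain ⟨v, hv, hgv⟩ := hg
  rw [isoDet, hgv, reflectionMatrix_det Q v hv]

theorem mem_specialIsometryGroup_iff (Q : QuadraticForm F (ι → F))
    (g : ↥(Cfsg.isometryGroup F (⇑Q))) :
    g ∈ Cfsg.specialIsometryGroup F (⇑Q) ↔ isoDet Q g = 1 := by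
  unfold Cfsg.specialIsometryGroup isoDet
  rw [MonoidHom.mem_ker, MonoidHom.comp_apply, Subgroup.coe_subtype]
  constructor
  · intro h
    have := congrArg Units.val h
    simpa using this
  · intro h
    apply Units.ext
    simpa using h

/-- parity argument -/
theorem parity_aux (h2 : (2 : F) ≠ 0) (Q : QuadraticForm F (ι → F))
    (g : ↥(Cfsg.isometryGroup F (⇑Q))) (hg : g ∈ Subgroup.closure (reflSet Q)) :
    (isoDet Q g = 1 → g ∈ Subgroup.closure (reflPairSet Q)) ∧
    (isoDet Q g = -1 → ∀ r ∈ reflSet Q, r * g ∈ Subgroup.closure (reflPairSet Q)) := by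
  have hne : (1 : F) ≠ -1 := by
    intro h
    apply h2
    have : (2 : F) = 1 + 1 := by norm_num
    rw [this]
    nth_rewrite 1 [h]
    ring
  have hstep : ∀ x ∈ reflSet Q, ∀ y : ↥(Cfsg.isometryGroup F (⇑Q)),
      ((isoDet Q y = 1 → y ∈ Subgroup.closure (reflPairSet Q)) ∧
        (isoDet Q y = -1 → ∀ r ∈ reflSet Q, r * y ∈ Subgroup.closure (reflPairSet Q))) →
      ((isoDet Q (x * y) = 1 → x * y ∈ Subgroup.closure (reflPairSet Q)) ∧
        (isoDet Q (x * y) = -1 →
          ∀ r ∈ reflSet Q, r * (x * y) ∈ Subgroup.closure (reflPairSet Q))) := by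
    intro x hx y ⟨hy1, hy2⟩
    rw [isoDet_mul, isoDet_refl Q x hx]
    constructor
    · intro h
      apply hy2 _ x hx
      linear_combination -h
    · intro h r hr
      rw [← mul_assoc]
      apply Subgroup.mul_mem
      · exact Subgroup.subset_closure (mul_mem_reflPairSet Q r x hr hx)
      · apply hy1
        linear_combination -h
  induction hg using Subgroup.closure_induction_left with
  | one =>
    constructor
    · intro _; exact Subgroup.one_mem _
    · intro h
      exfalso
      apply hne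
      rw [← h, isoDet]
      simp
  | mul_left x hx y _ ih => exact hstep x hx y ih
  | inv_mul_cancel x hx y _ ih =>
    rw [inv_mem_reflSet Q x hx]
    exact hstep x hx y ih

end Cfsg.Agent.Lib.Helper8
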