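import Mathlib
import Cfsg.Prelude.Def_ClassicalGeometry
import Cfsg.Agent.Lib.Helper13.Orth
import Cfsg.Agent.Lib.Helper8.WittQuad
import Cfsg.Agent.Lib.Helper8.CartanDieudonne

set_option autoImplicit false

namespace Cfsg.Agent.Lib.Helper8

open Matrix Module QuadraticMap
open Cfsg.Agent.Lib.Helper13

variable {ι : Type} [Fintype ι] [DecidableEq ι] {F : Type*} [Field F]

theorem char2_neg (h2 : (2 : F) = 0) (a : F) : -a = a := by
  have : a + a = 0 := by rw [← two_mul, h2, zero_mul]
  exact neg_eq_of_add_eq_zero_left this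

omit [Fintype ι] [DecidableEq ι] in
theorem char2_polar_self (h2 : (2 : F) = 0) (Q : QuadraticForm F (ι → F)) (x : ι → F) :
    polar (⇑Q) x x = 0 := by
  rw [polar_self, two_smul, ← two_mul, h2, zero_mul]

omit [Fintype ι] [DecidableEq ι] in
/-- in characteristic two, for vectors of equal norm, `Q (x - y) = polar x y` -/
theorem char2_quad_sub (h2 : (2 : F) = 0) (Q : QuadraticForm F (ι → F)) (x y : ι → F)
    (hxy : Q y = Q x) : Q (x - y) = polar (⇑Q) x y := by
  rw [quad_sub, hxy]
  linear_combination (Q x - polar (⇑Q) x y) * h2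

theorem exists_sq_char2 [Finite F] (h2 : (2 : F) = 0) (a : F) : ∃ s : F, s * s = a := by
  have hch : ringChar F = 2 :=
    CharP.ringChar_of_prime_eq_zero Nat.prime_two (by exact_mod_cast h2)
  obtain ⟨s, hs⟩ := FiniteField.isSquare_of_char_two hch a
  exact ⟨s, hs.symm⟩

/-- the relative step in characteristic two -/
theorem char2_step [Finite F] (h2 : (2 : F) = 0) (Q : QuadraticForm F (ι → F))
    (hQ : (QuadraticMap.polarBilin Q).Nondegenerate) (X : Submodule F (ι → F))
    (v : ι → F) (hv : Q v ≠ 0) (hvmem : v ∈ X) (hvX : ∀ x' ∈ X, polar (⇑Q) v x' = 0)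
    (x y : ι → F) (hvx : polar (⇑Q) v x = 0) (hvy : polar (⇑Q) v y = 0)
    (hx : x ∉ X) (hy : y ∉ X) (hxy : ∀ x' ∈ X, polar (⇑Q) y x' = polar (⇑Q) x x')
    (hQxy : Q y = Q x) :
    ∃ ρ ∈ Subgroup.closure (reflSetGL Q),
      (∀ x' ∈ X, (ρ : Matrix ι ι F) *ᵥ x' = x') ∧ (ρ : Matrix ι ι F) *ᵥ x = y := by
  by_cases hne : Q (x - y) = 0
  swap
  · refine ⟨reflectionGL Q (x - y) hne,
      Subgroup.subset_closure (reflectionGL_mem_reflSetGL Q _ hne), ?_, ?_⟩
    · intro x' hx'
      rw [coe_reflectionGL]
      exact reflectionMatrix_mulVec_of_polar_eq_zero Q _ _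
        (by rw [polar_sub_left, hxy x' hx', sub_self])
    · rw [coe_reflectionGL]
      exact reflection_swap Q x y hQxy.symm hne
  have hbxy : polar (⇑Q) x y = 0 := by rw [← char2_quad_sub h2 Q x y hQxy, hne]
  obtain ⟨u1, hu1, h1⟩ := exists_orth_of_notMem Q hQ X x hx
  obtain ⟨u2, hu2, h2'⟩ := exists_orth_of_notMem Q hQ X y hy
  obtain ⟨u, hu, hux, huy⟩ : ∃ u : ι → F, (∀ x' ∈ X, polar (⇑Q) u x' = 0) ∧
      polar (⇑Q) u x ≠ 0 ∧ polar (⇑Q) u y ≠ 0 := by
    by_cases h3 : polar (⇑Q) u1 y = 0
    · by_cases h4 : polar (⇑Q) u2 x = 0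
      · refine ⟨u1 + u2, ?_, ?_, ?_⟩
        · intro x' hx'
          rw [polar_add_left, hu1 x' hx', hu2 x' hx', add_zero]
        · rw [polar_add_left, h4, add_zero]; exact h1
        · rw [polar_add_left, h3, zero_add]; exact h2'
      · exact ⟨u2, hu2, h4, h2'⟩
    · exact ⟨u1, hu1, h1, h3⟩
  obtain ⟨s, hs⟩ := exists_sq_char2 h2 ((polar (⇑Q) x u - Q u) * (Q v)⁻¹)
  have hs' : s * s * Q v = polar (⇑Q) x u - Q u := by
    rw [hs, mul_assoc, inv_mul_cancel₀ hv, mul_one]
  have huv : polar (⇑Q) u v = 0 := hu v hvmem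
  have hxv : polar (⇑Q) x v = 0 := by rw [polar_comm]; exact hvx
  have hyv : polar (⇑Q) y v = 0 := by rw [polar_comm]; exact hvy
  obtain ⟨z, hz⟩ : ∃ z : ι → F, z = x + (1 : F) • u + s • v := ⟨_, rfl⟩
  have hQz : Q z = Q x := by
    rw [hz, quad_expand, hxv, huv]
    linear_combination hs' + (polar (⇑Q) x u) * h2
  have hzX : ∀ x' ∈ X, polar (⇑Q) z x' = polar (⇑Q) x x' := by
    intro x' hx'
    rw [hz, polar_add_left, polar_add_left, polar_smul_left, polar_smul_left, hu x' hx',
      hvX x' hx']
    simp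
  have hxz : x - z = 0 + (-1 : F) • u + (-s) • v := by
    rw [hz]; simp only [neg_smul, one_smul]; abel
  have hQxz : Q (x - z) = polar (⇑Q) x u := by
    rw [hxz, quad_expand, huv]
    simp only [QuadraticMap.map_zero, polar_zero_left]
    linear_combination hs'
  have hzy : polar (⇑Q) z y = polar (⇑Q) u y := by
    rw [hz, polar_add_left, polar_add_left, polar_smul_left, polar_smul_left, hbxy, hvy]
    simp
  have hQzy : Q (z - y) = polar (⇑Q) u y := by
    rw [char2_quad_sub h2 Q z y (by rw [hQxy, hQz]), hzy]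
  have hne1 : Q (x - z) ≠ 0 := by
    rw [hQxz, polar_comm]; exact hux
  have hne2 : Q (z - y) ≠ 0 := by
    rw [hQzy]; exact huy
  refine ⟨reflectionGL Q (z - y) hne2 * reflectionGL Q (x - z) hne1, ?_, ?_, ?_⟩
  · apply Subgroup.mul_mem
    · exact Subgroup.subset_closure (reflectionGL_mem_reflSetGL Q _ hne2)
    · exact Subgroup.subset_closure (reflectionGL_mem_reflSetGL Q _ hne1)
  · intro x' hx'
    rw [Matrix.GeneralLinearGroup.coe_mul, ← Matrix.mulVec_mulVec, coe_reflectionGL,
      coe_reflectionGL,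
      reflectionMatrix_mulVec_of_polar_eq_zero Q (x - z) x'
        (by rw [polar_sub_left, hzX x' hx', sub_self]),
      reflectionMatrix_mulVec_of_polar_eq_zero Q (z - y) x'
        (by rw [polar_sub_left, hzX x' hx', hxy x' hx', sub_self])]
  · rw [Matrix.GeneralLinearGroup.coe_mul, ← Matrix.mulVec_mulVec, coe_reflectionGL,
      coe_reflectionGL, reflection_swap Q x z hQz.symm hne1,
      reflection_swap Q z y (by rw [hQxy, hQz]) hne2]

omit [Fintype ι] [DecidableEq ι] in
theorem polarBilin_isRefl (Q : QuadraticForm F (ι → F)) :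
    (QuadraticMap.polarBilin Q).IsRefl := by
  intro a b h
  show polar (⇑Q) b a = 0
  rw [polar_comm]; exact h

/-- a matrix fixing the hyperplane `v⊥` pointwise and a vector outside is the identity -/
theorem eq_one_of_fix_hyperplane (Q : QuadraticForm F (ι → F)) (v y0 : ι → F)
    (hy0 : polar (⇑Q) v y0 ≠ 0) (g : Matrix.GeneralLinearGroup ι F)
    (hfix : ∀ x, polar (⇑Q) v x = 0 → (g : Matrix ι ι F) *ᵥ x = x)
    (hfix0 : (g : Matrix ι ι F) *ᵥ y0 = y0) : g = 1 := by
  apply Units.ext
  apply Matrix.toLin'.injective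
  apply LinearMap.ext
  intro y
  rw [Units.val_one, Matrix.toLin'_one, LinearMap.id_apply, Matrix.toLin'_apply]
  obtain ⟨c, hc⟩ : ∃ c : F, c = polar (⇑Q) v y * (polar (⇑Q) v y0)⁻¹ := ⟨_, rfl⟩
  have hy : y = (y - c • y0) + c • y0 := by abel
  have h1 : polar (⇑Q) v (y - c • y0) = 0 := by
    rw [polar_sub_right, polar_smul_right, hc, smul_eq_mul, mul_assoc, inv_mul_cancel₀ hy0,
      mul_one, sub_self]
  rw [hy, Matrix.mulVec_add, Matrix.mulVec_smul, hfix0, hfix _ h1]

/-- base case: an isometry fixing `v⊥` pointwise is `1` or `r_v` -/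
theorem char2_base (h2 : (2 : F) = 0) (Q : QuadraticForm F (ι → F))
    (hQ : (QuadraticMap.polarBilin Q).Nondegenerate) (v : ι → F) (hv : Q v ≠ 0)
    (g : Matrix.GeneralLinearGroup ι F) (hg : g ∈ Cfsg.isometryGroup F (⇑Q))
    (hfix : ∀ x, polar (⇑Q) v x = 0 → (g : Matrix ι ι F) *ᵥ x = x) :
    g ∈ Subgroup.closure (reflSetGL Q) := by
  have hgQ := (mem_isometryGroup_iff (⇑Q) g).1 hg
  have hpol := polar_mulVec_of_preserves Q (g : Matrix ι ι F) hgQ
  have hv0 : v ≠ 0 := by
    rintro rfl
    apply hv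
    simp
  obtain ⟨y0, hy0⟩ : ∃ y0, polar (⇑Q) v y0 ≠ 0 := by
    by_contra hcon
    push Not at hcon
    exact hv0 (hQ.1 v hcon)
  obtain ⟨z, hz⟩ : ∃ z : ι → F, z = (g : Matrix ι ι F) *ᵥ y0 - y0 := ⟨_, rfl⟩
  have hzorth : ∀ x', polar (⇑Q) v x' = 0 → polar (⇑Q) z x' = 0 := by
    intro x' hx'
    rw [hz, polar_sub_left]
    nth_rewrite 1 [← hfix x' hx']
    rw [hpol, sub_self]
  have hzmem : z ∈ Submodule.span F {v} := by
    rw [← LinearMap.BilinForm.orthogonal_orthogonal hQ (polarBilin_isRefl Q)
      (Submodule.span F {v}), LinearMap.BilinForm.mem_orthogonal_iff]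
    intro x' hx'
    rw [LinearMap.BilinForm.mem_orthogonal_iff] at hx'
    have h1 : polar (⇑Q) v x' = 0 := hx' v (Submodule.mem_span_singleton_self v)
    show polar (⇑Q) x' z = 0
    rw [polar_comm]
    exact hzorth x' h1
  obtain ⟨c, hc⟩ := Submodule.mem_span_singleton.1 hzmem
  have hgy0 : (g : Matrix ι ι F) *ᵥ y0 = y0 + c • v + (0 : F) • v := by
    rw [hc, hz]; simp
  have hQc : c * (c * Q v + polar (⇑Q) y0 v) = 0 := by
    have h1 := hgQ y0
    rw [hgy0, quad_expand] at h1
    linear_combination h1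
  rcases mul_eq_zero.1 hQc with hc0 | hc1
  · -- g fixes y0
    have : g = 1 := by
      apply eq_one_of_fix_hyperplane Q v y0 hy0 g hfix
      rw [hgy0, hc0]; simp
    rw [this]; exact Subgroup.one_mem _
  · -- g is the reflection
    have hrg : reflectionGL Q v hv * g = 1 := by
      apply eq_one_of_fix_hyperplane Q v y0 hy0
      · intro x hx
        rw [Matrix.GeneralLinearGroup.coe_mul, ← Matrix.mulVec_mulVec, hfix x hx,
          coe_reflectionGL]
        exact reflectionMatrix_mulVec_of_polar_eq_zero Q v x hx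
      · rw [Matrix.GeneralLinearGroup.coe_mul, ← Matrix.mulVec_mulVec, hgy0, coe_reflectionGL,
          reflectionMatrix_mulVec, zero_smul, add_zero, polar_add_right, polar_smul_right,
          char2_polar_self h2, smul_zero, add_zero]
        have h3 : polar (⇑Q) v y0 = c * Q v := by
          rw [polar_comm]
          linear_combination hc1 - (c * Q v) * h2
        have h4 : (Q v)⁻¹ * (c * Q v) = c := by field_simp
        rw [h3, h4]
        abel
    have : g = (reflectionGL Q v hv)⁻¹ := eq_inv_of_mul_eq_one_right hrg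
    rw [this]
    exact Subgroup.inv_mem _ (Subgroup.subset_closure (reflectionGL_mem_reflSetGL Q v hv))

/-- the stabilizer of a nonsingular vector lies in the reflection subgroup (char 2) -/
theorem char2_stab [Finite F] (h2 : (2 : F) = 0) (Q : QuadraticForm F (ι → F))
    (hQ : (QuadraticMap.polarBilin Q).Nondegenerate) (v : ι → F) (hv : Q v ≠ 0) :
    ∀ (d : ℕ) (X : Submodule F (ι → F)), v ∈ X → (∀ x' ∈ X, polar (⇑Q) v x' = 0) →
      finrank F (ι → F) ≤ finrank F X + d →
      ∀ g : Matrix.GeneralLinearGroup ι F, g ∈ Cfsg.isometryGroup F (⇑Q) →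
      (∀ x' ∈ X, (g : Matrix ι ι F) *ᵥ x' = x') → g ∈ Subgroup.closure (reflSetGL Q) := by
  intro d
  induction d with
  | zero =>
    intro X _ _ hdim g hg hfix
    have hX : X = ⊤ := Submodule.eq_top_of_finrank_eq (le_antisymm (Submodule.finrank_le X) hdim)
    apply char2_base h2 Q hQ v hv g hg
    intro x _
    exact hfix x (by rw [hX]; trivial)
  | succ d ih =>
    intro X hvX hXv hdim g hg hfix
    by_cases hall : ∀ x, polar (⇑Q) v x = 0 → x ∈ X
    · apply char2_base h2 Q hQ v hv g hg
      intro x hx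
      exact hfix x (hall x hx)
    · push Not at hall
      obtain ⟨x, hvx, hxX⟩ := hall
      have hgQ := (mem_isometryGroup_iff (⇑Q) g).1 hg
      have hpol := polar_mulVec_of_preserves Q (g : Matrix ι ι F) hgQ
      obtain ⟨y, hy⟩ : ∃ y : ι → F, y = (g : Matrix ι ι F) *ᵥ x := ⟨_, rfl⟩
      have hinj : Function.Injective ((g : Matrix ι ι F).mulVec) :=
        Matrix.mulVec_injective_of_isUnit ((Matrix.isUnit_iff_isUnit_det _).2
          ((Matrix.isUnit_iff_isUnit_det _).1 (Units.isUnit g)))
      have hyX : y ∉ X := by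
        intro hyX
        apply hxX
        have : (g : Matrix ι ι F) *ᵥ y = (g : Matrix ι ι F) *ᵥ x := by
          rw [hfix y hyX, hy]
        rw [← hinj this]; exact hyX
      have hvy : polar (⇑Q) v y = 0 := by
        rw [hy]
        nth_rewrite 1 [← hfix v hvX]
        rw [hpol, hvx]
      have hxy : ∀ x' ∈ X, polar (⇑Q) x x' = polar (⇑Q) y x' := by
        intro x' hx'
        rw [hy]
        nth_rewrite 2 [← hfix x' hx']
        rw [hpol]
      have hQxy : Q x = Q y := by rw [hy, hgQ]
      obtain ⟨ρ, hρ, hρX, hρy⟩ :=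
        char2_step h2 Q hQ X v hv hvX hXv y x hvy hvx hyX hxX hxy hQxy
      have hρG : ρ ∈ Cfsg.isometryGroup F (⇑Q) :=
        (Subgroup.closure_le _).2 (reflSetGL_subset Q) hρ
      have h1 : ρ * g ∈ Subgroup.closure (reflSetGL Q) := by
        apply ih (X ⊔ Submodule.span F {x}) (Submodule.mem_sup_left hvX) ?_ ?_ (ρ * g)
          (Subgroup.mul_mem _ hρG hg)
        · intro x' hx'
          obtain ⟨a, ha, b, hb, rfl⟩ := Submodule.mem_sup.1 hx'
          obtain ⟨c, rfl⟩ := Submodule.mem_span_singleton.1 hb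
          rw [Matrix.GeneralLinearGroup.coe_mul, ← Matrix.mulVec_mulVec, Matrix.mulVec_add,
            Matrix.mulVec_smul, hfix a ha, ← hy, Matrix.mulVec_add, Matrix.mulVec_smul, hρX a ha,
            hρy]
        · intro x' hx'
          obtain ⟨a, ha, b, hb, rfl⟩ := Submodule.mem_sup.1 hx'
          obtain ⟨c, rfl⟩ := Submodule.mem_span_singleton.1 hb
          rw [polar_add_right, polar_smul_right, hXv a ha, hvx, smul_zero, add_zero]
        · have hlt : X < X ⊔ Submodule.span F {x} := by
            apply lt_of_le_of_ne le_sup_left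
            intro h
            apply hxX
            rw [h]
            exact Submodule.mem_sup_right (Submodule.mem_span_singleton_self x)
          have := Submodule.finrank_lt_finrank_of_lt hlt
          omega
      have : g = ρ⁻¹ * (ρ * g) := by group
      rw [this]
      exact Subgroup.mul_mem _ (Subgroup.inv_mem _ hρ) h1

omit [Fintype ι] [DecidableEq ι] in
/-- two vectors of the same nonzero norm in characteristic two are equal or independent -/
theorem char2_not_mem_span (h2 : (2 : F) = 0) (Q : QuadraticForm F (ι → F)) (u v : ι → F)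
    (hv : Q v ≠ 0) (huv : Q u = Q v) (hne : u ≠ v) : v ∉ Submodule.span F {u} := by
  intro h
  obtain ⟨c, hc⟩ := Submodule.mem_span_singleton.1 h
  apply hne
  have h1 : Q v = c * c * Q v := by
    nth_rewrite 1 [← hc]
    rw [QuadraticMap.map_smul, huv, smul_eq_mul]
  have h3 : (c - 1) * (c - 1) * Q v = 0 := by
    linear_combination -h1 + (Q v - c * Q v) * h2
  have h4 : c - 1 = 0 := by
    rcases mul_eq_zero.1 h3 with h | h
    · exact mul_self_eq_zero.1 h
    · exact absurd h hv
  rw [← hc, sub_eq_zero.1 h4, one_smul]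

omit [DecidableEq ι] in
/-- the auxiliary vector in the transitivity argument -/
theorem char2_exists_aux [Fintype F] (h2 : (2 : F) = 0) (Q : QuadraticForm F (ι → F))
    (hQ : (QuadraticMap.polarBilin Q).Nondegenerate)
    (hcard : Fintype.card F ≠ 2 ∨ finrank F (ι → F) ≠ 4) (u v : ι → F) (hv : Q v ≠ 0)
    (huv : Q u = Q v) (hne : u ≠ v) (hbuv : polar (⇑Q) u v = 0) :
    ∃ w : ι → F, Q w = Q v ∧ polar (⇑Q) u w ≠ 0 ∧ polar (⇑Q) v w ≠ 0 := by
  have hu : Q u ≠ 0 := by rw [huv]; exact hv
  have hvu : v ∉ Submodule.span F {u} := char2_not_mem_span h2 Q u v hv huv hne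
  have huv' : u ∉ Submodule.span F {v} := char2_not_mem_span h2 Q v u hu huv.symm hne.symm
  obtain ⟨y1, hy1u, hy1v⟩ := exists_orth_of_notMem Q hQ _ v hvu
  obtain ⟨y2, hy2v, hy2u⟩ := exists_orth_of_notMem Q hQ _ u huv'
  have hy1u' : polar (⇑Q) y1 u = 0 := hy1u u (Submodule.mem_span_singleton_self u)
  have hy2v' : polar (⇑Q) y2 v = 0 := hy2v v (Submodule.mem_span_singleton_self v)
  obtain ⟨w0, hw0⟩ : ∃ w0 : ι → F,
      w0 = (polar (⇑Q) y1 v)⁻¹ • y1 + (polar (⇑Q) y2 u)⁻¹ • y2 := ⟨_, rfl⟩
  have hw0u : polar (⇑Q) w0 u = 1 := by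
    rw [hw0, polar_add_left, polar_smul_left, polar_smul_left, hy1u', smul_zero, zero_add,
      smul_eq_mul, inv_mul_cancel₀ hy2u]
  have hw0v : polar (⇑Q) w0 v = 1 := by
    rw [hw0, polar_add_left, polar_smul_left, polar_smul_left, hy2v', smul_zero, add_zero,
      smul_eq_mul, inv_mul_cancel₀ hy1v]
  by_cases hF : Fintype.card F = 2
  · -- the field with two elements
    have hdim : finrank F (ι → F) ≠ 4 := by
      rcases hcard with h | h
      · exact absurd hF h
      · exact h
    have h01 : ∀ a : F, a = 0 ∨ a = 1 := by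
      intro a
      by_contra hcon
      push Not at hcon
      have : 2 < Fintype.card F :=
        Fintype.two_lt_card_iff.2 ⟨a, 0, 1, hcon.1, hcon.2, zero_ne_one⟩
      omega
    have hQv1 : Q v = 1 := (h01 _).resolve_left hv
    by_contra hcon
    push Not at hcon
    -- every vector of the affine space has norm zero
    have hA : ∀ z : ι → F, polar (⇑Q) u z = 0 → polar (⇑Q) v z = 0 → Q (w0 + z) = 0 := by
      intro z hz1 hz2
      by_contra hne0
      have h1 : Q (w0 + z) = Q v := by
        rw [hQv1]; exact (h01 _).resolve_left hne0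
      have h3 : polar (⇑Q) u (w0 + z) ≠ 0 := by
        rw [polar_add_right, hz1, add_zero, polar_comm, hw0u]; exact one_ne_zero
      have h4 := hcon (w0 + z) h1 h3
      rw [polar_add_right, hz2, add_zero, polar_comm, hw0v] at h4
      exact one_ne_zero h4
    have hQw0 : Q w0 = 0 := by
      have := hA 0 (by simp) (by simp)
      rwa [add_zero] at this
    have hQz : ∀ z : ι → F, polar (⇑Q) u z = 0 → polar (⇑Q) v z = 0 →
        Q z = polar (⇑Q) w0 z := by
      intro z hz1 hz2
      have := hA z hz1 hz2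
      rw [QuadraticMap.map_add (⇑Q), hQw0, zero_add] at this
      linear_combination this - (polar (⇑Q) w0 z) * h2
    set B : LinearMap.BilinForm F (ι → F) := QuadraticMap.polarBilin Q with hB
    set S : Submodule F (ι → F) := Submodule.span F {u, v} with hS
    have hYmem : ∀ z : ι → F, z ∈ B.orthogonal S ↔
        polar (⇑Q) u z = 0 ∧ polar (⇑Q) v z = 0 := by
      intro z
      rw [LinearMap.BilinForm.mem_orthogonal_iff]
      constructor
      · intro h
        exact ⟨h u (Submodule.subset_span (by simp)), h v (Submodule.subset_span (by simp))⟩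
      · intro h x hx
        show polar (⇑Q) x z = 0
        induction hx using Submodule.span_induction with
        | mem a ha =>
          rcases ha with rfl | rfl
          · exact h.1
          · exact h.2
        | zero => simp
        | add a b _ _ ha hb => rw [polar_add_left, ha, hb, add_zero]
        | smul c a _ ha => rw [polar_smul_left, ha, smul_zero]
    have hYle : B.orthogonal S ≤ S := by
      intro z hz
      rw [← LinearMap.BilinForm.orthogonal_orthogonal hQ (polarBilin_isRefl Q) S,
        LinearMap.BilinForm.mem_orthogonal_iff]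
      intro z' hz'
      show polar (⇑Q) z' z = 0
      have h1 := (hYmem z).1 hz
      have h2' := (hYmem z').1 hz'
      have h3 : polar (⇑Q) u (z' + z) = 0 := by rw [polar_add_right, h1.1, h2'.1, add_zero]
      have h4 : polar (⇑Q) v (z' + z) = 0 := by rw [polar_add_right, h1.2, h2'.2, add_zero]
      unfold polar
      rw [hQz _ h3 h4, hQz _ h1.1 h1.2, hQz _ h2'.1 h2'.2, polar_add_right]
      ring
    have hSle : S ≤ B.orthogonal S := by
      rw [hS, Submodule.span_le]
      intro z hz
      rw [SetLike.mem_coe, hYmem]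
      rcases hz with rfl | rfl
      · exact ⟨char2_polar_self h2 Q _, by rw [polar_comm]; exact hbuv⟩
      · exact ⟨hbuv, char2_polar_self h2 Q _⟩
    have hSdim : finrank F S = 2 := by
      have hli : LinearIndependent F ![u, v] := by
        rw [LinearIndependent.pair_iff]
        intro s t hst
        by_cases ht : t = 0
        · subst ht
          rw [zero_smul, add_zero] at hst
          rcases smul_eq_zero.1 hst with h | h
          · exact ⟨h, rfl⟩
          · exfalso; apply hu; rw [h]; simp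
        · exfalso
          apply hvu
          rw [Submodule.mem_span_singleton]
          refine ⟨-(t⁻¹ * s), ?_⟩
          have : v = t⁻¹ • (s • u + t • v) - (t⁻¹ * s) • u := by
            rw [smul_add, smul_smul, smul_smul, inv_mul_cancel₀ ht, one_smul]; abel
          rw [this, hst, smul_zero, zero_sub, neg_smul]
      have h5 := finrank_span_eq_card hli
      rw [Fintype.card_fin] at h5
      have h6 : Set.range ![u, v] = {u, v} := by
        ext x
        simp [eq_comm, or_comm]
      rw [h6] at h5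
      rw [hS]; exact h5
    have hYdim := LinearMap.BilinForm.finrank_orthogonal hQ S
    have hSY : B.orthogonal S = S := le_antisymm hYle hSle
    rw [hSY, hSdim] at hYdim
    omega
  · -- at least three elements
    obtain ⟨a, ha⟩ : ∃ a : F, a = Q v := ⟨_, rfl⟩
    obtain ⟨r', hr'⟩ : ∃ r' : F, Q w0 + a * r' * r' + r' ≠ 0 := by
      by_contra hcon
      push Not at hcon
      have h0 := hcon 0
      have h1 := hcon 1
      have h3 : 2 < Fintype.card F := by
        have : 1 < Fintype.card F := Fintype.one_lt_card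
        omega
      obtain ⟨x1, x2, x3, h12, h13, h23⟩ := Fintype.two_lt_card_iff.1 h3
      obtain ⟨r, hr0, hr1⟩ : ∃ r : F, r ≠ 0 ∧ r ≠ 1 := by
        by_cases c1 : x1 ≠ 0 ∧ x1 ≠ 1
        · exact ⟨x1, c1⟩
        by_cases c2 : x2 ≠ 0 ∧ x2 ≠ 1
        · exact ⟨x2, c2⟩
        by_cases c3 : x3 ≠ 0 ∧ x3 ≠ 1
        · exact ⟨x3, c3⟩
        exfalso
        have e1 : x1 = 0 ∨ x1 = 1 := by
          by_contra h; push Not at h; exact c1 h
        have e2 : x2 = 0 ∨ x2 = 1 := by
          by_contra h; push Not at h; exact c2 h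
        have e3 : x3 = 0 ∨ x3 = 1 := by
          by_contra h; push Not at h; exact c3 h
        rcases e1 with e1 | e1 <;> rcases e2 with e2 | e2 <;> rcases e3 with e3 | e3 <;>
          simp_all
      have hr := hcon r
      have ha1 : a = 1 := by
        have : a + 1 = 0 := by linear_combination h1 - h0
        linear_combination this - h2
      rw [ha1] at hr
      have : r * (r - 1) = 0 := by
        linear_combination hr - h0 - r * h2
      rcases mul_eq_zero.1 this with h | h
      · exact hr0 h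
      · exact hr1 (sub_eq_zero.1 h)
    obtain ⟨c, hc⟩ : ∃ c : F, c = (Q w0 + a * r' * r' + r')⁻¹ := ⟨_, rfl⟩
    have hc0 : c ≠ 0 := by rw [hc]; exact inv_ne_zero hr'
    have hcD : c * (Q w0 + a * r' * r' + r') = 1 := by rw [hc, inv_mul_cancel₀ hr']
    refine ⟨0 + c • w0 + (1 + c * r') • u, ?_, ?_, ?_⟩
    · rw [quad_expand, hw0u, huv, ← ha]
      simp only [QuadraticMap.map_zero, polar_zero_left]
      linear_combination c * hcD + (c + c * r' * a) * h2
    · rw [polar_add_right, polar_add_right, polar_smul_right, polar_smul_right,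
        char2_polar_self h2, polar_comm (⇑Q) u w0, hw0u]
      simpa using hc0
    · rw [polar_add_right, polar_add_right, polar_smul_right, polar_smul_right,
        polar_comm (⇑Q) v u, hbuv, polar_comm (⇑Q) v w0, hw0v]
      simpa using hc0

/-- transitivity of the reflection subgroup on vectors of a given nonzero norm (char 2) -/
theorem char2_trans [Fintype F] (h2 : (2 : F) = 0) (Q : QuadraticForm F (ι → F))
    (hQ : (QuadraticMap.polarBilin Q).Nondegenerate)
    (hcard : Fintype.card F ≠ 2 ∨ finrank F (ι → F) ≠ 4) (u v : ι → F) (hv : Q v ≠ 0)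
    (huv : Q u = Q v) :
    ∃ ρ ∈ Subgroup.closure (reflSetGL Q), (ρ : Matrix ι ι F) *ᵥ u = v := by
  by_cases hne : u = v
  · exact ⟨1, Subgroup.one_mem _, by rw [hne]; simp⟩
  by_cases hQuv : Q (u - v) = 0
  swap
  · exact ⟨reflectionGL Q (u - v) hQuv,
      Subgroup.subset_closure (reflectionGL_mem_reflSetGL Q _ hQuv),
      by rw [coe_reflectionGL]; exact reflection_swap Q u v huv hQuv⟩
  have hbuv : polar (⇑Q) u v = 0 := by rw [← char2_quad_sub h2 Q u v huv.symm, hQuv]
  obtain ⟨w, hQw, huw, hvw⟩ := char2_exists_aux h2 Q hQ hcard u v hv huv hne hbuv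
  have hne1 : Q (u - w) ≠ 0 := by
    rw [char2_quad_sub h2 Q u w (by rw [hQw, huv])]; exact huw
  have hne2 : Q (w - v) ≠ 0 := by
    rw [char2_quad_sub h2 Q w v hQw.symm, polar_comm]; exact hvw
  refine ⟨reflectionGL Q (w - v) hne2 * reflectionGL Q (u - w) hne1, ?_, ?_⟩
  · apply Subgroup.mul_mem
    · exact Subgroup.subset_closure (reflectionGL_mem_reflSetGL Q _ hne2)
    · exact Subgroup.subset_closure (reflectionGL_mem_reflSetGL Q _ hne1)
  · rw [Matrix.GeneralLinearGroup.coe_mul, ← Matrix.mulVec_mulVec, coe_reflectionGL,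
      coe_reflectionGL, reflection_swap Q u w (by rw [hQw, huv]) hne1,
      reflection_swap Q w v hQw hne2]

/-- Cartan–Dieudonné in characteristic two -/
theorem cartan_dieudonne_char2 [Fintype F] (h2 : (2 : F) = 0) (Q : QuadraticForm F (ι → F))
    (hQ : (QuadraticMap.polarBilin Q).Nondegenerate)
    (hcard : Fintype.card F ≠ 2 ∨ finrank F (ι → F) ≠ 4)
    (g : Matrix.GeneralLinearGroup ι F) (hg : g ∈ Cfsg.isometryGroup F (⇑Q)) :
    g ∈ Subgroup.closure (reflSetGL Q) := by
  by_cases hex : ∃ v, Q v ≠ 0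
  · obtain ⟨v, hv⟩ := hex
    have hgQ := (mem_isometryGroup_iff (⇑Q) g).1 hg
    obtain ⟨ρ, hρ, hρv⟩ := char2_trans h2 Q hQ hcard ((g : Matrix ι ι F) *ᵥ v) v hv (hgQ v)
    have hρG : ρ ∈ Cfsg.isometryGroup F (⇑Q) :=
      (Subgroup.closure_le _).2 (reflSetGL_subset Q) hρ
    have h1 : ρ * g ∈ Subgroup.closure (reflSetGL Q) := by
      apply char2_stab h2 Q hQ v hv (finrank F (ι → F)) (Submodule.span F {v})
        (Submodule.mem_span_singleton_self v) ?_ (by omega) (ρ * g)
        (Subgroup.mul_mem _ hρG hg)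
      · intro x' hx'
        obtain ⟨c, rfl⟩ := Submodule.mem_span_singleton.1 hx'
        rw [Matrix.GeneralLinearGroup.coe_mul, ← Matrix.mulVec_mulVec, Matrix.mulVec_smul,
          Matrix.mulVec_smul, hρv]
      · intro x' hx'
        obtain ⟨c, rfl⟩ := Submodule.mem_span_singleton.1 hx'
        rw [polar_smul_right, char2_polar_self h2, smul_zero]
    have : g = ρ⁻¹ * (ρ * g) := by group
    rw [this]
    exact Subgroup.mul_mem _ (Subgroup.inv_mem _ hρ) h1
  · push Not at hex
    have hzero : ∀ x : ι → F, x = 0 := by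
      intro x
      apply hQ.1
      intro y
      show polar (⇑Q) x y = 0
      simp [polar, hex]
    have : g = 1 := by
      apply Units.ext
      apply Matrix.toLin'.injective
      apply LinearMap.ext
      intro y
      rw [hzero y]; simp
    rw [this]; exact Subgroup.one_mem _

/-- Cartan–Dieudonné, all characteristics, inside the isometry group -/
theorem closure_reflSet_eq_top' [Fintype F] (Q : QuadraticForm F (ι → F))
    (hQ : (QuadraticMap.polarBilin Q).Nondegenerate)
    (hcard : Fintype.card F ≠ 2 ∨ finrank F (ι → F) ≠ 4) :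
    Subgroup.closure (reflSet Q) = ⊤ := by
  by_cases h2 : (2 : F) = 0
  · rw [eq_top_iff]
    intro x _
    have h := cartan_dieudonne_char2 h2 Q hQ hcard (x : Matrix.GeneralLinearGroup ι F) x.2
    rw [← subtype_image_reflSet, ← MonoidHom.map_closure] at h
    obtain ⟨y, hy, hyx⟩ := h
    have : y = x := Subtype.ext hyx
    rwa [← this]
  · exact closure_reflSet_eq_top h2 Q hQ

end Cfsg.Agent.Lib.Helper8
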