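import Mathlib
import Cfsg.Prelude.Def_ClassicalGeometry
import Cfsg.Prelude.Def_SporadicB
import Cfsg.Agent.Lib.Helper13.Orth
import Cfsg.Agent.Lib.Helper8.WittQuad
import Cfsg.Agent.Lib.Helper8.CartanDieudonne
import Cfsg.Agent.Lib.Helper8.CartanDieudonne2

set_option autoImplicit false

namespace Cfsg.Agent.Lib.Helper8

open Matrix Module QuadraticMap
open Cfsg.Agent.Lib.Helper13

variable {ι : Type} [Fintype ι] [DecidableEq ι] {F : Type*} [Field F]

theorem reflectionMatrix_sub_one_mulVec (Q : QuadraticForm F (ι → F)) (v x : ι → F) :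
    (Cfsg.reflectionMatrix (⇑Q) v - 1) *ᵥ x = (-((Q v)⁻¹ * polar (⇑Q) v x)) • v := by
  rw [sub_mulVec, one_mulVec, reflectionMatrix_mulVec, neg_smul]
  abel

omit [Fintype ι] [DecidableEq ι] in
theorem exists_polar_ne_zero (Q : QuadraticForm F (ι → F))
    (hQ : (QuadraticMap.polarBilin Q).Nondegenerate) (v : ι → F) (hv : v ≠ 0) :
    ∃ b, polar (⇑Q) v b ≠ 0 := by
  by_contra hcon
  push Not at hcon
  exact hv (hQ.1 v hcon)

/-- a reflection differs from the identity by a matrix of rank one -/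
theorem rank_reflectionMatrix_sub_one (Q : QuadraticForm F (ι → F))
    (hQ : (QuadraticMap.polarBilin Q).Nondegenerate) (v : ι → F) (hv : Q v ≠ 0) :
    (Cfsg.reflectionMatrix (⇑Q) v - 1).rank = 1 := by
  have hv0 : v ≠ 0 := by
    rintro rfl
    apply hv
    simp
  apply le_antisymm
  · have : Cfsg.reflectionMatrix (⇑Q) v - 1
        = Matrix.vecMulVec (-((Q v)⁻¹ • v)) (Cfsg.polarVec (⇑Q) v) := by
      unfold Cfsg.reflectionMatrix
      rw [Matrix.neg_vecMulVec, Matrix.smul_vecMulVec]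
      abel
    rw [this]
    exact Matrix.rank_vecMulVec_le _ _
  · obtain ⟨b, hb⟩ := exists_polar_ne_zero Q hQ v hv0
    unfold Matrix.rank
    rw [Nat.succ_le_iff, Module.finrank_pos_iff_exists_ne_zero]
    refine ⟨⟨(Cfsg.reflectionMatrix (⇑Q) v - 1) *ᵥ b, ⟨b, rfl⟩⟩, ?_⟩
    intro h
    have h2 := congrArg Subtype.val h
    simp only [reflectionMatrix_sub_one_mulVec, ZeroMemClass.coe_zero] at h2
    rw [smul_eq_zero, neg_eq_zero] at h2
    rcases h2 with h2 | h2
    · exact mul_ne_zero (inv_ne_zero hv) hb h2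
    · exact hv0 h2

/-- an isometry differing from the identity by a matrix of rank one is a reflection -/
theorem exists_reflection_of_rank_one (Q : QuadraticForm F (ι → F))
    (hQ : (QuadraticMap.polarBilin Q).Nondegenerate) (G : Matrix ι ι F)
    (hG : ∀ x, Q (G *ᵥ x) = Q x) (hr : (G - 1).rank = 1) :
    ∃ a : ι → F, Q a ≠ 0 ∧ G = Cfsg.reflectionMatrix (⇑Q) a := by
  have hpol := polar_mulVec_of_preserves Q G hG
  unfold Matrix.rank at hr
  obtain ⟨⟨a, ⟨y0, hy0⟩⟩, ha0, hspan⟩ := finrank_eq_one_iff'.1 hr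
  have ha : a ≠ 0 := by
    intro h; apply ha0; exact Subtype.ext h
  have hy0' : G *ᵥ y0 = y0 + (1 : F) • a + (0 : F) • a := by
    have : (G - 1) *ᵥ y0 = a := hy0
    rw [sub_mulVec, one_mulVec, sub_eq_iff_eq_add] at this
    rw [this, one_smul, zero_smul, add_zero, add_comm]
  have hx : ∀ x, ∃ c : F, G *ᵥ x = x + c • a := by
    intro x
    obtain ⟨c, hc⟩ := hspan ⟨(G - 1) *ᵥ x, ⟨x, rfl⟩⟩
    have h2 := congrArg Subtype.val hc
    simp only [Submodule.coe_smul] at h2
    refine ⟨c, ?_⟩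
    rw [sub_mulVec, one_mulVec] at h2
    rw [h2]; abel
  have hE1 : Q a + polar (⇑Q) y0 a = 0 := by
    have h1 := hG y0
    rw [hy0', quad_expand] at h1
    linear_combination h1
  have hE2 : ∀ x c, G *ᵥ x = x + c • a → polar (⇑Q) x a = -(c * Q a) := by
    intro x c hc
    have h := hpol x y0
    rw [hc, hy0', zero_smul, add_zero, one_smul] at h
    simp only [polar_add_left, polar_add_right, polar_smul_left, smul_eq_mul] at h
    rw [polar_self, polar_comm (⇑Q) a y0] at h
    simp only [nsmul_eq_mul, Nat.cast_ofNat] at h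
    linear_combination h - c * hE1
  have hQa : Q a ≠ 0 := by
    intro h0
    obtain ⟨b, hb⟩ := exists_polar_ne_zero Q hQ a ha
    obtain ⟨c, hc⟩ := hx b
    have := hE2 b c hc
    rw [h0, mul_zero, neg_zero, polar_comm] at this
    exact hb this
  refine ⟨a, hQa, ?_⟩
  rw [Matrix.ext_iff_mulVec]
  intro x
  obtain ⟨c, hc⟩ := hx x
  rw [reflectionMatrix_mulVec, hc, polar_comm (⇑Q) a x, hE2 x c hc, sub_eq_add_neg, ← neg_smul]
  congr 2
  field_simp

/-- conjugation of a reflection by an isometry -/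
theorem mul_reflectionMatrix (Q : QuadraticForm F (ι → F)) (G : Matrix ι ι F)
    (hG : ∀ x, Q (G *ᵥ x) = Q x) (v : ι → F) :
    G * Cfsg.reflectionMatrix (⇑Q) v = Cfsg.reflectionMatrix (⇑Q) (G *ᵥ v) * G := by
  rw [Matrix.ext_iff_mulVec]
  intro x
  rw [← mulVec_mulVec, ← mulVec_mulVec, reflectionMatrix_mulVec, reflectionMatrix_mulVec,
    polar_mulVec_of_preserves Q G hG, hG, mulVec_sub, mulVec_smul]

/-- the reflection as an element of the isometry group -/
noncomputable def reflElt (Q : QuadraticForm F (ι → F)) (v : ι → F) (hv : Q v ≠ 0) :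
    ↥(Cfsg.isometryGroup F (⇑Q)) :=
  ⟨reflectionGL Q v hv, reflectionGL_mem Q v hv⟩

theorem coe_reflElt (Q : QuadraticForm F (ι → F)) (v : ι → F) (hv : Q v ≠ 0) :
    (((reflElt Q v hv : ↥(Cfsg.isometryGroup F (⇑Q))) : Matrix.GeneralLinearGroup ι F) :
      Matrix ι ι F) = Cfsg.reflectionMatrix (⇑Q) v := rfl

theorem reflElt_mem_reflSet (Q : QuadraticForm F (ι → F)) (v : ι → F) (hv : Q v ≠ 0) :
    reflElt Q v hv ∈ reflSet Q := ⟨v, hv, rfl⟩

theorem eq_reflElt_of_coe (Q : QuadraticForm F (ι → F)) (g : ↥(Cfsg.isometryGroup F (⇑Q)))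
    (v : ι → F) (hv : Q v ≠ 0)
    (hg : ((g : Matrix.GeneralLinearGroup ι F) : Matrix ι ι F) = Cfsg.reflectionMatrix (⇑Q) v) :
    g = reflElt Q v hv := by
  apply Subtype.ext
  apply Units.ext
  rw [hg]; rfl

theorem isoElt_preserves (Q : QuadraticForm F (ι → F)) (g : ↥(Cfsg.isometryGroup F (⇑Q)))
    (x : ι → F) : Q (((g : Matrix.GeneralLinearGroup ι F) : Matrix ι ι F) *ᵥ x) = Q x :=
  (mem_isometryGroup_iff (⇑Q) (g : Matrix.GeneralLinearGroup ι F)).1 g.2 x

theorem conj_reflElt (Q : QuadraticForm F (ι → F)) (g : ↥(Cfsg.isometryGroup F (⇑Q)))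
    (v : ι → F) (hv : Q v ≠ 0) :
    g * reflElt Q v hv * g⁻¹ =
      reflElt Q (((g : Matrix.GeneralLinearGroup ι F) : Matrix ι ι F) *ᵥ v)
        (by rw [isoElt_preserves]; exact hv) := by
  rw [mul_inv_eq_iff_eq_mul]
  apply Subtype.ext
  apply Units.ext
  rw [Subgroup.coe_mul, Subgroup.coe_mul, Units.val_mul, Units.val_mul, coe_reflElt, coe_reflElt]
  exact mul_reflectionMatrix Q _ (isoElt_preserves Q g) v

/-- the rank-one isometries are exactly the reflections -/
theorem rankOneSet_eq_reflSet (Q : QuadraticForm F (ι → F))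
    (hQ : (QuadraticMap.polarBilin Q).Nondegenerate) :
    {g : ↥(Cfsg.isometryGroup F (⇑Q)) |
      (((g : Matrix.GeneralLinearGroup ι F) : Matrix ι ι F) - 1).rank = 1} = reflSet Q := by
  ext g
  constructor
  · intro hg
    obtain ⟨a, ha, hga⟩ := exists_reflection_of_rank_one Q hQ _ (isoElt_preserves Q g) hg
    exact ⟨a, ha, hga⟩
  · rintro ⟨v, hv, hgv⟩
    show (((g : Matrix.GeneralLinearGroup ι F) : Matrix ι ι F) - 1).rank = 1
    rw [hgv]
    exact rank_reflectionMatrix_sub_one Q hQ v hv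

theorem reflElt_mul_self (Q : QuadraticForm F (ι → F)) (v : ι → F) (hv : Q v ≠ 0) :
    reflElt Q v hv * reflElt Q v hv = 1 := by
  rw [← inv_eq_iff_mul_eq_one]
  exact inv_mem_reflSet Q _ (reflElt_mem_reflSet Q v hv)

theorem reflElt_ne_one (Q : QuadraticForm F (ι → F))
    (hQ : (QuadraticMap.polarBilin Q).Nondegenerate) (v : ι → F) (hv : Q v ≠ 0) :
    reflElt Q v hv ≠ 1 := by
  intro h
  have h1 := rank_reflectionMatrix_sub_one Q hQ v hv
  have h2 : Cfsg.reflectionMatrix (⇑Q) v = 1 := by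
    rw [← coe_reflElt Q v hv, h]; rfl
  rw [h2, sub_self, Matrix.rank_zero] at h1
  exact zero_ne_one h1

theorem reflElt_congr (Q : QuadraticForm F (ι → F)) (u v : ι → F) (hu : Q u ≠ 0) (hv : Q v ≠ 0)
    (h : u = v) : reflElt Q u hu = reflElt Q v hv := by
  subst h; rfl

/-- commuting reflections -/
theorem reflElt_commute (Q : QuadraticForm F (ι → F)) (u v : ι → F) (hu : Q u ≠ 0)
    (hv : Q v ≠ 0) (huv : polar (⇑Q) u v = 0) :
    reflElt Q u hu * reflElt Q v hv = reflElt Q v hv * reflElt Q u hu := by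
  have h := conj_reflElt Q (reflElt Q u hu) v hv
  have h1 : ((((reflElt Q u hu : ↥(Cfsg.isometryGroup F (⇑Q))) :
      Matrix.GeneralLinearGroup ι F) : Matrix ι ι F)) *ᵥ v = v := by
    rw [coe_reflElt]
    exact reflectionMatrix_mulVec_of_polar_eq_zero Q u v huv
  rw [reflElt_congr Q _ v _ hv h1, mul_inv_eq_iff_eq_mul] at h
  exact h

/-- the 3-transposition property over the field with two elements -/
theorem isThreeTranspositionClass_reflections [Fintype F] (hF : Fintype.card F = 2)
    (f : (ι → F) → F) (Q : QuadraticForm F (ι → F)) (hf : f = ⇑Q)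
    (hQ : (QuadraticMap.polarBilin Q).Nondegenerate) (hdim : finrank F (ι → F) ≠ 4)
    (hex : ∃ v, Q v ≠ 0) :
    Cfsg.IsThreeTranspositionClass {g : ↥(Cfsg.isometryGroup F f) |
      (((g : Matrix.GeneralLinearGroup ι F) : Matrix ι ι F) - 1).rank = 1} := by
  subst hf
  rw [rankOneSet_eq_reflSet Q hQ]
  have h01 : ∀ a : F, a = 0 ∨ a = 1 := by
    intro a
    by_contra hcon
    push Not at hcon
    have : 2 < Fintype.card F :=
      Fintype.two_lt_card_iff.2 ⟨a, 0, 1, hcon.1, hcon.2, zero_ne_one⟩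
    omega
  have h2 : (2 : F) = 0 := by
    rcases h01 2 with h | h
    · exact h
    · exfalso
      have : (1 : F) = 0 := by linear_combination h
      exact one_ne_zero this
  have hone : ∀ v : ι → F, Q v ≠ 0 → Q v = 1 := fun v hv => (h01 _).resolve_left hv
  have hmem : ∀ d ∈ reflSet Q, ∃ (v : ι → F) (hv : Q v ≠ 0), d = reflElt Q v hv := by
    rintro d ⟨v, hv, hdv⟩
    exact ⟨v, hv, eq_reflElt_of_coe Q d v hv hdv⟩
  refine ⟨⟨?_, ?_⟩, ?_, ?_⟩
  · -- order two
    intro d hd
    obtain ⟨v, hv, rfl⟩ := hmem d hd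
    have : Fact (Nat.Prime 2) := ⟨Nat.prime_two⟩
    apply orderOf_eq_prime
    · rw [pow_two]; exact reflElt_mul_self Q v hv
    · exact reflElt_ne_one Q hQ v hv
  · -- products
    intro d hd e he
    obtain ⟨u, hu, rfl⟩ := hmem d hd
    obtain ⟨v, hv, rfl⟩ := hmem e he
    by_cases huv : polar (⇑Q) u v = 0
    · left
      have hc := reflElt_commute Q u v hu hv huv
      rw [pow_two]
      calc reflElt Q u hu * reflElt Q v hv * (reflElt Q u hu * reflElt Q v hv)
          = reflElt Q u hu * reflElt Q v hv * (reflElt Q v hv * reflElt Q u hu) := by rw [hc]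
        _ = reflElt Q u hu * (reflElt Q v hv * reflElt Q v hv) * reflElt Q u hu := by group
        _ = 1 := by rw [reflElt_mul_self, mul_one, reflElt_mul_self]
    · right
      have huv1 : polar (⇑Q) u v = 1 := (h01 _).resolve_left huv
      have hQu := hone u hu
      have hQv := hone v hv
      have hinvu : (reflElt Q u hu)⁻¹ = reflElt Q u hu :=
        inv_mem_reflSet Q _ (reflElt_mem_reflSet Q u hu)
      have hinvv : (reflElt Q v hv)⁻¹ = reflElt Q v hv :=
        inv_mem_reflSet Q _ (reflElt_mem_reflSet Q v hv)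
      have hneg : ∀ x : ι → F, -x = x := by
        intro x
        ext i
        simp only [Pi.neg_apply]
        exact char2_neg h2 _
      have huv' : Q (u + v) ≠ 0 := by
        rw [QuadraticMap.map_add (⇑Q), hQu, hQv, huv1]
        intro h
        have : (1 : F) = 0 := by linear_combination h - h2
        exact one_ne_zero this
      have e1 := conj_reflElt Q (reflElt Q u hu) v hv
      have e2 := conj_reflElt Q (reflElt Q v hv) u hu
      have h1 : ((((reflElt Q u hu : ↥(Cfsg.isometryGroup F (⇑Q))) :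
          Matrix.GeneralLinearGroup ι F) : Matrix ι ι F)) *ᵥ v = u + v := by
        rw [coe_reflElt, reflectionMatrix_mulVec, hQu, huv1]
        simp only [inv_one, mul_one, one_smul]
        rw [sub_eq_add_neg, hneg, add_comm]
      have h3 : ((((reflElt Q v hv : ↥(Cfsg.isometryGroup F (⇑Q))) :
          Matrix.GeneralLinearGroup ι F) : Matrix ι ι F)) *ᵥ u = u + v := by
        rw [coe_reflElt, reflectionMatrix_mulVec, hQv, polar_comm, huv1]
        simp only [inv_one, mul_one, one_smul]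
        rw [sub_eq_add_neg, hneg]
      rw [reflElt_congr Q _ (u + v) _ huv' h1, hinvu] at e1
      rw [reflElt_congr Q _ (u + v) _ huv' h3, hinvv] at e2
      have e3 : reflElt Q u hu * reflElt Q v hv * reflElt Q u hu
          = reflElt Q v hv * reflElt Q u hu * reflElt Q v hv := by rw [e1, e2]
      rw [pow_succ, pow_two]
      calc reflElt Q u hu * reflElt Q v hv * (reflElt Q u hu * reflElt Q v hv)
            * (reflElt Q u hu * reflElt Q v hv)
          = (reflElt Q u hu * reflElt Q v hv * reflElt Q u hu)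
            * (reflElt Q v hv * reflElt Q u hu * reflElt Q v hv) := by group
        _ = (reflElt Q v hv * reflElt Q u hu * reflElt Q v hv)
            * (reflElt Q v hv * reflElt Q u hu * reflElt Q v hv) := by rw [e3]
        _ = reflElt Q v hv * reflElt Q u hu * (reflElt Q v hv * reflElt Q v hv)
            * reflElt Q u hu * reflElt Q v hv := by group
        _ = 1 := by
          rw [reflElt_mul_self, mul_one, mul_assoc (reflElt Q v hv), reflElt_mul_self, mul_one,
            reflElt_mul_self]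
  · -- a single class
    obtain ⟨v0, hv0⟩ := hex
    refine ⟨reflElt Q v0 hv0, reflElt_mem_reflSet Q v0 hv0, ?_⟩
    ext d
    show d ∈ reflSet Q ↔ IsConj (reflElt Q v0 hv0) d
    rw [isConj_iff]
    constructor
    · intro hd
      obtain ⟨v, hv, rfl⟩ := hmem d hd
      obtain ⟨ρ, hρ, hρv⟩ := char2_trans h2 Q hQ (Or.inr hdim) v0 v hv
        (by rw [hone v0 hv0, hone v hv])
      have hρG : ρ ∈ Cfsg.isometryGroup F (⇑Q) :=
        (Subgroup.closure_le _).2 (reflSetGL_subset Q) hρ
      refine ⟨⟨ρ, hρG⟩, ?_⟩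
      rw [conj_reflElt]
      exact reflElt_congr Q _ _ _ _ hρv
    · rintro ⟨c, rfl⟩
      rw [conj_reflElt]
      exact reflElt_mem_reflSet Q _ _
  · exact closure_reflSet_eq_top' Q hQ (Or.inr hdim)

end Cfsg.Agent.Lib.Helper8
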