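import Mathlib
import Cfsg.Prelude.Def_ClassicalGeometry
import Cfsg.Prelude.Def_SporadicB
import Cfsg.Prelude.Def_FischerSpaces
import Cfsg.Agent.Lib.Helper13.Orth
import Cfsg.Agent.Lib.Helper8.WittQuad
import Cfsg.Agent.Lib.Helper8.CartanDieudonne
import Cfsg.Agent.Lib.Helper8.CartanDieudonne2
import Cfsg.Agent.Lib.Helper8.OrthTransp

set_option autoImplicit false

namespace Cfsg.Agent.Lib.Helper8

open Matrix Module QuadraticMap
open Cfsg.Agent.Lib.Helper13

variable {ι : Type} [Fintype ι] [DecidableEq ι] {F : Type*} [Field F]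

omit [DecidableEq ι] in
/-- a nonsingular vector orthogonal to a given orthogonal family of nonsingular vectors -/
theorem exists_nonsingular_orth (h2 : (2 : F) ≠ 0) (Q : QuadraticForm F (ι → F))
    (hQ : (QuadraticMap.polarBilin Q).Nondegenerate) {κ : Type*} [Fintype κ] (w : κ → ι → F)
    (hw : ∀ i j, i ≠ j → polar (⇑Q) (w i) (w j) = 0) (hwQ : ∀ i, Q (w i) ≠ 0)
    (hk : Fintype.card κ < finrank F (ι → F)) :
    ∃ z : ι → F, Q z ≠ 0 ∧ ∀ i, polar (⇑Q) (w i) z = 0 := by
  classical
  set B : LinearMap.BilinForm F (ι → F) := QuadraticMap.polarBilin Q with hB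
  set X : Submodule F (ι → F) := Submodule.span F (Set.range w) with hX
  have hmem : ∀ z : ι → F, z ∈ B.orthogonal X ↔ ∀ i, polar (⇑Q) (w i) z = 0 := by
    intro z
    rw [LinearMap.BilinForm.mem_orthogonal_iff]
    constructor
    · intro h i
      exact h (w i) (Submodule.subset_span ⟨i, rfl⟩)
    · intro h x hx
      show polar (⇑Q) x z = 0
      induction hx using Submodule.span_induction with
      | mem a ha =>
        obtain ⟨i, rfl⟩ := ha
        exact h i
      | zero => simp
      | add a b _ _ ha hb => rw [polar_add_left, ha, hb, add_zero]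
      | smul c a _ ha => rw [polar_smul_left, ha, smul_zero]
  have hXdim : finrank F X ≤ Fintype.card κ := finrank_range_le_card (R := F) w
  have hdim := LinearMap.BilinForm.finrank_orthogonal hQ X
  have hpos : 0 < finrank F (B.orthogonal X) := by omega
  obtain ⟨⟨z0, hz0mem⟩, hz0⟩ := Module.finrank_pos_iff_exists_ne_zero.1 hpos
  have hz0' : z0 ≠ 0 := fun h => hz0 (Subtype.ext h)
  by_contra hcon
  push Not at hcon
  have hall : ∀ z, z ∈ B.orthogonal X → Q z = 0 := by
    intro z hz
    by_contra hne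
    obtain ⟨i, hi⟩ := hcon z hne
    exact hi ((hmem z).1 hz i)
  have hz0X : z0 ∈ X := by
    rw [← LinearMap.BilinForm.orthogonal_orthogonal hQ (polarBilin_isRefl Q) X,
      LinearMap.BilinForm.mem_orthogonal_iff]
    intro z' hz'
    show polar (⇑Q) z' z0 = 0
    unfold polar
    rw [hall _ (Submodule.add_mem _ hz' hz0mem), hall _ hz', hall _ hz0mem]
    ring
  obtain ⟨a, ha⟩ := (Submodule.mem_span_range_iff_exists_fun F).1 hz0X
  apply hz0'
  rw [← ha]
  apply Finset.sum_eq_zero
  intro j _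
  have h1 : polar (⇑Q) (w j) z0 = 0 := (hmem z0).1 hz0mem j
  rw [← ha] at h1
  have h3 : polar (⇑Q) (w j) (∑ i, a i • w i) = ∑ i, a i * polar (⇑Q) (w j) (w i) := by
    have := map_sum (QuadraticMap.polarBilin Q (w j)) (fun i => a i • w i) Finset.univ
    simp only [QuadraticMap.polarBilin_apply_apply, polar_smul_right, smul_eq_mul] at this
    exact this
  rw [h3, Finset.sum_eq_single j] at h1
  · rw [polar_self] at h1
    have h4 : a j * (2 * Q (w j)) = 0 := by
      rw [← h1]; simp
    have : a j = 0 := by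
      rcases mul_eq_zero.1 h4 with h | h
      · exact h
      · exact absurd h (mul_ne_zero h2 (hwQ j))
    rw [this, zero_smul]
  · intro i _ hij
    rw [hw j i (Ne.symm hij), mul_zero]
  · intro h; exact absurd (Finset.mem_univ _) h

theorem zmod3_universal : ∀ a b d : ZMod 3, a ≠ 0 → b ≠ 0 → d ≠ 0 →
    ∃ x y : ZMod 3, x * x * a + y * y * b = d := by decide

theorem zmod3_sq_one : ∀ t : ZMod 3, t ≠ 0 → t * t = 1 := by decide

omit [DecidableEq ι] in
/-- over the field with three elements every nonzero value is represented on the orthogonal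
complement of an orthogonal family, if there is room -/
theorem exists_norm_eq_F3 (Q : QuadraticForm (ZMod 3) (ι → ZMod 3))
    (hQ : (QuadraticMap.polarBilin Q).Nondegenerate) {κ : Type*} [Fintype κ]
    (w : κ → ι → ZMod 3)
    (hw : ∀ i j, i ≠ j → polar (⇑Q) (w i) (w j) = 0) (hwQ : ∀ i, Q (w i) ≠ 0)
    (hk : Fintype.card κ + 2 ≤ finrank (ZMod 3) (ι → ZMod 3)) (d : ZMod 3) (hd : d ≠ 0) :
    ∃ z : ι → ZMod 3, Q z = d ∧ ∀ i, polar (⇑Q) (w i) z = 0 := by
  have h2 : (2 : ZMod 3) ≠ 0 := by decide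
  obtain ⟨z1, hz1Q, hz1⟩ := exists_nonsingular_orth h2 Q hQ w hw hwQ (by omega)
  obtain ⟨z2, hz2Q, hz2⟩ := exists_nonsingular_orth h2 Q hQ
    (fun o : Option κ => Option.elim o z1 w)
    (by
      intro i j hij
      cases i with
      | none =>
        cases j with
        | none => exact absurd rfl hij
        | some j => simp only [Option.elim]; rw [polar_comm]; exact hz1 j
      | some i =>
        cases j with
        | none => simp only [Option.elim]; exact hz1 i
        | some j =>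
          simp only [Option.elim]
          exact hw i j (fun h => hij (by rw [h])))
    (by
      intro i
      cases i with
      | none => exact hz1Q
      | some i => exact hwQ i)
    (by rw [Fintype.card_option]; omega)
  obtain ⟨x, y, hxy⟩ := zmod3_universal (Q z1) (Q z2) d hz1Q hz2Q hd
  have h12 : polar (⇑Q) z1 z2 = 0 := hz2 none
  refine ⟨0 + x • z1 + y • z2, ?_, ?_⟩
  · rw [quad_expand, h12]
    simp only [QuadraticMap.map_zero, polar_zero_left]
    linear_combination hxy
  · intro i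
    have := hz2 (some i)
    simp only [Option.elim] at this
    rw [zero_add, polar_add_right, polar_smul_right, polar_smul_right, hz1 i, this]
    simp

theorem reflectionMatrix_smul (Q : QuadraticForm F (ι → F)) (a : F) (ha : a ≠ 0) (w : ι → F) :
    Cfsg.reflectionMatrix (⇑Q) (a • w) = Cfsg.reflectionMatrix (⇑Q) w := by
  rw [Matrix.ext_iff_mulVec]
  intro x
  rw [reflectionMatrix_mulVec, reflectionMatrix_mulVec, QuadraticMap.map_smul, polar_smul_left,
    smul_smul, smul_eq_mul, smul_eq_mul]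
  by_cases hw : Q w = 0
  · simp [hw]
  · congr 2
    field_simp

theorem reflElt_eq_of_matrix (Q : QuadraticForm F (ι → F)) (u v : ι → F) (hu : Q u ≠ 0)
    (hv : Q v ≠ 0)
    (h : Cfsg.reflectionMatrix (⇑Q) u = Cfsg.reflectionMatrix (⇑Q) v) :
    reflElt Q u hu = reflElt Q v hv := by
  apply Subtype.ext
  apply Units.ext
  exact h

/-- the braid relation for reflections whose centres have polar value `± Q` -/
theorem reflElt_braid (Q : QuadraticForm F (ι → F)) (u v : ι → F) (hu : Q u ≠ 0)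
    (hv : Q v ≠ 0) (huv : Q u = Q v) (t : F) (ht : t = (Q u)⁻¹ * polar (⇑Q) u v)
    (ht1 : t * t = 1) :
    reflElt Q u hu * reflElt Q v hv * reflElt Q u hu
      = reflElt Q v hv * reflElt Q u hu * reflElt Q v hv := by
  have hinvu : (reflElt Q u hu)⁻¹ = reflElt Q u hu :=
    inv_mem_reflSet Q _ (reflElt_mem_reflSet Q u hu)
  have hinvv : (reflElt Q v hv)⁻¹ = reflElt Q v hv :=
    inv_mem_reflSet Q _ (reflElt_mem_reflSet Q v hv)
  have e1 := conj_reflElt Q (reflElt Q u hu) v hv
  have e2 := conj_reflElt Q (reflElt Q v hv) u hu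
  rw [hinvu] at e1
  rw [hinvv] at e2
  rw [e1, e2]
  apply reflElt_eq_of_matrix
  rw [coe_reflElt, coe_reflElt, reflectionMatrix_mulVec, reflectionMatrix_mulVec,
    polar_comm (⇑Q) v u, ← huv, ← ht]
  have ht0 : -t ≠ 0 := by
    intro h
    rw [neg_eq_zero] at h
    rw [h, mul_zero] at ht1
    exact zero_ne_one ht1
  have : u - t • v = (-t) • (v - t • u) := by
    rw [smul_sub, smul_smul, neg_mul, ht1]
    simp only [neg_smul, one_smul]
    abel
  rw [this, reflectionMatrix_smul Q (-t) ht0]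

theorem group_cube_of_braid {G : Type*} [Group G] (a b : G) (ha : a * a = 1) (hb : b * b = 1)
    (h : a * b * a = b * a * b) : (a * b) ^ 3 = 1 := by
  rw [pow_succ, pow_two]
  calc a * b * (a * b) * (a * b) = (a * b * a) * (b * a * b) := by group
    _ = (b * a * b) * (b * a * b) := by rw [h]
    _ = b * a * (b * b) * a * b := by group
    _ = 1 := by rw [hb, mul_one, mul_assoc b, ha, mul_one, hb]

theorem group_conj_of_braid {G : Type*} [Group G] (a b : G) (ha : a * a = 1) (hb : b * b = 1)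
    (h : a * b * a = b * a * b) : (a * b) * a * (a * b)⁻¹ = b := by
  have hb' : b⁻¹ = b := inv_eq_of_mul_eq_one_right hb
  have ha' : a⁻¹ = a := inv_eq_of_mul_eq_one_right ha
  rw [_root_.mul_inv_rev, hb', ha']
  calc a * b * a * (b * a) = (a * b * a) * (b * a) := by group
    _ = (b * a * b) * (b * a) := by rw [h]
    _ = b * a * (b * b) * a := by group
    _ = b := by rw [hb, mul_one, mul_assoc, ha, mul_one]

theorem reflElt_mem_reflectionSubgroup (Q : QuadraticForm F (ι → F)) (c : F) (w : ι → F)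
    (hw : Q w ≠ 0) (hwc : Q w = c) : reflElt Q w hw ∈ Cfsg.reflectionSubgroup (⇑Q) c :=
  Subgroup.subset_closure ⟨w, hwc, rfl⟩

/-- one conjugation step: non-orthogonal centres of the same norm over `F_3` -/
theorem conj_step_F3 (Q : QuadraticForm (ZMod 3) (ι → ZMod 3)) (c : ZMod 3) (hc : c ≠ 0)
    (u v : ι → ZMod 3) (hu : Q u = c) (hv : Q v = c) (huv : polar (⇑Q) u v ≠ 0) :
    ∃ g ∈ Cfsg.reflectionSubgroup (⇑Q) c,
      g * reflElt Q u (by rw [hu]; exact hc) * g⁻¹ = reflElt Q v (by rw [hv]; exact hc) := by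
  have hu' : Q u ≠ 0 := by rw [hu]; exact hc
  have hv' : Q v ≠ 0 := by rw [hv]; exact hc
  refine ⟨reflElt Q u hu' * reflElt Q v hv', ?_, ?_⟩
  · exact Subgroup.mul_mem _ (reflElt_mem_reflectionSubgroup Q c u hu' hu)
      (reflElt_mem_reflectionSubgroup Q c v hv' hv)
  · apply group_conj_of_braid _ _ (reflElt_mul_self Q u hu') (reflElt_mul_self Q v hv')
    apply reflElt_braid Q u v hu' hv' (by rw [hu, hv]) _ rfl
    apply zmod3_sq_one
    exact mul_ne_zero (inv_ne_zero hu') huv

/-- conjugacy of the norm-`c` reflections inside the subgroup they generate, over `F_3` -/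
theorem exists_conj_F3 (Q : QuadraticForm (ZMod 3) (ι → ZMod 3))
    (hQ : (QuadraticMap.polarBilin Q).Nondegenerate)
    (hn : 4 ≤ finrank (ZMod 3) (ι → ZMod 3)) (c : ZMod 3) (hc : c ≠ 0)
    (u v : ι → ZMod 3) (hu : Q u = c) (hv : Q v = c) :
    ∃ g ∈ Cfsg.reflectionSubgroup (⇑Q) c,
      g * reflElt Q u (by rw [hu]; exact hc) * g⁻¹ = reflElt Q v (by rw [hv]; exact hc) := by
  have h2 : (2 : ZMod 3) ≠ 0 := by decide
  by_cases huv : polar (⇑Q) u v = 0
  swap
  · exact conj_step_F3 Q c hc u v hu hv huv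
  have hu' : Q u ≠ 0 := by rw [hu]; exact hc
  have hv' : Q v ≠ 0 := by rw [hv]; exact hc
  obtain ⟨z, hzQ, hz⟩ := exists_norm_eq_F3 Q hQ (![u, v] : Fin 2 → ι → ZMod 3)
    (by
      intro i j hij
      fin_cases i <;> fin_cases j
      · exact absurd rfl hij
      · exact huv
      · show polar (⇑Q) v u = 0
        rw [polar_comm]; exact huv
      · exact absurd rfl hij)
    (by
      intro i
      fin_cases i
      · exact hu'
      · exact hv')
    (by rw [Fintype.card_fin]; exact hn) (-c) (neg_ne_zero.2 hc)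
  have hzu : polar (⇑Q) u z = 0 := hz 0
  have hzv : polar (⇑Q) v z = 0 := hz 1
  obtain ⟨w, hw⟩ : ∃ w : ι → ZMod 3, w = u + (1 : ZMod 3) • v + (1 : ZMod 3) • z := ⟨_, rfl⟩
  have hwQ : Q w = c := by
    rw [hw, quad_expand, hu, hv, hzQ, huv, hzu, hzv]
    ring
  have huw : polar (⇑Q) u w ≠ 0 := by
    rw [hw, polar_add_right, polar_add_right, polar_smul_right, polar_smul_right, huv, hzu,
      polar_self, hu]
    simp only [smul_zero, add_zero, nsmul_eq_mul, Nat.cast_ofNat]
    exact mul_ne_zero h2 hc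
  have hwv : polar (⇑Q) w v ≠ 0 := by
    rw [polar_comm, hw, polar_add_right, polar_add_right, polar_smul_right, polar_smul_right,
      polar_comm (⇑Q) v u, huv, hzv, polar_self, hv]
    simp only [add_zero, zero_add, nsmul_eq_mul, Nat.cast_ofNat, smul_eq_mul, one_mul]
    exact mul_ne_zero h2 hc
  obtain ⟨g1, hg1, hg1c⟩ := conj_step_F3 Q c hc u w hu hwQ huw
  obtain ⟨g2, hg2, hg2c⟩ := conj_step_F3 Q c hc w v hwQ hv hwv
  refine ⟨g2 * g1, Subgroup.mul_mem _ hg2 hg1, ?_⟩
  rw [← hg2c, ← hg1c]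
  group

/-- the norm-`c` reflections over `F_3` form a class of 3-transpositions in the subgroup they
generate -/
theorem isThreeTranspositionClass_F3 (Q : QuadraticForm (ZMod 3) (ι → ZMod 3))
    (hQ : (QuadraticMap.polarBilin Q).Nondegenerate)
    (hn : 4 ≤ finrank (ZMod 3) (ι → ZMod 3)) (c : ZMod 3) (hc : c ≠ 0) :
    Cfsg.IsThreeTranspositionClass {g : ↥(Cfsg.reflectionSubgroup (⇑Q) c) |
      (g : ↥(Cfsg.isometryGroup (ZMod 3) (⇑Q))) ∈ Cfsg.reflectionsOfNorm (⇑Q) c} := by
  have hmem : ∀ d : ↥(Cfsg.isometryGroup (ZMod 3) (⇑Q)), d ∈ Cfsg.reflectionsOfNorm (⇑Q) c →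
      ∃ (v : ι → ZMod 3) (hv : Q v = c), d = reflElt Q v (by rw [hv]; exact hc) := by
    rintro d ⟨v, hv, hdv⟩
    exact ⟨v, hv, eq_reflElt_of_coe Q d v (by rw [hv]; exact hc) hdv⟩
  refine ⟨⟨?_, ?_⟩, ?_, ?_⟩
  · -- order two
    intro d hd
    obtain ⟨v, hv, hdv⟩ := hmem _ hd
    have hv' : Q v ≠ 0 := by rw [hv]; exact hc
    rw [← Subgroup.orderOf_coe, hdv]
    have : Fact (Nat.Prime 2) := ⟨Nat.prime_two⟩
    apply orderOf_eq_prime
    · rw [pow_two]; exact reflElt_mul_self Q v hv'
    · exact reflElt_ne_one Q hQ v hv'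
  · -- products
    intro d hd e he
    obtain ⟨u, hu, hdu⟩ := hmem _ hd
    obtain ⟨v, hv, hev⟩ := hmem _ he
    have hu' : Q u ≠ 0 := by rw [hu]; exact hc
    have hv' : Q v ≠ 0 := by rw [hv]; exact hc
    by_cases huv : polar (⇑Q) u v = 0
    · left
      apply Subtype.ext
      rw [Subgroup.coe_pow, Subgroup.coe_mul, Subgroup.coe_one, hdu, hev]
      have hcm := reflElt_commute Q u v hu' hv' huv
      rw [pow_two]
      calc reflElt Q u hu' * reflElt Q v hv' * (reflElt Q u hu' * reflElt Q v hv')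
          = reflElt Q u hu' * reflElt Q v hv' * (reflElt Q v hv' * reflElt Q u hu') := by rw [hcm]
        _ = reflElt Q u hu' * (reflElt Q v hv' * reflElt Q v hv') * reflElt Q u hu' := by group
        _ = 1 := by rw [reflElt_mul_self, mul_one, reflElt_mul_self]
    · right
      apply Subtype.ext
      rw [Subgroup.coe_pow, Subgroup.coe_mul, Subgroup.coe_one, hdu, hev]
      apply group_cube_of_braid _ _ (reflElt_mul_self Q u hu') (reflElt_mul_self Q v hv')
      apply reflElt_braid Q u v hu' hv' (by rw [hu, hv]) _ rfl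
      apply zmod3_sq_one
      exact mul_ne_zero (inv_ne_zero hu') huv
  · -- a single class
    obtain ⟨v0, hv0, _⟩ := exists_norm_eq_F3 Q hQ (fun i : Fin 0 => i.elim0)
      (fun i => i.elim0) (fun i => i.elim0) (by rw [Fintype.card_fin]; omega) c hc
    have hv0' : Q v0 ≠ 0 := by rw [hv0]; exact hc
    refine ⟨⟨reflElt Q v0 hv0', reflElt_mem_reflectionSubgroup Q c v0 hv0' hv0⟩,
      ⟨v0, hv0, rfl⟩, ?_⟩
    ext d
    show (d : ↥(Cfsg.isometryGroup (ZMod 3) (⇑Q))) ∈ Cfsg.reflectionsOfNorm (⇑Q) c ↔ IsConj _ d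
    rw [isConj_iff]
    constructor
    · intro hd
      obtain ⟨v, hv, hdv⟩ := hmem _ hd
      obtain ⟨g, hg, hgc⟩ := exists_conj_F3 Q hQ hn c hc v0 v hv0 hv
      refine ⟨⟨g, hg⟩, ?_⟩
      apply Subtype.ext
      rw [Subgroup.coe_mul, Subgroup.coe_mul, Subgroup.coe_inv, hdv]
      exact hgc
    · rintro ⟨g, rfl⟩
      rw [Subgroup.coe_mul, Subgroup.coe_mul, Subgroup.coe_inv]
      show _ * reflElt Q v0 hv0' * _ ∈ _
      rw [conj_reflElt]
      refine ⟨_, ?_, rfl⟩
      rw [isoElt_preserves, hv0]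
  · exact Subgroup.closure_closure_coe_preimage

end Cfsg.Agent.Lib.Helper8
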