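import Mathlib
import Cfsg.Prelude.Def_ClassicalGeometry
import Cfsg.Agent.Lib.Helper13.Orth
import Cfsg.Agent.Lib.Helper8.WittQuad
import Cfsg.Agent.Lib.Helper8.CartanDieudonne
import Cfsg.Agent.Lib.Helper8.CartanDieudonne2
import Cfsg.Agent.Lib.Helper8.OrthTransp
import Cfsg.Agent.Lib.Helper8.OrthF3

set_option autoImplicit false

namespace Cfsg.Agent.Lib.Helper8

open Matrix Module QuadraticMap
open Cfsg.Agent.Lib.Helper13

variable {ι : Type} [Fintype ι] [DecidableEq ι] {F : Type*} [Field F]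

/-- the fixed space of a matrix -/
def fixSub (M : Matrix ι ι F) : Submodule F (ι → F) :=
  LinearMap.ker (Matrix.toLin' (M - 1))

theorem mem_fixSub (M : Matrix ι ι F) (x : ι → F) : x ∈ fixSub M ↔ M *ᵥ x = x := by
  rw [fixSub, LinearMap.mem_ker, Matrix.toLin'_apply, Matrix.sub_mulVec, Matrix.one_mulVec,
    sub_eq_zero]

omit [Fintype ι] [DecidableEq ι] in
/-- intersecting with the kernel of a functional drops the dimension by at most one -/
theorem finrank_inf_ker (A : Submodule F (ι → F)) [FiniteDimensional F (ι → F)]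
    (l : (ι → F) →ₗ[F] F) :
    (A ≤ LinearMap.ker l → finrank F ↥(A ⊓ LinearMap.ker l) = finrank F A) ∧
    (¬ A ≤ LinearMap.ker l → finrank F ↥(A ⊓ LinearMap.ker l) + 1 = finrank F A) := by
  constructor
  · intro h
    rw [inf_eq_left.2 h]
  · intro h
    have hne : l.comp A.subtype ≠ 0 := by
      intro h0
      apply h
      intro x hx
      have := congrArg (fun f => f ⟨x, hx⟩) h0
      simpa using this
    have hsurj : LinearMap.range (l.comp A.subtype) = ⊤ := by
      rw [LinearMap.range_eq_top]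
      exact LinearMap.surjective hne
    have hrn := LinearMap.finrank_range_add_finrank_ker (l.comp A.subtype)
    rw [hsurj, finrank_top, Module.finrank_self] at hrn
    have hker : LinearMap.ker (l.comp A.subtype) = Submodule.comap A.subtype (A ⊓ LinearMap.ker l) := by
      ext ⟨x, hx⟩
      simp
    have e := Submodule.comapSubtypeEquivOfLe (inf_le_left : A ⊓ LinearMap.ker l ≤ A)
    rw [hker, e.finrank_eq] at hrn
    omega

omit [Fintype ι] [DecidableEq ι] in
theorem mem_ker_polarBilin (Q : QuadraticForm F (ι → F)) (v x : ι → F) :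
    x ∈ LinearMap.ker (QuadraticMap.polarBilin Q v) ↔ polar (⇑Q) v x = 0 := by
  rw [LinearMap.mem_ker, QuadraticMap.polarBilin_apply_apply]

theorem fixSub_inf_eq (Q : QuadraticForm F (ι → F)) (G : Matrix ι ι F) (v : ι → F) :
    fixSub G ⊓ LinearMap.ker (QuadraticMap.polarBilin Q v)
      = fixSub (G * Cfsg.reflectionMatrix (⇑Q) v) ⊓ LinearMap.ker (QuadraticMap.polarBilin Q v) := by
  ext x
  simp only [Submodule.mem_inf, mem_fixSub, mem_ker_polarBilin]
  constructor
  · rintro ⟨h1, h2⟩
    refine ⟨?_, h2⟩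
    rw [← Matrix.mulVec_mulVec, reflectionMatrix_mulVec_of_polar_eq_zero Q v x h2, h1]
  · rintro ⟨h1, h2⟩
    refine ⟨?_, h2⟩
    rw [← Matrix.mulVec_mulVec, reflectionMatrix_mulVec_of_polar_eq_zero Q v x h2] at h1
    exact h1

theorem reflectionMatrix_mulVec_mulVec (Q : QuadraticForm F (ι → F)) (v : ι → F) (hv : Q v ≠ 0)
    (x : ι → F) :
    Cfsg.reflectionMatrix (⇑Q) v *ᵥ (Cfsg.reflectionMatrix (⇑Q) v *ᵥ x) = x := by
  rw [Matrix.mulVec_mulVec, reflectionMatrix_mul_self Q v hv, Matrix.one_mulVec]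

theorem polar_reflection_self (Q : QuadraticForm F (ι → F)) (v : ι → F) (hv : Q v ≠ 0)
    (z : ι → F) :
    polar (⇑Q) v (Cfsg.reflectionMatrix (⇑Q) v *ᵥ z) = -polar (⇑Q) v z := by
  rw [reflectionMatrix_mulVec, polar_sub_right, polar_smul_right, polar_self, smul_eq_mul,
    nsmul_eq_mul]
  field_simp
  ring

/-- the fixed spaces of `g` and `g r_v` are not both outside `v⊥` -/
theorem not_both_nonsub (Q : QuadraticForm F (ι → F)) (v : ι → F) (hv : Q v ≠ 0)
    (G : Matrix ι ι F) (hG : ∀ x, Q (G *ᵥ x) = Q x) :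
    ¬ (¬ fixSub G ≤ LinearMap.ker (QuadraticMap.polarBilin Q v) ∧
      ¬ fixSub (G * Cfsg.reflectionMatrix (⇑Q) v) ≤ LinearMap.ker (QuadraticMap.polarBilin Q v)) := by
  rintro ⟨hA, hB⟩
  rw [SetLike.not_le_iff_exists] at hA hB
  obtain ⟨x, hxA, hx⟩ := hA
  obtain ⟨z, hzB, hz⟩ := hB
  rw [mem_ker_polarBilin] at hx hz
  rw [mem_fixSub] at hxA hzB
  have hpol := polar_mulVec_of_preserves Q G hG
  set y := Cfsg.reflectionMatrix (⇑Q) v *ᵥ z with hy
  have hGy : G *ᵥ y = z := by rw [hy, Matrix.mulVec_mulVec]; exact hzB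
  have hry : Cfsg.reflectionMatrix (⇑Q) v *ᵥ y = z := reflectionMatrix_mulVec_mulVec Q v hv z
  have h1 : polar (⇑Q) x z = polar (⇑Q) x y := by
    rw [← hpol x y, hxA, hGy]
  rw [← hry, reflectionMatrix_mulVec, polar_sub_right, polar_smul_right] at h1
  have h3 : (Q v)⁻¹ * polar (⇑Q) v y * polar (⇑Q) x v = 0 := by
    rw [smul_eq_mul] at h1
    linear_combination -h1
  have hvy : polar (⇑Q) v y = -polar (⇑Q) v z := polar_reflection_self Q v hv z
  rw [hvy, polar_comm (⇑Q) x v] at h3
  have : (Q v)⁻¹ * -polar (⇑Q) v z * polar (⇑Q) v x ≠ 0 :=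
    mul_ne_zero (mul_ne_zero (inv_ne_zero hv) (neg_ne_zero.2 hz)) hx
  exact this h3

/-- the range of `g - 1` is the orthogonal complement of the fixed space -/
theorem range_sub_one_eq_orthogonal (Q : QuadraticForm F (ι → F))
    (hQ : (QuadraticMap.polarBilin Q).Nondegenerate)
    (G : Matrix ι ι F) (hG : ∀ x, Q (G *ᵥ x) = Q x) :
    LinearMap.range (Matrix.toLin' (G - 1))
      = LinearMap.BilinForm.orthogonal (QuadraticMap.polarBilin Q) (fixSub G) := by
  have hpol := polar_mulVec_of_preserves Q G hG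
  apply Submodule.eq_of_le_of_finrank_eq
  · rintro _ ⟨y, rfl⟩
    rw [LinearMap.BilinForm.mem_orthogonal_iff]
    intro x hx
    rw [mem_fixSub] at hx
    show polar (⇑Q) x (Matrix.toLin' (G - 1) y) = 0
    rw [Matrix.toLin'_apply, Matrix.sub_mulVec, Matrix.one_mulVec, polar_sub_right]
    nth_rewrite 1 [← hx]
    rw [hpol, sub_self]
  · have h1 := LinearMap.finrank_range_add_finrank_ker (Matrix.toLin' (G - 1))
    have h2 := LinearMap.BilinForm.finrank_orthogonal hQ (fixSub G)
    have h3 : finrank F ↥(fixSub G) ≤ finrank F (ι → F) := Submodule.finrank_le _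
    rw [h2]
    unfold fixSub at h3 ⊢
    omega

/-- the fixed spaces of `g` and `g r_v` are not both inside `v⊥` -/
theorem not_both_sub (Q : QuadraticForm F (ι → F))
    (hQ : (QuadraticMap.polarBilin Q).Nondegenerate) (v : ι → F) (hv : Q v ≠ 0)
    (G : Matrix ι ι F) (hG : ∀ x, Q (G *ᵥ x) = Q x) :
    ¬ (fixSub G ≤ LinearMap.ker (QuadraticMap.polarBilin Q v) ∧
      fixSub (G * Cfsg.reflectionMatrix (⇑Q) v) ≤ LinearMap.ker (QuadraticMap.polarBilin Q v)) := by
  rintro ⟨hA, hB⟩
  have hvorth : v ∈ LinearMap.BilinForm.orthogonal (QuadraticMap.polarBilin Q) (fixSub G) := by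
    rw [LinearMap.BilinForm.mem_orthogonal_iff]
    intro x hx
    show polar (⇑Q) x v = 0
    rw [polar_comm]
    exact (mem_ker_polarBilin Q v x).1 (hA hx)
  rw [← range_sub_one_eq_orthogonal Q hQ G hG] at hvorth
  obtain ⟨y, hy⟩ := hvorth
  rw [Matrix.toLin'_apply, Matrix.sub_mulVec, Matrix.one_mulVec, sub_eq_iff_eq_add] at hy
  -- G y = v + y
  have h1 : Q v + polar (⇑Q) v y = 0 := by
    have := hG y
    rw [hy, QuadraticMap.map_add (⇑Q)] at this
    linear_combination this
  have hvy : polar (⇑Q) v y = -Q v := by linear_combination h1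
  have hry : Cfsg.reflectionMatrix (⇑Q) v *ᵥ y = v + y := by
    rw [reflectionMatrix_mulVec, hvy]
    have : (Q v)⁻¹ * -Q v = -1 := by field_simp
    rw [this, neg_smul, one_smul]
    abel
  have hz : v + y ∈ fixSub (G * Cfsg.reflectionMatrix (⇑Q) v) := by
    rw [mem_fixSub, ← hry, ← Matrix.mulVec_mulVec, reflectionMatrix_mulVec_mulVec Q v hv, hy, hry]
  have := (mem_ker_polarBilin Q v _).1 (hB hz)
  rw [polar_add_right, polar_self, hvy] at this
  apply hv
  have h4 : (2 : ℕ) • Q v = 2 * Q v := by simp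
  rw [h4] at this
  linear_combination this

/-- the dimension of the fixed space changes by exactly one when multiplying by a reflection -/
theorem finrank_fixSub_mul_reflection (Q : QuadraticForm F (ι → F))
    (hQ : (QuadraticMap.polarBilin Q).Nondegenerate) (v : ι → F) (hv : Q v ≠ 0)
    (G : Matrix ι ι F) (hG : ∀ x, Q (G *ᵥ x) = Q x) :
    finrank F ↥(fixSub (G * Cfsg.reflectionMatrix (⇑Q) v)) = finrank F ↥(fixSub G) + 1 ∨
    finrank F ↥(fixSub (G * Cfsg.reflectionMatrix (⇑Q) v)) + 1 = finrank F ↥(fixSub G) := by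
  have hA := finrank_inf_ker (fixSub G) (QuadraticMap.polarBilin Q v)
  have hB := finrank_inf_ker (fixSub (G * Cfsg.reflectionMatrix (⇑Q) v))
    (QuadraticMap.polarBilin Q v)
  rw [← fixSub_inf_eq Q G v] at hB
  have h1 := not_both_nonsub Q v hv G hG
  have h2 := not_both_sub Q hQ v hv G hG
  by_cases hAs : fixSub G ≤ LinearMap.ker (QuadraticMap.polarBilin Q v)
  · have hBs : ¬ fixSub (G * Cfsg.reflectionMatrix (⇑Q) v)
        ≤ LinearMap.ker (QuadraticMap.polarBilin Q v) := fun h => h2 ⟨hAs, h⟩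
    left
    have e1 := hA.1 hAs
    have e2 := hB.2 hBs
    omega
  · have hBs : fixSub (G * Cfsg.reflectionMatrix (⇑Q) v)
        ≤ LinearMap.ker (QuadraticMap.polarBilin Q v) := by
      by_contra h
      exact h1 ⟨hAs, h⟩
    right
    have e1 := hA.2 hAs
    have e2 := hB.1 hBs
    omega

/-- the Dickson parity of an isometry: parity of the codimension of the fixed space -/
noncomputable def dicksonPar (Q : QuadraticForm F (ι → F))
    (g : ↥(Cfsg.isometryGroup F (⇑Q))) : ZMod 2 :=
  ((finrank F ↥(fixSub ((g : Matrix.GeneralLinearGroup ι F) : Matrix ι ι F))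
    + finrank F (ι → F) : ℕ) : ZMod 2)

theorem dicksonPar_one (Q : QuadraticForm F (ι → F)) : dicksonPar Q 1 = 0 := by
  unfold dicksonPar
  have : fixSub (((1 : ↥(Cfsg.isometryGroup F (⇑Q))) : Matrix.GeneralLinearGroup ι F) :
      Matrix ι ι F) = ⊤ := by
    ext x
    simp [mem_fixSub]
  rw [this, finrank_top, ← two_mul, Nat.cast_mul]
  have : ((2 : ℕ) : ZMod 2) = 0 := by decide
  rw [this, zero_mul]

theorem dicksonPar_mul_refl (Q : QuadraticForm F (ι → F))
    (hQ : (QuadraticMap.polarBilin Q).Nondegenerate)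
    (g r : ↥(Cfsg.isometryGroup F (⇑Q))) (hr : r ∈ reflSet Q) :
    dicksonPar Q (g * r) = dicksonPar Q g + 1 := by
  obtain ⟨v, hv, hrv⟩ := hr
  unfold dicksonPar
  rw [Subgroup.coe_mul, Units.val_mul, hrv]
  rcases finrank_fixSub_mul_reflection Q hQ v hv _ (isoElt_preserves Q g) with h | h
  · rw [h]
    push_cast
    ring
  · rw [← h]
    push_cast
    have : ((1 : ZMod 2) + 1) = 0 := by decide
    linear_combination -this

/-- multiplicativity of the Dickson parity when reflections generate -/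
theorem dicksonPar_mul (Q : QuadraticForm F (ι → F))
    (hQ : (QuadraticMap.polarBilin Q).Nondegenerate)
    (hgen : Subgroup.closure (reflSet Q) = ⊤) (g h : ↥(Cfsg.isometryGroup F (⇑Q))) :
    dicksonPar Q (g * h) = dicksonPar Q g + dicksonPar Q h := by
  have hh : h ∈ Subgroup.closure (reflSet Q) := by rw [hgen]; trivial
  induction hh using Subgroup.closure_induction_right generalizing g with
  | one => rw [mul_one, dicksonPar_one, add_zero]
  | mul_right x _ y hy ih =>
    rw [← mul_assoc, dicksonPar_mul_refl Q hQ _ y hy, ih g, dicksonPar_mul_refl Q hQ x y hy]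
    ring
  | mul_inv_cancel x _ y hy ih =>
    rw [inv_mem_reflSet Q y hy, ← mul_assoc, dicksonPar_mul_refl Q hQ _ y hy, ih g,
      dicksonPar_mul_refl Q hQ x y hy]
    ring

/-- the Dickson invariant as a homomorphism -/
noncomputable def dicksonHom (Q : QuadraticForm F (ι → F))
    (hQ : (QuadraticMap.polarBilin Q).Nondegenerate)
    (hgen : Subgroup.closure (reflSet Q) = ⊤) :
    ↥(Cfsg.isometryGroup F (⇑Q)) →* Multiplicative (ZMod 2) where
  toFun g := Multiplicative.ofAdd (dicksonPar Q g)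
  map_one' := by rw [dicksonPar_one]; rfl
  map_mul' g h := by rw [dicksonPar_mul Q hQ hgen, ofAdd_add]

theorem dicksonHom_apply (Q : QuadraticForm F (ι → F))
    (hQ : (QuadraticMap.polarBilin Q).Nondegenerate)
    (hgen : Subgroup.closure (reflSet Q) = ⊤) (g : ↥(Cfsg.isometryGroup F (⇑Q))) :
    dicksonHom Q hQ hgen g = Multiplicative.ofAdd (dicksonPar Q g) := rfl

theorem dicksonPar_refl (Q : QuadraticForm F (ι → F))
    (hQ : (QuadraticMap.polarBilin Q).Nondegenerate)
    (r : ↥(Cfsg.isometryGroup F (⇑Q))) (hr : r ∈ reflSet Q) : dicksonPar Q r = 1 := by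
  have := dicksonPar_mul_refl Q hQ 1 r hr
  rw [one_mul, dicksonPar_one, zero_add] at this
  exact this

/-- a surjective homomorphism onto a group of order two, whose kernel is the commutator
subgroup, forces index two -/
theorem index_eq_two_of_hom {G : Type*} [Group G] (φ : G →* Multiplicative (ZMod 2))
    (r0 : G) (hr0 : φ r0 = Multiplicative.ofAdd 1) (N : Subgroup G) (hN : N ≤ φ.ker)
    (hP : ∀ g : G, g ∈ N ∨ g * r0 ∈ N) : N.index = 2 := by
  have hne : φ r0 ≠ 1 := by
    rw [hr0]
    intro h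
    have : (1 : ZMod 2) = 0 := Multiplicative.ofAdd.injective h
    exact one_ne_zero this
  have hker : N = φ.ker := by
    apply le_antisymm hN
    intro g hg
    rcases hP g with h | h
    · exact h
    · exfalso
      have h1 := hN h
      rw [MonoidHom.mem_ker, map_mul, MonoidHom.mem_ker.1 hg, one_mul] at h1
      exact hne h1
  have hsurj : Function.Surjective φ := by
    intro x
    have : ∀ a : ZMod 2, a = 0 ∨ a = 1 := by decide
    rcases this (Multiplicative.toAdd x) with h | h
    · refine ⟨1, ?_⟩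
      rw [map_one]
      apply Multiplicative.toAdd.injective
      rw [h]; rfl
    · refine ⟨r0, ?_⟩
      rw [hr0]
      apply Multiplicative.toAdd.injective
      rw [h]; rfl
  rw [hker, Subgroup.index_ker, MonoidHom.range_eq_top.2 hsurj, Subgroup.card_top,
    Nat.card_eq_fintype_card]
  rfl

/-- in characteristic two the commutator subgroup of the orthogonal group has index two -/
theorem commutator_index_two_char2 [Fintype F] (h2 : (2 : F) = 0) (Q : QuadraticForm F (ι → F))
    (hQ : (QuadraticMap.polarBilin Q).Nondegenerate)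
    (hcard : Fintype.card F ≠ 2 ∨ finrank F (ι → F) ≠ 4) (hex : ∃ v, Q v ≠ 0) :
    (commutator ↥(Cfsg.isometryGroup F (⇑Q))).index = 2 := by
  have hgen := closure_reflSet_eq_top' Q hQ hcard
  obtain ⟨v0, hv0⟩ := hex
  set r0 := reflElt Q v0 hv0 with hr0
  have hr0inv : r0⁻¹ = r0 := inv_mem_reflSet Q _ (reflElt_mem_reflSet Q v0 hv0)
  -- all reflections are congruent to r0 modulo the commutator subgroup
  have hconj : ∀ r ∈ reflSet Q, r * r0 ∈ commutator ↥(Cfsg.isometryGroup F (⇑Q)) := by
    rintro r ⟨u, hu, hru⟩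
    have hru' : r = reflElt Q u hu := eq_reflElt_of_coe Q r u hu hru
    obtain ⟨c, hc⟩ := exists_sq_char2 h2 (Q v0 * (Q u)⁻¹)
    have hc0 : c ≠ 0 := by
      rintro rfl
      rw [mul_zero] at hc
      exact mul_ne_zero hv0 (inv_ne_zero hu) hc.symm
    have hQcu : Q (c • u) = Q v0 := by
      rw [QuadraticMap.map_smul, hc, smul_eq_mul, mul_assoc, inv_mul_cancel₀ hu, mul_one]
    have hcu : Q (c • u) ≠ 0 := by rw [hQcu]; exact hv0
    obtain ⟨ρ, hρ, hρv⟩ := char2_trans h2 Q hQ hcard v0 (c • u) hcu hQcu.symm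
    have hρG : ρ ∈ Cfsg.isometryGroup F (⇑Q) :=
      (Subgroup.closure_le _).2 (reflSetGL_subset Q) hρ
    obtain ⟨ρ', hρ'⟩ : ∃ ρ' : ↥(Cfsg.isometryGroup F (⇑Q)),
        (ρ' : Matrix.GeneralLinearGroup ι F) = ρ := ⟨⟨ρ, hρG⟩, rfl⟩
    have e := conj_reflElt Q ρ' v0 hv0
    have e2 : reflElt Q (((ρ' : Matrix.GeneralLinearGroup ι F) : Matrix ι ι F) *ᵥ v0)
        (by rw [isoElt_preserves]; exact hv0) = reflElt Q u hu := by
      apply reflElt_eq_of_matrix
      rw [hρ', hρv, reflectionMatrix_smul Q c hc0]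
    rw [e2] at e
    have hmem := Subgroup.commutator_mem_commutator (H₁ := ⊤) (H₂ := ⊤)
      (Subgroup.mem_top ρ') (Subgroup.mem_top r0)
    rw [commutatorElement_def, hr0inv, e] at hmem
    rw [hru', commutator_def]
    exact hmem
  have hP : ∀ g : ↥(Cfsg.isometryGroup F (⇑Q)),
      g ∈ commutator ↥(Cfsg.isometryGroup F (⇑Q)) ∨
        g * r0 ∈ commutator ↥(Cfsg.isometryGroup F (⇑Q)) := by
    intro g
    have hg : g ∈ Subgroup.closure (reflSet Q) := by rw [hgen]; trivial
    have hstep : ∀ x : ↥(Cfsg.isometryGroup F (⇑Q)), ∀ y ∈ reflSet Q,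
        (x ∈ commutator ↥(Cfsg.isometryGroup F (⇑Q)) ∨
          x * r0 ∈ commutator ↥(Cfsg.isometryGroup F (⇑Q))) →
        (x * y ∈ commutator ↥(Cfsg.isometryGroup F (⇑Q)) ∨
          x * y * r0 ∈ commutator ↥(Cfsg.isometryGroup F (⇑Q))) := by
      intro x y hy hx
      have hyr := hconj y hy
      rcases hx with hx | hx
      · right
        rw [mul_assoc]
        exact Subgroup.mul_mem _ hx hyr
      · left
        have h1 : r0 * y ∈ commutator ↥(Cfsg.isometryGroup F (⇑Q)) := by
          have := Subgroup.inv_mem _ hyr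
          rwa [_root_.mul_inv_rev, hr0inv, inv_mem_reflSet Q y hy] at this
        have hr0sq : r0 * r0 = 1 := reflElt_mul_self Q v0 hv0
        have : x * y = (x * r0) * (r0 * y) := by
          calc x * y = x * (r0 * r0) * y := by rw [hr0sq, mul_one]
            _ = (x * r0) * (r0 * y) := by group
        rw [this]
        exact Subgroup.mul_mem _ hx h1
    induction hg using Subgroup.closure_induction_right with
    | one => left; exact Subgroup.one_mem _
    | mul_right x _ y hy ih => exact hstep x y hy ih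
    | mul_inv_cancel x _ y hy ih =>
      rw [inv_mem_reflSet Q y hy]
      exact hstep x y hy ih
  exact index_eq_two_of_hom (dicksonHom Q hQ hgen) r0
    (by rw [dicksonHom_apply, dicksonPar_refl Q hQ r0 (reflElt_mem_reflSet Q v0 hv0)])
    _ (Abelianization.commutator_subset_ker _) hP

end Cfsg.Agent.Lib.Helper8
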