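import Mathlib
import Cfsg.Prelude.Def_ClassicalGeometry
import Cfsg.Agent.Lib.Helper8.Dickson

set_option autoImplicit false

namespace Cfsg.Agent.Lib.Helper8

open Matrix Module QuadraticMap
open Cfsg.Agent.Lib.Helper13

variable {ι : Type} [Fintype ι] [DecidableEq ι] {F : Type*} [Field F]

/-- a subgroup of index two inside the kernel of a nontrivial homomorphism is that kernel -/
theorem eq_ker_of_index_two {G H : Type*} [Group G] [Group H] (φ : G →* H) (N : Subgroup G)
    (hN : N ≤ φ.ker) (hidx : N.index = 2) (r0 : G) (hr0 : φ r0 ≠ 1) : N = φ.ker := by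
  apply le_antisymm hN
  have h1 := Subgroup.relIndex_mul_index hN
  rw [hidx] at h1
  have hk : φ.ker.index ≠ 1 := by
    intro h
    rw [Subgroup.index_eq_one] at h
    apply hr0
    have : r0 ∈ φ.ker := by rw [h]; exact Subgroup.mem_top _
    exact MonoidHom.mem_ker.1 this
  have hrel : N.relIndex φ.ker = 1 := by
    have hdvd : φ.ker.index ∣ 2 := Dvd.intro_left _ h1
    have hle : φ.ker.index ≤ 2 := Nat.le_of_dvd (by norm_num) hdvd
    have hpos : φ.ker.index ≠ 0 := by
      intro h0
      rw [h0, mul_zero] at h1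
      exact absurd h1 (by norm_num)
    have : φ.ker.index = 2 := by omega
    rw [this] at h1
    omega
  exact Subgroup.relIndex_eq_one.1 hrel

theorem rank_sub_one_add_finrank_fixSub (M : Matrix ι ι F) :
    (M - 1).rank + finrank F ↥(fixSub M) = finrank F (ι → F) := by
  have hrn := LinearMap.finrank_range_add_finrank_ker (Matrix.toLin' (M - 1))
  have hker : finrank F ↥(LinearMap.ker (Matrix.toLin' (M - 1))) = finrank F ↥(fixSub M) := rfl
  rw [hker] at hrn
  unfold Matrix.rank
  rw [← Matrix.toLin'_apply']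
  exact hrn

/-- in characteristic two, membership in the commutator subgroup of the orthogonal group is
detected by the parity of the rank of `g - 1` (Dickson invariant) -/
theorem mem_commutator_iff_even_rank_char2 [Fintype F] (h2 : (2 : F) = 0)
    (Q : QuadraticForm F (ι → F)) (hQ : (QuadraticMap.polarBilin Q).Nondegenerate)
    (hcard : Fintype.card F ≠ 2 ∨ finrank F (ι → F) ≠ 4) (hex : ∃ v, Q v ≠ 0)
    (g : ↥(Cfsg.isometryGroup F (⇑Q))) :
    g ∈ commutator ↥(Cfsg.isometryGroup F (⇑Q)) ↔
      Even (((g : Matrix.GeneralLinearGroup ι F) : Matrix ι ι F) - 1).rank := by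
  have hgen := closure_reflSet_eq_top' Q hQ hcard
  have hidx := commutator_index_two_char2 h2 Q hQ hcard hex
  obtain ⟨v0, hv0⟩ := hex
  have hr0 : dicksonHom Q hQ hgen (reflElt Q v0 hv0) ≠ 1 := by
    rw [dicksonHom_apply, dicksonPar_refl Q hQ _ (reflElt_mem_reflSet Q v0 hv0)]
    intro h
    have : (1 : ZMod 2) = 0 := Multiplicative.ofAdd.injective h
    exact one_ne_zero this
  have hker := eq_ker_of_index_two (dicksonHom Q hQ hgen) _
    (Abelianization.commutator_subset_ker _) hidx _ hr0
  rw [hker, MonoidHom.mem_ker, dicksonHom_apply]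
  have hrk := rank_sub_one_add_finrank_fixSub
    (((g : Matrix.GeneralLinearGroup ι F) : Matrix ι ι F))
  constructor
  · intro h
    have h0 : dicksonPar Q g = 0 := Multiplicative.ofAdd.injective h
    unfold dicksonPar at h0
    rw [ZMod.natCast_eq_zero_iff_even] at h0
    rw [← hrk] at h0
    rcases h0 with ⟨k, hk⟩
    exact ⟨k - finrank F ↥(fixSub ((g : Matrix.GeneralLinearGroup ι F) : Matrix ι ι F)), by omega⟩
  · intro h
    have h0 : dicksonPar Q g = 0 := by
      unfold dicksonPar
      rw [ZMod.natCast_eq_zero_iff_even, ← hrk]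
      rcases h with ⟨k, hk⟩
      exact ⟨k + finrank F ↥(fixSub ((g : Matrix.GeneralLinearGroup ι F) : Matrix ι ι F)),
        by omega⟩
    rw [h0]; rfl

/-- the same for a function that is the coercion of a quadratic form -/
theorem mem_commutator_iff_even_rank_char2' [Fintype F] (h2 : (2 : F) = 0)
    (f : (ι → F) → F) (Q : QuadraticForm F (ι → F)) (hf : f = ⇑Q)
    (hQ : (QuadraticMap.polarBilin Q).Nondegenerate)
    (hcard : Fintype.card F ≠ 2 ∨ finrank F (ι → F) ≠ 4) (hex : ∃ v, Q v ≠ 0)
    (g : ↥(Cfsg.isometryGroup F f)) :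
    g ∈ commutator ↥(Cfsg.isometryGroup F f) ↔
      Even (((g : Matrix.GeneralLinearGroup ι F) : Matrix ι ι F) - 1).rank := by
  subst hf
  exact mem_commutator_iff_even_rank_char2 h2 Q hQ hcard hex g

end Cfsg.Agent.Lib.Helper8
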