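import Mathlib
import Cfsg.Prelude.Def_ClassicalGeometry
import Cfsg.Prelude.Def_FischerSpaces
import Cfsg.Agent.Lib.Helper8.OrthF3
import Cfsg.Agent.Lib.Helper8.CartanDieudonne2
import Cfsg.Agent.Lib.Helper37.SpinorNorm

set_option autoImplicit false

namespace Cfsg.Agent.Lib.Helper8

open Matrix Module QuadraticMap
open Cfsg.Agent.Lib.Helper13

variable {ι : Type} [Fintype ι] [DecidableEq ι]

omit [DecidableEq ι] in
/-- a vector of prescribed norm orthogonal to a nonsingular vector and to a second vector -/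
theorem exists_norm_orth_two_F3 (Q : QuadraticForm (ZMod 3) (ι → ZMod 3))
    (hQ : (QuadraticMap.polarBilin Q).Nondegenerate)
    (hn : 5 ≤ finrank (ZMod 3) (ι → ZMod 3)) (u w : ι → ZMod 3) (hu : Q u ≠ 0)
    (d : ZMod 3) (hd : d ≠ 0) :
    ∃ z : ι → ZMod 3, Q z = d ∧ polar (⇑Q) u z = 0 ∧ polar (⇑Q) w z = 0 := by
  have h2 : (2 : ZMod 3) ≠ 0 := by decide
  have huu : polar (⇑Q) u u ≠ 0 := by
    rw [polar_self]
    simp only [nsmul_eq_mul, Nat.cast_ofNat]
    exact mul_ne_zero h2 hu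
  obtain ⟨a, ha⟩ : ∃ a : ZMod 3, a = polar (⇑Q) u w * (polar (⇑Q) u u)⁻¹ := ⟨_, rfl⟩
  obtain ⟨x, hx⟩ : ∃ x : ι → ZMod 3, x = w - a • u := ⟨_, rfl⟩
  have hux : polar (⇑Q) u x = 0 := by
    rw [hx, polar_sub_right, polar_smul_right, ha, smul_eq_mul, mul_assoc, inv_mul_cancel₀ huu,
      mul_one, sub_self]
  have hw : w = x + a • u := by rw [hx]; abel
  -- it suffices to be orthogonal to u and x
  have key : ∀ z : ι → ZMod 3, polar (⇑Q) u z = 0 → polar (⇑Q) x z = 0 → polar (⇑Q) w z = 0 := by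
    intro z h1 h3
    rw [hw, polar_add_left, polar_smul_left, h1, h3, smul_zero, add_zero]
  by_cases hx0 : x = 0
  · obtain ⟨z, hzQ, hz⟩ := exists_norm_eq_F3 Q hQ (![u] : Fin 1 → ι → ZMod 3)
      (by intro i j hij; exact absurd (Subsingleton.elim i j) hij)
      (by intro i; fin_cases i; exact hu)
      (by rw [Fintype.card_fin]; omega) d hd
    have h1 : polar (⇑Q) u z = 0 := hz 0
    exact ⟨z, hzQ, h1, key z h1 (by rw [hx0]; simp)⟩
  by_cases hQx : Q x = 0
  swap
  · obtain ⟨z, hzQ, hz⟩ := exists_norm_eq_F3 Q hQ (![u, x] : Fin 2 → ι → ZMod 3)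
      (by
        intro i j hij
        fin_cases i <;> fin_cases j
        · exact absurd rfl hij
        · exact hux
        · show polar (⇑Q) x u = 0
          rw [polar_comm]; exact hux
        · exact absurd rfl hij)
      (by
        intro i
        fin_cases i
        · exact hu
        · exact hQx)
      (by rw [Fintype.card_fin]; omega) d hd
    have h1 : polar (⇑Q) u z = 0 := hz 0
    have h3 : polar (⇑Q) x z = 0 := hz 1
    exact ⟨z, hzQ, h1, key z h1 h3⟩
  -- x is singular and nonzero: build a hyperbolic pair orthogonal to u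
  obtain ⟨y0, hy0⟩ := exists_polar_ne_zero Q hQ x hx0
  obtain ⟨y1, hy1⟩ : ∃ y1 : ι → ZMod 3,
      y1 = y0 - (polar (⇑Q) u y0 * (polar (⇑Q) u u)⁻¹) • u := ⟨_, rfl⟩
  have huy1 : polar (⇑Q) u y1 = 0 := by
    rw [hy1, polar_sub_right, polar_smul_right, smul_eq_mul, mul_assoc, inv_mul_cancel₀ huu,
      mul_one, sub_self]
  have hxu : polar (⇑Q) x u = 0 := by rw [polar_comm]; exact hux
  have hxy1 : polar (⇑Q) x y1 ≠ 0 := by
    rw [hy1, polar_sub_right, polar_smul_right, hxu, smul_zero, sub_zero]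
    exact hy0
  obtain ⟨b, hb⟩ : ∃ b : ZMod 3, b = polar (⇑Q) x y1 := ⟨_, rfl⟩
  rw [← hb] at hxy1
  obtain ⟨y2, hy2⟩ : ∃ y2 : ι → ZMod 3, y2 = y1 + (-(Q y1 * b⁻¹)) • x + (0 : ZMod 3) • x :=
    ⟨_, rfl⟩
  have hxx : polar (⇑Q) x x = 0 := by rw [polar_self, hQx, smul_zero]
  have hQy2 : Q y2 = 0 := by
    rw [hy2, quad_expand, hQx, polar_comm (⇑Q) y1 x, ← hb, hxx]
    field_simp
    ring
  have huy2 : polar (⇑Q) u y2 = 0 := by
    rw [hy2, polar_add_right, polar_add_right, polar_smul_right, polar_smul_right, huy1, hux]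
    simp
  have hxy2 : polar (⇑Q) x y2 = b := by
    rw [hy2, polar_add_right, polar_add_right, polar_smul_right, polar_smul_right, hxx, ← hb]
    simp
  obtain ⟨e2, he2⟩ : ∃ e2 : ι → ZMod 3, e2 = x + y2 := ⟨_, rfl⟩
  obtain ⟨e3, he3⟩ : ∃ e3 : ι → ZMod 3, e3 = x - y2 := ⟨_, rfl⟩
  have hQe2 : Q e2 ≠ 0 := by
    rw [he2, QuadraticMap.map_add (⇑Q), hQx, hQy2, hxy2]
    simpa using hxy1
  have hQe3 : Q e3 ≠ 0 := by
    rw [he3, quad_sub, hQx, hQy2, hxy2]
    simpa using hxy1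
  have he23 : polar (⇑Q) e2 e3 = 0 := by
    rw [he2, he3, polar_add_left, polar_sub_right, polar_sub_right, hxx, hxy2,
      polar_comm (⇑Q) y2 x, hxy2, polar_self, hQy2]
    simp
  have hue2 : polar (⇑Q) u e2 = 0 := by rw [he2, polar_add_right, hux, huy2, add_zero]
  have hue3 : polar (⇑Q) u e3 = 0 := by rw [he3, polar_sub_right, hux, huy2, sub_zero]
  obtain ⟨z, hzQ, hz⟩ := exists_norm_eq_F3 Q hQ (![u, e2, e3] : Fin 3 → ι → ZMod 3)
    (by
      intro i j hij
      fin_cases i <;> fin_cases j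
      · exact absurd rfl hij
      · exact hue2
      · exact hue3
      · show polar (⇑Q) e2 u = 0
        rw [polar_comm]; exact hue2
      · exact absurd rfl hij
      · exact he23
      · show polar (⇑Q) e3 u = 0
        rw [polar_comm]; exact hue3
      · show polar (⇑Q) e3 e2 = 0
        rw [polar_comm]; exact he23
      · exact absurd rfl hij)
    (by
      intro i
      fin_cases i
      · exact hu
      · exact hQe2
      · exact hQe3)
    (by rw [Fintype.card_fin]; omega) d hd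
  have h1 : polar (⇑Q) u z = 0 := hz 0
  have h4 : polar (⇑Q) e2 z = 0 := hz 1
  have h5 : polar (⇑Q) e3 z = 0 := hz 2
  have h3 : polar (⇑Q) x z = 0 := by
    rw [he2, polar_add_left] at h4
    rw [he3, polar_sub_left] at h5
    have : 2 * polar (⇑Q) x z = 0 := by linear_combination h4 + h5
    rcases mul_eq_zero.1 this with h | h
    · exact absurd h h2
    · exact h
  exact ⟨z, hzQ, h1, key z h1 h3⟩

/-- a general index-two criterion: a hom to any group, an element not in the kernel -/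
theorem index_eq_two_of_hom' {G H : Type*} [Group G] [Group H] (φ : G →* H)
    (r0 : G) (hr0 : φ r0 ≠ 1) (N : Subgroup G) (hN : N ≤ φ.ker)
    (hP : ∀ g : G, g ∈ N ∨ g * r0 ∈ N) : N.index = 2 := by
  rw [Subgroup.index_eq_two_iff]
  refine ⟨r0, fun b => ?_⟩
  have hnot : ¬ (b * r0 ∈ N ∧ b ∈ N) := by
    rintro ⟨h1, h2⟩
    have h3 : r0 ∈ N := by
      have := Subgroup.mul_mem _ (Subgroup.inv_mem _ h2) h1
      rwa [inv_mul_cancel_left] at this
    exact hr0 (MonoidHom.mem_ker.1 (hN h3))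
  rcases hP b with h | h
  · exact Or.inr ⟨h, fun h' => hnot ⟨h', h⟩⟩
  · exact Or.inl ⟨h, fun h' => hnot ⟨h, h'⟩⟩

theorem conj_mem_reflectionSubgroup {F : Type*} [Field F] (Q : QuadraticForm F (ι → F)) (c : F)
    (hc : c ≠ 0)
    (g x : ↥(Cfsg.isometryGroup F (⇑Q))) (hx : x ∈ Cfsg.reflectionSubgroup (⇑Q) c) :
    g * x * g⁻¹ ∈ Cfsg.reflectionSubgroup (⇑Q) c := by
  unfold Cfsg.reflectionSubgroup at hx
  induction hx using Subgroup.closure_induction with
  | mem y hy =>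
    obtain ⟨v, hv, hyv⟩ := hy
    have hv' : Q v ≠ 0 := by rw [hv]; exact hc
    rw [eq_reflElt_of_coe Q y v hv' hyv, conj_reflElt]
    apply reflElt_mem_reflectionSubgroup
    rw [isoElt_preserves, hv]
  | one => simp
  | mul a b _ _ ha hb =>
    have : g * (a * b) * g⁻¹ = (g * a * g⁻¹) * (g * b * g⁻¹) := by group
    rw [this]
    exact Subgroup.mul_mem _ ha hb
  | inv a _ ha =>
    have : g * a⁻¹ * g⁻¹ = (g * a * g⁻¹)⁻¹ := by group
    rw [this]
    exact Subgroup.inv_mem _ ha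

theorem zmod3_two_mul_neg : ∀ c : ZMod 3, (-c) + (-c) = c := by decide

theorem zmod3_eq_or_neg : ∀ a c : ZMod 3, a ≠ 0 → c ≠ 0 → a = c ∨ a = -c := by decide

theorem zmod3_ne_neg : ∀ c : ZMod 3, c ≠ 0 → c ≠ -c := by decide

/-- the product of two reflections of norm `-c` lies in the norm-`c` reflection subgroup -/
theorem reflElt_mul_reflElt_mem_F3 (Q : QuadraticForm (ZMod 3) (ι → ZMod 3))
    (hQ : (QuadraticMap.polarBilin Q).Nondegenerate)
    (hn : 5 ≤ finrank (ZMod 3) (ι → ZMod 3)) (c : ZMod 3) (hc : c ≠ 0)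
    (u w : ι → ZMod 3) (hu : Q u = -c) (hw : Q w = -c) :
    reflElt Q u (by rw [hu]; exact neg_ne_zero.2 hc) * reflElt Q w (by rw [hw]; exact neg_ne_zero.2 hc)
      ∈ Cfsg.reflectionSubgroup (⇑Q) c := by
  have hd : -c ≠ 0 := neg_ne_zero.2 hc
  have hu' : Q u ≠ 0 := by rw [hu]; exact hd
  have hw' : Q w ≠ 0 := by rw [hw]; exact hd
  obtain ⟨z, hzQ, hzu, hzw⟩ := exists_norm_orth_two_F3 Q hQ hn u w hu' (-c) hd
  have h1 : Q (u - z) = c := by
    rw [quad_sub, hu, hzQ, hzu, sub_zero]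
    exact zmod3_two_mul_neg c
  have h2 : Q (z - w) = c := by
    rw [quad_sub, hw, hzQ, polar_comm, hzw, sub_zero]
    exact zmod3_two_mul_neg c
  have h1' : Q (u - z) ≠ 0 := by rw [h1]; exact hc
  have h2' : Q (z - w) ≠ 0 := by rw [h2]; exact hc
  obtain ⟨g, hg⟩ : ∃ g, g = reflElt Q (z - w) h2' * reflElt Q (u - z) h1' := ⟨_, rfl⟩
  have hgR : g ∈ Cfsg.reflectionSubgroup (⇑Q) c := by
    rw [hg]
    exact Subgroup.mul_mem _ (reflElt_mem_reflectionSubgroup Q c _ h2' h2)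
      (reflElt_mem_reflectionSubgroup Q c _ h1' h1)
  have hgu : ((g : Matrix.GeneralLinearGroup ι (ZMod 3)) : Matrix ι ι (ZMod 3)) *ᵥ u = w := by
    rw [hg, Subgroup.coe_mul, Units.val_mul, coe_reflElt, coe_reflElt, ← mulVec_mulVec,
      reflection_swap Q u z (by rw [hu, hzQ]) h1', reflection_swap Q z w (by rw [hzQ, hw]) h2']
  have hconj : g * reflElt Q u hu' * g⁻¹ = reflElt Q w hw' := by
    rw [conj_reflElt]
    exact reflElt_congr Q _ _ _ _ hgu
  have hinv : (reflElt Q u hu')⁻¹ = reflElt Q u hu' :=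
    inv_mem_reflSet Q _ (reflElt_mem_reflSet Q u hu')
  have : reflElt Q u hu' * reflElt Q w hw'
      = (reflElt Q u hu' * g * (reflElt Q u hu')⁻¹) * g⁻¹ := by
    rw [← hconj, hinv]; group
  rw [this]
  exact Subgroup.mul_mem _ (conj_mem_reflectionSubgroup Q c hc _ g hgR) (Subgroup.inv_mem _ hgR)

/-- over `F_3` in dimension at least five, the norm-`c` reflection subgroup has index two in the
full orthogonal group -/
theorem reflectionSubgroup_index_F3 (Q : QuadraticForm (ZMod 3) (ι → ZMod 3))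
    (hQ : (QuadraticMap.polarBilin Q).Nondegenerate)
    (hn : 5 ≤ finrank (ZMod 3) (ι → ZMod 3)) (c : ZMod 3) (hc : c ≠ 0) :
    (Cfsg.reflectionSubgroup (⇑Q) c).index = 2 := by
  have h2 : (2 : ZMod 3) ≠ 0 := by decide
  have hd : -c ≠ 0 := neg_ne_zero.2 hc
  have hG := Cfsg.Agent.Lib.Helper37.isGram_of_quadraticForm h2 Q
  obtain ⟨χ, hχ⟩ : ∃ χ : ↥(Cfsg.isometryGroup (ZMod 3) (⇑Q)) →* ℤˣ,
      χ = Cfsg.Agent.Lib.Helper37.signChar (⇑Q) (-c) := ⟨_, rfl⟩
  have hreflG : ∀ (v : ι → ZMod 3) (hv : Q v ≠ 0), hG.reflG v hv = reflElt Q v hv := by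
    intro v hv
    exact eq_reflElt_of_coe Q _ v hv (hG.reflG_val v hv)
  have hχneg : ∀ (v : ι → ZMod 3) (hv : Q v ≠ 0), Q v = -c → χ (reflElt Q v hv) = -1 := by
    intro v hv hvc
    rw [hχ, ← hreflG v hv]
    apply (hG.signChar_refl v hv (-c)).1
    exact ⟨1, one_ne_zero, by rw [hvc]; ring⟩
  have hχpos : ∀ (v : ι → ZMod 3) (hv : Q v ≠ 0), Q v = c → χ (reflElt Q v hv) = 1 := by
    intro v hv hvc
    rw [hχ, ← hreflG v hv]
    apply (hG.signChar_refl v hv (-c)).2
    rintro ⟨t, ht, hte⟩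
    rw [hvc, pow_two, zmod3_sq_one t ht, mul_one] at hte
    exact zmod3_ne_neg c hc hte
  obtain ⟨w0, hw0, _⟩ := exists_norm_eq_F3 Q hQ (fun i : Fin 0 => i.elim0)
    (fun i => i.elim0) (fun i => i.elim0) (by rw [Fintype.card_fin]; omega) (-c) hd
  have hw0' : Q w0 ≠ 0 := by rw [hw0]; exact hd
  obtain ⟨r0, hr0⟩ : ∃ r0, r0 = reflElt Q w0 hw0' := ⟨_, rfl⟩
  have hr0sq : r0 * r0 = 1 := by rw [hr0]; exact reflElt_mul_self Q w0 hw0'
  have hr0inv : r0⁻¹ = r0 := by rw [inv_eq_iff_mul_eq_one]; exact hr0sq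
  have hle : Cfsg.reflectionSubgroup (⇑Q) c ≤ χ.ker := by
    unfold Cfsg.reflectionSubgroup
    rw [Subgroup.closure_le]
    rintro y ⟨v, hv, hyv⟩
    have hv' : Q v ≠ 0 := by rw [hv]; exact hc
    rw [SetLike.mem_coe, MonoidHom.mem_ker, eq_reflElt_of_coe Q y v hv' hyv]
    exact hχpos v hv' hv
  have hstep : ∀ x y : ↥(Cfsg.isometryGroup (ZMod 3) (⇑Q)), y ∈ reflSet Q →
      (x ∈ Cfsg.reflectionSubgroup (⇑Q) c ∨ x * r0 ∈ Cfsg.reflectionSubgroup (⇑Q) c) →
      (x * y ∈ Cfsg.reflectionSubgroup (⇑Q) c ∨ x * y * r0 ∈ Cfsg.reflectionSubgroup (⇑Q) c) := by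
    intro x y hy ih
    obtain ⟨v, hv, hyv⟩ := hy
    have hyv' : y = reflElt Q v hv := eq_reflElt_of_coe Q y v hv hyv
    rcases zmod3_eq_or_neg (Q v) c hv hc with hvc | hvc
    · have hyR : y ∈ Cfsg.reflectionSubgroup (⇑Q) c := by
        rw [hyv']; exact reflElt_mem_reflectionSubgroup Q c v hv hvc
      rcases ih with hx | hx
      · left; exact Subgroup.mul_mem _ hx hyR
      · right
        have : x * y * r0 = (x * r0) * (r0 * y * r0⁻¹) := by
          rw [hr0inv]
          calc x * y * r0 = x * 1 * y * r0 := by rw [mul_one]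
            _ = x * (r0 * r0) * y * r0 := by rw [hr0sq]
            _ = (x * r0) * (r0 * y * r0) := by group
        rw [this]
        exact Subgroup.mul_mem _ hx (conj_mem_reflectionSubgroup Q c hc r0 y hyR)
    · have hyr : y * r0 ∈ Cfsg.reflectionSubgroup (⇑Q) c := by
        rw [hyv', hr0]
        exact reflElt_mul_reflElt_mem_F3 Q hQ hn c hc v w0 hvc hw0
      have hry : r0 * y ∈ Cfsg.reflectionSubgroup (⇑Q) c := by
        rw [hyv', hr0]
        exact reflElt_mul_reflElt_mem_F3 Q hQ hn c hc w0 v hw0 hvc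
      rcases ih with hx | hx
      · right
        rw [mul_assoc]
        exact Subgroup.mul_mem _ hx hyr
      · left
        have : x * y = (x * r0) * (r0 * y) := by
          calc x * y = x * 1 * y := by rw [mul_one]
            _ = x * (r0 * r0) * y := by rw [hr0sq]
            _ = (x * r0) * (r0 * y) := by group
        rw [this]
        exact Subgroup.mul_mem _ hx hry
  have hP : ∀ g : ↥(Cfsg.isometryGroup (ZMod 3) (⇑Q)),
      g ∈ Cfsg.reflectionSubgroup (⇑Q) c ∨ g * r0 ∈ Cfsg.reflectionSubgroup (⇑Q) c := by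
    intro g
    have hg : g ∈ Subgroup.closure (reflSet Q) := by
      rw [closure_reflSet_eq_top h2 Q hQ]; exact Subgroup.mem_top _
    induction hg using Subgroup.closure_induction_right with
    | one => left; exact Subgroup.one_mem _
    | mul_right x _ y hy ih => exact hstep x y hy ih
    | mul_inv_cancel x _ y hy ih =>
      rw [inv_mem_reflSet Q y hy]
      exact hstep x y hy ih
  apply index_eq_two_of_hom' χ r0 _ _ hle hP
  rw [hr0, hχneg w0 hw0' hw0]
  decide

end Cfsg.Agent.Lib.Helper8
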