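import Mathlib
import Cfsg.Prelude.Def_ClassicalGeometry
import Cfsg.Agent.Lib.Helper8.OrthF3
import Cfsg.Agent.Lib.Helper8.OrthF3Index
import Cfsg.Agent.Lib.Helper8.Dickson
import Cfsg.Agent.Lib.Helper37.SpinorNorm

set_option autoImplicit false

namespace Cfsg.Agent.Lib.Helper8

open Matrix Module QuadraticMap
open Cfsg.Agent.Lib.Helper13

variable {ι : Type} [Fintype ι] [DecidableEq ι] {F : Type*} [Field F]

section univ
open Polynomial

theorem card_odd_of_two_ne_zero' [Fintype F] (h2 : (2 : F) ≠ 0) :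
    Fintype.card F % 2 = 1 := by
  apply FiniteField.odd_card_of_char_ne_two
  intro h
  apply h2
  have := ringChar.Nat.cast_ringChar (R := F)
  rw [h] at this
  exact_mod_cast this

/-- binary forms over finite fields of odd characteristic are universal -/
theorem exists_sq_add_sq_fin [Fintype F] (h2 : (2 : F) ≠ 0) (a b c : F)
    (ha : a ≠ 0) (hb : b ≠ 0) : ∃ x y : F, x * x * a + y * y * b = c := by
  let f : F[X] := C a * X ^ 2
  let g : F[X] := C b * X ^ 2 - C c
  have hf : degree f = 2 := by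
    simp only [f]
    rw [degree_C_mul_X_pow 2 ha]; rfl
  have hg : degree g = 2 := by
    simp only [g]
    rw [degree_sub_eq_left_of_degree_lt]
    · rw [degree_C_mul_X_pow 2 hb]; rfl
    · rw [degree_C_mul_X_pow 2 hb]
      exact lt_of_le_of_lt degree_C_le (by norm_num)
  obtain ⟨x, y, hxy⟩ := FiniteField.exists_root_sum_quadratic hf hg (card_odd_of_two_ne_zero' h2)
  refine ⟨x, y, ?_⟩
  simp only [f, g, eval_mul, eval_C, eval_pow, eval_X, eval_sub] at hxy
  linear_combination hxy

end univ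

omit [DecidableEq ι] in
/-- over a finite field of odd characteristic every value is represented on the orthogonal
complement of an orthogonal family, if there is room -/
theorem exists_norm_eq_fin [Fintype F] (h2 : (2 : F) ≠ 0) (Q : QuadraticForm F (ι → F))
    (hQ : (QuadraticMap.polarBilin Q).Nondegenerate) {κ : Type*} [Fintype κ]
    (w : κ → ι → F)
    (hw : ∀ i j, i ≠ j → polar (⇑Q) (w i) (w j) = 0) (hwQ : ∀ i, Q (w i) ≠ 0)
    (hk : Fintype.card κ + 2 ≤ finrank F (ι → F)) (d : F) :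
    ∃ z : ι → F, Q z = d ∧ ∀ i, polar (⇑Q) (w i) z = 0 := by
  obtain ⟨z1, hz1Q, hz1⟩ := exists_nonsingular_orth h2 Q hQ w hw hwQ (by omega)
  obtain ⟨z2, hz2Q, hz2⟩ := exists_nonsingular_orth h2 Q hQ
    (fun o : Option κ => Option.elim o z1 w)
    (by
      intro i j hij
      cases i with
      | none =>
        cases j with
        | none => exact absurd rfl hij
        | some j => simp only [Option.elim]; rw [polar_comm]; exact hz1 j
      | some i =>
        cases j with
        | none => simp only [Option.elim]; exact hz1 i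
        | some j =>
          simp only [Option.elim]
          exact hw i j (fun h => hij (by rw [h])))
    (by
      intro i
      cases i with
      | none => exact hz1Q
      | some i => exact hwQ i)
    (by rw [Fintype.card_option]; omega)
  obtain ⟨x, y, hxy⟩ := exists_sq_add_sq_fin h2 (Q z1) (Q z2) d hz1Q hz2Q
  have h12 : polar (⇑Q) z1 z2 = 0 := hz2 none
  refine ⟨0 + x • z1 + y • z2, ?_, ?_⟩
  · rw [quad_expand, h12]
    simp only [QuadraticMap.map_zero, polar_zero_left]
    linear_combination hxy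
  · intro i
    have := hz2 (some i)
    simp only [Option.elim] at this
    rw [zero_add, polar_add_right, polar_smul_right, polar_smul_right, hz1 i, this]
    simp

omit [DecidableEq ι] in
/-- a vector of prescribed norm orthogonal to a nonsingular vector and to a second vector -/
theorem exists_norm_orth_two [Fintype F] (h2 : (2 : F) ≠ 0) (Q : QuadraticForm F (ι → F))
    (hQ : (QuadraticMap.polarBilin Q).Nondegenerate)
    (hn : 5 ≤ finrank F (ι → F)) (u w : ι → F) (hu : Q u ≠ 0)
    (d : F) :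
    ∃ z : ι → F, Q z = d ∧ polar (⇑Q) u z = 0 ∧ polar (⇑Q) w z = 0 := by
  have huu : polar (⇑Q) u u ≠ 0 := by
    rw [polar_self]
    simp only [nsmul_eq_mul, Nat.cast_ofNat]
    exact mul_ne_zero h2 hu
  obtain ⟨a, ha⟩ : ∃ a : F, a = polar (⇑Q) u w * (polar (⇑Q) u u)⁻¹ := ⟨_, rfl⟩
  obtain ⟨x, hx⟩ : ∃ x : ι → F, x = w - a • u := ⟨_, rfl⟩
  have hux : polar (⇑Q) u x = 0 := by
    rw [hx, polar_sub_right, polar_smul_right, ha, smul_eq_mul, mul_assoc, inv_mul_cancel₀ huu,
      mul_one, sub_self]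
  have hw : w = x + a • u := by rw [hx]; abel
  -- it suffices to be orthogonal to u and x
  have key : ∀ z : ι → F, polar (⇑Q) u z = 0 → polar (⇑Q) x z = 0 → polar (⇑Q) w z = 0 := by
    intro z h1 h3
    rw [hw, polar_add_left, polar_smul_left, h1, h3, smul_zero, add_zero]
  by_cases hx0 : x = 0
  · obtain ⟨z, hzQ, hz⟩ := exists_norm_eq_fin h2 Q hQ (![u] : Fin 1 → ι → F)
      (by intro i j hij; exact absurd (Subsingleton.elim i j) hij)
      (by intro i; fin_cases i; exact hu)
      (by rw [Fintype.card_fin]; omega) d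
    have h1 : polar (⇑Q) u z = 0 := hz 0
    exact ⟨z, hzQ, h1, key z h1 (by rw [hx0]; simp)⟩
  by_cases hQx : Q x = 0
  swap
  · obtain ⟨z, hzQ, hz⟩ := exists_norm_eq_fin h2 Q hQ (![u, x] : Fin 2 → ι → F)
      (by
        intro i j hij
        fin_cases i <;> fin_cases j
        · exact absurd rfl hij
        · exact hux
        · show polar (⇑Q) x u = 0
          rw [polar_comm]; exact hux
        · exact absurd rfl hij)
      (by
        intro i
        fin_cases i
        · exact hu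
        · exact hQx)
      (by rw [Fintype.card_fin]; omega) d
    have h1 : polar (⇑Q) u z = 0 := hz 0
    have h3 : polar (⇑Q) x z = 0 := hz 1
    exact ⟨z, hzQ, h1, key z h1 h3⟩
  -- x is singular and nonzero: build a hyperbolic pair orthogonal to u
  obtain ⟨y0, hy0⟩ := exists_polar_ne_zero Q hQ x hx0
  obtain ⟨y1, hy1⟩ : ∃ y1 : ι → F,
      y1 = y0 - (polar (⇑Q) u y0 * (polar (⇑Q) u u)⁻¹) • u := ⟨_, rfl⟩
  have huy1 : polar (⇑Q) u y1 = 0 := by
    rw [hy1, polar_sub_right, polar_smul_right, smul_eq_mul, mul_assoc, inv_mul_cancel₀ huu,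
      mul_one, sub_self]
  have hxu : polar (⇑Q) x u = 0 := by rw [polar_comm]; exact hux
  have hxy1 : polar (⇑Q) x y1 ≠ 0 := by
    rw [hy1, polar_sub_right, polar_smul_right, hxu, smul_zero, sub_zero]
    exact hy0
  obtain ⟨b, hb⟩ : ∃ b : F, b = polar (⇑Q) x y1 := ⟨_, rfl⟩
  rw [← hb] at hxy1
  obtain ⟨y2, hy2⟩ : ∃ y2 : ι → F, y2 = y1 + (-(Q y1 * b⁻¹)) • x + (0 : F) • x :=
    ⟨_, rfl⟩
  have hxx : polar (⇑Q) x x = 0 := by rw [polar_self, hQx, smul_zero]
  have hQy2 : Q y2 = 0 := by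
    rw [hy2, quad_expand, hQx, polar_comm (⇑Q) y1 x, ← hb, hxx]
    field_simp
    ring
  have huy2 : polar (⇑Q) u y2 = 0 := by
    rw [hy2, polar_add_right, polar_add_right, polar_smul_right, polar_smul_right, huy1, hux]
    simp
  have hxy2 : polar (⇑Q) x y2 = b := by
    rw [hy2, polar_add_right, polar_add_right, polar_smul_right, polar_smul_right, hxx, ← hb]
    simp
  obtain ⟨e2, he2⟩ : ∃ e2 : ι → F, e2 = x + y2 := ⟨_, rfl⟩
  obtain ⟨e3, he3⟩ : ∃ e3 : ι → F, e3 = x - y2 := ⟨_, rfl⟩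
  have hQe2 : Q e2 ≠ 0 := by
    rw [he2, QuadraticMap.map_add (⇑Q), hQx, hQy2, hxy2]
    simpa using hxy1
  have hQe3 : Q e3 ≠ 0 := by
    rw [he3, quad_sub, hQx, hQy2, hxy2]
    simpa using hxy1
  have he23 : polar (⇑Q) e2 e3 = 0 := by
    rw [he2, he3, polar_add_left, polar_sub_right, polar_sub_right, hxx, hxy2,
      polar_comm (⇑Q) y2 x, hxy2, polar_self, hQy2]
    simp
  have hue2 : polar (⇑Q) u e2 = 0 := by rw [he2, polar_add_right, hux, huy2, add_zero]
  have hue3 : polar (⇑Q) u e3 = 0 := by rw [he3, polar_sub_right, hux, huy2, sub_zero]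
  obtain ⟨z, hzQ, hz⟩ := exists_norm_eq_fin h2 Q hQ (![u, e2, e3] : Fin 3 → ι → F)
    (by
      intro i j hij
      fin_cases i <;> fin_cases j
      · exact absurd rfl hij
      · exact hue2
      · exact hue3
      · show polar (⇑Q) e2 u = 0
        rw [polar_comm]; exact hue2
      · exact absurd rfl hij
      · exact he23
      · show polar (⇑Q) e3 u = 0
        rw [polar_comm]; exact hue3
      · show polar (⇑Q) e3 e2 = 0
        rw [polar_comm]; exact he23
      · exact absurd rfl hij)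
    (by
      intro i
      fin_cases i
      · exact hu
      · exact hQe2
      · exact hQe3)
    (by rw [Fintype.card_fin]; omega) d
  have h1 : polar (⇑Q) u z = 0 := hz 0
  have h4 : polar (⇑Q) e2 z = 0 := hz 1
  have h5 : polar (⇑Q) e3 z = 0 := hz 2
  have h3 : polar (⇑Q) x z = 0 := by
    rw [he2, polar_add_left] at h4
    rw [he3, polar_sub_left] at h5
    have : 2 * polar (⇑Q) x z = 0 := by linear_combination h4 + h5
    rcases mul_eq_zero.1 this with h | h
    · exact absurd h h2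
    · exact h
  exact ⟨z, hzQ, h1, key z h1 h3⟩

theorem fixSub_one : fixSub (1 : Matrix ι ι F) = ⊤ := by
  ext x
  simp [mem_fixSub]

omit [DecidableEq ι] in
theorem preserves_mul (Q : QuadraticForm F (ι → F)) (G H : Matrix ι ι F)
    (hG : ∀ x, Q (G *ᵥ x) = Q x) (hH : ∀ x, Q (H *ᵥ x) = Q x) :
    ∀ x, Q ((G * H) *ᵥ x) = Q x := by
  intro x
  rw [← mulVec_mulVec, hG, hH]

/-- the three reflections theorem: the product of three reflections with centres in a common
plane is a reflection -/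
theorem three_reflections_matrix (Q : QuadraticForm F (ι → F))
    (hQ : (QuadraticMap.polarBilin Q).Nondegenerate) (u w y : ι → F) (hu : Q u ≠ 0)
    (hw : Q w ≠ 0) (hy : Q y ≠ 0) (α β : F) (hy' : y = α • u + β • w) :
    ∃ e : ι → F, Q e ≠ 0 ∧
      Cfsg.reflectionMatrix (⇑Q) u * Cfsg.reflectionMatrix (⇑Q) w * Cfsg.reflectionMatrix (⇑Q) y
        = Cfsg.reflectionMatrix (⇑Q) e := by
  have hp1 : ∀ x, Q ((1 : Matrix ι ι F) *ᵥ x) = Q x := by intro x; rw [one_mulVec]
  have hpu := reflectionMatrix_preserves Q u hu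
  have hpw := reflectionMatrix_preserves Q w hw
  have hpy := reflectionMatrix_preserves Q y hy
  have hp2 := preserves_mul Q _ _ hp1 hpu
  have hp3 := preserves_mul Q _ _ hp2 hpw
  have hp4 := preserves_mul Q _ _ hp3 hpy
  have s1 := finrank_fixSub_mul_reflection Q hQ u hu 1 hp1
  have s2 := finrank_fixSub_mul_reflection Q hQ w hw _ hp2
  have s3 := finrank_fixSub_mul_reflection Q hQ y hy _ hp3
  rw [fixSub_one, finrank_top] at s1
  obtain ⟨h, hh⟩ : ∃ h : Matrix ι ι F, h = 1 * Cfsg.reflectionMatrix (⇑Q) u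
      * Cfsg.reflectionMatrix (⇑Q) w * Cfsg.reflectionMatrix (⇑Q) y := ⟨_, rfl⟩
  rw [← hh] at s3 hp4
  have b1 : finrank F ↥(fixSub (1 * Cfsg.reflectionMatrix (⇑Q) u)) ≤ finrank F (ι → F) :=
    Submodule.finrank_le _
  have b3 : finrank F ↥(fixSub h) ≤ finrank F (ι → F) := Submodule.finrank_le _
  -- the common orthogonal complement is fixed
  obtain ⟨A1, hA1⟩ : ∃ A1 : Submodule F (ι → F),
      A1 = ⊤ ⊓ LinearMap.ker (QuadraticMap.polarBilin Q u) := ⟨_, rfl⟩
  obtain ⟨A2, hA2⟩ : ∃ A2 : Submodule F (ι → F),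
      A2 = A1 ⊓ LinearMap.ker (QuadraticMap.polarBilin Q w) := ⟨_, rfl⟩
  have d1 := finrank_inf_ker (⊤ : Submodule F (ι → F)) (QuadraticMap.polarBilin Q u)
  have d2 := finrank_inf_ker A1 (QuadraticMap.polarBilin Q w)
  rw [← hA1, finrank_top] at d1
  rw [← hA2] at d2
  have c1 : finrank F (ι → F) ≤ finrank F ↥A1 + 1 := by
    by_cases hle : (⊤ : Submodule F (ι → F)) ≤ LinearMap.ker (QuadraticMap.polarBilin Q u)
    · have := d1.1 hle; omega
    · have := d1.2 hle; omega
  have c2 : finrank F ↥A1 ≤ finrank F ↥A2 + 1 := by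
    by_cases hle : A1 ≤ LinearMap.ker (QuadraticMap.polarBilin Q w)
    · have := d2.1 hle; omega
    · have := d2.2 hle; omega
  have hsub : A2 ≤ fixSub h := by
    intro x hx
    rw [hA2, hA1] at hx
    simp only [Submodule.mem_inf, Submodule.mem_top, true_and, mem_ker_polarBilin] at hx
    obtain ⟨hxu, hxw⟩ := hx
    have hxy : polar (⇑Q) y x = 0 := by
      rw [hy', polar_add_left, polar_smul_left, polar_smul_left, hxu, hxw]
      simp
    rw [mem_fixSub, hh, one_mul, ← mulVec_mulVec, ← mulVec_mulVec, reflectionMatrix_mulVec Q y,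
      hxy, mul_zero, zero_smul, sub_zero, reflectionMatrix_mulVec Q w, hxw, mul_zero, zero_smul,
      sub_zero, reflectionMatrix_mulVec Q u, hxu, mul_zero, zero_smul, sub_zero]
  have c3 : finrank F ↥A2 ≤ finrank F ↥(fixSub h) := Submodule.finrank_mono hsub
  have hfix : finrank F ↥(fixSub h) + 1 = finrank F (ι → F) := by omega
  have hrank : (h - 1).rank = 1 := by
    have hrn := LinearMap.finrank_range_add_finrank_ker (Matrix.toLin' (h - 1))
    have hker : finrank F ↥(LinearMap.ker (Matrix.toLin' (h - 1))) = finrank F ↥(fixSub h) := rfl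
    rw [hker] at hrn
    unfold Matrix.rank
    rw [← Matrix.toLin'_apply']
    omega
  obtain ⟨e, he, hhe⟩ := exists_reflection_of_rank_one Q hQ h hp4 hrank
  refine ⟨e, he, ?_⟩
  rw [← hhe, hh, one_mul]

theorem three_reflections (Q : QuadraticForm F (ι → F))
    (hQ : (QuadraticMap.polarBilin Q).Nondegenerate) (u w y : ι → F) (hu : Q u ≠ 0)
    (hw : Q w ≠ 0) (hy : Q y ≠ 0) (α β : F) (hy' : y = α • u + β • w) :
    ∃ (e : ι → F) (he : Q e ≠ 0),
      reflElt Q u hu * reflElt Q w hw * reflElt Q y hy = reflElt Q e he := by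
  obtain ⟨e, he, hmat⟩ := three_reflections_matrix Q hQ u w y hu hw hy α β hy'
  refine ⟨e, he, ?_⟩
  apply Subtype.ext
  apply Units.ext
  rw [Subgroup.coe_mul, Subgroup.coe_mul, Units.val_mul, Units.val_mul, coe_reflElt, coe_reflElt,
    coe_reflElt, coe_reflElt]
  exact hmat

/-- the reflections whose centre has norm in the square class of `c` -/
def typeReflSet (Q : QuadraticForm F (ι → F)) (c : F) : Set ↥(Cfsg.isometryGroup F (⇑Q)) :=
  {g | ∃ (v : ι → F) (t : F), t ≠ 0 ∧ Q v = c * t ^ 2 ∧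
    ((g : Matrix.GeneralLinearGroup ι F) : Matrix ι ι F) = Cfsg.reflectionMatrix (⇑Q) v}

theorem reflElt_mem_typeRefl (Q : QuadraticForm F (ι → F)) (c : F) (v : ι → F) (hv : Q v ≠ 0)
    (t : F) (ht : t ≠ 0) (hvt : Q v = c * t ^ 2) :
    reflElt Q v hv ∈ Subgroup.closure (typeReflSet Q c) :=
  Subgroup.subset_closure ⟨v, t, ht, hvt, rfl⟩

theorem conj_mem_typeRefl (Q : QuadraticForm F (ι → F)) (c : F) (hc : c ≠ 0)
    (g x : ↥(Cfsg.isometryGroup F (⇑Q))) (hx : x ∈ Subgroup.closure (typeReflSet Q c)) :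
    g * x * g⁻¹ ∈ Subgroup.closure (typeReflSet Q c) := by
  induction hx using Subgroup.closure_induction with
  | mem y hy =>
    obtain ⟨v, t, ht, hv, hyv⟩ := hy
    have hv' : Q v ≠ 0 := by rw [hv]; exact mul_ne_zero hc (pow_ne_zero 2 ht)
    rw [eq_reflElt_of_coe Q y v hv' hyv, conj_reflElt]
    apply reflElt_mem_typeRefl Q c _ _ t ht
    rw [isoElt_preserves, hv]
  | one => simp
  | mul a b _ _ ha hb =>
    have : g * (a * b) * g⁻¹ = (g * a * g⁻¹) * (g * b * g⁻¹) := by group
    rw [this]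
    exact Subgroup.mul_mem _ ha hb
  | inv a _ ha =>
    have : g * a⁻¹ * g⁻¹ = (g * a * g⁻¹)⁻¹ := by group
    rw [this]
    exact Subgroup.inv_mem _ ha

theorem type_dichotomy [Fintype F] (c ν a : F) (hc : c ≠ 0) (hν : ¬ IsSquare ν) (ha : a ≠ 0) :
    (∃ t : F, t ≠ 0 ∧ a = c * t ^ 2) ∨ (∃ t : F, t ≠ 0 ∧ a * t ^ 2 = c * ν) := by
  classical
  have hac : a / c ≠ 0 := div_ne_zero ha hc
  by_cases hsq : IsSquare (a / c)
  · left
    obtain ⟨s, hs⟩ := hsq
    have hs0 : s ≠ 0 := by
      rintro rfl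
      apply hac
      simpa using hs
    refine ⟨s, hs0, ?_⟩
    field_simp at hs
    linear_combination hs
  · right
    obtain ⟨t, ht, h⟩ := (Cfsg.Agent.Lib.Helper37.IsGram.exists_sq_nonsq_iff (a / c) ν hac hν).2 hsq
    refine ⟨t, ht, ?_⟩
    field_simp at h
    linear_combination h

theorem type_exclusive (c ν a : F) (hc : c ≠ 0) (hν : ¬ IsSquare ν)
    (h1 : ∃ t : F, t ≠ 0 ∧ a = c * t ^ 2) (h2 : ∃ t : F, t ≠ 0 ∧ a * t ^ 2 = c * ν) : False := by
  obtain ⟨s, hs, h1⟩ := h1
  obtain ⟨t, ht, h2⟩ := h2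
  apply hν
  refine ⟨s * t, ?_⟩
  rw [h1] at h2
  have : c * (ν - s * t * (s * t)) = 0 := by linear_combination -h2
  rcases mul_eq_zero.1 this with h | h
  · exact absurd h hc
  · exact sub_eq_zero.1 h

theorem signChar_reflElt_neg [Fintype F] [DecidableEq F] (h2 : (2 : F) ≠ 0)
    (Q : QuadraticForm F (ι → F)) (a : F) (v : ι → F) (hv : Q v ≠ 0)
    (h : ∃ t : F, t ≠ 0 ∧ Q v * t ^ 2 = a) :
    Cfsg.Agent.Lib.Helper37.signChar (⇑Q) a (reflElt Q v hv) = -1 := by
  have hG := Cfsg.Agent.Lib.Helper37.isGram_of_quadraticForm h2 Q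
  rw [← eq_reflElt_of_coe Q _ v hv (hG.reflG_val v hv)]
  exact (hG.signChar_refl v hv a).1 h

theorem signChar_reflElt_pos [Fintype F] [DecidableEq F] (h2 : (2 : F) ≠ 0)
    (Q : QuadraticForm F (ι → F)) (a : F) (v : ι → F) (hv : Q v ≠ 0)
    (h : ¬ ∃ t : F, t ≠ 0 ∧ Q v * t ^ 2 = a) :
    Cfsg.Agent.Lib.Helper37.signChar (⇑Q) a (reflElt Q v hv) = 1 := by
  have hG := Cfsg.Agent.Lib.Helper37.isGram_of_quadraticForm h2 Q
  rw [← eq_reflElt_of_coe Q _ v hv (hG.reflG_val v hv)]
  exact (hG.signChar_refl v hv a).2 h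

theorem int_units_neg_one_ne_one : (-1 : ℤˣ) ≠ 1 := by decide

/-- two reflections of the same norm whose centres span a nondegenerate plane: the product lies
in the subgroup generated by the reflections of type `c` -/
theorem refl_mul_refl_mem_of_disc [Fintype F] (h2 : (2 : F) ≠ 0)
    (Q : QuadraticForm F (ι → F)) (hQ : (QuadraticMap.polarBilin Q).Nondegenerate)
    (c : F) (hc : c ≠ 0) (u w : ι → F) (d : F) (hd : d ≠ 0) (hu : Q u = d) (hw : Q w = d)
    (hD : 4 * d ^ 2 - (polar (⇑Q) u w) ^ 2 ≠ 0) :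
    reflElt Q u (by rw [hu]; exact hd) * reflElt Q w (by rw [hw]; exact hd)
      ∈ Subgroup.closure (typeReflSet Q c) := by
  classical
  have hu' : Q u ≠ 0 := by rw [hu]; exact hd
  have hw' : Q w ≠ 0 := by rw [hw]; exact hd
  obtain ⟨ν, hν⟩ := FiniteField.exists_nonsquare
    (Cfsg.Agent.Lib.Helper37.ringChar_ne_two_of_two_ne_zero h2)
  have h2d : 2 * d ≠ 0 := mul_ne_zero h2 hd
  have h4 : (4 : F) ≠ 0 := by
    have : (4 : F) = 2 * 2 := by norm_num
    rw [this]
    exact mul_ne_zero h2 h2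
  obtain ⟨b, hb⟩ : ∃ b : F, b = polar (⇑Q) u w := ⟨_, rfl⟩
  rw [← hb] at hD
  -- orthogonalise
  obtain ⟨w', hw'def⟩ : ∃ w' : ι → F, w' = w - (b / (2 * d)) • u := ⟨_, rfl⟩
  have hQw' : Q w' = (4 * d ^ 2 - b ^ 2) / (4 * d) := by
    rw [hw'def, quad_sub, QuadraticMap.map_smul, polar_smul_right, polar_comm (⇑Q) w u, ← hb, hu, hw]
    simp only [smul_eq_mul]
    field_simp
    ring
  have hQw'0 : Q w' ≠ 0 := by
    rw [hQw']
    exact div_ne_zero hD (mul_ne_zero h4 hd)
  have huw' : polar (⇑Q) u w' = 0 := by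
    rw [hw'def, polar_sub_right, polar_smul_right, polar_self, ← hb, hu]
    simp only [smul_eq_mul, nsmul_eq_mul, Nat.cast_ofNat]
    field_simp
    ring
  obtain ⟨x, y, hxy⟩ := exists_sq_add_sq_fin h2 d (Q w') c hd hQw'0
  obtain ⟨yv, hyv⟩ : ∃ yv : ι → F, yv = 0 + x • u + y • w' := ⟨_, rfl⟩
  have hQyv : Q yv = c := by
    rw [hyv, quad_expand, huw', hu]
    simp only [QuadraticMap.map_zero, polar_zero_left]
    linear_combination hxy
  have hQyv0 : Q yv ≠ 0 := by rw [hQyv]; exact hc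
  have hyv' : yv = (x - y * (b / (2 * d))) • u + y • w := by
    rw [hyv, hw'def, zero_add, smul_sub, sub_smul, smul_smul]
    abel
  obtain ⟨e, he, hprod⟩ := three_reflections Q hQ u w yv hu' hw' hQyv0 _ _ hyv'
  -- the type of e
  obtain ⟨χ, hχ⟩ : ∃ χ : ↥(Cfsg.isometryGroup F (⇑Q)) →* ℤˣ,
      χ = Cfsg.Agent.Lib.Helper37.signChar (⇑Q) (c * ν) := ⟨_, rfl⟩
  have hχyv : χ (reflElt Q yv hQyv0) = 1 := by
    rw [hχ]
    apply signChar_reflElt_pos h2
    intro hcon
    exact type_exclusive c ν (Q yv) hc hν ⟨1, one_ne_zero, by rw [hQyv]; ring⟩ hcon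
  have hχuw : χ (reflElt Q u hu') * χ (reflElt Q w hw') = 1 := by
    by_cases hP : ∃ t : F, t ≠ 0 ∧ d * t ^ 2 = c * ν
    · rw [hχ, signChar_reflElt_neg h2 Q _ u hu' (by rw [hu]; exact hP),
        signChar_reflElt_neg h2 Q _ w hw' (by rw [hw]; exact hP)]
      decide
    · rw [hχ, signChar_reflElt_pos h2 Q _ u hu' (by rw [hu]; exact hP),
        signChar_reflElt_pos h2 Q _ w hw' (by rw [hw]; exact hP)]
      decide
  have hχe : χ (reflElt Q e he) = 1 := by
    rw [← hprod, map_mul, map_mul, hχuw, hχyv, one_mul]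
  have heR : reflElt Q e he ∈ Subgroup.closure (typeReflSet Q c) := by
    rcases type_dichotomy c ν (Q e) hc hν he with ⟨t, ht, hte⟩ | hcon
    · exact reflElt_mem_typeRefl Q c e he t ht hte
    · exfalso
      rw [hχ, signChar_reflElt_neg h2 Q _ e he hcon] at hχe
      exact int_units_neg_one_ne_one hχe
  have hyvR : reflElt Q yv hQyv0 ∈ Subgroup.closure (typeReflSet Q c) :=
    reflElt_mem_typeRefl Q c yv hQyv0 1 one_ne_zero (by rw [hQyv]; ring)
  have : reflElt Q u hu' * reflElt Q w hw' = reflElt Q e he * (reflElt Q yv hQyv0)⁻¹ := by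
    rw [← hprod]; group
  rw [this]
  exact Subgroup.mul_mem _ heR (Subgroup.inv_mem _ hyvR)

omit [DecidableEq ι] in
/-- in dimension two a nonsingular vector has no nonzero singular vector orthogonal to it -/
theorem no_singular_orth_dim_two (h2 : (2 : F) ≠ 0) (Q : QuadraticForm F (ι → F))
    (hQ : (QuadraticMap.polarBilin Q).Nondegenerate) (hn : finrank F (ι → F) = 2)
    (u e : ι → F) (hu : Q u ≠ 0) (he0 : e ≠ 0) (hQe : Q e = 0) (hue : polar (⇑Q) u e = 0) :
    False := by
  obtain ⟨z0, hz0Q, hz0⟩ := exists_nonsingular_orth h2 Q hQ (![u] : Fin 1 → ι → F)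
    (by intro i j hij; exact absurd (Subsingleton.elim i j) hij)
    (by intro i; fin_cases i; exact hu)
    (by rw [Fintype.card_fin, hn]; omega)
  have huz0 : polar (⇑Q) u z0 = 0 := hz0 0
  obtain ⟨O, hO⟩ : ∃ O : Submodule F (ι → F),
      O = LinearMap.BilinForm.orthogonal (QuadraticMap.polarBilin Q) (Submodule.span F {u}) :=
    ⟨_, rfl⟩
  have hmem : ∀ x : ι → F, polar (⇑Q) u x = 0 → x ∈ O := by
    intro x hx
    rw [hO, LinearMap.BilinForm.mem_orthogonal_iff]
    intro n hn'
    obtain ⟨a, rfl⟩ := Submodule.mem_span_singleton.1 hn'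
    show polar (⇑Q) (a • u) x = 0
    rw [polar_smul_left, hx, smul_zero]
  have hu0 : u ≠ 0 := by
    rintro rfl
    apply hu; simp
  have hdim : finrank F ↥O = 1 := by
    rw [hO, LinearMap.BilinForm.finrank_orthogonal hQ, hn, finrank_span_singleton hu0]
  have hne : (⟨e, hmem e hue⟩ : ↥O) ≠ 0 := by
    intro h
    exact he0 (congrArg Subtype.val h)
  obtain ⟨a, ha⟩ := (finrank_eq_one_iff_of_nonzero' _ hne).1 hdim ⟨z0, hmem z0 huz0⟩
  have ha' : a • e = z0 := congrArg Subtype.val ha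
  apply hz0Q
  rw [← ha', QuadraticMap.map_smul, hQe, smul_zero]

/-- auxiliary case: the centres have polar value `2 d` -/
theorem refl_mul_refl_mem_aux [Fintype F] (h2 : (2 : F) ≠ 0)
    (Q : QuadraticForm F (ι → F)) (hQ : (QuadraticMap.polarBilin Q).Nondegenerate)
    (hcase : Fintype.card F ≠ 3 ∨ 5 ≤ finrank F (ι → F) ∨ finrank F (ι → F) = 2)
    (c : F) (hc : c ≠ 0) (u w : ι → F) (d : F) (hd : d ≠ 0) (hu : Q u = d) (hw : Q w = d)
    (hB : polar (⇑Q) u w = 2 * d) :
    reflElt Q u (by rw [hu]; exact hd) * reflElt Q w (by rw [hw]; exact hd)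
      ∈ Subgroup.closure (typeReflSet Q c) := by
  classical
  have hu' : Q u ≠ 0 := by rw [hu]; exact hd
  have hw' : Q w ≠ 0 := by rw [hw]; exact hd
  have h2d : 2 * d ≠ 0 := mul_ne_zero h2 hd
  have h4 : (4 : F) ≠ 0 := by
    have : (4 : F) = 2 * 2 := by norm_num
    rw [this]
    exact mul_ne_zero h2 h2
  obtain ⟨e, he⟩ : ∃ e : ι → F, e = w - u := ⟨_, rfl⟩
  have hQe : Q e = 0 := by
    rw [he, quad_sub, polar_comm, hB, hu, hw]; ring
  have hue : polar (⇑Q) u e = 0 := by
    rw [he, polar_sub_right, hB, polar_self, hu]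
    simp only [nsmul_eq_mul, Nat.cast_ofNat]
    ring
  have hwe : w = u + e := by rw [he]; abel
  by_cases he0 : e = 0
  · have hwu : w = u := by rw [hwe, he0, add_zero]
    rw [reflElt_congr Q w u hw' hu' hwu, reflElt_mul_self]
    exact Subgroup.one_mem _
  -- it suffices to find an intermediate vector
  suffices hz : ∃ z : ι → F, Q z = d ∧ 4 * d ^ 2 - (polar (⇑Q) u z) ^ 2 ≠ 0 ∧
      4 * d ^ 2 - (polar (⇑Q) z w) ^ 2 ≠ 0 by
    obtain ⟨z, hzQ, hD1, hD2⟩ := hz
    have hz' : Q z ≠ 0 := by rw [hzQ]; exact hd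
    have m1 := refl_mul_refl_mem_of_disc h2 Q hQ c hc u z d hd hu hzQ hD1
    have m2 := refl_mul_refl_mem_of_disc h2 Q hQ c hc z w d hd hzQ hw hD2
    have : reflElt Q u hu' * reflElt Q w hw'
        = (reflElt Q u hu' * reflElt Q z hz') * (reflElt Q z hz' * reflElt Q w hw') := by
      calc reflElt Q u hu' * reflElt Q w hw'
          = reflElt Q u hu' * 1 * reflElt Q w hw' := by rw [mul_one]
        _ = reflElt Q u hu' * (reflElt Q z hz' * reflElt Q z hz') * reflElt Q w hw' := by
            rw [reflElt_mul_self]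
        _ = _ := by group
    rw [this]
    exact Subgroup.mul_mem _ m1 m2
  rcases hcase with hq | hn | hn
  · -- at least five elements: explicit construction in a hyperbolic plane
    have hcard : 3 < Fintype.card F := by
      have hodd := card_odd_of_two_ne_zero' h2
      have h1 : 1 < Fintype.card F := Fintype.one_lt_card
      omega
    obtain ⟨s, _, hs⟩ := Finset.exists_mem_notMem_of_card_lt_card
      (s := ({0, 2 * d, -(2 * d)} : Finset F)) (t := Finset.univ)
      (lt_of_le_of_lt Finset.card_le_three (by rw [Finset.card_univ]; exact hcard))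
    simp only [Finset.mem_insert, Finset.mem_singleton, not_or] at hs
    obtain ⟨hs0, hs1, hs2⟩ := hs
    obtain ⟨f0, hf0⟩ := exists_polar_ne_zero Q hQ e he0
    obtain ⟨f1, hf1⟩ : ∃ f1 : ι → F, f1 = f0 - (polar (⇑Q) u f0 / (2 * d)) • u := ⟨_, rfl⟩
    have heu : polar (⇑Q) e u = 0 := by rw [polar_comm]; exact hue
    have huf1 : polar (⇑Q) u f1 = 0 := by
      rw [hf1, polar_sub_right, polar_smul_right, polar_self, hu]
      simp only [smul_eq_mul, nsmul_eq_mul, Nat.cast_ofNat]
      field_simp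
      ring
    obtain ⟨κ, hκ⟩ : ∃ κ : F, κ = polar (⇑Q) e f1 := ⟨_, rfl⟩
    have hκ0 : κ ≠ 0 := by
      rw [hκ, hf1, polar_sub_right, polar_smul_right, heu, smul_zero, sub_zero]
      exact hf0
    have hee : polar (⇑Q) e e = 0 := by rw [polar_self, hQe, smul_zero]
    obtain ⟨f2, hf2⟩ : ∃ f2 : ι → F, f2 = f1 - (Q f1 / κ) • e := ⟨_, rfl⟩
    have hQf2 : Q f2 = 0 := by
      rw [hf2, quad_sub, QuadraticMap.map_smul, hQe, polar_smul_right, polar_comm (⇑Q) f1 e, ← hκ]
      simp only [smul_eq_mul]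
      field_simp
      ring
    have huf2 : polar (⇑Q) u f2 = 0 := by
      rw [hf2, polar_sub_right, polar_smul_right, huf1, hue]
      simp
    have hef2 : polar (⇑Q) e f2 = κ := by
      rw [hf2, polar_sub_right, polar_smul_right, hee, ← hκ]
      simp
    obtain ⟨z, hz⟩ : ∃ z : ι → F, z = 0 + (d / s) • e + (s / κ) • f2 := ⟨_, rfl⟩
    have hzQ : Q z = d := by
      rw [hz, quad_expand, hQe, hQf2, hef2]
      simp only [QuadraticMap.map_zero, polar_zero_left]
      field_simp
      ring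
    have huz : polar (⇑Q) u z = 0 := by
      rw [hz, zero_add, polar_add_right, polar_smul_right, polar_smul_right, hue, huf2]
      simp
    have hzw : polar (⇑Q) z w = s := by
      rw [polar_comm, hwe, polar_add_left, huz, zero_add, hz, zero_add, polar_add_right,
        polar_smul_right, polar_smul_right, hee, hef2]
      simp only [smul_eq_mul, mul_zero, zero_add]
      field_simp
    refine ⟨z, hzQ, ?_, ?_⟩
    · rw [huz]
      simp only [ne_eq, OfNat.ofNat_ne_zero, not_false_eq_true, zero_pow, sub_zero]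
      exact mul_ne_zero h4 (pow_ne_zero 2 hd)
    · rw [hzw]
      have : 4 * d ^ 2 - s ^ 2 = (2 * d - s) * (2 * d + s) := by ring
      rw [this]
      apply mul_ne_zero
      · intro h
        apply hs1
        rw [sub_eq_zero] at h
        exact h.symm
      · intro h
        apply hs2
        rw [eq_neg_iff_add_eq_zero, add_comm]
        exact h
  · obtain ⟨z, hzQ, huz, hwz⟩ := exists_norm_orth_two h2 Q hQ hn u w hu' d
    refine ⟨z, hzQ, ?_, ?_⟩
    · rw [huz]
      simp only [ne_eq, OfNat.ofNat_ne_zero, not_false_eq_true, zero_pow, sub_zero]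
      exact mul_ne_zero h4 (pow_ne_zero 2 hd)
    · rw [polar_comm, hwz]
      simp only [ne_eq, OfNat.ofNat_ne_zero, not_false_eq_true, zero_pow, sub_zero]
      exact mul_ne_zero h4 (pow_ne_zero 2 hd)
  · exact (no_singular_orth_dim_two h2 Q hQ hn u e hu' he0 hQe hue).elim

/-- two reflections of the same norm: the product lies in the subgroup generated by the
reflections of type `c` -/
theorem refl_mul_refl_mem [Fintype F] (h2 : (2 : F) ≠ 0)
    (Q : QuadraticForm F (ι → F)) (hQ : (QuadraticMap.polarBilin Q).Nondegenerate)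
    (hcase : Fintype.card F ≠ 3 ∨ 5 ≤ finrank F (ι → F) ∨ finrank F (ι → F) = 2)
    (c : F) (hc : c ≠ 0) (u w : ι → F) (d : F) (hd : d ≠ 0) (hu : Q u = d) (hw : Q w = d) :
    reflElt Q u (by rw [hu]; exact hd) * reflElt Q w (by rw [hw]; exact hd)
      ∈ Subgroup.closure (typeReflSet Q c) := by
  have hu' : Q u ≠ 0 := by rw [hu]; exact hd
  have hw' : Q w ≠ 0 := by rw [hw]; exact hd
  by_cases hD : 4 * d ^ 2 - (polar (⇑Q) u w) ^ 2 = 0
  swap
  · exact refl_mul_refl_mem_of_disc h2 Q hQ c hc u w d hd hu hw hD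
  have hfac : (2 * d - polar (⇑Q) u w) * (2 * d + polar (⇑Q) u w) = 0 := by
    rw [← hD]; ring
  rcases mul_eq_zero.1 hfac with h | h
  · exact refl_mul_refl_mem_aux h2 Q hQ hcase c hc u w d hd hu hw (sub_eq_zero.1 h).symm
  · have hnw : Q (-w) = d := by rw [QuadraticMap.map_neg, hw]
    have hB : polar (⇑Q) u (-w) = 2 * d := by
      rw [polar_neg_right]
      linear_combination -h
    have key := refl_mul_refl_mem_aux h2 Q hQ hcase c hc u (-w) d hd hu hnw hB
    have heq : reflElt Q (-w) (by rw [hnw]; exact hd) = reflElt Q w hw' := by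
      apply reflElt_eq_of_matrix
      have := reflectionMatrix_smul Q (-1 : F) (neg_ne_zero.2 one_ne_zero) w
      rwa [neg_one_smul] at this
    rwa [heq] at key

/-- the subgroup generated by the reflections of one type has index two in the orthogonal
group -/
theorem typeRefl_index_two [Fintype F] (h2 : (2 : F) ≠ 0)
    (Q : QuadraticForm F (ι → F)) (hQ : (QuadraticMap.polarBilin Q).Nondegenerate)
    (hn2 : 2 ≤ finrank F (ι → F))
    (hcase : Fintype.card F ≠ 3 ∨ 5 ≤ finrank F (ι → F) ∨ finrank F (ι → F) = 2)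
    (c : F) (hc : c ≠ 0) : (Subgroup.closure (typeReflSet Q c)).index = 2 := by
  classical
  obtain ⟨ν, hν⟩ := FiniteField.exists_nonsquare
    (Cfsg.Agent.Lib.Helper37.ringChar_ne_two_of_two_ne_zero h2)
  have hν0 : ν ≠ 0 := by
    rintro rfl
    exact hν ⟨0, by simp⟩
  have hd : c * ν ≠ 0 := mul_ne_zero hc hν0
  obtain ⟨χ, hχ⟩ : ∃ χ : ↥(Cfsg.isometryGroup F (⇑Q)) →* ℤˣ,
      χ = Cfsg.Agent.Lib.Helper37.signChar (⇑Q) (c * ν) := ⟨_, rfl⟩
  obtain ⟨w0, hw0, _⟩ := exists_norm_eq_fin h2 Q hQ (fun i : Fin 0 => i.elim0)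
    (fun i => i.elim0) (fun i => i.elim0) (by rw [Fintype.card_fin]; omega) (c * ν)
  have hw0' : Q w0 ≠ 0 := by rw [hw0]; exact hd
  obtain ⟨r0, hr0⟩ : ∃ r0, r0 = reflElt Q w0 hw0' := ⟨_, rfl⟩
  have hr0sq : r0 * r0 = 1 := by rw [hr0]; exact reflElt_mul_self Q w0 hw0'
  have hr0inv : r0⁻¹ = r0 := by rw [inv_eq_iff_mul_eq_one]; exact hr0sq
  have hle : Subgroup.closure (typeReflSet Q c) ≤ χ.ker := by
    rw [Subgroup.closure_le]
    rintro y ⟨v, t, ht, hv, hyv⟩
    have hv' : Q v ≠ 0 := by rw [hv]; exact mul_ne_zero hc (pow_ne_zero 2 ht)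
    rw [SetLike.mem_coe, MonoidHom.mem_ker, eq_reflElt_of_coe Q y v hv' hyv, hχ]
    apply signChar_reflElt_pos h2
    intro hcon
    exact type_exclusive c ν (Q v) hc hν ⟨t, ht, hv⟩ hcon
  have hstep : ∀ x y : ↥(Cfsg.isometryGroup F (⇑Q)), y ∈ reflSet Q →
      (x ∈ Subgroup.closure (typeReflSet Q c) ∨ x * r0 ∈ Subgroup.closure (typeReflSet Q c)) →
      (x * y ∈ Subgroup.closure (typeReflSet Q c) ∨
        x * y * r0 ∈ Subgroup.closure (typeReflSet Q c)) := by
    intro x y hy ih
    obtain ⟨v, hv, hyv⟩ := hy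
    have hyv' : y = reflElt Q v hv := eq_reflElt_of_coe Q y v hv hyv
    rcases type_dichotomy c ν (Q v) hc hν hv with ⟨t, ht, hvt⟩ | ⟨t, ht, hvt⟩
    · have hyR : y ∈ Subgroup.closure (typeReflSet Q c) := by
        rw [hyv']; exact reflElt_mem_typeRefl Q c v hv t ht hvt
      rcases ih with hx | hx
      · left; exact Subgroup.mul_mem _ hx hyR
      · right
        have : x * y * r0 = (x * r0) * (r0 * y * r0⁻¹) := by
          rw [hr0inv]
          calc x * y * r0 = x * 1 * y * r0 := by rw [mul_one]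
            _ = x * (r0 * r0) * y * r0 := by rw [hr0sq]
            _ = (x * r0) * (r0 * y * r0) := by group
        rw [this]
        exact Subgroup.mul_mem _ hx (conj_mem_typeRefl Q c hc r0 y hyR)
    · -- rescale the centre to norm c ν
      have htv : Q (t • v) = c * ν := by
        rw [QuadraticMap.map_smul, smul_eq_mul, ← hvt]; ring
      have htv' : Q (t • v) ≠ 0 := by rw [htv]; exact hd
      have hyv'' : y = reflElt Q (t • v) htv' := by
        rw [hyv']
        apply reflElt_eq_of_matrix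
        exact (reflectionMatrix_smul Q t ht v).symm
      have hyr : y * r0 ∈ Subgroup.closure (typeReflSet Q c) := by
        rw [hyv'', hr0]
        exact refl_mul_refl_mem h2 Q hQ hcase c hc (t • v) w0 (c * ν) hd htv hw0
      have hry : r0 * y ∈ Subgroup.closure (typeReflSet Q c) := by
        rw [hyv'', hr0]
        exact refl_mul_refl_mem h2 Q hQ hcase c hc w0 (t • v) (c * ν) hd hw0 htv
      rcases ih with hx | hx
      · right
        rw [mul_assoc]
        exact Subgroup.mul_mem _ hx hyr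
      · left
        have : x * y = (x * r0) * (r0 * y) := by
          calc x * y = x * 1 * y := by rw [mul_one]
            _ = x * (r0 * r0) * y := by rw [hr0sq]
            _ = (x * r0) * (r0 * y) := by group
        rw [this]
        exact Subgroup.mul_mem _ hx hry
  have hP : ∀ g : ↥(Cfsg.isometryGroup F (⇑Q)),
      g ∈ Subgroup.closure (typeReflSet Q c) ∨ g * r0 ∈ Subgroup.closure (typeReflSet Q c) := by
    intro g
    have hg : g ∈ Subgroup.closure (reflSet Q) := by
      rw [closure_reflSet_eq_top h2 Q hQ]; exact Subgroup.mem_top _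
    induction hg using Subgroup.closure_induction_right with
    | one => left; exact Subgroup.one_mem _
    | mul_right x _ y hy ih => exact hstep x y hy ih
    | mul_inv_cancel x _ y hy ih =>
      rw [inv_mem_reflSet Q y hy]
      exact hstep x y hy ih
  apply index_eq_two_of_hom' χ r0 _ _ hle hP
  rw [hr0, hχ, signChar_reflElt_neg h2 Q _ w0 hw0' ⟨1, one_ne_zero, by rw [hw0]; ring⟩]
  decide

end Cfsg.Agent.Lib.Helper8
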