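import Mathlib
import Cfsg.Prelude.Def_ClassicalGeometry
import Cfsg.Agent.Lib.Helper8.OrthIndexTwo
import Cfsg.Agent.Lib.Helper8.DicksonOmega
import Cfsg.Agent.Lib.Helper37.OmegaIndex
import Cfsg.Agent.S0750

set_option autoImplicit false

namespace Cfsg.Agent.Lib.Helper8

open Matrix Module QuadraticMap
open Cfsg.Agent.Lib.Helper13

variable {ι : Type} [Fintype ι] [DecidableEq ι] {F : Type*} [Field F]

/-- the element of the isometry group attached to a `Q`-preserving linear equivalence -/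
noncomputable def isoOfEquiv (Q : QuadraticForm F (ι → F)) (g : (ι → F) ≃ₗ[F] (ι → F))
    (hg : ∀ v, Q (g v) = Q v) : ↥(Cfsg.isometryGroup F (⇑Q)) :=
  ⟨⟨LinearMap.toMatrix' g.toLinearMap, LinearMap.toMatrix' g.symm.toLinearMap,
    by
      rw [← LinearMap.toMatrix'_comp]
      have : g.toLinearMap ∘ₗ g.symm.toLinearMap = LinearMap.id := by
        ext x; simp
      rw [this, LinearMap.toMatrix'_id],
    by
      rw [← LinearMap.toMatrix'_comp]
      have : g.symm.toLinearMap ∘ₗ g.toLinearMap = LinearMap.id := by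
        ext x; simp
      rw [this, LinearMap.toMatrix'_id]⟩,
    by
      rw [mem_isometryGroup_iff]
      intro x
      show Q (LinearMap.toMatrix' g.toLinearMap *ᵥ x) = Q x
      rw [← Matrix.toLin'_apply, Matrix.toLin'_toMatrix']
      exact hg x⟩

theorem isoOfEquiv_mulVec (Q : QuadraticForm F (ι → F)) (g : (ι → F) ≃ₗ[F] (ι → F))
    (hg : ∀ v, Q (g v) = Q v) (x : ι → F) :
    (((isoOfEquiv Q g hg : ↥(Cfsg.isometryGroup F (⇑Q))) : Matrix.GeneralLinearGroup ι F) :
      Matrix ι ι F) *ᵥ x = g x := by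
  show LinearMap.toMatrix' g.toLinearMap *ᵥ x = g x
  rw [← Matrix.toLin'_apply, Matrix.toLin'_toMatrix']
  rfl

/-- the action of an isometry on subspaces -/
noncomputable def mapSub (Q : QuadraticForm F (ι → F)) (h : ↥(Cfsg.isometryGroup F (⇑Q)))
    (X : Submodule F (ι → F)) : Submodule F (ι → F) :=
  X.map (Matrix.mulVecLin ((h : Matrix.GeneralLinearGroup ι F) : Matrix ι ι F))

theorem mem_mapSub (Q : QuadraticForm F (ι → F)) (h : ↥(Cfsg.isometryGroup F (⇑Q)))
    (X : Submodule F (ι → F)) (y : ι → F) :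
    y ∈ mapSub Q h X ↔
      ∃ x ∈ X, ((h : Matrix.GeneralLinearGroup ι F) : Matrix ι ι F) *ᵥ x = y := by
  unfold mapSub
  rw [Submodule.mem_map]
  simp only [Matrix.mulVecLin_apply]

theorem mapSub_mul (Q : QuadraticForm F (ι → F)) (h₁ h₂ : ↥(Cfsg.isometryGroup F (⇑Q)))
    (X : Submodule F (ι → F)) : mapSub Q (h₁ * h₂) X = mapSub Q h₁ (mapSub Q h₂ X) := by
  unfold mapSub
  rw [Subgroup.coe_mul, Units.val_mul, Matrix.mulVecLin_mul, Submodule.map_comp]

theorem mapSub_one (Q : QuadraticForm F (ι → F)) (X : Submodule F (ι → F)) :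
    mapSub Q 1 X = X := by
  unfold mapSub
  rw [Subgroup.coe_one, Units.val_one, Matrix.mulVecLin_one, Submodule.map_id]

/-- the stabiliser of a subspace in the isometry group -/
noncomputable def stabSub (Q : QuadraticForm F (ι → F)) (W : Submodule F (ι → F)) :
    Subgroup ↥(Cfsg.isometryGroup F (⇑Q)) where
  carrier := {h | mapSub Q h W = W}
  one_mem' := mapSub_one Q W
  mul_mem' := by
    intro a b ha hb
    show mapSub Q (a * b) W = W
    rw [mapSub_mul, hb, ha]
  inv_mem' := by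
    intro a ha
    show mapSub Q a⁻¹ W = W
    have h1 : mapSub Q a W = W := ha
    calc mapSub Q a⁻¹ W = mapSub Q a⁻¹ (mapSub Q a W) := by rw [h1]
      _ = mapSub Q (a⁻¹ * a) W := by rw [mapSub_mul]
      _ = W := by rw [inv_mul_cancel, mapSub_one]

theorem mem_stabSub (Q : QuadraticForm F (ι → F)) (W : Submodule F (ι → F))
    (h : ↥(Cfsg.isometryGroup F (⇑Q))) : h ∈ stabSub Q W ↔ mapSub Q h W = W := Iff.rfl

/-- an involution mapping a subspace into itself stabilises it -/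
theorem mem_stabSub_of_le_of_sq (Q : QuadraticForm F (ι → F)) (W : Submodule F (ι → F))
    (h : ↥(Cfsg.isometryGroup F (⇑Q))) (hsq : h * h = 1)
    (hle : ∀ x ∈ W, ((h : Matrix.GeneralLinearGroup ι F) : Matrix ι ι F) *ᵥ x ∈ W) :
    h ∈ stabSub Q W := by
  rw [mem_stabSub]
  apply le_antisymm
  · intro y hy
    obtain ⟨x, hx, rfl⟩ := (mem_mapSub Q h W y).1 hy
    exact hle x hx
  · intro y hy
    rw [mem_mapSub]
    refine ⟨_, hle y hy, ?_⟩
    rw [Matrix.mulVec_mulVec, ← Units.val_mul, ← Subgroup.coe_mul, hsq]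
    simp

theorem reflElt_mem_stabSub_of_mem (Q : QuadraticForm F (ι → F)) (W : Submodule F (ι → F))
    (v : ι → F) (hv : Q v ≠ 0) (hvW : v ∈ W) : reflElt Q v hv ∈ stabSub Q W := by
  apply mem_stabSub_of_le_of_sq Q W _ (reflElt_mul_self Q v hv)
  intro x hx
  rw [coe_reflElt, reflectionMatrix_mulVec]
  exact Submodule.sub_mem _ hx (Submodule.smul_mem _ _ hvW)

theorem reflElt_mem_stabSub_of_orth (Q : QuadraticForm F (ι → F)) (W : Submodule F (ι → F))
    (v : ι → F) (hv : Q v ≠ 0) (hvW : ∀ w ∈ W, polar (⇑Q) v w = 0) :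
    reflElt Q v hv ∈ stabSub Q W := by
  apply mem_stabSub_of_le_of_sq Q W _ (reflElt_mul_self Q v hv)
  intro x hx
  rw [coe_reflElt, reflectionMatrix_mulVec, hvW x hx, mul_zero, zero_smul, sub_zero]
  exact hx

omit [Fintype ι] [DecidableEq ι] in
/-- a subspace on which the form vanishes is totally isotropic -/
theorem polar_eq_zero_of_quad_zero (Q : QuadraticForm F (ι → F)) (X : Submodule F (ι → F))
    (hX : ∀ x ∈ X, Q x = 0) (x y : ι → F) (hx : x ∈ X) (hy : y ∈ X) : polar (⇑Q) x y = 0 := by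
  unfold polar
  rw [hX _ (Submodule.add_mem _ hx hy), hX x hx, hX y hy]
  ring

omit [Fintype ι] [DecidableEq ι] in
/-- a nonzero subspace meeting its orthogonal trivially contains a nonsingular vector -/
theorem exists_nonsingular_of_inf_orth (Q : QuadraticForm F (ι → F)) (X : Submodule F (ι → F))
    (hX : X ⊓ LinearMap.BilinForm.orthogonal (QuadraticMap.polarBilin Q) X = ⊥) (hX0 : X ≠ ⊥) :
    ∃ x ∈ X, Q x ≠ 0 := by
  by_contra hcon
  push Not at hcon
  apply hX0
  rw [eq_bot_iff, ← hX]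
  intro x hx
  refine Submodule.mem_inf.2 ⟨hx, ?_⟩
  rw [LinearMap.BilinForm.mem_orthogonal_iff]
  intro y hy
  exact polar_eq_zero_of_quad_zero Q X hcon y x hy hx

omit [DecidableEq ι] in
/-- universality of nondegenerate subspaces of dimension at least two -/
theorem exists_norm_eq_of_inf_orth [Fintype F] (h2 : (2 : F) ≠ 0) (Q : QuadraticForm F (ι → F))
    (X : Submodule F (ι → F))
    (hX : X ⊓ LinearMap.BilinForm.orthogonal (QuadraticMap.polarBilin Q) X = ⊥)
    (hdim : 2 ≤ finrank F ↥X) (c : F) : ∃ x ∈ X, Q x = c := by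
  have hX0 : X ≠ ⊥ := by
    rintro rfl
    rw [finrank_bot] at hdim
    omega
  obtain ⟨x1, hx1X, hx1⟩ := exists_nonsingular_of_inf_orth Q X hX hX0
  have h11 : polar (⇑Q) x1 x1 ≠ 0 := by
    rw [polar_self]
    simp only [nsmul_eq_mul, Nat.cast_ofNat]
    exact mul_ne_zero h2 hx1
  obtain ⟨X', hX'⟩ : ∃ X' : Submodule F (ι → F),
      X' = X ⊓ LinearMap.ker (QuadraticMap.polarBilin Q x1) := ⟨_, rfl⟩
  have hd := finrank_inf_ker X (QuadraticMap.polarBilin Q x1)
  rw [← hX'] at hd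
  have hX'pos : 0 < finrank F ↥X' := by
    by_cases hle : X ≤ LinearMap.ker (QuadraticMap.polarBilin Q x1)
    · have := hd.1 hle; omega
    · have := hd.2 hle; omega
  have hmemX' : ∀ x, x ∈ X' ↔ x ∈ X ∧ polar (⇑Q) x1 x = 0 := by
    intro x
    rw [hX', Submodule.mem_inf, mem_ker_polarBilin]
  -- a nonsingular vector in X'
  have hex2 : ∃ x2 ∈ X', Q x2 ≠ 0 := by
    by_contra hcon
    push Not at hcon
    obtain ⟨⟨x, hxX'⟩, hx0⟩ := Module.finrank_pos_iff_exists_ne_zero.1 hX'pos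
    have hx0' : x ≠ 0 := fun h => hx0 (Subtype.ext h)
    apply hx0'
    have hxmem : x ∈ X ⊓ LinearMap.BilinForm.orthogonal (QuadraticMap.polarBilin Q) X := by
      refine Submodule.mem_inf.2 ⟨((hmemX' x).1 hxX').1, ?_⟩
      rw [LinearMap.BilinForm.mem_orthogonal_iff]
      intro y hy
      show polar (⇑Q) y x = 0
      -- decompose y along x1
      obtain ⟨a, ha⟩ : ∃ a : F, a = polar (⇑Q) x1 y * (polar (⇑Q) x1 x1)⁻¹ := ⟨_, rfl⟩
      have hy' : y - a • x1 ∈ X' := by
        rw [hmemX']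
        refine ⟨Submodule.sub_mem _ hy (Submodule.smul_mem _ _ hx1X), ?_⟩
        rw [polar_sub_right, polar_smul_right, ha, smul_eq_mul, mul_assoc, inv_mul_cancel₀ h11,
          mul_one, sub_self]
      have h1 : polar (⇑Q) (y - a • x1) x = 0 :=
        polar_eq_zero_of_quad_zero Q X' hcon _ _ hy' hxX'
      rw [polar_sub_left, polar_smul_left, ((hmemX' x).1 hxX').2, smul_zero, sub_zero] at h1
      exact h1
    rw [hX] at hxmem
    exact (Submodule.mem_bot F).1 hxmem
  obtain ⟨x2, hx2X', hx2⟩ := hex2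
  obtain ⟨hx2X, h12⟩ := (hmemX' x2).1 hx2X'
  obtain ⟨s, t, hst⟩ := exists_sq_add_sq_fin h2 (Q x1) (Q x2) c hx1 hx2
  refine ⟨0 + s • x1 + t • x2, ?_, ?_⟩
  · rw [zero_add]
    exact Submodule.add_mem _ (Submodule.smul_mem _ _ hx1X) (Submodule.smul_mem _ _ hx2X)
  · rw [quad_expand, h12]
    simp only [QuadraticMap.map_zero, polar_zero_left]
    linear_combination hst

theorem klein_cover (p q s : ℤˣ × ℤˣ) (hp : p ≠ 1) (hq : q ≠ 1) (hpq : p ≠ q) :
    s = 1 ∨ s = p ∨ s = q ∨ s = p * q := by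
  obtain ⟨p1, p2⟩ := p
  obtain ⟨q1, q2⟩ := q
  obtain ⟨s1, s2⟩ := s
  rcases Int.units_eq_one_or p1 with rfl | rfl <;> rcases Int.units_eq_one_or p2 with rfl | rfl <;>
  rcases Int.units_eq_one_or q1 with rfl | rfl <;> rcases Int.units_eq_one_or q2 with rfl | rfl <;>
  rcases Int.units_eq_one_or s1 with rfl | rfl <;> rcases Int.units_eq_one_or s2 with rfl | rfl <;>
  revert hp hq hpq <;> decide

/-- adjusting an isometry into a normal subgroup which is the kernel of a map onto the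
four-group, by an element of a subgroup which surjects -/
theorem exists_adjust_klein {G : Type*} [Group G] (φ : G →* ℤˣ × ℤˣ) (S : Subgroup G)
    (x y : G) (hx : x ∈ S) (hy : y ∈ S) (hx1 : φ x ≠ 1) (hy1 : φ y ≠ 1) (hxy : φ x ≠ φ y)
    (g : G) : ∃ h ∈ S, h * g ∈ φ.ker := by
  have hsq : ∀ z : ℤˣ × ℤˣ, z * z = 1 := by decide
  rcases klein_cover (φ x) (φ y) (φ g) hx1 hy1 hxy with h | h | h | h
  · exact ⟨1, Subgroup.one_mem _, by rw [one_mul, MonoidHom.mem_ker, h]⟩
  · exact ⟨x, hx, by rw [MonoidHom.mem_ker, map_mul, h, hsq]⟩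
  · exact ⟨y, hy, by rw [MonoidHom.mem_ker, map_mul, h, hsq]⟩
  · exact ⟨x * y, Subgroup.mul_mem _ hx hy, by rw [MonoidHom.mem_ker, map_mul, map_mul, h, hsq]⟩

open Cfsg.Agent.Lib.Helper37 in
theorem signPair_reflElt_sq [Fintype F] [DecidableEq F] (h2 : (2 : F) ≠ 0)
    (Q : QuadraticForm F (ι → F)) (α : F) (hα : ¬ IsSquare α) (v : ι → F) (hv : Q v ≠ 0)
    (hsq : IsSquare (Q v)) :
    IsGram.signPair (⇑Q) α (reflElt Q v hv) = (-1, 1) := by
  apply Prod.ext
  · show signChar (⇑Q) 1 (reflElt Q v hv) = -1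
    apply signChar_reflElt_neg h2
    exact (IsGram.exists_sq_one_iff (Q v) hv).2 hsq
  · show signChar (⇑Q) α (reflElt Q v hv) = 1
    apply signChar_reflElt_pos h2
    intro hcon
    exact (IsGram.exists_sq_nonsq_iff (Q v) α hv hα).1 hcon hsq

open Cfsg.Agent.Lib.Helper37 in
theorem signPair_reflElt_nonsq [Fintype F] [DecidableEq F] (h2 : (2 : F) ≠ 0)
    (Q : QuadraticForm F (ι → F)) (α : F) (hα : ¬ IsSquare α) (v : ι → F) (hv : Q v ≠ 0)
    (hsq : ¬ IsSquare (Q v)) :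
    IsGram.signPair (⇑Q) α (reflElt Q v hv) = (1, -1) := by
  apply Prod.ext
  · show signChar (⇑Q) 1 (reflElt Q v hv) = 1
    apply signChar_reflElt_pos h2
    intro hcon
    exact hsq ((IsGram.exists_sq_one_iff (Q v) hv).1 hcon)
  · show signChar (⇑Q) α (reflElt Q v hv) = -1
    apply signChar_reflElt_neg h2
    exact (IsGram.exists_sq_nonsq_iff (Q v) α hv hα).2 hsq

open Cfsg.Agent.Lib.Helper37 in
/-- a product of two reflections with nonsquare norm product has sign pair `(-1, -1)` -/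
theorem signPair_mul_nonsq [Fintype F] [DecidableEq F] (h2 : (2 : F) ≠ 0)
    (Q : QuadraticForm F (ι → F)) (α : F) (hα : ¬ IsSquare α) (a b : ι → F) (ha : Q a ≠ 0)
    (hb : Q b ≠ 0) (hab : ¬ IsSquare (Q a * Q b)) :
    IsGram.signPair (⇑Q) α (reflElt Q a ha * reflElt Q b hb) = (-1, -1) := by
  rw [map_mul]
  by_cases hsa : IsSquare (Q a)
  · have hsb : ¬ IsSquare (Q b) := by
      intro hsb
      exact hab (hsa.mul hsb)
    rw [signPair_reflElt_sq h2 Q α hα a ha hsa, signPair_reflElt_nonsq h2 Q α hα b hb hsb]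
    decide
  · have hsb : IsSquare (Q b) := by
      by_contra hsb
      apply hab
      rw [mul_comm]
      exact (isSquare_mul_nonsquare_iff (Q b) (Q a) hb hsa).2 hsb
    rw [signPair_reflElt_nonsq h2 Q α hα a ha hsa, signPair_reflElt_sq h2 Q α hα b hb hsb]
    decide

/-- characteristic two: adjusting into the commutator subgroup by a reflection -/
theorem exists_adjust_char2 [Fintype F] (h2 : (2 : F) = 0) (Q : QuadraticForm F (ι → F))
    (hQ : (QuadraticMap.polarBilin Q).Nondegenerate)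
    (hcard : Fintype.card F ≠ 2 ∨ finrank F (ι → F) ≠ 4)
    (S : Subgroup ↥(Cfsg.isometryGroup F (⇑Q))) (v : ι → F) (hv : Q v ≠ 0)
    (hvS : reflElt Q v hv ∈ S) (g : ↥(Cfsg.isometryGroup F (⇑Q))) :
    ∃ h ∈ S, h * g ∈ commutator ↥(Cfsg.isometryGroup F (⇑Q)) := by
  have hidx := commutator_index_two_char2 h2 Q hQ hcard ⟨v, hv⟩
  by_cases hg : g ∈ commutator ↥(Cfsg.isometryGroup F (⇑Q))
  · exact ⟨1, Subgroup.one_mem _, by rwa [one_mul]⟩
  · refine ⟨reflElt Q v hv, hvS, ?_⟩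
    rw [Subgroup.mul_mem_iff_of_index_two hidx]
    have hr : reflElt Q v hv ∉ commutator ↥(Cfsg.isometryGroup F (⇑Q)) := by
      rw [mem_commutator_iff_even_rank_char2 h2 Q hQ hcard ⟨v, hv⟩, coe_reflElt,
        rank_reflectionMatrix_sub_one Q hQ v hv]
      decide
    exact ⟨fun h => absurd h hr, fun h => absurd h hg⟩

omit [Fintype ι] [DecidableEq ι] in
theorem polarBilin_isRefl' (Q : QuadraticForm F (ι → F)) : (QuadraticMap.polarBilin Q).IsRefl := by
  intro a b h
  show polar (⇑Q) b a = 0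
  rw [polar_comm]; exact h

/-- it suffices to move `U` to `W` by an isometry and to adjust by the stabiliser of `W` -/
theorem exists_omega_of_adjust (Q : QuadraticForm F (ι → F)) (U W : Submodule F (ι → F))
    (G₀ : ↥(Cfsg.isometryGroup F (⇑Q))) (hG₀ : mapSub Q G₀ U = W)
    (hadj : ∃ h ∈ stabSub Q W, h * G₀ ∈ commutator ↥(Cfsg.isometryGroup F (⇑Q))) :
    ∃ g : ↥(Cfsg.isometryGroup F (⇑Q)), g ∈ commutator ↥(Cfsg.isometryGroup F (⇑Q)) ∧
      mapSub Q g U = W := by
  obtain ⟨h, hS, hmem⟩ := hadj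
  refine ⟨h * G₀, hmem, ?_⟩
  rw [mapSub_mul, hG₀]
  exact hS

/-- Witt: an isometry between subspaces is induced by an element of the isometry group -/
theorem exists_iso_mapSub [Finite F] (Q : QuadraticForm F (ι → F))
    (hQ : (QuadraticMap.polarBilin Q).Nondegenerate) (U W : Submodule F (ι → F))
    (e : U ≃ₗ[F] W) (he : ∀ u : U, Q (e u : ι → F) = Q (u : ι → F)) :
    ∃ G₀ : ↥(Cfsg.isometryGroup F (⇑Q)), mapSub Q G₀ U = W := by
  obtain ⟨g₀, hg₀, hg₀e⟩ := Cfsg.Agent.S0750.result Q hQ U W e he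
  refine ⟨isoOfEquiv Q g₀ hg₀, ?_⟩
  ext y
  rw [mem_mapSub]
  constructor
  · rintro ⟨x, hx, rfl⟩
    rw [isoOfEquiv_mulVec, hg₀e ⟨x, hx⟩]
    exact (e ⟨x, hx⟩).2
  · intro hy
    refine ⟨(e.symm ⟨y, hy⟩ : ι → F), (e.symm ⟨y, hy⟩).2, ?_⟩
    rw [isoOfEquiv_mulVec, hg₀e (e.symm ⟨y, hy⟩), LinearEquiv.apply_symm_apply]

/-- `Ω` is transitive on isometric nondegenerate subspaces -/
theorem omega_transitive_nondeg [Fintype F] (Q : QuadraticForm F (ι → F))
    (hQ : (QuadraticMap.polarBilin Q).Nondegenerate) (hn : 3 ≤ finrank F (ι → F))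
    (hcard : Fintype.card F ≠ 2 ∨ finrank F (ι → F) ≠ 4) (U W : Submodule F (ι → F))
    (hW : W ⊓ LinearMap.BilinForm.orthogonal (QuadraticMap.polarBilin Q) W = ⊥)
    (e : U ≃ₗ[F] W) (he : ∀ u : U, Q (e u : ι → F) = Q (u : ι → F)) :
    ∃ g : ↥(Cfsg.isometryGroup F (⇑Q)), g ∈ commutator ↥(Cfsg.isometryGroup F (⇑Q)) ∧
      mapSub Q g U = W := by
  classical
  obtain ⟨G₀, hG₀⟩ := exists_iso_mapSub Q hQ U W e he
  apply exists_omega_of_adjust Q U W G₀ hG₀
  obtain ⟨W', hW'⟩ : ∃ W' : Submodule F (ι → F),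
      W' = LinearMap.BilinForm.orthogonal (QuadraticMap.polarBilin Q) W := ⟨_, rfl⟩
  have hW'nd : W' ⊓ LinearMap.BilinForm.orthogonal (QuadraticMap.polarBilin Q) W' = ⊥ := by
    rw [hW', LinearMap.BilinForm.orthogonal_orthogonal hQ (polarBilin_isRefl' Q), inf_comm]
    exact hW
  have hdimW' : finrank F ↥W' = finrank F (ι → F) - finrank F ↥W := by
    rw [hW', LinearMap.BilinForm.finrank_orthogonal hQ]
  have hWle : finrank F ↥W ≤ finrank F (ι → F) := Submodule.finrank_le _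
  have hW'orth : ∀ v ∈ W', ∀ w ∈ W, polar (⇑Q) v w = 0 := by
    intro v hv w hw
    rw [hW', LinearMap.BilinForm.mem_orthogonal_iff] at hv
    rw [polar_comm]
    exact hv w hw
  by_cases h2 : (2 : F) = 0
  · -- characteristic two: one reflection suffices
    have hex : ∃ v, ∃ hv : Q v ≠ 0, reflElt Q v hv ∈ stabSub Q W := by
      by_cases hW0 : W = ⊥
      · have hW'0 : W' ≠ ⊥ := by
          intro h
          rw [h, finrank_bot, hW0, finrank_bot] at hdimW'
          omega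
        obtain ⟨v, hvW', hv⟩ := exists_nonsingular_of_inf_orth Q W' hW'nd hW'0
        exact ⟨v, hv, reflElt_mem_stabSub_of_orth Q W v hv (hW'orth v hvW')⟩
      · obtain ⟨v, hvW, hv⟩ := exists_nonsingular_of_inf_orth Q W hW hW0
        exact ⟨v, hv, reflElt_mem_stabSub_of_mem Q W v hv hvW⟩
    obtain ⟨v, hv, hvS⟩ := hex
    exact exists_adjust_char2 h2 Q hQ hcard (stabSub Q W) v hv hvS G₀
  · -- odd characteristic: two reflections of different types
    obtain ⟨α, hα⟩ := FiniteField.exists_nonsquare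
      (Cfsg.Agent.Lib.Helper37.ringChar_ne_two_of_two_ne_zero h2) (F := F)
    have hα0 : α ≠ 0 := by
      rintro rfl
      exact hα ⟨0, by simp⟩
    have hex : ∃ a b : ι → F, ∃ (ha : Q a ≠ 0) (hb : Q b ≠ 0), IsSquare (Q a) ∧ ¬ IsSquare (Q b) ∧
        reflElt Q a ha ∈ stabSub Q W ∧ reflElt Q b hb ∈ stabSub Q W := by
      by_cases hdW : 2 ≤ finrank F ↥W
      · obtain ⟨a, haW, ha⟩ := exists_norm_eq_of_inf_orth h2 Q W hW hdW 1
        obtain ⟨b, hbW, hb⟩ := exists_norm_eq_of_inf_orth h2 Q W hW hdW α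
        have ha0 : Q a ≠ 0 := by rw [ha]; exact one_ne_zero
        have hb0 : Q b ≠ 0 := by rw [hb]; exact hα0
        refine ⟨a, b, ha0, hb0, by rw [ha]; exact ⟨1, by simp⟩, by rw [hb]; exact hα,
          reflElt_mem_stabSub_of_mem Q W a ha0 haW, reflElt_mem_stabSub_of_mem Q W b hb0 hbW⟩
      · have hdW' : 2 ≤ finrank F ↥W' := by omega
        obtain ⟨a, haW, ha⟩ := exists_norm_eq_of_inf_orth h2 Q W' hW'nd hdW' 1
        obtain ⟨b, hbW, hb⟩ := exists_norm_eq_of_inf_orth h2 Q W' hW'nd hdW' α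
        have ha0 : Q a ≠ 0 := by rw [ha]; exact one_ne_zero
        have hb0 : Q b ≠ 0 := by rw [hb]; exact hα0
        refine ⟨a, b, ha0, hb0, by rw [ha]; exact ⟨1, by simp⟩, by rw [hb]; exact hα,
          reflElt_mem_stabSub_of_orth Q W a ha0 (hW'orth a haW),
          reflElt_mem_stabSub_of_orth Q W b hb0 (hW'orth b hbW)⟩
    obtain ⟨a, b, ha0, hb0, hsa, hsb, haS, hbS⟩ := hex
    have hG := Cfsg.Agent.Lib.Helper37.isGram_of_quadraticForm h2 Q
    have hker := hG.ker_signPair (Cfsg.Agent.Lib.Helper37.det_ne_zero_of_nondegenerate Q hQ) α hα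
    have hpa := signPair_reflElt_sq h2 Q α hα a ha0 hsa
    have hpb := signPair_reflElt_nonsq h2 Q α hα b hb0 hsb
    obtain ⟨h, hS, hmem⟩ := exists_adjust_klein
      (Cfsg.Agent.Lib.Helper37.IsGram.signPair (⇑Q) α) (stabSub Q W) _ _ haS hbS
      (by rw [hpa]; decide) (by rw [hpb]; decide) (by rw [hpa, hpb]; decide) G₀
    rw [hker] at hmem
    exact ⟨h, hS, hmem⟩

/-- an isometry mapping a subspace into itself stabilises it -/
theorem mem_stabSub_of_le (Q : QuadraticForm F (ι → F)) (W : Submodule F (ι → F))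
    (h : ↥(Cfsg.isometryGroup F (⇑Q)))
    (hle : ∀ x ∈ W, ((h : Matrix.GeneralLinearGroup ι F) : Matrix ι ι F) *ᵥ x ∈ W) :
    h ∈ stabSub Q W := by
  rw [mem_stabSub]
  have hsub : mapSub Q h W ≤ W := by
    intro y hy
    obtain ⟨x, hx, rfl⟩ := (mem_mapSub Q h W y).1 hy
    exact hle x hx
  apply Submodule.eq_of_le_of_finrank_le hsub
  have hinj : Function.Injective
      (Matrix.mulVecLin ((h : Matrix.GeneralLinearGroup ι F) : Matrix ι ι F)) := by
    have : Function.Injective (((h : Matrix.GeneralLinearGroup ι F) : Matrix ι ι F)).mulVec :=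
      Matrix.mulVec_injective_iff_isUnit.2 (h : Matrix.GeneralLinearGroup ι F).isUnit
    exact this
  have := (Submodule.equivMapOfInjective _ hinj W).finrank_eq
  unfold mapSub
  rw [← this]

omit [DecidableEq ι] in
/-- a nonsingular vector orthogonal to a small totally singular subspace -/
theorem exists_nonsingular_orth_ts (Q : QuadraticForm F (ι → F))
    (hQ : (QuadraticMap.polarBilin Q).Nondegenerate) (W : Submodule F (ι → F))
    (hdim : 2 * finrank F ↥W < finrank F (ι → F)) :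
    ∃ v : ι → F, Q v ≠ 0 ∧ ∀ w ∈ W, polar (⇑Q) v w = 0 := by
  by_contra hcon
  push Not at hcon
  obtain ⟨W', hW'⟩ : ∃ W' : Submodule F (ι → F),
      W' = LinearMap.BilinForm.orthogonal (QuadraticMap.polarBilin Q) W := ⟨_, rfl⟩
  have hmem : ∀ v, v ∈ W' ↔ ∀ w ∈ W, polar (⇑Q) v w = 0 := by
    intro v
    rw [hW', LinearMap.BilinForm.mem_orthogonal_iff]
    constructor
    · intro h w hw
      rw [polar_comm]; exact h w hw
    · intro h w hw
      show polar (⇑Q) w v = 0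
      rw [polar_comm]; exact h w hw
  have hsing : ∀ v ∈ W', Q v = 0 := by
    intro v hv
    by_contra hne
    obtain ⟨w, hw, hvw⟩ := hcon v hne
    exact hvw ((hmem v).1 hv w hw)
  have hle : W' ≤ W := by
    have hoo := LinearMap.BilinForm.orthogonal_orthogonal hQ (polarBilin_isRefl' Q) W
    rw [← hoo, ← hW']
    intro x hx
    rw [LinearMap.BilinForm.mem_orthogonal_iff]
    intro y hy
    exact polar_eq_zero_of_quad_zero Q W' hsing y x hy hx
  have h1 := Submodule.finrank_mono hle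
  have h2 : finrank F ↥W' = finrank F (ι → F) - finrank F ↥W := by
    rw [hW', LinearMap.BilinForm.finrank_orthogonal hQ]
  omega

omit [Fintype ι] [DecidableEq ι] in
/-- a hyperbolic partner of a nonzero singular vector -/
theorem exists_hyp_partner (Q : QuadraticForm F (ι → F))
    (hQ : (QuadraticMap.polarBilin Q).Nondegenerate) (e : ι → F) (he0 : e ≠ 0) (he : Q e = 0) :
    ∃ f : ι → F, Q f = 0 ∧ polar (⇑Q) e f = 1 := by
  obtain ⟨f0, hf0⟩ := exists_polar_ne_zero Q hQ e he0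
  obtain ⟨f1, hf1⟩ : ∃ f1 : ι → F, f1 = (polar (⇑Q) e f0)⁻¹ • f0 := ⟨_, rfl⟩
  have h1 : polar (⇑Q) e f1 = 1 := by
    rw [hf1, polar_smul_right, smul_eq_mul, inv_mul_cancel₀ hf0]
  have hee : polar (⇑Q) e e = 0 := by rw [polar_self, he, smul_zero]
  refine ⟨f1 - (Q f1) • e, ?_, ?_⟩
  · rw [quad_sub, QuadraticMap.map_smul, he, polar_smul_right, polar_comm (⇑Q) f1 e, h1]
    simp
  · rw [polar_sub_right, polar_smul_right, hee, h1]
    simp

/-- a hyperbolic rotation stabilising a totally singular subspace -/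
theorem hyp_rotation_mem_stabSub (Q : QuadraticForm F (ι → F)) (W : Submodule F (ι → F))
    (hW0 : ∀ w ∈ W, Q w = 0) (e f : ι → F) (heW : e ∈ W) (hf : Q f = 0)
    (hef : polar (⇑Q) e f = 1) (l : F) (hl : l ≠ 0) :
    ∃ (a b : ι → F) (ha : Q a ≠ 0) (hb : Q b ≠ 0), Q a * Q b = l ∧
      reflElt Q a ha * reflElt Q b hb ∈ stabSub Q W := by
  have he : Q e = 0 := hW0 e heW
  have hee : polar (⇑Q) e e = 0 := by rw [polar_self, he, smul_zero]
  have hff : polar (⇑Q) f f = 0 := by rw [polar_self, hf, smul_zero]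
  have hfe : polar (⇑Q) f e = 1 := by rw [polar_comm]; exact hef
  obtain ⟨a, ha⟩ : ∃ a : ι → F, a = e - f := ⟨_, rfl⟩
  obtain ⟨b, hb⟩ : ∃ b : ι → F, b = e - l • f := ⟨_, rfl⟩
  have hQa : Q a = -1 := by
    rw [ha, quad_sub, he, hf, hef]; ring
  have hQb : Q b = -l := by
    rw [hb, quad_sub, QuadraticMap.map_smul, he, hf, polar_smul_right, hef]
    simp
  have hQa0 : Q a ≠ 0 := by rw [hQa]; exact neg_ne_zero.2 one_ne_zero
  have hQb0 : Q b ≠ 0 := by rw [hQb]; exact neg_ne_zero.2 hl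
  refine ⟨a, b, hQa0, hQb0, by rw [hQa, hQb]; ring, ?_⟩
  have hrb_e : Cfsg.reflectionMatrix (⇑Q) b *ᵥ e = l • f := by
    rw [reflectionMatrix_mulVec, hQb]
    have : polar (⇑Q) b e = -l := by
      rw [hb, polar_sub_left, polar_smul_left, hee, hfe]
      simp
    rw [this, inv_mul_cancel₀ (neg_ne_zero.2 hl), one_smul, hb]
    abel
  have hra_f : Cfsg.reflectionMatrix (⇑Q) a *ᵥ f = e := by
    rw [reflectionMatrix_mulVec, hQa]
    have : polar (⇑Q) a f = 1 := by
      rw [ha, polar_sub_left, hef, hff, sub_zero]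
    rw [this, ha]
    have : ((-1 : F))⁻¹ * 1 = -1 := by
      rw [mul_one, inv_neg_one]
    rw [this, neg_one_smul]
    abel
  apply mem_stabSub_of_le
  intro w hw
  obtain ⟨c, hc⟩ : ∃ c : F, c = polar (⇑Q) f w := ⟨_, rfl⟩
  obtain ⟨w0, hw0⟩ : ∃ w0 : ι → F, w0 = w - c • e := ⟨_, rfl⟩
  have hw0W : w0 ∈ W := by
    rw [hw0]; exact Submodule.sub_mem _ hw (Submodule.smul_mem _ _ heW)
  have hew : polar (⇑Q) e w = 0 := polar_eq_zero_of_quad_zero Q W hW0 e w heW hw
  have hew0 : polar (⇑Q) e w0 = 0 := polar_eq_zero_of_quad_zero Q W hW0 e w0 heW hw0W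
  have hfw0 : polar (⇑Q) f w0 = 0 := by
    rw [hw0, polar_sub_right, polar_smul_right, hfe, ← hc]
    simp
  have haw0 : polar (⇑Q) a w0 = 0 := by
    rw [ha, polar_sub_left, hew0, hfw0, sub_zero]
  have hbw0 : polar (⇑Q) b w0 = 0 := by
    rw [hb, polar_sub_left, polar_smul_left, hew0, hfw0]
    simp
  have hra_w0 : Cfsg.reflectionMatrix (⇑Q) a *ᵥ w0 = w0 := by
    rw [reflectionMatrix_mulVec, haw0, mul_zero, zero_smul, sub_zero]
  have hrb_w0 : Cfsg.reflectionMatrix (⇑Q) b *ᵥ w0 = w0 := by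
    rw [reflectionMatrix_mulVec, hbw0, mul_zero, zero_smul, sub_zero]
  have hw' : w = c • e + w0 := by rw [hw0]; abel
  rw [Subgroup.coe_mul, Units.val_mul, coe_reflElt, coe_reflElt, ← Matrix.mulVec_mulVec]
  have : Cfsg.reflectionMatrix (⇑Q) a *ᵥ (Cfsg.reflectionMatrix (⇑Q) b *ᵥ w)
      = (c * l) • e + w0 := by
    conv_lhs => rw [hw']
    rw [Matrix.mulVec_add, Matrix.mulVec_smul, hrb_e, hrb_w0, Matrix.mulVec_add,
      Matrix.mulVec_smul, Matrix.mulVec_smul, hra_f, hra_w0, smul_smul]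
  rw [this]
  exact Submodule.add_mem _ (Submodule.smul_mem _ _ heW) hw0W

/-- `Ω` is transitive on totally singular subspaces of a given dimension less than half the
dimension -/
theorem omega_transitive_ts [Fintype F] (Q : QuadraticForm F (ι → F))
    (hQ : (QuadraticMap.polarBilin Q).Nondegenerate)
    (hcard : Fintype.card F ≠ 2 ∨ finrank F (ι → F) ≠ 4) (U W : Submodule F (ι → F))
    (hdim : 2 * finrank F ↥W < finrank F (ι → F)) (hUW : finrank F ↥U = finrank F ↥W)
    (hU0 : ∀ u ∈ U, Q u = 0) (hW0 : ∀ w ∈ W, Q w = 0) :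
    ∃ g : ↥(Cfsg.isometryGroup F (⇑Q)), g ∈ commutator ↥(Cfsg.isometryGroup F (⇑Q)) ∧
      mapSub Q g U = W := by
  classical
  obtain ⟨G₀, hG₀⟩ := exists_iso_mapSub Q hQ U W (LinearEquiv.ofFinrankEq U W hUW)
    (by intro u; rw [hU0 _ u.2, hW0 _ (LinearEquiv.ofFinrankEq U W hUW u).2])
  apply exists_omega_of_adjust Q U W G₀ hG₀
  obtain ⟨v, hv, hvW⟩ := exists_nonsingular_orth_ts Q hQ W hdim
  have hvS := reflElt_mem_stabSub_of_orth Q W v hv hvW
  by_cases h2 : (2 : F) = 0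
  · exact exists_adjust_char2 h2 Q hQ hcard (stabSub Q W) v hv hvS G₀
  · by_cases hW' : W = ⊥
    · refine ⟨G₀⁻¹, ?_, by rw [inv_mul_cancel]; exact Subgroup.one_mem _⟩
      rw [mem_stabSub, hW']
      unfold mapSub
      rw [Submodule.map_bot]
    obtain ⟨α, hα⟩ := FiniteField.exists_nonsquare
      (Cfsg.Agent.Lib.Helper37.ringChar_ne_two_of_two_ne_zero h2) (F := F)
    have hα0 : α ≠ 0 := by
      rintro rfl
      exact hα ⟨0, by simp⟩
    obtain ⟨e, heW, he0⟩ := Submodule.exists_mem_ne_zero_of_ne_bot hW'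
    obtain ⟨f, hf, hef⟩ := exists_hyp_partner Q hQ e he0 (hW0 e heW)
    obtain ⟨a, b, ha, hb, hab, htS⟩ := hyp_rotation_mem_stabSub Q W hW0 e f heW hf hef α hα0
    have hG := Cfsg.Agent.Lib.Helper37.isGram_of_quadraticForm h2 Q
    have hker := hG.ker_signPair (Cfsg.Agent.Lib.Helper37.det_ne_zero_of_nondegenerate Q hQ) α hα
    have hpt := signPair_mul_nonsq h2 Q α hα a b ha hb (by rw [hab]; exact hα)
    have hpv : Cfsg.Agent.Lib.Helper37.IsGram.signPair (⇑Q) α (reflElt Q v hv) = (-1, 1) ∨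
        Cfsg.Agent.Lib.Helper37.IsGram.signPair (⇑Q) α (reflElt Q v hv) = (1, -1) := by
      by_cases hsq : IsSquare (Q v)
      · left; exact signPair_reflElt_sq h2 Q α hα v hv hsq
      · right; exact signPair_reflElt_nonsq h2 Q α hα v hv hsq
    obtain ⟨h, hS, hmem⟩ := exists_adjust_klein
      (Cfsg.Agent.Lib.Helper37.IsGram.signPair (⇑Q) α) (stabSub Q W) _ _ hvS htS
      (by rcases hpv with h | h <;> rw [h] <;> decide) (by rw [hpt]; decide)
      (by rcases hpv with h | h <;> rw [h, hpt] <;> decide) G₀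
    rw [hker] at hmem
    exact ⟨h, hS, hmem⟩

end Cfsg.Agent.Lib.Helper8
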