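import Mathlib
import Cfsg.Prelude.Def_ClassicalGeometry
import Cfsg.Agent.Lib.Helper8.OmegaTransitive

set_option autoImplicit false

namespace Cfsg.Agent.Lib.Helper8

open Matrix Module QuadraticMap
open Cfsg.Agent.Lib.Helper13

variable {ι : Type} [Fintype ι] [DecidableEq ι] {F : Type*} [Field F]

/-- two isometries agreeing on all vectors are equal -/
theorem iso_ext (Q : QuadraticForm F (ι → F)) (g h : ↥(Cfsg.isometryGroup F (⇑Q)))
    (hgh : ∀ x, ((g : Matrix.GeneralLinearGroup ι F) : Matrix ι ι F) *ᵥ x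
      = ((h : Matrix.GeneralLinearGroup ι F) : Matrix ι ι F) *ᵥ x) : g = h := by
  apply Subtype.ext
  apply Units.ext
  rw [Matrix.ext_iff_mulVec]
  exact hgh

theorem coe_mul_mulVec (Q : QuadraticForm F (ι → F)) (g h : ↥(Cfsg.isometryGroup F (⇑Q)))
    (x : ι → F) :
    (((g * h : ↥(Cfsg.isometryGroup F (⇑Q))) : Matrix.GeneralLinearGroup ι F) : Matrix ι ι F) *ᵥ x
      = ((g : Matrix.GeneralLinearGroup ι F) : Matrix ι ι F) *ᵥ
        (((h : Matrix.GeneralLinearGroup ι F) : Matrix ι ι F) *ᵥ x) := by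
  rw [Subgroup.coe_mul, Units.val_mul, Matrix.mulVec_mulVec]

theorem coe_inv_mulVec (Q : QuadraticForm F (ι → F)) (g : ↥(Cfsg.isometryGroup F (⇑Q)))
    (x : ι → F) :
    ((g : Matrix.GeneralLinearGroup ι F) : Matrix ι ι F) *ᵥ
      ((((g⁻¹ : ↥(Cfsg.isometryGroup F (⇑Q))) : Matrix.GeneralLinearGroup ι F) : Matrix ι ι F) *ᵥ x)
      = x := by
  rw [← coe_mul_mulVec, mul_inv_cancel]
  simp

theorem coe_inv_mulVec' (Q : QuadraticForm F (ι → F)) (g : ↥(Cfsg.isometryGroup F (⇑Q)))
    (x : ι → F) :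
    (((g⁻¹ : ↥(Cfsg.isometryGroup F (⇑Q))) : Matrix.GeneralLinearGroup ι F) : Matrix ι ι F) *ᵥ
      (((g : Matrix.GeneralLinearGroup ι F) : Matrix ι ι F) *ᵥ x) = x := by
  rw [← coe_mul_mulVec, inv_mul_cancel]
  simp

theorem iso_polar (Q : QuadraticForm F (ι → F)) (g : ↥(Cfsg.isometryGroup F (⇑Q)))
    (x y : ι → F) :
    polar (⇑Q) (((g : Matrix.GeneralLinearGroup ι F) : Matrix ι ι F) *ᵥ x)
      (((g : Matrix.GeneralLinearGroup ι F) : Matrix ι ι F) *ᵥ y) = polar (⇑Q) x y :=
  polar_mulVec_of_preserves Q _ (isoElt_preserves Q g) x y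

/-- the Eichler (Siegel) transformation as a linear map -/
noncomputable def eichlerLin (Q : QuadraticForm F (ι → F)) (u v : ι → F) :
    (ι → F) →ₗ[F] (ι → F) :=
  LinearMap.id + (QuadraticMap.polarBilin Q u).smulRight v
    - (QuadraticMap.polarBilin Q v).smulRight u
    - (Q v) • (QuadraticMap.polarBilin Q u).smulRight u

omit [Fintype ι] [DecidableEq ι] in
theorem eichlerLin_apply (Q : QuadraticForm F (ι → F)) (u v x : ι → F) :
    eichlerLin Q u v x = x + polar (⇑Q) u x • v - polar (⇑Q) v x • u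
      - (Q v * polar (⇑Q) u x) • u := by
  simp only [eichlerLin, LinearMap.sub_apply, LinearMap.add_apply, LinearMap.id_apply,
    LinearMap.smulRight_apply, LinearMap.smul_apply, QuadraticMap.polarBilin_apply_apply, smul_smul]

omit [Fintype ι] [DecidableEq ι] in
theorem eichlerLin_preserves (Q : QuadraticForm F (ι → F)) (u v : ι → F) (hu : Q u = 0)
    (huv : polar (⇑Q) u v = 0) (x : ι → F) : Q (eichlerLin Q u v x) = Q x := by
  rw [eichlerLin_apply]
  have huu : polar (⇑Q) u u = 0 := by rw [polar_self, hu, smul_zero]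
  have hvu : polar (⇑Q) v u = 0 := by rw [polar_comm]; exact huv
  have : x + polar (⇑Q) u x • v - polar (⇑Q) v x • u - (Q v * polar (⇑Q) u x) • u
      = x + polar (⇑Q) u x • v + (-(polar (⇑Q) v x + Q v * polar (⇑Q) u x)) • u := by
    rw [neg_smul, add_smul]; abel
  rw [this, quad_expand, hu, hvu, polar_comm (⇑Q) x v, polar_comm (⇑Q) x u]
  ring

/-- the Eichler transformation as an element of the isometry group -/
noncomputable def eichlerElt (Q : QuadraticForm F (ι → F))
    (hQ : (QuadraticMap.polarBilin Q).Nondegenerate) (u v : ι → F) (hu : Q u = 0)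
    (huv : polar (⇑Q) u v = 0) : ↥(Cfsg.isometryGroup F (⇑Q)) :=
  isoOfEquiv Q (quadEquiv Q hQ (eichlerLin Q u v) (eichlerLin_preserves Q u v hu huv))
    (by intro x; rw [quadEquiv_apply]; exact eichlerLin_preserves Q u v hu huv x)

theorem eichlerElt_mulVec (Q : QuadraticForm F (ι → F))
    (hQ : (QuadraticMap.polarBilin Q).Nondegenerate) (u v : ι → F) (hu : Q u = 0)
    (huv : polar (⇑Q) u v = 0) (x : ι → F) :
    (((eichlerElt Q hQ u v hu huv : ↥(Cfsg.isometryGroup F (⇑Q))) :
      Matrix.GeneralLinearGroup ι F) : Matrix ι ι F) *ᵥ x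
      = x + polar (⇑Q) u x • v - polar (⇑Q) v x • u - (Q v * polar (⇑Q) u x) • u := by
  unfold eichlerElt
  rw [isoOfEquiv_mulVec, quadEquiv_apply, eichlerLin_apply]

/-- additivity in the second argument -/
theorem eichlerElt_mul (Q : QuadraticForm F (ι → F))
    (hQ : (QuadraticMap.polarBilin Q).Nondegenerate) (u v w : ι → F) (hu : Q u = 0)
    (huv : polar (⇑Q) u v = 0) (huw : polar (⇑Q) u w = 0) :
    eichlerElt Q hQ u v hu huv * eichlerElt Q hQ u w hu huw
      = eichlerElt Q hQ u (v + w) hu (by rw [polar_add_right, huv, huw, add_zero]) := by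
  apply iso_ext
  intro x
  have huu : polar (⇑Q) u u = 0 := by rw [polar_self, hu, smul_zero]
  have hvu : polar (⇑Q) v u = 0 := by rw [polar_comm]; exact huv
  rw [coe_mul_mulVec, eichlerElt_mulVec, eichlerElt_mulVec, eichlerElt_mulVec]
  simp only [polar_add_right, polar_sub_right, polar_smul_right, polar_add_left, huu, huv, huw,
    hvu, smul_eq_mul, mul_zero, sub_zero, add_zero, QuadraticMap.map_add (⇑Q) v w]
  rw [polar_comm (⇑Q) v w]
  module

theorem eichlerElt_zero (Q : QuadraticForm F (ι → F))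
    (hQ : (QuadraticMap.polarBilin Q).Nondegenerate) (u : ι → F) (hu : Q u = 0) :
    eichlerElt Q hQ u 0 hu (by simp) = 1 := by
  apply iso_ext
  intro x
  rw [eichlerElt_mulVec]
  simp

theorem eichlerElt_congr (Q : QuadraticForm F (ι → F))
    (hQ : (QuadraticMap.polarBilin Q).Nondegenerate) (u v u' v' : ι → F) (hu : Q u = 0)
    (huv : polar (⇑Q) u v = 0) (hu' : Q u' = 0) (huv' : polar (⇑Q) u' v' = 0)
    (h1 : u = u') (h2 : v = v') :
    eichlerElt Q hQ u v hu huv = eichlerElt Q hQ u' v' hu' huv' := by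
  subst h1; subst h2; rfl

theorem eichlerElt_inv (Q : QuadraticForm F (ι → F))
    (hQ : (QuadraticMap.polarBilin Q).Nondegenerate) (u v : ι → F) (hu : Q u = 0)
    (huv : polar (⇑Q) u v = 0) :
    (eichlerElt Q hQ u v hu huv)⁻¹
      = eichlerElt Q hQ u (-v) hu (by rw [polar_neg_right, huv, neg_zero]) := by
  rw [inv_eq_iff_mul_eq_one, eichlerElt_mul]
  rw [eichlerElt_congr Q hQ u (v + -v) u 0 hu _ hu (by simp) rfl (by abel), eichlerElt_zero]

/-- adding a multiple of `u` to `v` does not change the transformation -/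
theorem eichlerElt_add_smul (Q : QuadraticForm F (ι → F))
    (hQ : (QuadraticMap.polarBilin Q).Nondegenerate) (u v : ι → F) (hu : Q u = 0)
    (huv : polar (⇑Q) u v = 0) (t : F) :
    eichlerElt Q hQ u (v + t • u) hu
        (by rw [polar_add_right, polar_smul_right, huv, polar_self, hu]; simp)
      = eichlerElt Q hQ u v hu huv := by
  apply iso_ext
  intro x
  have huu : polar (⇑Q) u u = 0 := by rw [polar_self, hu, smul_zero]
  have hvu : polar (⇑Q) v u = 0 := by rw [polar_comm]; exact huv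
  rw [eichlerElt_mulVec, eichlerElt_mulVec]
  simp only [polar_add_left, polar_smul_left, QuadraticMap.map_add (⇑Q) v (t • u),
    QuadraticMap.map_smul, hu, polar_smul_right, hvu, smul_eq_mul, mul_zero, add_zero]
  module

/-- scaling `u` is the same as scaling `v` -/
theorem eichlerElt_smul_left (Q : QuadraticForm F (ι → F))
    (hQ : (QuadraticMap.polarBilin Q).Nondegenerate) (u v : ι → F) (hu : Q u = 0)
    (huv : polar (⇑Q) u v = 0) (l : F) :
    eichlerElt Q hQ (l • u) v (by rw [QuadraticMap.map_smul, hu, smul_zero])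
        (by rw [polar_smul_left, huv, smul_zero])
      = eichlerElt Q hQ u (l • v) hu (by rw [polar_smul_right, huv, smul_zero]) := by
  apply iso_ext
  intro x
  rw [eichlerElt_mulVec, eichlerElt_mulVec]
  simp only [polar_smul_left, QuadraticMap.map_smul, smul_eq_mul]
  module

/-- conjugation of Eichler transformations -/
theorem conj_eichlerElt (Q : QuadraticForm F (ι → F))
    (hQ : (QuadraticMap.polarBilin Q).Nondegenerate) (g : ↥(Cfsg.isometryGroup F (⇑Q)))
    (u v : ι → F) (hu : Q u = 0) (huv : polar (⇑Q) u v = 0) :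
    g * eichlerElt Q hQ u v hu huv * g⁻¹
      = eichlerElt Q hQ (((g : Matrix.GeneralLinearGroup ι F) : Matrix ι ι F) *ᵥ u)
          (((g : Matrix.GeneralLinearGroup ι F) : Matrix ι ι F) *ᵥ v)
          (by rw [isoElt_preserves]; exact hu) (by rw [iso_polar]; exact huv) := by
  rw [mul_inv_eq_iff_eq_mul]
  apply iso_ext
  intro x
  rw [coe_mul_mulVec, coe_mul_mulVec, eichlerElt_mulVec, eichlerElt_mulVec, iso_polar, iso_polar,
    isoElt_preserves]
  simp only [Matrix.mulVec_add, Matrix.mulVec_sub, Matrix.mulVec_smul]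

end Cfsg.Agent.Lib.Helper8
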