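import Mathlib
import Cfsg.Prelude.Def_ClassicalGeometry
import Cfsg.Agent.Lib.Helper13.Orth
import Cfsg.Agent.Lib.Helper8.CartanDieudonne
import Cfsg.Agent.Lib.Helper8.OrthTransp

set_option autoImplicit false

namespace Cfsg.Agent.Lib.Helper8

open Matrix Module QuadraticMap
open Cfsg.Agent.Lib.Helper13

variable {ι : Type} [Fintype ι] [DecidableEq ι] {F : Type*} [Field F]

/-- a group generated by pairwise commuting elements is commutative -/
theorem comm_of_closure_eq_top {G : Type*} [Group G] (k : Set G)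
    (hk : ∀ x ∈ k, ∀ y ∈ k, x * y = y * x) (htop : Subgroup.closure k = ⊤) (a b : G) :
    a * b = b * a := by
  have h1 : Subgroup.closure k ≤ Subgroup.centralizer k := by
    rw [Subgroup.closure_le]
    intro x hx
    rw [SetLike.mem_coe, Subgroup.mem_centralizer_iff]
    intro y hy
    exact hk y hy x hx
  have h2 : ∀ g : G, ∀ y ∈ k, y * g = g * y := by
    intro g y hy
    have : g ∈ Subgroup.centralizer k := h1 (by rw [htop]; trivial)
    exact Subgroup.mem_centralizer_iff.1 this y hy
  have h3 : Subgroup.closure k ≤ Subgroup.center G := by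
    rw [Subgroup.closure_le]
    intro y hy
    rw [SetLike.mem_coe, Subgroup.mem_center_iff]
    intro g
    exact (h2 g y hy).symm
  have hb : b ∈ Subgroup.center G := h3 (by rw [htop]; trivial)
  exact Subgroup.mem_center_iff.1 hb a

theorem conj_mem_reflSet (Q : QuadraticForm F (ι → F)) (g r : ↥(Cfsg.isometryGroup F (⇑Q)))
    (hr : r ∈ reflSet Q) : g * r * g⁻¹ ∈ reflSet Q := by
  obtain ⟨v, hv, hrv⟩ := hr
  rw [eq_reflElt_of_coe Q r v hv hrv, conj_reflElt]
  exact reflElt_mem_reflSet Q _ _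

theorem mul_mem_special (Q : QuadraticForm F (ι → F)) (r s : ↥(Cfsg.isometryGroup F (⇑Q)))
    (hr : r ∈ reflSet Q) (hs : s ∈ reflSet Q) : r * s ∈ Cfsg.specialIsometryGroup F (⇑Q) := by
  rw [mem_specialIsometryGroup_iff, isoDet_mul, isoDet_refl Q r hr, isoDet_refl Q s hs]
  ring

/-- the commutator subgroup lies in every index-two subgroup of the special isometry group -/
theorem commutator_le_of_index_two (Q : QuadraticForm F (ι → F))
    (hgen : Subgroup.closure (reflSet Q) = ⊤)
    (H : Subgroup ↥(Cfsg.specialIsometryGroup F (⇑Q))) (hH : H.index = 2) :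
    (commutator ↥(Cfsg.isometryGroup F (⇑Q))).subgroupOf (Cfsg.specialIsometryGroup F (⇑Q))
      ≤ H := by
  set S : Set ↥(Cfsg.isometryGroup F (⇑Q)) :=
    {x | ∃ r ∈ reflSet Q, ∃ s ∈ reflSet Q, x = (r * s) * (r * s)} with hS
  set N := Subgroup.normalClosure S with hN
  -- (i) N lies in the image of H
  have hNH : N ≤ H.map (Cfsg.specialIsometryGroup F (⇑Q)).subtype := by
    rw [hN, Subgroup.normalClosure, Subgroup.closure_le]
    intro x hx
    rw [Group.mem_conjugatesOfSet_iff] at hx
    obtain ⟨a, ⟨r, hr, s, hs, rfl⟩, hconj⟩ := hx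
    rw [isConj_iff] at hconj
    obtain ⟨g, rfl⟩ := hconj
    have hr' := conj_mem_reflSet Q g r hr
    have hs' := conj_mem_reflSet Q g s hs
    have hy := mul_mem_special Q _ _ hr' hs'
    have hsq := Subgroup.mul_self_mem_of_index_two hH
      (⟨g * r * g⁻¹ * (g * s * g⁻¹), hy⟩ : ↥(Cfsg.specialIsometryGroup F (⇑Q)))
    refine ⟨_, hsq, ?_⟩
    simp only [Subgroup.coe_subtype, Subgroup.coe_mul]
    group
  -- (ii) the quotient by N is commutative
  have hcomm : ∀ a b : ↥(Cfsg.isometryGroup F (⇑Q)) ⧸ N, a * b = b * a := by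
    apply comm_of_closure_eq_top ((QuotientGroup.mk' N) '' reflSet Q)
    · rintro _ ⟨r, hr, rfl⟩ _ ⟨s, hs, rfl⟩
      rw [← map_mul, ← map_mul, QuotientGroup.mk'_eq_mk']
      refine ⟨(r * s)⁻¹ * (s * r), ?_, by group⟩
      have hrinv : r⁻¹ = r := inv_mem_reflSet Q r hr
      have hsinv : s⁻¹ = s := inv_mem_reflSet Q s hs
      have : (r * s)⁻¹ * (s * r) = (s * r) * (s * r) := by
        rw [_root_.mul_inv_rev, hrinv, hsinv]
      rw [this]
      exact Subgroup.subset_normalClosure ⟨s, hs, r, hr, rfl⟩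
    · rw [← MonoidHom.map_closure, hgen, ← MonoidHom.range_eq_map,
        MonoidHom.range_eq_top]
      exact QuotientGroup.mk'_surjective N
  have hcN : commutator ↥(Cfsg.isometryGroup F (⇑Q)) ≤ N := by
    rw [commutator_def, Subgroup.commutator_le]
    intro g₁ _ g₂ _
    rw [← QuotientGroup.eq_one_iff, commutatorElement_def]
    simp only [QuotientGroup.mk_mul, QuotientGroup.mk_inv]
    rw [hcomm (↑g₁) (↑g₂)]
    group
  intro x hx
  rw [Subgroup.mem_subgroupOf] at hx
  obtain ⟨y, hy, hyx⟩ := hNH (hcN hx)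
  have : y = x := Subtype.ext hyx
  rwa [← this]

/-- uniqueness of the index-two subgroup of the special isometry group -/
theorem existsUnique_index_two (Q : QuadraticForm F (ι → F))
    (hgen : Subgroup.closure (reflSet Q) = ⊤)
    (hrel : ((commutator ↥(Cfsg.isometryGroup F (⇑Q))).subgroupOf
      (Cfsg.specialIsometryGroup F (⇑Q))).index = 2) :
    ∃! H : Subgroup ↥(Cfsg.specialIsometryGroup F (⇑Q)), H.index = 2 := by
  refine ⟨_, hrel, ?_⟩
  intro H hH
  have hle := commutator_le_of_index_two Q hgen H hH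
  have h1 := Subgroup.relIndex_mul_index hle
  rw [hH, hrel] at h1
  have h2 : ((commutator ↥(Cfsg.isometryGroup F (⇑Q))).subgroupOf
      (Cfsg.specialIsometryGroup F (⇑Q))).relIndex H = 1 := by omega
  exact le_antisymm (Subgroup.relIndex_eq_one.1 h2) hle

end Cfsg.Agent.Lib.Helper8
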