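import Mathlib
import Cfsg.Prelude.Def_ClassicalGeometry
import Cfsg.Agent.Lib.Helper8.Eichler
import Cfsg.Agent.Lib.Helper8.OrthIndexTwo
import Cfsg.Agent.Lib.Helper8.CartanDieudonne2
import Cfsg.Agent.Lib.Helper8.UniqueIndexTwo

set_option autoImplicit false

namespace Cfsg.Agent.Lib.Helper8

open Matrix Module QuadraticMap
open Cfsg.Agent.Lib.Helper13
open scoped commutatorElement

variable {ι : Type} [Fintype ι] [DecidableEq ι] {F : Type*} [Field F]

omit [DecidableEq ι] in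
/-- a nonsingular vector orthogonal to a small finite family -/
theorem exists_nonsingular_orth_family (Q : QuadraticForm F (ι → F))
    (hQ : (QuadraticMap.polarBilin Q).Nondegenerate) {k : ℕ} (w : Fin k → ι → F)
    (hk : 2 * k < finrank F (ι → F)) :
    ∃ v : ι → F, Q v ≠ 0 ∧ ∀ i, polar (⇑Q) v (w i) = 0 := by
  have h1 : finrank F ↥(Submodule.span F (Set.range w)) ≤ k := by
    have := finrank_range_le_card (R := F) w
    simpa [Set.finrank] using this
  obtain ⟨v, hv, hvw⟩ :=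
    exists_nonsingular_orth_ts Q hQ (Submodule.span F (Set.range w)) (by omega)
  exact ⟨v, hv, fun i => hvw _ (Submodule.subset_span ⟨i, rfl⟩)⟩

/-- the set of all Eichler transformations -/
def eichlerSet (Q : QuadraticForm F (ι → F)) (hQ : (QuadraticMap.polarBilin Q).Nondegenerate) :
    Set ↥(Cfsg.isometryGroup F (⇑Q)) :=
  {g | ∃ (u v : ι → F) (hu : Q u = 0) (huv : polar (⇑Q) u v = 0),
    g = eichlerElt Q hQ u v hu huv}

/-- the set of long root elements (Siegel transformations with both vectors singular) -/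
def longRootSet (Q : QuadraticForm F (ι → F)) (hQ : (QuadraticMap.polarBilin Q).Nondegenerate) :
    Set ↥(Cfsg.isometryGroup F (⇑Q)) :=
  {g | ∃ (u v : ι → F) (hu : Q u = 0) (huv : polar (⇑Q) u v = 0), Q v = 0 ∧
    g = eichlerElt Q hQ u v hu huv}

theorem eichlerElt_comm (Q : QuadraticForm F (ι → F))
    (hQ : (QuadraticMap.polarBilin Q).Nondegenerate) (u v w : ι → F) (hu : Q u = 0)
    (huv : polar (⇑Q) u v = 0) (huw : polar (⇑Q) u w = 0) :
    eichlerElt Q hQ u v hu huv * eichlerElt Q hQ u w hu huw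
      = eichlerElt Q hQ u w hu huw * eichlerElt Q hQ u v hu huv := by
  rw [eichlerElt_mul, eichlerElt_mul]
  exact eichlerElt_congr Q hQ _ _ _ _ _ _ _ _ rfl (add_comm v w)

/-- the commutator formula for Eichler transformations -/
theorem eichler_commutator (Q : QuadraticForm F (ι → F))
    (hQ : (QuadraticMap.polarBilin Q).Nondegenerate) (e₁ e₂ w w' : ι → F)
    (h1 : Q e₁ = 0) (h2 : Q e₂ = 0) (h12 : polar (⇑Q) e₁ e₂ = 0)
    (h1w : polar (⇑Q) e₁ w = 0) (h2w : polar (⇑Q) e₂ w = 0)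
    (h1w' : polar (⇑Q) e₁ w' = 0) (h2w' : polar (⇑Q) e₂ w' = 0) :
    ⁅eichlerElt Q hQ e₂ w' h2 h2w', eichlerElt Q hQ e₁ w h1 h1w⁆
      = eichlerElt Q hQ e₁ ((- polar (⇑Q) w' w) • e₂) h1
          (by rw [polar_smul_right, h12, smul_zero]) := by
  have h21 : polar (⇑Q) e₂ e₁ = 0 := by rw [polar_comm]; exact h12
  have hw'1 : polar (⇑Q) w' e₁ = 0 := by rw [polar_comm]; exact h1w'
  have hz : polar (⇑Q) e₁ ((- polar (⇑Q) w' w) • e₂) = 0 := by
    rw [polar_smul_right, h12, smul_zero]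
  rw [commutatorElement_def, conj_eichlerElt]
  have ha : (((eichlerElt Q hQ e₂ w' h2 h2w' : ↥(Cfsg.isometryGroup F (⇑Q))) :
      Matrix.GeneralLinearGroup ι F) : Matrix ι ι F) *ᵥ e₁ = e₁ := by
    rw [eichlerElt_mulVec, h21, hw'1]
    simp
  have hb : (((eichlerElt Q hQ e₂ w' h2 h2w' : ↥(Cfsg.isometryGroup F (⇑Q))) :
      Matrix.GeneralLinearGroup ι F) : Matrix ι ι F) *ᵥ w
      = w + (- polar (⇑Q) w' w) • e₂ := by
    rw [eichlerElt_mulVec, h2w]
    simp only [zero_smul, mul_zero, add_zero, sub_zero, neg_smul]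
    abel
  rw [eichlerElt_congr Q hQ _ _ e₁ (w + (- polar (⇑Q) w' w) • e₂) _ _ h1
    (by rw [polar_add_right, h1w, hz, add_zero]) ha hb]
  rw [← eichlerElt_mul Q hQ e₁ w ((- polar (⇑Q) w' w) • e₂) h1 h1w hz, eichlerElt_comm,
    mul_inv_cancel_right]

omit [Fintype ι] [DecidableEq ι] in
theorem quad_add_smul (Q : QuadraticForm F (ι → F)) (x y : ι → F) (t : F) :
    Q (x + t • y) = Q x + t * t * Q y + t * polar (⇑Q) x y := by
  rw [QuadraticMap.map_add (⇑Q), QuadraticMap.map_smul, polar_smul_right]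
  simp only [smul_eq_mul]

omit [DecidableEq ι] in
/-- two vectors orthogonal to a singular orthogonal pair, with prescribed product -/
theorem exists_orth_pair (Q : QuadraticForm F (ι → F))
    (hQ : (QuadraticMap.polarBilin Q).Nondegenerate) (hn : 5 ≤ finrank F (ι → F))
    (e₁ e₂ : ι → F) (h1 : Q e₁ = 0) (h2 : Q e₂ = 0) (h12 : polar (⇑Q) e₁ e₂ = 0) (c : F) :
    ∃ w w' : ι → F, polar (⇑Q) e₁ w = 0 ∧ polar (⇑Q) e₂ w = 0 ∧ polar (⇑Q) e₁ w' = 0 ∧
      polar (⇑Q) e₂ w' = 0 ∧ polar (⇑Q) w' w = c := by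
  obtain ⟨v, hv, hvw⟩ := exists_nonsingular_orth_family Q hQ ![e₁, e₂] (by omega)
  have hv1 : polar (⇑Q) v e₁ = 0 := hvw 0
  have hv2 : polar (⇑Q) v e₂ = 0 := hvw 1
  have hnot : v ∉ Submodule.span F ({e₁, e₂} : Set (ι → F)) := by
    intro hmem
    obtain ⟨a, b, hab⟩ := Submodule.mem_span_pair.1 hmem
    apply hv
    rw [← hab, QuadraticMap.map_add (⇑Q), QuadraticMap.map_smul, QuadraticMap.map_smul, h1, h2,
      polar_smul_left, polar_smul_right, h12]
    simp
  obtain ⟨u, hu, huv⟩ := exists_orth_of_notMem Q hQ _ v hnot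
  have hu1 : polar (⇑Q) u e₁ = 0 := hu e₁ (Submodule.subset_span (by simp))
  have hu2 : polar (⇑Q) u e₂ = 0 := hu e₂ (Submodule.subset_span (by simp))
  refine ⟨v, (c * (polar (⇑Q) u v)⁻¹) • u, ?_, ?_, ?_, ?_, ?_⟩
  · rw [polar_comm]; exact hv1
  · rw [polar_comm]; exact hv2
  · rw [polar_smul_right, polar_comm (⇑Q) e₁ u, hu1, smul_zero]
  · rw [polar_smul_right, polar_comm (⇑Q) e₂ u, hu2, smul_zero]
  · rw [polar_smul_left, smul_eq_mul, mul_assoc, inv_mul_cancel₀ huv, mul_one]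

/-- a long root element is a commutator of Eichler transformations -/
theorem longRoot_mem_commutator (Q : QuadraticForm F (ι → F))
    (hQ : (QuadraticMap.polarBilin Q).Nondegenerate) (hn : 5 ≤ finrank F (ι → F))
    (H : Subgroup ↥(Cfsg.isometryGroup F (⇑Q)))
    (hH : ∀ (u v : ι → F) (hu : Q u = 0) (huv : polar (⇑Q) u v = 0),
      eichlerElt Q hQ u v hu huv ∈ H)
    (g : ↥(Cfsg.isometryGroup F (⇑Q))) (hg : g ∈ longRootSet Q hQ) : g ∈ ⁅H, H⁆ := by
  obtain ⟨u, v, hu, huv, hv, rfl⟩ := hg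
  obtain ⟨w, w', h1w, h2w, h1w', h2w', hww⟩ := exists_orth_pair Q hQ hn u v hu hv huv (-1)
  have := eichler_commutator Q hQ u v w w' hu hv huv h1w h2w h1w' h2w'
  rw [eichlerElt_congr Q hQ u ((- polar (⇑Q) w' w) • v) u v hu _ hu huv rfl
    (by rw [hww, neg_neg, one_smul])] at this
  rw [← this]
  exact Subgroup.commutator_mem_commutator (hH _ _ _ _) (hH _ _ _ _)

/-- every Eichler transformation is a product of long root elements -/
theorem eichlerElt_mem_closure_longRoot [Fintype F] (Q : QuadraticForm F (ι → F))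
    (hQ : (QuadraticMap.polarBilin Q).Nondegenerate) (hn : 5 ≤ finrank F (ι → F))
    (hn2 : (2 : F) = 0 → 7 ≤ finrank F (ι → F))
    (u v : ι → F) (hu : Q u = 0) (huv : polar (⇑Q) u v = 0) :
    eichlerElt Q hQ u v hu huv ∈ Subgroup.closure (longRootSet Q hQ) := by
  by_cases hv : Q v = 0
  · exact Subgroup.subset_closure ⟨u, v, hu, huv, hv, rfl⟩
  have key : ∃ v₁ : ι → F, Q v₁ = 0 ∧ polar (⇑Q) u v₁ = 0 ∧ Q (v - v₁) = 0 := by
    by_cases h2 : (2 : F) = 0
    · have hnot : v ∉ Submodule.span F ({u} : Set (ι → F)) := by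
        intro hmem
        obtain ⟨c, hc⟩ := Submodule.mem_span_singleton.1 hmem
        apply hv
        rw [← hc, QuadraticMap.map_smul, hu, smul_zero]
      obtain ⟨m, hmu, hmv⟩ := exists_orth_of_notMem Q hQ _ v hnot
      have hmu' : polar (⇑Q) m u = 0 := hmu u (Submodule.mem_span_singleton_self u)
      obtain ⟨w, hw, hww⟩ := exists_nonsingular_orth_family Q hQ ![u, v, m]
        (by have := hn2 h2; omega)
      have hwu : polar (⇑Q) w u = 0 := hww 0
      have hwv : polar (⇑Q) w v = 0 := hww 1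
      have hwm : polar (⇑Q) w m = 0 := hww 2
      obtain ⟨β, hβ⟩ := exists_sq_char2 h2 (Q m * (Q w)⁻¹)
      obtain ⟨s, hs⟩ : ∃ s : ι → F, s = m + β • w := ⟨_, rfl⟩
      have hQs : Q s = 0 := by
        rw [hs, quad_add_smul, hβ, polar_comm, hwm, mul_assoc, inv_mul_cancel₀ hw]
        linear_combination (Q m) * h2
      have hus : polar (⇑Q) u s = 0 := by
        rw [hs, polar_add_right, polar_smul_right, polar_comm (⇑Q) u m, hmu',
          polar_comm (⇑Q) u w, hwu]
        simp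
      have hvs : polar (⇑Q) v s ≠ 0 := by
        rw [hs, polar_add_right, polar_smul_right, polar_comm (⇑Q) v w, hwv, smul_zero, add_zero,
          polar_comm]
        exact hmv
      refine ⟨(Q v * (polar (⇑Q) v s)⁻¹) • s, ?_, ?_, ?_⟩
      · rw [QuadraticMap.map_smul, hQs, smul_zero]
      · rw [polar_smul_right, hus, smul_zero]
      · rw [quad_sub, QuadraticMap.map_smul, hQs, polar_smul_right]
        simp only [smul_eq_mul, mul_zero, add_zero]
        rw [mul_assoc, inv_mul_cancel₀ hvs, mul_one, sub_self]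
    · obtain ⟨z, hz, hvz, huz⟩ := exists_norm_orth_two h2 Q hQ hn v u hv (-(Q v))
      refine ⟨(2 : F)⁻¹ • (v + z), ?_, ?_, ?_⟩
      · rw [QuadraticMap.map_smul, QuadraticMap.map_add (⇑Q), hz, hvz]
        simp
      · rw [polar_smul_right, polar_add_right, huv, huz]
        simp
      · rw [quad_sub, QuadraticMap.map_smul, QuadraticMap.map_add (⇑Q), hz, hvz,
          polar_smul_right, polar_add_right, hvz, polar_self]
        simp only [nsmul_eq_mul, Nat.cast_ofNat, smul_eq_mul]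
        field_simp
        ring
  obtain ⟨v₁, hv₁, huv₁, hv₂⟩ := key
  have huv₂ : polar (⇑Q) u (v - v₁) = 0 := by rw [polar_sub_right, huv, huv₁, sub_zero]
  have := eichlerElt_mul Q hQ u v₁ (v - v₁) hu huv₁ huv₂
  rw [eichlerElt_congr Q hQ u (v₁ + (v - v₁)) u v hu _ hu huv rfl (by abel)] at this
  rw [← this]
  exact Subgroup.mul_mem _ (Subgroup.subset_closure ⟨u, v₁, hu, huv₁, hv₁, rfl⟩)
    (Subgroup.subset_closure ⟨u, v - v₁, hu, huv₂, hv₂, rfl⟩)

theorem closure_normal_of_conj_mem {G : Type*} [Group G] (S : Set G)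
    (h : ∀ g : G, ∀ s ∈ S, g * s * g⁻¹ ∈ S) : (Subgroup.closure S).Normal := by
  constructor
  intro x hx g
  induction hx using Subgroup.closure_induction with
  | mem y hy => exact Subgroup.subset_closure (h g y hy)
  | one => simp
  | mul a b _ _ ha hb =>
    have : g * (a * b) * g⁻¹ = (g * a * g⁻¹) * (g * b * g⁻¹) := by group
    rw [this]
    exact Subgroup.mul_mem _ ha hb
  | inv a _ ha =>
    have : g * a⁻¹ * g⁻¹ = (g * a * g⁻¹)⁻¹ := by group
    rw [this]
    exact Subgroup.inv_mem _ ha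

/-- the subgroup generated by the long root elements is normal -/
theorem closure_longRoot_normal (Q : QuadraticForm F (ι → F))
    (hQ : (QuadraticMap.polarBilin Q).Nondegenerate) :
    (Subgroup.closure (longRootSet Q hQ)).Normal := by
  apply closure_normal_of_conj_mem
  rintro g _ ⟨u, v, hu, huv, hv, rfl⟩
  rw [conj_eichlerElt]
  exact ⟨_, _, _, _, by rw [isoElt_preserves]; exact hv, rfl⟩

/-- the basic move: an Eichler transformation taking `a` to `b` -/
theorem eichler_move (Q : QuadraticForm F (ι → F))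
    (hQ : (QuadraticMap.polarBilin Q).Nondegenerate) (a b u : ι → F) (hab : Q a = Q b)
    (hu : Q u = 0) (hub : polar (⇑Q) u (b - a) = 0) (hua : polar (⇑Q) u a ≠ 0) :
    ∃ (u' v' : ι → F) (hu' : Q u' = 0) (huv' : polar (⇑Q) u' v' = 0),
      (((eichlerElt Q hQ u' v' hu' huv' : ↥(Cfsg.isometryGroup F (⇑Q))) :
        Matrix.GeneralLinearGroup ι F) : Matrix ι ι F) *ᵥ a = b := by
  refine ⟨(polar (⇑Q) u a)⁻¹ • u, b - a, by rw [QuadraticMap.map_smul, hu, smul_zero],
    by rw [polar_smul_left, hub, smul_zero], ?_⟩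
  rw [eichlerElt_mulVec]
  have h1 : polar (⇑Q) ((polar (⇑Q) u a)⁻¹ • u) a = 1 := by
    rw [polar_smul_left, smul_eq_mul, inv_mul_cancel₀ hua]
  rw [h1, quad_sub, polar_sub_left, polar_self, hab, polar_comm (⇑Q) b a]
  simp only [nsmul_eq_mul, Nat.cast_ofNat]
  module

theorem longRoot_move_of_exists [Fintype F] (Q : QuadraticForm F (ι → F))
    (hQ : (QuadraticMap.polarBilin Q).Nondegenerate) (hn : 5 ≤ finrank F (ι → F))
    (hn2 : (2 : F) = 0 → 7 ≤ finrank F (ι → F)) (a b u : ι → F) (hab : Q a = Q b)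
    (hu : Q u = 0) (hub : polar (⇑Q) u (b - a) = 0) (hua : polar (⇑Q) u a ≠ 0) :
    ∃ t ∈ Subgroup.closure (longRootSet Q hQ),
      ((t : Matrix.GeneralLinearGroup ι F) : Matrix ι ι F) *ᵥ a = b := by
  obtain ⟨u', v', hu', huv', h⟩ := eichler_move Q hQ a b u hab hu hub hua
  exact ⟨_, eichlerElt_mem_closure_longRoot Q hQ hn hn2 u' v' hu' huv', h⟩

/-- odd characteristic: moving between orthogonal vectors of the same norm -/
theorem longRoot_move_orth [Fintype F] (h2 : (2 : F) ≠ 0) (Q : QuadraticForm F (ι → F))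
    (hQ : (QuadraticMap.polarBilin Q).Nondegenerate) (hn : 5 ≤ finrank F (ι → F))
    (a z : ι → F) (haz : polar (⇑Q) a z = 0) (hQaz : Q a = Q z) (ha : Q a ≠ 0) :
    ∃ t ∈ Subgroup.closure (longRootSet Q hQ),
      ((t : Matrix.GeneralLinearGroup ι F) : Matrix ι ι F) *ᵥ a = z := by
  have hza : polar (⇑Q) z a = 0 := by rw [polar_comm]; exact haz
  obtain ⟨w, hw, hwo⟩ := exists_norm_eq_fin h2 Q hQ ![a, z]
    (by
      intro i j hij
      fin_cases i <;> fin_cases j
      · exact absurd rfl hij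
      · exact haz
      · exact hza
      · exact absurd rfl hij)
    (by
      intro i
      fin_cases i
      · exact ha
      · show Q z ≠ 0
        rw [← hQaz]; exact ha)
    (by simp only [Fintype.card_fin]; omega) (-(2 * Q a))
  have haw : polar (⇑Q) a w = 0 := hwo 0
  have hzw : polar (⇑Q) z w = 0 := hwo 1
  have hwa : polar (⇑Q) w a = 0 := by rw [polar_comm]; exact haw
  have hwz : polar (⇑Q) w z = 0 := by rw [polar_comm]; exact hzw
  have haa : polar (⇑Q) a a = 2 * Q a := by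
    rw [polar_self]; simp only [nsmul_eq_mul, Nat.cast_ofNat]
  have hzz : polar (⇑Q) z z = 2 * Q a := by
    rw [polar_self, hQaz]; simp only [nsmul_eq_mul, Nat.cast_ofNat]
  apply longRoot_move_of_exists Q hQ hn (fun h => absurd h h2) a z (a + z + w) hQaz
  · rw [QuadraticMap.map_add (⇑Q), QuadraticMap.map_add (⇑Q) a z, polar_add_left, haz, haw, hzw,
      hw, ← hQaz]
    ring
  · rw [polar_sub_right, polar_add_left, polar_add_left, polar_add_left, polar_add_left,
      haz, hza, hwa, hwz, haa, hzz]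
    ring
  · rw [polar_add_left, polar_add_left, haa, hza, hwa]
    simp only [add_zero]
    exact mul_ne_zero h2 ha

theorem longRoot_transitive_odd [Fintype F] (h2 : (2 : F) ≠ 0) (Q : QuadraticForm F (ι → F))
    (hQ : (QuadraticMap.polarBilin Q).Nondegenerate) (hn : 5 ≤ finrank F (ι → F))
    (a b : ι → F) (hab : Q a = Q b) (ha : Q a ≠ 0) :
    ∃ t ∈ Subgroup.closure (longRootSet Q hQ),
      ((t : Matrix.GeneralLinearGroup ι F) : Matrix ι ι F) *ᵥ a = b := by
  obtain ⟨z, hz, haz, hbz⟩ := exists_norm_orth_two h2 Q hQ hn a b ha (Q a)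
  obtain ⟨t₁, ht₁, h1⟩ := longRoot_move_orth h2 Q hQ hn a z haz hz.symm ha
  obtain ⟨t₂, ht₂, h2'⟩ := longRoot_move_orth h2 Q hQ hn z b (by rw [polar_comm]; exact hbz)
    (by rw [hz, hab]) (by rw [hz]; exact ha)
  refine ⟨t₂ * t₁, Subgroup.mul_mem _ ht₂ ht₁, ?_⟩
  rw [coe_mul_mulVec, h1, h2']

/-- characteristic two: moving between non-orthogonal vectors of the same norm -/
theorem longRoot_move_char2 [Fintype F] (h2 : (2 : F) = 0) (Q : QuadraticForm F (ι → F))
    (hQ : (QuadraticMap.polarBilin Q).Nondegenerate) (hn : 7 ≤ finrank F (ι → F))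
    (a b : ι → F) (hab : Q a = Q b) (hpol : polar (⇑Q) a b ≠ 0) :
    ∃ t ∈ Subgroup.closure (longRootSet Q hQ),
      ((t : Matrix.GeneralLinearGroup ι F) : Matrix ι ι F) *ᵥ a = b := by
  obtain ⟨y, hy, hyo⟩ := exists_nonsingular_orth_family Q hQ ![a, b] (by omega)
  have hya : polar (⇑Q) y a = 0 := hyo 0
  have hyb : polar (⇑Q) y b = 0 := hyo 1
  have hay : polar (⇑Q) a y = 0 := by rw [polar_comm]; exact hya
  have hby : polar (⇑Q) b y = 0 := by rw [polar_comm]; exact hyb
  obtain ⟨τ, hτ⟩ := exists_sq_char2 h2 (Q (b - a) * (Q y)⁻¹)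
  have haa : polar (⇑Q) a a = 0 := char2_polar_self h2 Q a
  have hdd : polar (⇑Q) (b - a) (b - a) = 0 := char2_polar_self h2 Q (b - a)
  apply longRoot_move_of_exists Q hQ (by omega) (fun _ => hn) a b ((b - a) + τ • y) hab
  · rw [quad_add_smul, hτ, polar_sub_left, hby, hay, mul_assoc, inv_mul_cancel₀ hy]
    linear_combination (Q (b - a)) * h2
  · rw [polar_add_left, polar_smul_left, hdd, polar_sub_right, hyb, hya]
    simp
  · rw [polar_add_left, polar_smul_left, hya, polar_sub_left, haa, polar_comm]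
    simpa using hpol

omit [Fintype ι] [DecidableEq ι] in
theorem exists_polar_ne_zero_two (Q : QuadraticForm F (ι → F))
    (hQ : (QuadraticMap.polarBilin Q).Nondegenerate) (a b : ι → F) (ha : a ≠ 0) (hb : b ≠ 0) :
    ∃ x, polar (⇑Q) a x ≠ 0 ∧ polar (⇑Q) b x ≠ 0 := by
  obtain ⟨x, hx⟩ := exists_polar_ne_zero Q hQ a ha
  obtain ⟨y, hy⟩ := exists_polar_ne_zero Q hQ b hb
  by_cases hbx : polar (⇑Q) b x = 0
  · by_cases hay : polar (⇑Q) a y = 0
    · refine ⟨x + y, ?_, ?_⟩
      · rw [polar_add_right, hay, add_zero]; exact hx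
      · rw [polar_add_right, hbx, zero_add]; exact hy
    · exact ⟨y, hay, hy⟩
  · exact ⟨x, hx, hbx⟩

theorem longRoot_transitive_char2 [Fintype F] (h2 : (2 : F) = 0) (Q : QuadraticForm F (ι → F))
    (hQ : (QuadraticMap.polarBilin Q).Nondegenerate) (hn : 7 ≤ finrank F (ι → F))
    (a b : ι → F) (hab : Q a = Q b) (ha : Q a ≠ 0) :
    ∃ t ∈ Subgroup.closure (longRootSet Q hQ),
      ((t : Matrix.GeneralLinearGroup ι F) : Matrix ι ι F) *ᵥ a = b := by
  by_cases hpol : polar (⇑Q) a b = 0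
  · have ha0 : a ≠ 0 := by
      rintro rfl
      exact ha (QuadraticMap.map_zero _)
    have hb0 : b ≠ 0 := by
      rintro rfl
      rw [hab] at ha
      exact ha (QuadraticMap.map_zero _)
    obtain ⟨x, hxa, hxb⟩ := exists_polar_ne_zero_two Q hQ a b ha0 hb0
    obtain ⟨w, hw, hwo⟩ := exists_nonsingular_orth_family Q hQ ![a, b, x] (by omega)
    have hwa : polar (⇑Q) w a = 0 := hwo 0
    have hwb : polar (⇑Q) w b = 0 := hwo 1
    have hwx : polar (⇑Q) w x = 0 := hwo 2
    obtain ⟨σ, hσ⟩ := exists_sq_char2 h2 ((Q a - Q x) * (Q w)⁻¹)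
    obtain ⟨c, hc⟩ : ∃ c : ι → F, c = x + σ • w := ⟨_, rfl⟩
    have hQc : Q c = Q a := by
      rw [hc, quad_add_smul, hσ, polar_comm, hwx, mul_assoc, inv_mul_cancel₀ hw]
      ring
    have hac : polar (⇑Q) a c ≠ 0 := by
      rw [hc, polar_add_right, polar_smul_right, polar_comm (⇑Q) a w, hwa, smul_zero, add_zero]
      exact hxa
    have hcb : polar (⇑Q) c b ≠ 0 := by
      rw [hc, polar_add_left, polar_smul_left, hwb, smul_zero, add_zero, polar_comm]
      exact hxb
    obtain ⟨t₁, ht₁, h1⟩ := longRoot_move_char2 h2 Q hQ hn a c hQc.symm hac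
    obtain ⟨t₂, ht₂, h2'⟩ := longRoot_move_char2 h2 Q hQ hn c b (by rw [hQc, hab]) hcb
    refine ⟨t₂ * t₁, Subgroup.mul_mem _ ht₂ ht₁, ?_⟩
    rw [coe_mul_mulVec, h1, h2']
  · exact longRoot_move_char2 h2 Q hQ hn a b hab hpol

theorem longRoot_transitive [Fintype F] (Q : QuadraticForm F (ι → F))
    (hQ : (QuadraticMap.polarBilin Q).Nondegenerate) (hn : 5 ≤ finrank F (ι → F))
    (hn2 : (2 : F) = 0 → 7 ≤ finrank F (ι → F))
    (a b : ι → F) (hab : Q a = Q b) (ha : Q a ≠ 0) :
    ∃ t ∈ Subgroup.closure (longRootSet Q hQ),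
      ((t : Matrix.GeneralLinearGroup ι F) : Matrix ι ι F) *ᵥ a = b := by
  by_cases h2 : (2 : F) = 0
  · exact longRoot_transitive_char2 h2 Q hQ (hn2 h2) a b hab ha
  · exact longRoot_transitive_odd h2 Q hQ hn a b hab ha

/-- a normal subgroup which is transitive on the vectors of each nonzero norm contains `Ω` -/
theorem commutator_le_of_normal_of_transitive (Q : QuadraticForm F (ι → F))
    (hgen : Subgroup.closure (reflSet Q) = ⊤)
    (N : Subgroup ↥(Cfsg.isometryGroup F (⇑Q))) (hN : N.Normal)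
    (htr : ∀ a b : ι → F, Q a = Q b → Q a ≠ 0 → ∃ t ∈ N,
      ((t : Matrix.GeneralLinearGroup ι F) : Matrix ι ι F) *ᵥ a = b) :
    commutator ↥(Cfsg.isometryGroup F (⇑Q)) ≤ N := by
  have hcomm : ∀ x y : ↥(Cfsg.isometryGroup F (⇑Q)) ⧸ N, x * y = y * x := by
    apply comm_of_closure_eq_top ((QuotientGroup.mk' N) '' reflSet Q)
    · rintro _ ⟨r, hr, rfl⟩ _ ⟨s, hs, rfl⟩
      rw [← map_mul, ← map_mul, QuotientGroup.mk'_eq_mk']
      refine ⟨(r * s)⁻¹ * (s * r), ?_, by group⟩
      have hrinv : r⁻¹ = r := inv_mem_reflSet Q r hr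
      have hsinv : s⁻¹ = s := inv_mem_reflSet Q s hs
      obtain ⟨b, hb, hsb⟩ := hs
      have hs' := eq_reflElt_of_coe Q s b hb hsb
      -- `(r s)⁻¹ (s r) = s (r s r⁻¹)`
      have h1 : (r * s)⁻¹ * (s * r) = s * (r * s * r⁻¹) := by
        rw [_root_.mul_inv_rev, hrinv, hsinv]; group
      rw [h1, hs', conj_reflElt]
      obtain ⟨t, ht, htb⟩ := htr b (((r : Matrix.GeneralLinearGroup ι F) : Matrix ι ι F) *ᵥ b)
        (by rw [isoElt_preserves]) hb
      have h2 := conj_reflElt Q t b hb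
      rw [reflElt_congr Q _ (((r : Matrix.GeneralLinearGroup ι F) : Matrix ι ι F) *ᵥ b) _
        (by rw [isoElt_preserves]; exact hb) htb] at h2
      rw [← h2]
      have h3 : reflElt Q b hb * (t * reflElt Q b hb * t⁻¹)
          = (reflElt Q b hb * t * (reflElt Q b hb)⁻¹) * t⁻¹ := by
        rw [← hs', hsinv]; group
      rw [h3]
      exact Subgroup.mul_mem _ (hN.conj_mem t ht _) (Subgroup.inv_mem _ ht)
    · rw [← MonoidHom.map_closure, hgen, ← MonoidHom.range_eq_map,
        MonoidHom.range_eq_top]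
      exact QuotientGroup.mk'_surjective N
  rw [commutator_def, Subgroup.commutator_le]
  intro g₁ _ g₂ _
  rw [← QuotientGroup.eq_one_iff, commutatorElement_def]
  simp only [QuotientGroup.mk_mul, QuotientGroup.mk_inv]
  rw [hcomm (↑g₁) (↑g₂)]
  group

/-- `Ω` is generated by the long root elements -/
theorem omega_eq_closure_longRoot [Fintype F] (Q : QuadraticForm F (ι → F))
    (hQ : (QuadraticMap.polarBilin Q).Nondegenerate) (hn : 5 ≤ finrank F (ι → F))
    (hn2 : (2 : F) = 0 → 7 ≤ finrank F (ι → F)) :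
    commutator ↥(Cfsg.isometryGroup F (⇑Q)) = Subgroup.closure (longRootSet Q hQ) := by
  apply le_antisymm
  · apply commutator_le_of_normal_of_transitive Q
      (closure_reflSet_eq_top' Q hQ (Or.inr (by omega))) _ (closure_longRoot_normal Q hQ)
    exact longRoot_transitive Q hQ hn hn2
  · rw [Subgroup.closure_le]
    intro g hg
    have := longRoot_mem_commutator Q hQ hn ⊤ (fun _ _ _ _ => Subgroup.mem_top _) g hg
    rw [commutator_def]
    exact this

/-- `Ω` is perfect -/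
theorem omega_perfect [Fintype F] (Q : QuadraticForm F (ι → F))
    (hQ : (QuadraticMap.polarBilin Q).Nondegenerate) (hn : 5 ≤ finrank F (ι → F))
    (hn2 : (2 : F) = 0 → 7 ≤ finrank F (ι → F)) :
    ⁅commutator ↥(Cfsg.isometryGroup F (⇑Q)), commutator ↥(Cfsg.isometryGroup F (⇑Q))⁆
      = commutator ↥(Cfsg.isometryGroup F (⇑Q)) := by
  apply le_antisymm
  · exact Subgroup.commutator_le_left _ _
  · conv_lhs => rw [omega_eq_closure_longRoot Q hQ hn hn2]
    rw [Subgroup.closure_le]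
    intro g hg
    apply longRoot_mem_commutator Q hQ hn _ _ g hg
    intro u v hu huv
    rw [omega_eq_closure_longRoot Q hQ hn hn2]
    exact eichlerElt_mem_closure_longRoot Q hQ hn hn2 u v hu huv

/-- the long root elements are the isometries whose matrix is a Siegel matrix -/
theorem longRootSet_eq (Q : QuadraticForm F (ι → F))
    (hQ : (QuadraticMap.polarBilin Q).Nondegenerate) :
    longRootSet Q hQ = {g : ↥(Cfsg.isometryGroup F (⇑Q)) | ∃ (u v : ι → F) (c : F),
      Q u = 0 ∧ Q v = 0 ∧ polar (⇑Q) u v = 0 ∧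
      ((g : Matrix.GeneralLinearGroup ι F) : Matrix ι ι F) = Cfsg.siegelMatrix (⇑Q) u v c} := by
  ext g
  constructor
  · rintro ⟨u, v, hu, huv, hv, rfl⟩
    refine ⟨u, v, 1, hu, hv, huv, ?_⟩
    rw [Matrix.ext_iff_mulVec]
    intro x
    rw [eichlerElt_mulVec, siegelMatrix_mulVec, hv]
    simp
  · rintro ⟨u, v, c, hu, hv, huv, hg⟩
    refine ⟨u, c • v, hu, by rw [polar_smul_right, huv, smul_zero],
      by rw [QuadraticMap.map_smul, hv, smul_zero], ?_⟩
    apply iso_ext
    intro x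
    rw [hg, eichlerElt_mulVec, siegelMatrix_mulVec, QuadraticMap.map_smul, hv, polar_smul_left]
    simp only [smul_eq_mul, mul_zero, zero_mul, zero_smul, sub_zero, smul_smul]
    rw [mul_comm (polar (⇑Q) u x) c]

end Cfsg.Agent.Lib.Helper8
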