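import Mathlib
import Cfsg.Prelude.Def_ClassicalGeometry
import Cfsg.Agent.Lib.Helper8.Eichler2

set_option autoImplicit false

namespace Cfsg.Agent.Lib.Helper8

open Matrix Module QuadraticMap
open Cfsg.Agent.Lib.Helper13
open scoped commutatorElement Pointwise

variable {ι : Type} [Fintype ι] [DecidableEq ι] {F : Type*} [Field F]

/-- the singular points of a quadratic space -/
def SingPt (Q : QuadraticForm F (ι → F)) : Type _ :=
  {W : Submodule F (ι → F) // ∃ u : ι → F, u ≠ 0 ∧ Q u = 0 ∧ W = Submodule.span F {u}}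

/-- the point spanned by a nonzero singular vector -/
def mkPt (Q : QuadraticForm F (ι → F)) (u : ι → F) (hu0 : u ≠ 0) (hu : Q u = 0) : SingPt Q :=
  ⟨Submodule.span F {u}, u, hu0, hu, rfl⟩

omit [Fintype ι] [DecidableEq ι] in
theorem exists_eq_mkPt (Q : QuadraticForm F (ι → F)) (p : SingPt Q) :
    ∃ (u : ι → F) (hu0 : u ≠ 0) (hu : Q u = 0), p = mkPt Q u hu0 hu := by
  obtain ⟨W, u, hu0, hu, rfl⟩ := p
  exact ⟨u, hu0, hu, rfl⟩

omit [Fintype ι] [DecidableEq ι] in
theorem mkPt_congr (Q : QuadraticForm F (ι → F)) (u v : ι → F) (hu0 : u ≠ 0) (hu : Q u = 0)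
    (hv0 : v ≠ 0) (hv : Q v = 0) (h : u = v) : mkPt Q u hu0 hu = mkPt Q v hv0 hv := by
  subst h; rfl

omit [Fintype ι] [DecidableEq ι] in
theorem mkPt_smul (Q : QuadraticForm F (ι → F)) (u : ι → F) (hu0 : u ≠ 0) (hu : Q u = 0)
    (c : F) (hc : c ≠ 0) :
    mkPt Q (c • u) (smul_ne_zero hc hu0) (by rw [QuadraticMap.map_smul, hu, smul_zero])
      = mkPt Q u hu0 hu := by
  apply Subtype.ext
  show Submodule.span F {c • u} = Submodule.span F {u}
  exact Submodule.span_singleton_smul_eq (IsUnit.mk0 c hc) u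

omit [Fintype ι] [DecidableEq ι] in
theorem exists_smul_of_mkPt_eq (Q : QuadraticForm F (ι → F)) (u v : ι → F) (hu0 : u ≠ 0)
    (hu : Q u = 0) (hv0 : v ≠ 0) (hv : Q v = 0) (h : mkPt Q u hu0 hu = mkPt Q v hv0 hv) :
    ∃ c : F, c • u = v := by
  have h1 : Submodule.span F {u} = Submodule.span F {v} := congrArg Subtype.val h
  have : v ∈ Submodule.span F {u} := by rw [h1]; exact Submodule.mem_span_singleton_self v
  exact Submodule.mem_span_singleton.1 this

theorem mulVec_ne_zero_of_iso (Q : QuadraticForm F (ι → F)) (g : ↥(Cfsg.isometryGroup F (⇑Q)))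
    (u : ι → F) (hu0 : u ≠ 0) :
    ((g : Matrix.GeneralLinearGroup ι F) : Matrix ι ι F) *ᵥ u ≠ 0 := by
  intro h
  apply hu0
  rw [← coe_inv_mulVec' Q g u, h, Matrix.mulVec_zero]

theorem mapSub_span_singleton (Q : QuadraticForm F (ι → F)) (g : ↥(Cfsg.isometryGroup F (⇑Q)))
    (u : ι → F) :
    mapSub Q g (Submodule.span F {u})
      = Submodule.span F {((g : Matrix.GeneralLinearGroup ι F) : Matrix ι ι F) *ᵥ u} := by
  unfold mapSub
  rw [Submodule.map_span, Set.image_singleton]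
  rfl

/-- the action of the isometry group on the singular points -/
noncomputable instance singPtAction (Q : QuadraticForm F (ι → F)) :
    MulAction ↥(Cfsg.isometryGroup F (⇑Q)) (SingPt Q) where
  smul g p := ⟨mapSub Q g p.1, by
    obtain ⟨u, hu0, hu, hp⟩ := p.2
    refine ⟨((g : Matrix.GeneralLinearGroup ι F) : Matrix ι ι F) *ᵥ u,
      mulVec_ne_zero_of_iso Q g u hu0, by rw [isoElt_preserves]; exact hu, ?_⟩
    rw [hp, mapSub_span_singleton]⟩
  one_smul p := Subtype.ext (mapSub_one Q p.1)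
  mul_smul g h p := Subtype.ext (mapSub_mul Q g h p.1)

theorem smul_mkPt (Q : QuadraticForm F (ι → F)) (g : ↥(Cfsg.isometryGroup F (⇑Q)))
    (u : ι → F) (hu0 : u ≠ 0) (hu : Q u = 0) :
    g • mkPt Q u hu0 hu
      = mkPt Q (((g : Matrix.GeneralLinearGroup ι F) : Matrix ι ι F) *ᵥ u)
          (mulVec_ne_zero_of_iso Q g u hu0) (by rw [isoElt_preserves]; exact hu) := by
  apply Subtype.ext
  exact mapSub_span_singleton Q g u

theorem eichlerElt_mem_omega [Fintype F] (Q : QuadraticForm F (ι → F))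
    (hQ : (QuadraticMap.polarBilin Q).Nondegenerate) (hn : 5 ≤ finrank F (ι → F))
    (hn2 : (2 : F) = 0 → 7 ≤ finrank F (ι → F)) (u v : ι → F) (hu : Q u = 0)
    (huv : polar (⇑Q) u v = 0) :
    eichlerElt Q hQ u v hu huv ∈ commutator ↥(Cfsg.isometryGroup F (⇑Q)) := by
  rw [omega_eq_closure_longRoot Q hQ hn hn2]
  exact eichlerElt_mem_closure_longRoot Q hQ hn hn2 u v hu huv

/-- `Ω` is transitive on the singular points -/
theorem omega_pretransitive [Fintype F] (Q : QuadraticForm F (ι → F))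
    (hQ : (QuadraticMap.polarBilin Q).Nondegenerate) (hn : 5 ≤ finrank F (ι → F)) :
    MulAction.IsPretransitive ↥(commutator ↥(Cfsg.isometryGroup F (⇑Q))) (SingPt Q) := by
  constructor
  intro p q
  obtain ⟨u, hu0, hu, rfl⟩ := exists_eq_mkPt Q p
  obtain ⟨v, hv0, hv, rfl⟩ := exists_eq_mkPt Q q
  have h1 : finrank F ↥(Submodule.span F {u}) = 1 := finrank_span_singleton hu0
  have h2 : finrank F ↥(Submodule.span F {v}) = 1 := finrank_span_singleton hv0
  obtain ⟨g, hg, hgm⟩ := omega_transitive_ts Q hQ (Or.inr (by omega)) (Submodule.span F {u})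
    (Submodule.span F {v}) (by omega) (by omega)
    (by
      intro x hx
      obtain ⟨c, rfl⟩ := Submodule.mem_span_singleton.1 hx
      rw [QuadraticMap.map_smul, hu, smul_zero])
    (by
      intro x hx
      obtain ⟨c, rfl⟩ := Submodule.mem_span_singleton.1 hx
      rw [QuadraticMap.map_smul, hv, smul_zero])
  exact ⟨⟨g, hg⟩, Subtype.ext hgm⟩

/-- explicit form of the basic move -/
theorem eichler_move' (Q : QuadraticForm F (ι → F))
    (hQ : (QuadraticMap.polarBilin Q).Nondegenerate) (a b u : ι → F) (hab : Q a = Q b)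
    (hu : Q u = 0) (hub : polar (⇑Q) u (b - a) = 0) (hua : polar (⇑Q) u a ≠ 0) :
    (((eichlerElt Q hQ ((polar (⇑Q) u a)⁻¹ • u) (b - a)
        (by rw [QuadraticMap.map_smul, hu, smul_zero])
        (by rw [polar_smul_left, hub, smul_zero]) : ↥(Cfsg.isometryGroup F (⇑Q))) :
        Matrix.GeneralLinearGroup ι F) : Matrix ι ι F) *ᵥ a = b := by
  rw [eichlerElt_mulVec]
  have h1 : polar (⇑Q) ((polar (⇑Q) u a)⁻¹ • u) a = 1 := by
    rw [polar_smul_left, smul_eq_mul, inv_mul_cancel₀ hua]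
  rw [h1, quad_sub, polar_sub_left, polar_self, hab, polar_comm (⇑Q) b a]
  simp only [nsmul_eq_mul, Nat.cast_ofNat]
  module

/-- an Eichler transformation `E(u', v')` fixes every vector orthogonal to `u'` and `v'` -/
theorem eichlerElt_mulVec_of_orth (Q : QuadraticForm F (ι → F))
    (hQ : (QuadraticMap.polarBilin Q).Nondegenerate) (u v x : ι → F) (hu : Q u = 0)
    (huv : polar (⇑Q) u v = 0) (hux : polar (⇑Q) u x = 0) (hvx : polar (⇑Q) v x = 0) :
    (((eichlerElt Q hQ u v hu huv : ↥(Cfsg.isometryGroup F (⇑Q))) :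
      Matrix.GeneralLinearGroup ι F) : Matrix ι ι F) *ᵥ x = x := by
  rw [eichlerElt_mulVec, hux, hvx]
  simp

section blocks

variable [Fintype F] (Q : QuadraticForm F (ι → F))
  (hQ : (QuadraticMap.polarBilin Q).Nondegenerate) (hn : 5 ≤ finrank F (ι → F))
  (hn2 : (2 : F) = 0 → 7 ≤ finrank F (ι → F))
  {B : Set (SingPt Q)}
  (hB : MulAction.IsBlock ↥(commutator ↥(Cfsg.isometryGroup F (⇑Q))) B)

include hB in
omit [Fintype F] in
theorem block_mem_of_fix (g : ↥(Cfsg.isometryGroup F (⇑Q)))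
    (hg : g ∈ commutator ↥(Cfsg.isometryGroup F (⇑Q))) (p q : SingPt Q) (hp : p ∈ B)
    (hq : q ∈ B) (hgp : g • p = p) : g • q ∈ B := by
  have h1 : (⟨g, hg⟩ : ↥(commutator ↥(Cfsg.isometryGroup F (⇑Q)))) • p ∈ B := by
    rw [Subgroup.smul_def]
    show g • p ∈ B
    rw [hgp]; exact hp
  have h2 := hB.smul_eq_of_mem hp h1
  have h3 : (⟨g, hg⟩ : ↥(commutator ↥(Cfsg.isometryGroup F (⇑Q)))) • q ∈
      (⟨g, hg⟩ : ↥(commutator ↥(Cfsg.isometryGroup F (⇑Q)))) • B := Set.smul_mem_smul_set hq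
  rw [h2] at h3
  exact h3

include hQ hB hn hn2 in
/-- the stabiliser of a point is transitive on the points not collinear with it -/
theorem block_R2 (u a b : ι → F) (hu0 : u ≠ 0) (hu : Q u = 0) (ha0 : a ≠ 0) (ha : Q a = 0)
    (hb0 : b ≠ 0) (hb : Q b = 0) (hua : polar (⇑Q) u a ≠ 0) (hub : polar (⇑Q) u b ≠ 0)
    (hpB : mkPt Q u hu0 hu ∈ B) (haB : mkPt Q a ha0 ha ∈ B) : mkPt Q b hb0 hb ∈ B := by
  obtain ⟨c, hc⟩ : ∃ c : F, c = polar (⇑Q) u a * (polar (⇑Q) u b)⁻¹ := ⟨_, rfl⟩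
  have hc0 : c ≠ 0 := by rw [hc]; exact mul_ne_zero hua (inv_ne_zero hub)
  have hb' : Q (c • b) = 0 := by rw [QuadraticMap.map_smul, hb, smul_zero]
  have hub' : polar (⇑Q) u (c • b - a) = 0 := by
    rw [polar_sub_right, polar_smul_right, hc, smul_eq_mul, mul_assoc, inv_mul_cancel₀ hub,
      mul_one, sub_self]
  have hmove := eichler_move' Q hQ a (c • b) u (by rw [ha, hb']) hu hub' hua
  obtain ⟨g, hg⟩ : ∃ g : ↥(Cfsg.isometryGroup F (⇑Q)), g = eichlerElt Q hQ
      ((polar (⇑Q) u a)⁻¹ • u) (c • b - a) (by rw [QuadraticMap.map_smul, hu, smul_zero])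
      (by rw [polar_smul_left, hub', smul_zero]) := ⟨_, rfl⟩
  rw [← hg] at hmove
  have hgO : g ∈ commutator ↥(Cfsg.isometryGroup F (⇑Q)) := by
    rw [hg]; exact eichlerElt_mem_omega Q hQ hn hn2 _ _ _ _
  have hgu : ((g : Matrix.GeneralLinearGroup ι F) : Matrix ι ι F) *ᵥ u = u := by
    rw [hg]
    apply eichlerElt_mulVec_of_orth
    · rw [polar_smul_left, polar_self, hu]; simp
    · rw [polar_comm]; exact hub'
  have h1 : g • mkPt Q u hu0 hu = mkPt Q u hu0 hu := by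
    rw [smul_mkPt]
    exact mkPt_congr Q _ _ _ _ _ _ hgu
  have h2 := block_mem_of_fix Q hB g hgO _ _ hpB haB h1
  rw [smul_mkPt, mkPt_congr Q _ (c • b) _ _ (smul_ne_zero hc0 hb0) hb' hmove,
    mkPt_smul Q b hb0 hb c hc0] at h2
  exact h2

include hQ hB hn hn2 in
/-- a block containing two non-collinear points is everything -/
theorem block_eq_univ_of_noncollinear (u a : ι → F) (hu0 : u ≠ 0) (hu : Q u = 0) (ha0 : a ≠ 0)
    (ha : Q a = 0) (hua : polar (⇑Q) u a ≠ 0)
    (hpB : mkPt Q u hu0 hu ∈ B) (haB : mkPt Q a ha0 ha ∈ B) : B = Set.univ := by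
  rw [Set.eq_univ_iff_forall]
  intro p
  obtain ⟨r, hr0, hr, rfl⟩ := exists_eq_mkPt Q p
  by_cases hur : polar (⇑Q) u r = 0
  · obtain ⟨y, hyu, hyr⟩ := exists_polar_ne_zero_two Q hQ u r hu0 hr0
    obtain ⟨x, hx⟩ : ∃ x : ι → F, x = y - (Q y * (polar (⇑Q) u y)⁻¹) • u := ⟨_, rfl⟩
    have hxQ : Q x = 0 := by
      rw [hx, quad_sub, QuadraticMap.map_smul, hu, polar_smul_right, polar_comm (⇑Q) y u]
      simp only [smul_eq_mul, mul_zero, add_zero]
      rw [mul_assoc, inv_mul_cancel₀ hyu, mul_one, sub_self]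
    have hux : polar (⇑Q) u x ≠ 0 := by
      rw [hx, polar_sub_right, polar_smul_right, polar_self, hu]
      simpa using hyu
    have hrx : polar (⇑Q) r x ≠ 0 := by
      rw [hx, polar_sub_right, polar_smul_right, polar_comm (⇑Q) r u, hur]
      simpa using hyr
    have hx0 : x ≠ 0 := by
      rintro rfl
      exact hux (polar_zero_right _ _)
    have hxB := block_R2 Q hQ hn hn2 hB u a x hu0 hu ha0 ha hx0 hxQ hua hux hpB haB
    exact block_R2 Q hQ hn hn2 hB x u r hx0 hxQ hu0 hu hr0 hr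
      (by rw [polar_comm]; exact hux) (by rw [polar_comm]; exact hrx) hxB hpB
  · exact block_R2 Q hQ hn hn2 hB u a r hu0 hu ha0 ha hr0 hr hua hur hpB haB

include hQ hB hn hn2 in
/-- a block containing two distinct collinear points is everything -/
theorem block_eq_univ_of_collinear (u v : ι → F) (hu0 : u ≠ 0) (hu : Q u = 0) (hv0 : v ≠ 0)
    (hv : Q v = 0) (huv : polar (⇑Q) u v = 0)
    (hne : mkPt Q u hu0 hu ≠ mkPt Q v hv0 hv)
    (hpB : mkPt Q u hu0 hu ∈ B) (hqB : mkPt Q v hv0 hv ∈ B) : B = Set.univ := by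
  have hnot : v ∉ Submodule.span F ({u} : Set (ι → F)) := by
    intro hmem
    obtain ⟨c, hc⟩ := Submodule.mem_span_singleton.1 hmem
    apply hne
    have hc0 : c ≠ 0 := by
      rintro rfl
      rw [zero_smul] at hc
      exact hv0 hc.symm
    rw [← mkPt_smul Q u hu0 hu c hc0]
    exact mkPt_congr Q _ _ _ _ _ _ hc
  obtain ⟨y, hyu, hyv⟩ := exists_orth_of_notMem Q hQ _ v hnot
  have hyu' : polar (⇑Q) y u = 0 := hyu u (Submodule.mem_span_singleton_self u)
  have hvv : polar (⇑Q) v v = 0 := by rw [polar_self, hv, smul_zero]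
  have hvu : polar (⇑Q) v u = 0 := by rw [polar_comm]; exact huv
  obtain ⟨s, hs⟩ : ∃ s : ι → F, s = y - (Q y * (polar (⇑Q) y v)⁻¹) • v := ⟨_, rfl⟩
  have hsQ : Q s = 0 := by
    rw [hs, quad_sub, QuadraticMap.map_smul, hv, polar_smul_right]
    simp only [smul_eq_mul, mul_zero, add_zero]
    rw [mul_assoc, inv_mul_cancel₀ hyv, mul_one, sub_self]
  have hsu : polar (⇑Q) s u = 0 := by
    rw [hs, polar_sub_left, polar_smul_left, hyu', hvu]
    simp
  have hsv : polar (⇑Q) s v ≠ 0 := by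
    rw [hs, polar_sub_left, polar_smul_left, hvv]
    simpa using hyv
  obtain ⟨w, hw, hwo⟩ := exists_nonsingular_orth_family Q hQ ![u, s] (by omega)
  have hwu : polar (⇑Q) w u = 0 := hwo 0
  have hws : polar (⇑Q) w s = 0 := hwo 1
  have hsw : polar (⇑Q) s w = 0 := by rw [polar_comm]; exact hws
  obtain ⟨g, hg⟩ : ∃ g : ↥(Cfsg.isometryGroup F (⇑Q)), g = eichlerElt Q hQ s w hsQ hsw :=
    ⟨_, rfl⟩
  have hgO : g ∈ commutator ↥(Cfsg.isometryGroup F (⇑Q)) := by
    rw [hg]; exact eichlerElt_mem_omega Q hQ hn hn2 _ _ _ _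
  have hgu : ((g : Matrix.GeneralLinearGroup ι F) : Matrix ι ι F) *ᵥ u = u := by
    rw [hg]
    exact eichlerElt_mulVec_of_orth Q hQ s w u hsQ hsw hsu hwu
  have hgv : polar (⇑Q) v (((g : Matrix.GeneralLinearGroup ι F) : Matrix ι ι F) *ᵥ v) ≠ 0 := by
    rw [hg, eichlerElt_mulVec]
    simp only [polar_add_right, polar_sub_right, polar_smul_right, hvv, smul_eq_mul]
    rw [polar_comm (⇑Q) v w, polar_comm (⇑Q) v s]
    have : 0 + polar (⇑Q) s v * polar (⇑Q) w v - polar (⇑Q) w v * polar (⇑Q) s v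
        - Q w * polar (⇑Q) s v * polar (⇑Q) s v = - (Q w * polar (⇑Q) s v * polar (⇑Q) s v) := by
      ring
    rw [this]
    exact neg_ne_zero.2 (mul_ne_zero (mul_ne_zero hw hsv) hsv)
  have h1 : g • mkPt Q u hu0 hu = mkPt Q u hu0 hu := by
    rw [smul_mkPt]
    exact mkPt_congr Q _ _ _ _ _ _ hgu
  have h2 := block_mem_of_fix Q hB g hgO _ _ hpB hqB h1
  rw [smul_mkPt] at h2
  exact block_eq_univ_of_noncollinear Q hQ hn hn2 hB v _ hv0 hv _ _ hgv hqB h2

end blocks

/-- `Ω` acts primitively on the singular points -/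
theorem omega_isPreprimitive [Fintype F] (Q : QuadraticForm F (ι → F))
    (hQ : (QuadraticMap.polarBilin Q).Nondegenerate) (hn : 5 ≤ finrank F (ι → F))
    (hn2 : (2 : F) = 0 → 7 ≤ finrank F (ι → F)) :
    MulAction.IsPreprimitive ↥(commutator ↥(Cfsg.isometryGroup F (⇑Q))) (SingPt Q) := by
  have := omega_pretransitive Q hQ hn
  constructor
  intro B hB
  by_cases hsub : B.Subsingleton
  · exact Or.inl hsub
  · right
    rw [Set.not_subsingleton_iff] at hsub
    obtain ⟨p, hp, q, hq, hpq⟩ := hsub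
    obtain ⟨u, hu0, hu, rfl⟩ := exists_eq_mkPt Q p
    obtain ⟨v, hv0, hv, rfl⟩ := exists_eq_mkPt Q q
    by_cases huv : polar (⇑Q) u v = 0
    · exact block_eq_univ_of_collinear Q hQ hn hn2 hB u v hu0 hu hv0 hv huv hpq hp hq
    · exact block_eq_univ_of_noncollinear Q hQ hn hn2 hB u v hu0 hu hv0 hv huv hp hq

end Cfsg.Agent.Lib.Helper8
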