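import Mathlib
import Cfsg.Prelude.Def_ClassicalGeometry
import Cfsg.Agent.Lib.Helper8.OmegaPoints
import Cfsg.Agent.Lib.Helper43.Witt

set_option autoImplicit false

namespace Cfsg.Agent.Lib.Helper8

open Matrix Module QuadraticMap
open Cfsg.Agent.Lib.Helper13
open scoped commutatorElement Pointwise

variable {ι : Type} [Fintype ι] [DecidableEq ι] {F : Type*} [Field F]

/-- the Eichler transformations attached to the vectors of a subspace -/
def rootSet (Q : QuadraticForm F (ι → F)) (hQ : (QuadraticMap.polarBilin Q).Nondegenerate)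
    (W : Submodule F (ι → F)) : Set ↥(Cfsg.isometryGroup F (⇑Q)) :=
  {g | ∃ (u v : ι → F) (hu : Q u = 0) (huv : polar (⇑Q) u v = 0), u ∈ W ∧
    g = eichlerElt Q hQ u v hu huv}

theorem eichlerElt_zero_left (Q : QuadraticForm F (ι → F))
    (hQ : (QuadraticMap.polarBilin Q).Nondegenerate) (v : ι → F) :
    eichlerElt Q hQ 0 v (QuadraticMap.map_zero _) (polar_zero_left _ _) = 1 := by
  apply iso_ext
  intro x
  rw [eichlerElt_mulVec]
  simp

theorem mem_rootSet_span (Q : QuadraticForm F (ι → F))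
    (hQ : (QuadraticMap.polarBilin Q).Nondegenerate) (u₀ : ι → F) (hu₀ : Q u₀ = 0)
    (g : ↥(Cfsg.isometryGroup F (⇑Q))) :
    g ∈ rootSet Q hQ (Submodule.span F {u₀}) ↔
      ∃ (v : ι → F) (huv : polar (⇑Q) u₀ v = 0), g = eichlerElt Q hQ u₀ v hu₀ huv := by
  constructor
  · rintro ⟨u, v, hu, huv, huW, rfl⟩
    obtain ⟨c, hc⟩ := Submodule.mem_span_singleton.1 huW
    subst hc
    by_cases hc : c = 0
    · subst hc
      refine ⟨0, polar_zero_right _ _, ?_⟩
      rw [eichlerElt_zero]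
      rw [eichlerElt_congr Q hQ ((0 : F) • u₀) v 0 v hu huv (QuadraticMap.map_zero _)
        (polar_zero_left _ _) (zero_smul _ _) rfl]
      exact eichlerElt_zero_left Q hQ v
    · have huv' : polar (⇑Q) u₀ v = 0 := by
        rw [polar_smul_left, smul_eq_mul] at huv
        rcases mul_eq_zero.1 huv with h | h
        · exact absurd h hc
        · exact h
      exact ⟨c • v, by rw [polar_smul_right, huv', smul_zero],
        eichlerElt_smul_left Q hQ u₀ v hu₀ huv' c⟩
  · rintro ⟨v, huv, rfl⟩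
    exact ⟨u₀, v, hu₀, huv, Submodule.mem_span_singleton_self u₀, rfl⟩

/-- the root subgroup attached to a singular point -/
noncomputable def rootSubO (Q : QuadraticForm F (ι → F))
    (hQ : (QuadraticMap.polarBilin Q).Nondegenerate) (p : SingPt Q) :
    Subgroup ↥(Cfsg.isometryGroup F (⇑Q)) where
  carrier := rootSet Q hQ p.1
  mul_mem' := by
    intro a b ha hb
    obtain ⟨u₀, hu0, hu₀, hp⟩ := p.2
    rw [hp, mem_rootSet_span Q hQ u₀ hu₀] at ha hb ⊢
    obtain ⟨v, hv, rfl⟩ := ha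
    obtain ⟨w, hw, rfl⟩ := hb
    exact ⟨v + w, _, eichlerElt_mul Q hQ u₀ v w hu₀ hv hw⟩
  one_mem' := ⟨0, 0, QuadraticMap.map_zero _, polar_zero_left _ _, zero_mem _,
    (eichlerElt_zero_left Q hQ 0).symm⟩
  inv_mem' := by
    rintro _ ⟨u, v, hu, huv, huW, rfl⟩
    exact ⟨u, -v, hu, _, huW, eichlerElt_inv Q hQ u v hu huv⟩

theorem mem_rootSubO (Q : QuadraticForm F (ι → F))
    (hQ : (QuadraticMap.polarBilin Q).Nondegenerate) (p : SingPt Q)
    (g : ↥(Cfsg.isometryGroup F (⇑Q))) : g ∈ rootSubO Q hQ p ↔ g ∈ rootSet Q hQ p.1 := Iff.rfl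

theorem rootSubO_comm (Q : QuadraticForm F (ι → F))
    (hQ : (QuadraticMap.polarBilin Q).Nondegenerate) (p : SingPt Q) :
    IsMulCommutative ↥(rootSubO Q hQ p) := by
  apply IsMulCommutative.of_setLike_mul_comm
  intro a ha b hb
  rw [mem_rootSubO] at ha hb
  obtain ⟨u₀, hu0, hu₀, hp⟩ := p.2
  rw [hp, mem_rootSet_span Q hQ u₀ hu₀] at ha hb
  obtain ⟨v, hv, rfl⟩ := ha
  obtain ⟨w, hw, rfl⟩ := hb
  exact eichlerElt_comm Q hQ u₀ v w hu₀ hv hw

/-- conjugation of root sets -/
theorem rootSet_conj (Q : QuadraticForm F (ι → F))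
    (hQ : (QuadraticMap.polarBilin Q).Nondegenerate) (g h : ↥(Cfsg.isometryGroup F (⇑Q)))
    (W : Submodule F (ι → F)) :
    h ∈ rootSet Q hQ (mapSub Q g W) ↔ g⁻¹ * h * g ∈ rootSet Q hQ W := by
  constructor
  · rintro ⟨u, v, hu, huv, huW, rfl⟩
    obtain ⟨u', hu'W, hu'⟩ := (mem_mapSub Q g W u).1 huW
    have h1 := conj_eichlerElt Q hQ g⁻¹ u v hu huv
    rw [inv_inv] at h1
    rw [h1]
    refine ⟨_, _, _, _, ?_, rfl⟩
    rw [← hu', coe_inv_mulVec']
    exact hu'W
  · rintro ⟨u, v, hu, huv, huW, hh⟩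
    have h1 := conj_eichlerElt Q hQ g u v hu huv
    rw [← hh] at h1
    have h2 : g * (g⁻¹ * h * g) * g⁻¹ = h := by group
    rw [h2] at h1
    rw [h1]
    refine ⟨_, _, _, _, ?_, rfl⟩
    exact (mem_mapSub Q g W _).2 ⟨u, huW, rfl⟩

theorem omega_smul_val (Q : QuadraticForm F (ι → F))
    (g : ↥(commutator ↥(Cfsg.isometryGroup F (⇑Q)))) (p : SingPt Q) :
    (g • p).1 = mapSub Q (g : ↥(Cfsg.isometryGroup F (⇑Q))) p.1 := rfl

/-- the Iwasawa structure on the singular points -/
noncomputable def omegaIwasawa [Fintype F] (Q : QuadraticForm F (ι → F))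
    (hQ : (QuadraticMap.polarBilin Q).Nondegenerate) (hn : 5 ≤ finrank F (ι → F))
    (hn2 : (2 : F) = 0 → 7 ≤ finrank F (ι → F)) :
    MulAction.IwasawaStructure ↥(commutator ↥(Cfsg.isometryGroup F (⇑Q))) (SingPt Q) where
  T := fun p => (rootSubO Q hQ p).subgroupOf (commutator ↥(Cfsg.isometryGroup F (⇑Q)))
  is_comm := fun p => by
    have := rootSubO_comm Q hQ p
    infer_instance
  is_conj := by
    intro g p
    ext h
    rw [Subgroup.mem_pointwise_smul_iff_inv_smul_mem, Subgroup.mem_subgroupOf,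
      Subgroup.mem_subgroupOf, mem_rootSubO, mem_rootSubO, omega_smul_val, rootSet_conj]
    simp only [MulAut.smul_def, MulAut.inv_apply, MulAut.conj_symm_apply, Subgroup.coe_mul,
      Subgroup.coe_inv]
  is_generator := by
    rw [eq_top_iff]
    intro x _
    have hx : (x : ↥(Cfsg.isometryGroup F (⇑Q))) ∈ Subgroup.closure (longRootSet Q hQ) := by
      rw [← omega_eq_closure_longRoot Q hQ hn hn2]; exact x.2
    have hle : Subgroup.closure (longRootSet Q hQ) ≤
        (⨆ p : SingPt Q, (rootSubO Q hQ p).subgroupOf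
          (commutator ↥(Cfsg.isometryGroup F (⇑Q)))).map
          (commutator ↥(Cfsg.isometryGroup F (⇑Q))).subtype := by
      rw [Subgroup.closure_le]
      rintro g ⟨u, v, hu, huv, hv, rfl⟩
      by_cases hu0 : u = 0
      · subst hu0
        rw [eichlerElt_zero_left]
        exact Subgroup.one_mem _
      · refine ⟨⟨eichlerElt Q hQ u v hu huv, eichlerElt_mem_omega Q hQ hn hn2 u v hu huv⟩,
          ?_, rfl⟩
        apply Subgroup.mem_iSup_of_mem (mkPt Q u hu0 hu)
        rw [Subgroup.mem_subgroupOf]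
        exact ⟨u, v, hu, huv, Submodule.mem_span_singleton_self u, rfl⟩
    obtain ⟨y, hy, hyx⟩ := hle hx
    have : y = x := Subtype.ext hyx
    rwa [← this]

/-- an element of a normal subgroup of `Ω` acting trivially on the singular points commutes with
every Eichler transformation -/
theorem commute_eichler_of_fix [Fintype F] (Q : QuadraticForm F (ι → F))
    (hQ : (QuadraticMap.polarBilin Q).Nondegenerate) (hn : 5 ≤ finrank F (ι → F))
    (hn2 : (2 : F) = 0 → 7 ≤ finrank F (ι → F))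
    (N : Subgroup ↥(commutator ↥(Cfsg.isometryGroup F (⇑Q)))) (hN : N.Normal)
    (hfix : ∀ n ∈ N, ∀ p : SingPt Q, n • p = p)
    (n : ↥(commutator ↥(Cfsg.isometryGroup F (⇑Q)))) (hnN : n ∈ N)
    (u v : ι → F) (hu : Q u = 0) (huv : polar (⇑Q) u v = 0) :
    (n : ↥(Cfsg.isometryGroup F (⇑Q))) * eichlerElt Q hQ u v hu huv
      = eichlerElt Q hQ u v hu huv * (n : ↥(Cfsg.isometryGroup F (⇑Q))) := by
  by_cases hu0 : u = 0
  · subst hu0
    rw [eichlerElt_zero_left, mul_one, one_mul]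
  obtain ⟨n₀, hn₀⟩ : ∃ n₀ : ↥(Cfsg.isometryGroup F (⇑Q)),
      n₀ = (n : ↥(Cfsg.isometryGroup F (⇑Q))) := ⟨_, rfl⟩
  rw [← hn₀]
  obtain ⟨t', ht'⟩ : ∃ t' : ↥(commutator ↥(Cfsg.isometryGroup F (⇑Q))),
      t' = ⟨eichlerElt Q hQ u v hu huv, eichlerElt_mem_omega Q hQ hn hn2 u v hu huv⟩ := ⟨_, rfl⟩
  have hc'N : n * t' * n⁻¹ * t'⁻¹ ∈ N := by
    have h1 : t' * n⁻¹ * t'⁻¹ ∈ N := hN.conj_mem n⁻¹ (N.inv_mem hnN) t'
    have h2 : n * t' * n⁻¹ * t'⁻¹ = n * (t' * n⁻¹ * t'⁻¹) := by group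
    rw [h2]
    exact N.mul_mem hnN h1
  -- `n` scales `u`
  have hfu := hfix n hnN (mkPt Q u hu0 hu)
  rw [Subgroup.smul_def, ← hn₀, smul_mkPt] at hfu
  obtain ⟨l, hl⟩ := exists_smul_of_mkPt_eq Q _ _ _ _ _ _ hfu.symm
  have hl0 : l ≠ 0 := by
    rintro rfl
    rw [zero_smul] at hl
    exact mulVec_ne_zero_of_iso Q n₀ u hu0 hl.symm
  have hunv : polar (⇑Q) u (((n₀ : Matrix.GeneralLinearGroup ι F) : Matrix ι ι F) *ᵥ v) = 0 := by
    have h1 := iso_polar Q n₀ u v
    rw [← hl, polar_smul_left, huv, smul_eq_mul] at h1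
    rcases mul_eq_zero.1 h1 with h | h
    · exact absurd h hl0
    · exact h
  -- the commutator as an Eichler transformation
  obtain ⟨v₀, hv₀⟩ : ∃ v₀ : ι → F,
      v₀ = l • (((n₀ : Matrix.GeneralLinearGroup ι F) : Matrix ι ι F) *ᵥ v) + -v := ⟨_, rfl⟩
  have huv₀ : polar (⇑Q) u v₀ = 0 := by
    rw [hv₀, polar_add_right, polar_smul_right, hunv, polar_neg_right, huv]
    simp
  have hcomm : n₀ * eichlerElt Q hQ u v hu huv * n₀⁻¹ * (eichlerElt Q hQ u v hu huv)⁻¹
      = eichlerElt Q hQ u v₀ hu huv₀ := by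
    rw [conj_eichlerElt, eichlerElt_inv]
    rw [eichlerElt_congr Q hQ _ _ (l • u)
      (((n₀ : Matrix.GeneralLinearGroup ι F) : Matrix ι ι F) *ᵥ v) _ _
      (by rw [QuadraticMap.map_smul, hu, smul_zero])
      (by rw [polar_smul_left, hunv, smul_zero]) hl.symm rfl]
    rw [eichlerElt_smul_left Q hQ u _ hu hunv l, eichlerElt_mul]
    exact eichlerElt_congr Q hQ _ _ _ _ _ _ _ _ rfl hv₀.symm
  -- the commutator fixes the point spanned by a hyperbolic partner
  obtain ⟨f, hf, huf⟩ := exists_hyp_partner Q hQ u hu0 hu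
  have hf0 : f ≠ 0 := by
    rintro rfl
    rw [polar_zero_right] at huf
    exact zero_ne_one huf
  have hff := hfix _ hc'N (mkPt Q f hf0 hf)
  have hcoe : ((n * t' * n⁻¹ * t'⁻¹ : ↥(commutator ↥(Cfsg.isometryGroup F (⇑Q)))) :
      ↥(Cfsg.isometryGroup F (⇑Q))) = eichlerElt Q hQ u v₀ hu huv₀ := by
    rw [← hcomm, ht', hn₀]
    rfl
  rw [Subgroup.smul_def, hcoe, smul_mkPt] at hff
  obtain ⟨μ, hμ⟩ := exists_smul_of_mkPt_eq Q _ _ _ _ _ _ hff.symm
  rw [eichlerElt_mulVec, huf] at hμ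
  have huu : polar (⇑Q) u u = 0 := by rw [polar_self, hu, smul_zero]
  have hμ1 : μ = 1 := by
    have h1 := congrArg (fun z => polar (⇑Q) u z) hμ
    simp only [polar_smul_right, polar_add_right, polar_sub_right, huf, huv₀, huu, smul_eq_mul,
      mul_one, mul_zero, add_zero, sub_zero] at h1
    exact h1
  rw [hμ1, one_smul, one_smul, mul_one] at hμ
  have hv₀u : v₀ = (polar (⇑Q) v₀ f + Q v₀) • u := by
    have h2 : f + v₀ - polar (⇑Q) v₀ f • u - Q v₀ • u - f = 0 := by rw [← hμ]; abel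
    have h3 : v₀ - (polar (⇑Q) v₀ f + Q v₀) • u = 0 := by
      rw [← h2, add_smul]; abel
    exact sub_eq_zero.1 h3
  have hone : eichlerElt Q hQ u v₀ hu huv₀ = 1 := by
    rw [eichlerElt_congr Q hQ u v₀ u (0 + (polar (⇑Q) v₀ f + Q v₀) • u) hu huv₀ hu
      (by rw [zero_add, polar_smul_right, huu, smul_zero]) rfl (by rw [zero_add]; exact hv₀u)]
    rw [eichlerElt_add_smul Q hQ u 0 hu (polar_zero_right _ _), eichlerElt_zero]
  rw [hone] at hcomm
  have h4 : n₀ * eichlerElt Q hQ u v hu huv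
      = (n₀ * eichlerElt Q hQ u v hu huv * n₀⁻¹ * (eichlerElt Q hQ u v hu huv)⁻¹)
        * (eichlerElt Q hQ u v hu huv * n₀) := by group
  rw [h4, hcomm, one_mul]

/-- a normal subgroup of `Ω` acting trivially on the singular points is central -/
theorem le_center_of_fix [Fintype F] (Q : QuadraticForm F (ι → F))
    (hQ : (QuadraticMap.polarBilin Q).Nondegenerate) (hn : 5 ≤ finrank F (ι → F))
    (hn2 : (2 : F) = 0 → 7 ≤ finrank F (ι → F))
    (N : Subgroup ↥(commutator ↥(Cfsg.isometryGroup F (⇑Q)))) (hN : N.Normal)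
    (hfix : ∀ n ∈ N, ∀ p : SingPt Q, n • p = p) :
    N ≤ Subgroup.center ↥(commutator ↥(Cfsg.isometryGroup F (⇑Q))) := by
  intro n hnN
  rw [Subgroup.mem_center_iff]
  intro x
  have hle : Subgroup.closure (longRootSet Q hQ) ≤
      Subgroup.centralizer {(n : ↥(Cfsg.isometryGroup F (⇑Q)))} := by
    rw [Subgroup.closure_le]
    rintro g ⟨u, v, hu, huv, hv, rfl⟩
    rw [SetLike.mem_coe, Subgroup.mem_centralizer_iff]
    intro h hh
    rw [Set.mem_singleton_iff] at hh
    subst hh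
    exact commute_eichler_of_fix Q hQ hn hn2 N hN hfix n hnN u v hu huv
  have hx : (x : ↥(Cfsg.isometryGroup F (⇑Q))) ∈ Subgroup.closure (longRootSet Q hQ) := by
    rw [← omega_eq_closure_longRoot Q hQ hn hn2]; exact x.2
  have h1 := Subgroup.mem_centralizer_iff.1 (hle hx) _ rfl
  apply Subtype.ext
  rw [Subgroup.coe_mul, Subgroup.coe_mul]
  exact h1.symm

/-- `Ω` is perfect, as a group -/
theorem commutator_omega_eq_top [Fintype F] (Q : QuadraticForm F (ι → F))
    (hQ : (QuadraticMap.polarBilin Q).Nondegenerate) (hn : 5 ≤ finrank F (ι → F))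
    (hn2 : (2 : F) = 0 → 7 ≤ finrank F (ι → F)) :
    commutator ↥(commutator ↥(Cfsg.isometryGroup F (⇑Q))) = ⊤ := by
  apply Subgroup.map_injective (commutator ↥(Cfsg.isometryGroup F (⇑Q))).subtype_injective
  rw [Subgroup.map_subtype_commutator, omega_perfect Q hQ hn hn2, ← MonoidHom.range_eq_map,
    Subgroup.range_subtype]

/-- `PΩ` is simple -/
theorem pomega_simple [Fintype F] (Q : QuadraticForm F (ι → F))
    (hQ : (QuadraticMap.polarBilin Q).Nondegenerate) (hn : 5 ≤ finrank F (ι → F))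
    (hn2 : (2 : F) = 0 → 7 ≤ finrank F (ι → F)) :
    IsSimpleGroup (↥(commutator ↥(Cfsg.isometryGroup F (⇑Q))) ⧸
      Subgroup.center ↥(commutator ↥(Cfsg.isometryGroup F (⇑Q)))) := by
  set G := ↥(commutator ↥(Cfsg.isometryGroup F (⇑Q))) with hG
  have hperf : commutator G = ⊤ := commutator_omega_eq_top Q hQ hn hn2
  have hprim : MulAction.IsPreprimitive G (SingPt Q) := omega_isPreprimitive Q hQ hn hn2
  -- a normal subgroup is central or everything
  have key : ∀ N : Subgroup G, N.Normal → N ≤ Subgroup.center G ∨ N = ⊤ := by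
    intro N hN
    by_cases hfix : MulAction.fixedPoints N (SingPt Q) = Set.univ
    · left
      apply le_center_of_fix Q hQ hn hn2 N hN
      intro n hnN p
      have hp : p ∈ MulAction.fixedPoints N (SingPt Q) := by rw [hfix]; trivial
      exact hp ⟨n, hnN⟩
    · right
      have := (omegaIwasawa Q hQ hn hn2).commutator_le N hfix
      rw [hperf] at this
      exact top_le_iff.1 this
  -- the center is not everything
  have hcne : Subgroup.center G ≠ ⊤ := by
    intro hc
    have hcomm : commutator G = ⊥ := by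
      rw [eq_bot_iff, commutator_def G, Subgroup.commutator_le]
      intro a _ b _
      rw [Subgroup.mem_bot, commutatorElement_eq_one_iff_mul_comm]
      have : b ∈ Subgroup.center G := by rw [hc]; exact Subgroup.mem_top b
      exact (Subgroup.mem_center_iff.1 this a)
    rw [hperf] at hcomm
    -- two distinct singular points
    have hfr : 3 ≤ finrank F (ι → F) := by omega
    obtain ⟨u, hu0, hu⟩ := Cfsg.Agent.Lib.Helper43.exists_singular Q hQ hfr
    obtain ⟨f, hf, huf⟩ := exists_hyp_partner Q hQ u hu0 hu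
    have hf0 : f ≠ 0 := by
      rintro rfl
      rw [polar_zero_right] at huf
      exact zero_ne_one huf
    have := omega_pretransitive Q hQ hn
    obtain ⟨g, hg⟩ := MulAction.exists_smul_eq G (mkPt Q u hu0 hu) (mkPt Q f hf0 hf)
    have hg1 : g = 1 := by
      have : g ∈ (⊤ : Subgroup G) := Subgroup.mem_top g
      rw [hcomm, Subgroup.mem_bot] at this
      exact this
    rw [hg1, one_smul] at hg
    obtain ⟨c, hc'⟩ := exists_smul_of_mkPt_eq Q _ _ _ _ _ _ hg
    have h1 : polar (⇑Q) u f = 0 := by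
      rw [← hc', polar_smul_right, polar_self, hu]
      simp
    rw [h1] at huf
    exact zero_ne_one huf
  -- conclude
  have hnt : Nontrivial (G ⧸ Subgroup.center G) := by
    obtain ⟨g, hg⟩ : ∃ g : G, g ∉ Subgroup.center G := by
      by_contra hcon
      push Not at hcon
      exact hcne (eq_top_iff.2 (fun g _ => hcon g))
    refine ⟨⟨(g : G ⧸ Subgroup.center G), 1, ?_⟩⟩
    intro h1
    exact hg ((QuotientGroup.eq_one_iff g).1 h1)
  refine @IsSimpleGroup.mk _ _ hnt ?_
  intro H hH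
  have hN : (H.comap (QuotientGroup.mk' (Subgroup.center G))).Normal := hH.comap _
  rcases key _ hN with h1 | h1
  · left
    rw [eq_bot_iff]
    intro x hx
    obtain ⟨g, rfl⟩ := QuotientGroup.mk_surjective x
    have hg : g ∈ H.comap (QuotientGroup.mk' (Subgroup.center G)) := hx
    rw [Subgroup.mem_bot]
    exact (QuotientGroup.eq_one_iff g).2 (h1 hg)
  · right
    rw [eq_top_iff]
    intro x _
    obtain ⟨g, rfl⟩ := QuotientGroup.mk_surjective x
    have hg : g ∈ H.comap (QuotientGroup.mk' (Subgroup.center G)) := by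
      rw [h1]; exact Subgroup.mem_top g
    exact hg

end Cfsg.Agent.Lib.Helper8
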