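import Mathlib
import Cfsg.Agent.Lib.Helper43.OrthCardForms
import Cfsg.Agent.Lib.Helper43.OrthCardMinus
import Cfsg.Agent.Lib.Helper8.CartanDieudonne2

/-!
# Counting nonsingular points of quadrics in characteristic two
-/

set_option autoImplicit false

namespace Cfsg.Agent.Lib.Helper8

open Module QuadraticMap

section generic

variable {F : Type*} [Field F] {V : Type*} [AddCommGroup V] [Module F V]

theorem eq_one_of_mul_self_char2 (h2 : (2 : F) = 0) (c : F) (hc : c * c = 1) : c = 1 := by
  have h : (c - 1) * (c - 1) = 0 := by linear_combination hc + (1 - c) * h2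
  exact sub_eq_zero.1 (mul_self_eq_zero.1 h)

theorem eq_of_mul_self_eq_char2 (h2 : (2 : F) = 0) (c d : F) (hc : c * c = d * d) : c = d := by
  have h : (c - d) * (c - d) = 0 := by linear_combination hc + (d * d - c * d) * h2
  exact sub_eq_zero.1 (mul_self_eq_zero.1 h)

/-- in characteristic two the nonsingular points correspond to the vectors of norm one -/
theorem card_nonsing_lines_eq [Finite F] [FiniteDimensional F V] (h2 : (2 : F) = 0)
    (Q : QuadraticForm F V) :
    Nat.card {W : Submodule F V // finrank F ↥W = 1 ∧ ∃ v ∈ W, Q v ≠ 0}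
      = Nat.card {v : V // Q v = 1} := by
  symm
  have hne : ∀ v : {v : V // Q v = 1}, v.1 ≠ 0 := by
    rintro ⟨v, hv⟩ rfl
    rw [map_zero] at hv
    exact zero_ne_one hv
  let Φ : {v : V // Q v = 1} → {W : Submodule F V // finrank F ↥W = 1 ∧ ∃ v ∈ W, Q v ≠ 0} :=
    fun v => ⟨Submodule.span F {v.1}, finrank_span_singleton (hne v), v.1,
      Submodule.mem_span_singleton_self _, by rw [v.2]; exact one_ne_zero⟩
  refine Nat.card_congr (Equiv.ofBijective Φ ⟨?_, ?_⟩)
  · rintro ⟨v, hv⟩ ⟨v', hv'⟩ h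
    have h1 : Submodule.span F {v} = Submodule.span F {v'} := congrArg Subtype.val h
    have h3 : v ∈ Submodule.span F {v'} := by
      rw [← h1]; exact Submodule.mem_span_singleton_self _
    obtain ⟨c, hc⟩ := Submodule.mem_span_singleton.1 h3
    have hq : c * c = 1 := by
      have := hv
      rw [← hc, QuadraticMap.map_smul, hv', smul_eq_mul, mul_one] at this
      exact this
    have hc1 := eq_one_of_mul_self_char2 h2 c hq
    rw [hc1, one_smul] at hc
    exact Subtype.ext hc.symm
  · rintro ⟨W, hW1, v, hvW, hv⟩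
    obtain ⟨s, hs⟩ := exists_sq_char2 h2 (Q v)⁻¹
    have hq : Q (s • v) = 1 := by
      rw [QuadraticMap.map_smul, hs, smul_eq_mul, inv_mul_cancel₀ hv]
    refine ⟨⟨s • v, hq⟩, Subtype.ext ?_⟩
    show Submodule.span F {s • v} = W
    have hne' : s • v ≠ 0 := by
      intro h0
      rw [h0, map_zero] at hq
      exact zero_ne_one hq
    apply Submodule.eq_of_le_of_finrank_eq
    · rw [Submodule.span_le, Set.singleton_subset_iff]
      exact W.smul_mem s hvW
    · rw [finrank_span_singleton hne', hW1]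

/-- the vectors of norm one against the singular vectors, in characteristic two -/
theorem card_norm_one_char2 [Fintype F] [Finite V] (h2 : (2 : F) = 0) (Q : QuadraticForm F V) :
    (Fintype.card F - 1) * Nat.card {v : V // Q v = 1} + Nat.card {v : V // Q v = 0}
      = Nat.card V := by
  classical
  let Φ : Fˣ × {v : V // Q v = 1} → {v : V // ¬ Q v = 0} :=
    fun p => ⟨(p.1 : F) • p.2.1, by
      rw [QuadraticMap.map_smul, p.2.2, smul_eq_mul, mul_one]
      exact mul_ne_zero p.1.ne_zero p.1.ne_zero⟩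
  have hΦ : Function.Bijective Φ := by
    constructor
    · rintro ⟨c, v, hv⟩ ⟨c', v', hv'⟩ h
      have h1 : (c : F) • v = (c' : F) • v' := congrArg Subtype.val h
      have hq : (c : F) * c = (c' : F) * c' := by
        have := congrArg Q h1
        rw [QuadraticMap.map_smul, QuadraticMap.map_smul, hv, hv', smul_eq_mul, smul_eq_mul,
          mul_one, mul_one] at this
        exact this
      have hcc : (c : F) = c' := eq_of_mul_self_eq_char2 h2 _ _ hq
      have hcu : c = c' := Units.ext hcc
      subst hcu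
      have hvv : v = v' := by
        have := congrArg (fun x => ((c : F))⁻¹ • x) h1
        simp only [smul_smul, inv_mul_cancel₀ c.ne_zero, one_smul] at this
        exact this
      subst hvv
      rfl
    · rintro ⟨w, hw⟩
      obtain ⟨s, hs⟩ := exists_sq_char2 h2 (Q w)
      have hs0 : s ≠ 0 := by
        rintro rfl
        rw [mul_zero] at hs
        exact hw hs.symm
      refine ⟨(Units.mk0 s hs0, ⟨s⁻¹ • w, ?_⟩), Subtype.ext ?_⟩
      · rw [QuadraticMap.map_smul, ← hs, smul_eq_mul]
        field_simp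
      · show (s : F) • (s⁻¹ • w) = w
        rw [smul_smul, mul_inv_cancel₀ hs0, one_smul]
  have h1 : Nat.card {v : V // ¬ Q v = 0} = (Fintype.card F - 1) * Nat.card {v : V // Q v = 1} := by
    rw [← Nat.card_congr (Equiv.ofBijective Φ hΦ), Nat.card_prod, Nat.card_units,
      Nat.card_eq_fintype_card]
  rw [← h1, add_comm, ← Nat.card_sum]
  exact Nat.card_congr (Equiv.sumCompl (fun v : V => Q v = 0))

end generic

section forms

open Cfsg.Agent.Lib.Helper43

variable (F : Type*) [Field F] [Fintype F]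

/-- the number of vectors of norm one for the form of plus type, characteristic two -/
theorem card_norm_one_plus (h2 : (2 : F) = 0) (k : ℕ) :
    Nat.card {v : Fin (k + 1) ⊕ Fin (k + 1) → F // plusForm (k + 1) F v = 1}
      = Fintype.card F ^ k * (Fintype.card F ^ (k + 1) - 1) := by
  have hQ₁ : (polarBilin (0 : QuadraticForm F (Fin 0 → F))).Nondegenerate :=
    ⟨fun x _ => Subsingleton.elim _ _, fun x _ => Subsingleton.elim _ _⟩
  obtain ⟨-, hz, -⟩ := card_OG_family (0 : QuadraticForm F (Fin 0 → F)) hQ₁ (k + 1) _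
    (plusForm (k + 1) F) _ _ _ (plus_family (k + 1) F)
  have hn : finrank F (Fin 0 → F) = 0 := by simp
  have hz1 : Nat.card {x : Fin 0 → F // (0 : QuadraticForm F (Fin 0 → F)) x = 0} = 1 := by
    rw [Nat.card_eq_one_iff_unique]
    exact ⟨⟨fun x y => Subtype.ext (Subsingleton.elim _ _)⟩, ⟨⟨0, by simp⟩⟩⟩
  have hq1 : 1 ≤ Fintype.card F := Fintype.card_pos
  have hq2 : 2 ≤ Fintype.card F := Fintype.one_lt_card
  rw [hn, hz1, ZZ_plus _ hq1] at hz
  have main := card_norm_one_char2 h2 (plusForm (k + 1) F)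
  rw [hz, Nat.card_eq_fintype_card (α := Fin (k + 1) ⊕ Fin (k + 1) → F), Fintype.card_fun,
    Fintype.card_sum, Fintype.card_fin] at main
  have hA : 1 ≤ Fintype.card F ^ k := Nat.one_le_pow _ _ hq1
  have hB : 1 ≤ Fintype.card F ^ (k + 1) := Nat.one_le_pow _ _ hq1
  have key : (Fintype.card F - 1) * (Fintype.card F ^ k * (Fintype.card F ^ (k + 1) - 1))
      + ((Fintype.card F ^ (k + 1) - 1) * (Fintype.card F ^ k + 1) + 1)
      = Fintype.card F ^ (k + 1 + (k + 1)) := by
    zify [hq1, hA, hB]
    ring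
  have h3 : (Fintype.card F - 1) * Nat.card {v : Fin (k + 1) ⊕ Fin (k + 1) → F //
      plusForm (k + 1) F v = 1}
      = (Fintype.card F - 1) * (Fintype.card F ^ k * (Fintype.card F ^ (k + 1) - 1)) := by
    omega
  exact Nat.eq_of_mul_eq_mul_left (by omega) h3

/-- the number of vectors of norm one for the form of minus type, characteristic two -/
theorem card_norm_one_minus (h2 : (2 : F) = 0) (m : ℕ) (a b : F)
    (hab : ∀ z₁ z₂ : F, z₁ ^ 2 + a * z₁ * z₂ + b * z₂ ^ 2 = 0 → z₁ = 0 ∧ z₂ = 0) :
    Nat.card {v : (Fin m ⊕ Fin m) ⊕ Fin 2 → F // minusForm m F a b v = 1}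
      = Fintype.card F ^ m * (Fintype.card F ^ (m + 1) + 1) := by
  obtain ⟨-, hz, -⟩ := card_OG_family (minusForm 0 F a b)
    (minusForm_zero_nondegenerate F a b hab) m _
    (minusForm m F a b) _ _ _ (minus_family m F a b)
  have hn : finrank F ((Fin 0 ⊕ Fin 0) ⊕ Fin 2 → F) = 2 := by
    rw [Module.finrank_fintype_fun_eq_card]
    simp
  have hz1 : Nat.card {x : (Fin 0 ⊕ Fin 0) ⊕ Fin 2 → F // minusForm 0 F a b x = 0} = 1 := by
    rw [Nat.card_eq_one_iff_unique]
    refine ⟨⟨fun x y => Subtype.ext ?_⟩, ⟨⟨0, by simp⟩⟩⟩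
    rw [minusForm_zero_anisotropic F a b hab x.1 x.2, minusForm_zero_anisotropic F a b hab y.1 y.2]
  have hq1 : 1 ≤ Fintype.card F := Fintype.card_pos
  have hq2 : 2 ≤ Fintype.card F := Fintype.one_lt_card
  rw [hn, hz1, ZZ_minus _ hq1] at hz
  have main := card_norm_one_char2 h2 (minusForm m F a b)
  rw [hz, Nat.card_eq_fintype_card (α := (Fin m ⊕ Fin m) ⊕ Fin 2 → F), Fintype.card_fun,
    Fintype.card_sum, Fintype.card_sum, Fintype.card_fin, Fintype.card_fin] at main
  have hA : 1 ≤ Fintype.card F ^ m := Nat.one_le_pow _ _ hq1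
  have hB : 1 ≤ Fintype.card F ^ (m + 1) := Nat.one_le_pow _ _ hq1
  have key : (Fintype.card F - 1) * (Fintype.card F ^ m * (Fintype.card F ^ (m + 1) + 1))
      + ((Fintype.card F ^ (m + 1) + 1) * (Fintype.card F ^ m - 1) + 1)
      = Fintype.card F ^ (m + m + 2) := by
    zify [hq1, hA, hB]
    ring
  have h3 : (Fintype.card F - 1) * Nat.card {v : (Fin m ⊕ Fin m) ⊕ Fin 2 → F //
      minusForm m F a b v = 1}
      = (Fintype.card F - 1) * (Fintype.card F ^ m * (Fintype.card F ^ (m + 1) + 1)) := by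
    omega
  exact Nat.eq_of_mul_eq_mul_left (by omega) h3

end forms

end Cfsg.Agent.Lib.Helper8
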