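import Mathlib
import Cfsg.Agent.Lib.Helper43.WittClass
import Cfsg.Agent.Lib.Helper8.NonsingCount

/-!
# Classification of the quadratic forms of minus type over finite fields of characteristic two
-/

set_option autoImplicit false

namespace Cfsg.Agent.Lib.Helper8

open Module QuadraticMap
open Cfsg.Agent.Lib.Helper43

section artinSchreier

variable {F : Type*} [Field F]

/-- the Artin–Schreier map `t ↦ t² + t` -/
def asMap (F : Type*) [Field F] (h2 : (2 : F) = 0) : F →+ F where
  toFun t := t * t + t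
  map_zero' := by simp
  map_add' := by
    intro x y
    linear_combination (x * y) * h2

theorem asMap_apply (h2 : (2 : F) = 0) (t : F) : asMap F h2 t = t * t + t := rfl

theorem card_ker_asMap (h2 : (2 : F) = 0) : Nat.card (asMap F h2).ker = 2 := by
  rw [Nat.card_eq_two_iff]
  refine ⟨⟨0, by simp⟩, ⟨1, ?_⟩, ?_, ?_⟩
  · rw [AddMonoidHom.mem_ker, asMap_apply]
    linear_combination h2
  · intro h
    have := congrArg Subtype.val h
    exact zero_ne_one this
  · rw [Set.eq_univ_iff_forall]
    rintro ⟨t, ht⟩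
    rw [AddMonoidHom.mem_ker, asMap_apply] at ht
    have h1 : t * (t + 1) = 0 := by linear_combination ht
    rcases mul_eq_zero.1 h1 with h | h
    · left
      exact Subtype.ext h
    · right
      apply Subtype.ext
      show t = 1
      linear_combination h - h2

theorem index_range_asMap [Finite F] (h2 : (2 : F) = 0) : (asMap F h2).range.index = 2 := by
  have h1 := AddSubgroup.card_mul_index (asMap F h2).ker
  have h3 := AddSubgroup.card_mul_index (asMap F h2).range
  rw [AddSubgroup.index_ker, card_ker_asMap h2] at h1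
  have hpos : 0 < Nat.card (asMap F h2).range := Nat.card_pos
  have : Nat.card (asMap F h2).range * (asMap F h2).range.index
      = Nat.card (asMap F h2).range * 2 := by
    rw [h3, ← h1, mul_comm]
  exact Nat.eq_of_mul_eq_mul_left hpos this

/-- two elements outside the image of the Artin–Schreier map differ by an element of the image -/
theorem exists_asMap_eq_add [Finite F] (h2 : (2 : F) = 0) (x y : F)
    (hx : ∀ t : F, t * t + t ≠ x) (hy : ∀ t : F, t * t + t ≠ y) : ∃ t : F, t * t + t = x + y := by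
  have hidx := index_range_asMap (F := F) h2
  have hxn : x ∉ (asMap F h2).range := by
    rintro ⟨t, ht⟩
    exact hx t ht
  have hyn : y ∉ (asMap F h2).range := by
    rintro ⟨t, ht⟩
    exact hy t ht
  have := (AddSubgroup.add_mem_iff_of_index_two hidx (a := x) (b := y)).2
    ⟨fun h => absurd h hxn, fun h => absurd h hyn⟩
  obtain ⟨t, ht⟩ := this
  exact ⟨t, ht⟩

end artinSchreier

section plane

variable {F : Type*} [Field F] [Fintype F]

/-- an anisotropic plane in characteristic two has coordinates in which its form is any given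
anisotropic binary form `z₁² + a z₁ z₂ + b z₂²` -/
theorem aniso_plane_coords_char2 (h2 : (2 : F) = 0) (W : Type*) [AddCommGroup W] [Module F W]
    [FiniteDimensional F W] (Q₁ : QuadraticForm F W) (hd : finrank F W = 2)
    (haniso : ∀ w : W, Q₁ w = 0 → w = 0) (hnd : (polarBilin Q₁).Nondegenerate) (a b : F)
    (hab : ∀ z₁ z₂ : F, z₁ ^ 2 + a * z₁ * z₂ + b * z₂ ^ 2 = 0 → z₁ = 0 ∧ z₂ = 0) :
    ∃ Θ₁ : W ≃ₗ[F] (Fin 2 → F), ∀ z : Fin 2 → F,
      Q₁ (Θ₁.symm z) = z 0 ^ 2 + a * z 0 * z 1 + b * z 1 ^ 2 := by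
  have ha : a ≠ 0 := by
    rintro rfl
    obtain ⟨e, he⟩ := exists_sq_char2 h2 b
    have := hab e 1 (by rw [← he]; linear_combination (e * e) * h2)
    exact one_ne_zero this.2
  -- a vector of norm one
  have hpos : 0 < finrank F W := by omega
  obtain ⟨u₀, hu₀⟩ := Module.finrank_pos_iff_exists_ne_zero.1 hpos
  have hQu₀ : Q₁ u₀ ≠ 0 := fun h => hu₀ (haniso _ h)
  obtain ⟨s, hs⟩ := exists_sq_char2 h2 (Q₁ u₀)⁻¹
  obtain ⟨u, hQu⟩ : ∃ u : W, Q₁ u = 1 :=
    ⟨s • u₀, by rw [QuadraticMap.map_smul, hs, smul_eq_mul, inv_mul_cancel₀ hQu₀]⟩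
  have hu0 : u ≠ 0 := by
    intro h
    rw [h, map_zero] at hQu
    exact zero_ne_one hQu
  have hpuu : polar Q₁ u u = 0 := by
    rw [polar_self, hQu]
    simpa using h2
  have hp0 : ∀ x : W, polar Q₁ x 0 = 0 := fun x => by simp [polar]
  -- a partner
  have hex : ∃ w₀, polar Q₁ u w₀ ≠ 0 := by
    by_contra hcon
    push Not at hcon
    exact hu0 (hnd.1 u hcon)
  obtain ⟨w₀, hw₀⟩ := hex
  obtain ⟨w₁, hpw₁⟩ : ∃ w₁ : W, polar Q₁ u w₁ = a :=
    ⟨(a / polar Q₁ u w₀) • w₀, by rw [polar_smul_right, smul_eq_mul, div_mul_cancel₀ _ hw₀]⟩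
  obtain ⟨β, hβ⟩ : ∃ β : F, β = Q₁ w₁ := ⟨_, rfl⟩
  have hcomb : ∀ x : F, Q₁ (x • u + w₁) = x * x + a * x + β := by
    intro x
    rw [QuadraticMap.map_add (⇑Q₁), QuadraticMap.map_smul, polar_smul_left, hQu, hpw₁, ← hβ]
    simp only [smul_eq_mul]
    ring
  -- Artin–Schreier classes
  have hb : ∀ t : F, t * t + t ≠ b / (a * a) := by
    intro t ht
    have := hab (a * t) 1 (by
      have : b = (t * t + t) * (a * a) := by rw [ht]; field_simp
      rw [this]
      linear_combination (a * a * (t * t + t)) * h2)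
    exact one_ne_zero this.2
  have hβ' : ∀ t : F, t * t + t ≠ β / (a * a) := by
    intro t ht
    have hβe : β = (t * t + t) * (a * a) := by rw [ht]; field_simp
    have h0 : Q₁ ((a * t) • u + w₁) = 0 := by
      rw [hcomb, hβe]
      linear_combination (a * a * (t * t + t)) * h2
    have h1 := haniso _ h0
    have h3 : polar Q₁ u ((a * t) • u + w₁) = a := by
      rw [polar_add_right, polar_smul_right, hpuu, hpw₁]
      simp
    rw [h1, hp0] at h3
    exact ha h3.symm
  obtain ⟨t, ht⟩ := exists_asMap_eq_add h2 _ _ hb hβ'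
  obtain ⟨c, hcc⟩ : ∃ c : F, c * c + a * c = b + β := by
    refine ⟨a * t, ?_⟩
    have : b / (a * a) + β / (a * a) = (b + β) / (a * a) := by ring
    rw [this] at ht
    have h4 : (t * t + t) * (a * a) = b + β := by rw [ht]; field_simp
    linear_combination h4
  obtain ⟨w₂, hw₂⟩ : ∃ w₂ : W, w₂ = c • u + w₁ := ⟨_, rfl⟩
  have hQw₂ : Q₁ w₂ = b := by
    rw [hw₂, hcomb]
    linear_combination hcc + β * h2
  have hpw₂ : polar Q₁ u w₂ = a := by
    rw [hw₂, polar_add_right, polar_smul_right, hpuu, hpw₁]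
    simp
  have hli : LinearIndependent F ![u, w₂] := by
    rw [LinearIndependent.pair_iff]
    intro x y hxy
    have h5 : polar Q₁ u (x • u + y • w₂) = y * a := by
      rw [polar_add_right, polar_smul_right, polar_smul_right, hpuu, hpw₂]
      simp
    rw [hxy, hp0] at h5
    have hy : y = 0 := by
      rcases mul_eq_zero.1 h5.symm with h | h
      · exact h
      · exact absurd h ha
    rw [hy, zero_smul, add_zero] at hxy
    rcases smul_eq_zero.1 hxy with h | h
    · exact ⟨h, hy⟩
    · exact absurd h hu0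
  let bs : Basis (Fin 2) F W := basisOfLinearIndependentOfCardEqFinrank hli (by simp [hd])
  refine ⟨bs.equivFun, fun z => ?_⟩
  have hbs : ∀ i, bs i = ![u, w₂] i := fun i => by
    simp [bs, coe_basisOfLinearIndependentOfCardEqFinrank]
  rw [Basis.equivFun_symm_apply, Fin.sum_univ_two, hbs, hbs]
  simp only [Matrix.cons_val_zero, Matrix.cons_val_one]
  rw [QuadraticMap.map_add (⇑Q₁), QuadraticMap.map_smul, QuadraticMap.map_smul, polar_smul_left,
    polar_smul_right, hQu, hQw₂, hpw₂]
  simp only [smul_eq_mul]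
  ring

end plane

section classify

universe u

/-- a nondegenerate space over a finite field of characteristic two with the zero count of the
minus type is of minus type -/
theorem classify_minus_char2 {F : Type*} [Field F] [Fintype F] (h2 : (2 : F) = 0)
    (V : Type u) [AddCommGroup V] [Module F V]
    [FiniteDimensional F V] (Q : QuadraticForm F V)
    (hQ : (polarBilin Q).Nondegenerate) (M : ℕ)
    (hdim : finrank F V = 2 * M + 2)
    (hZ : Nat.card {v : V // Q v = 0} ≠ ZZ (Fintype.card F) 0 1 (M + 1)) (a b : F)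
    (hab : ∀ z₁ z₂ : F, z₁ ^ 2 + a * z₁ * z₂ + b * z₂ ^ 2 = 0 → z₁ = 0 ∧ z₂ = 0) :
    ∃ Θ : V ≃ₗ[F] ((Fin M ⊕ Fin M) ⊕ Fin 2 → F),
      ∀ v, Cfsg.quadFormMinus M F a b (Θ v) = Q v := by
  obtain ⟨k, e, f, W, H, hW2, haniso, hnd⟩ := witt_family V Q hQ
  obtain ⟨hd, hz, -⟩ := card_OG_family (Q.comp W.subtype) hnd k V Q W.subtype e f H
  rw [card_zeros_aniso _ haniso] at hz
  have hcases : finrank F W = 0 ∨ finrank F W = 1 ∨ finrank F W = 2 := by
    omega
  rcases hcases with h0 | h1 | h2'
  · exfalso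
    have hk : k = M + 1 := by omega
    rw [h0, hk] at hz
    exact hZ hz
  · omega
  · have hk : k = M := by omega
    subst hk
    obtain ⟨Θ₁, hΘ₁⟩ := aniso_plane_coords_char2 h2 W (Q.comp W.subtype) h2' haniso hnd a b hab
    obtain ⟨Θ, hΘ⟩ := H.exists_coords hnd Θ₁
    refine ⟨Θ, fun v => ?_⟩
    rw [hΘ v, hΘ₁]
    rfl

end classify

end Cfsg.Agent.Lib.Helper8
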