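import Mathlib
import Cfsg.Prelude.Def_ClassicalGeometry
import Cfsg.Agent.Lib.Helper8.DicksonOmega

/-! The Cartan–Dieudonné / Dickson invariant chain of `CartanDieudonne2`, `Dickson`, `DicksonOmega`
with the hypothesis `|F| ≠ 2 ∨ dim ≠ 4` weakened so as to cover `O⁻₄(2)`: only `O⁺₄(2)` is a genuine
exception, and it is characterised by having a totally singular plane. -/

set_option autoImplicit false

namespace Cfsg.Agent.Lib.Helper8

open Matrix Module QuadraticMap
open Cfsg.Agent.Lib.Helper13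

variable {ι : Type} [Fintype ι] [DecidableEq ι] {F : Type*} [Field F]

/-- the orthogonal group is not `O⁺₄(2)`: more than two scalars, or dimension not four, or no
totally singular plane -/
def GoodOrth [Fintype F] (Q : QuadraticForm F (ι → F)) : Prop :=
  (Fintype.card F ≠ 2 ∨ finrank F (ι → F) ≠ 4) ∨
    ∀ x y : ι → F, Q x = 0 → Q y = 0 → polar (⇑Q) x y = 0 → x ≠ 0 → ∃ c : F, y = c • x

omit [DecidableEq ι] in
/-- the auxiliary vector in the transitivity argument -/
theorem char2_exists_aux_gen [Fintype F] (h2 : (2 : F) = 0) (Q : QuadraticForm F (ι → F))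
    (hQ : (QuadraticMap.polarBilin Q).Nondegenerate)
    (hgood : GoodOrth Q) (u v : ι → F) (hv : Q v ≠ 0)
    (huv : Q u = Q v) (hne : u ≠ v) (hbuv : polar (⇑Q) u v = 0) :
    ∃ w : ι → F, Q w = Q v ∧ polar (⇑Q) u w ≠ 0 ∧ polar (⇑Q) v w ≠ 0 := by
  rcases hgood with hcard | hts
  · exact char2_exists_aux h2 Q hQ hcard u v hv huv hne hbuv
  by_cases hF : Fintype.card F = 2
  swap
  · exact char2_exists_aux h2 Q hQ (Or.inl hF) u v hv huv hne hbuv
  have hu : Q u ≠ 0 := by rw [huv]; exact hv
  have hvu : v ∉ Submodule.span F {u} := char2_not_mem_span h2 Q u v hv huv hne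
  have huv' : u ∉ Submodule.span F {v} := char2_not_mem_span h2 Q v u hu huv.symm hne.symm
  obtain ⟨y1, hy1u, hy1v⟩ := exists_orth_of_notMem Q hQ _ v hvu
  obtain ⟨y2, hy2v, hy2u⟩ := exists_orth_of_notMem Q hQ _ u huv'
  have hy1u' : polar (⇑Q) y1 u = 0 := hy1u u (Submodule.mem_span_singleton_self u)
  have hy2v' : polar (⇑Q) y2 v = 0 := hy2v v (Submodule.mem_span_singleton_self v)
  obtain ⟨w0, hw0⟩ : ∃ w0 : ι → F,
      w0 = (polar (⇑Q) y1 v)⁻¹ • y1 + (polar (⇑Q) y2 u)⁻¹ • y2 := ⟨_, rfl⟩
  have hw0u : polar (⇑Q) w0 u = 1 := by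
    rw [hw0, polar_add_left, polar_smul_left, polar_smul_left, hy1u', smul_zero, zero_add,
      smul_eq_mul, inv_mul_cancel₀ hy2u]
  have hw0v : polar (⇑Q) w0 v = 1 := by
    rw [hw0, polar_add_left, polar_smul_left, polar_smul_left, hy2v', smul_zero, add_zero,
      smul_eq_mul, inv_mul_cancel₀ hy1v]
  have h01 : ∀ a : F, a = 0 ∨ a = 1 := by
    intro a
    by_contra hcon
    push Not at hcon
    have : 2 < Fintype.card F :=
      Fintype.two_lt_card_iff.2 ⟨a, 0, 1, hcon.1, hcon.2, zero_ne_one⟩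
    omega
  have hQv1 : Q v = 1 := (h01 _).resolve_left hv
  by_contra hcon
  push Not at hcon
  have hQw0 : Q w0 = 0 := by
    by_contra hne0
    have h1 : Q w0 = Q v := by
      rw [hQv1]; exact (h01 _).resolve_left hne0
    have h3 : polar (⇑Q) u w0 ≠ 0 := by
      rw [polar_comm, hw0u]; exact one_ne_zero
    have h4 := hcon w0 h1 h3
    rw [polar_comm, hw0v] at h4
    exact one_ne_zero h4
  -- the totally singular plane spanned by `u + v` and `w0`
  have hQuv : Q (u + v) = 0 := by
    rw [QuadraticMap.map_add (⇑Q), huv, hQv1, hbuv]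
    linear_combination h2
  have hpol : polar (⇑Q) (u + v) w0 = 0 := by
    rw [polar_add_left, polar_comm (⇑Q) u w0, polar_comm (⇑Q) v w0, hw0u, hw0v]
    linear_combination h2
  have hne0 : u + v ≠ 0 := by
    intro h
    apply hne
    have : u = -v := eq_neg_of_add_eq_zero_left h
    rw [this]
    funext i
    simp only [Pi.neg_apply]
    exact char2_neg h2 _
  obtain ⟨c, hc⟩ := hts (u + v) w0 hQuv hQw0 hpol hne0
  have : polar (⇑Q) w0 u = 0 := by
    rw [hc, polar_smul_left, polar_add_left, char2_polar_self h2, polar_comm (⇑Q) v u, hbuv]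
    simp
  rw [hw0u] at this
  exact one_ne_zero this

/-- transitivity of the reflection subgroup on vectors of a given nonzero norm (char 2) -/
theorem char2_trans_gen [Fintype F] (h2 : (2 : F) = 0) (Q : QuadraticForm F (ι → F))
    (hQ : (QuadraticMap.polarBilin Q).Nondegenerate)
    (hgood : GoodOrth Q) (u v : ι → F) (hv : Q v ≠ 0)
    (huv : Q u = Q v) :
    ∃ ρ ∈ Subgroup.closure (reflSetGL Q), (ρ : Matrix ι ι F) *ᵥ u = v := by
  by_cases hne : u = v
  · exact ⟨1, Subgroup.one_mem _, by rw [hne]; simp⟩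
  by_cases hQuv : Q (u - v) = 0
  swap
  · exact ⟨reflectionGL Q (u - v) hQuv,
      Subgroup.subset_closure (reflectionGL_mem_reflSetGL Q _ hQuv),
      by rw [coe_reflectionGL]; exact reflection_swap Q u v huv hQuv⟩
  have hbuv : polar (⇑Q) u v = 0 := by rw [← char2_quad_sub h2 Q u v huv.symm, hQuv]
  obtain ⟨w, hQw, huw, hvw⟩ := char2_exists_aux_gen h2 Q hQ hgood u v hv huv hne hbuv
  have hne1 : Q (u - w) ≠ 0 := by
    rw [char2_quad_sub h2 Q u w (by rw [hQw, huv])]; exact huw
  have hne2 : Q (w - v) ≠ 0 := by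
    rw [char2_quad_sub h2 Q w v hQw.symm, polar_comm]; exact hvw
  refine ⟨reflectionGL Q (w - v) hne2 * reflectionGL Q (u - w) hne1, ?_, ?_⟩
  · apply Subgroup.mul_mem
    · exact Subgroup.subset_closure (reflectionGL_mem_reflSetGL Q _ hne2)
    · exact Subgroup.subset_closure (reflectionGL_mem_reflSetGL Q _ hne1)
  · rw [Matrix.GeneralLinearGroup.coe_mul, ← Matrix.mulVec_mulVec, coe_reflectionGL,
      coe_reflectionGL, reflection_swap Q u w (by rw [hQw, huv]) hne1,
      reflection_swap Q w v hQw hne2]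

/-- Cartan–Dieudonné in characteristic two -/
theorem cartan_dieudonne_char2_gen [Fintype F] (h2 : (2 : F) = 0) (Q : QuadraticForm F (ι → F))
    (hQ : (QuadraticMap.polarBilin Q).Nondegenerate)
    (hgood : GoodOrth Q)
    (g : Matrix.GeneralLinearGroup ι F) (hg : g ∈ Cfsg.isometryGroup F (⇑Q)) :
    g ∈ Subgroup.closure (reflSetGL Q) := by
  by_cases hex : ∃ v, Q v ≠ 0
  · obtain ⟨v, hv⟩ := hex
    have hgQ := (mem_isometryGroup_iff (⇑Q) g).1 hg
    obtain ⟨ρ, hρ, hρv⟩ := char2_trans_gen h2 Q hQ hgood ((g : Matrix ι ι F) *ᵥ v) v hv (hgQ v)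
    have hρG : ρ ∈ Cfsg.isometryGroup F (⇑Q) :=
      (Subgroup.closure_le _).2 (reflSetGL_subset Q) hρ
    have h1 : ρ * g ∈ Subgroup.closure (reflSetGL Q) := by
      apply char2_stab h2 Q hQ v hv (finrank F (ι → F)) (Submodule.span F {v})
        (Submodule.mem_span_singleton_self v) ?_ (by omega) (ρ * g)
        (Subgroup.mul_mem _ hρG hg)
      · intro x' hx'
        obtain ⟨c, rfl⟩ := Submodule.mem_span_singleton.1 hx'
        rw [Matrix.GeneralLinearGroup.coe_mul, ← Matrix.mulVec_mulVec, Matrix.mulVec_smul,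
          Matrix.mulVec_smul, hρv]
      · intro x' hx'
        obtain ⟨c, rfl⟩ := Submodule.mem_span_singleton.1 hx'
        rw [polar_smul_right, char2_polar_self h2, smul_zero]
    have : g = ρ⁻¹ * (ρ * g) := by group
    rw [this]
    exact Subgroup.mul_mem _ (Subgroup.inv_mem _ hρ) h1
  · push Not at hex
    have hzero : ∀ x : ι → F, x = 0 := by
      intro x
      apply hQ.1
      intro y
      show polar (⇑Q) x y = 0
      simp [polar, hex]
    have : g = 1 := by
      apply Units.ext
      apply Matrix.toLin'.injective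
      apply LinearMap.ext
      intro y
      rw [hzero y]; simp
    rw [this]; exact Subgroup.one_mem _

/-- Cartan–Dieudonné, all characteristics, inside the isometry group -/
theorem closure_reflSet_eq_top_gen [Fintype F] (Q : QuadraticForm F (ι → F))
    (hQ : (QuadraticMap.polarBilin Q).Nondegenerate)
    (hgood : GoodOrth Q) :
    Subgroup.closure (reflSet Q) = ⊤ := by
  by_cases h2 : (2 : F) = 0
  · rw [eq_top_iff]
    intro x _
    have h := cartan_dieudonne_char2_gen h2 Q hQ hgood (x : Matrix.GeneralLinearGroup ι F) x.2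
    rw [← subtype_image_reflSet, ← MonoidHom.map_closure] at h
    obtain ⟨y, hy, hyx⟩ := h
    have : y = x := Subtype.ext hyx
    rwa [← this]
  · exact closure_reflSet_eq_top h2 Q hQ

/-- in characteristic two the commutator subgroup of the orthogonal group has index two -/
theorem commutator_index_two_char2_gen [Fintype F] (h2 : (2 : F) = 0) (Q : QuadraticForm F (ι → F))
    (hQ : (QuadraticMap.polarBilin Q).Nondegenerate)
    (hgood : GoodOrth Q) (hex : ∃ v, Q v ≠ 0) :
    (commutator ↥(Cfsg.isometryGroup F (⇑Q))).index = 2 := by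
  have hgen := closure_reflSet_eq_top_gen Q hQ hgood
  obtain ⟨v0, hv0⟩ := hex
  set r0 := reflElt Q v0 hv0 with hr0
  have hr0inv : r0⁻¹ = r0 := inv_mem_reflSet Q _ (reflElt_mem_reflSet Q v0 hv0)
  -- all reflections are congruent to r0 modulo the commutator subgroup
  have hconj : ∀ r ∈ reflSet Q, r * r0 ∈ commutator ↥(Cfsg.isometryGroup F (⇑Q)) := by
    rintro r ⟨u, hu, hru⟩
    have hru' : r = reflElt Q u hu := eq_reflElt_of_coe Q r u hu hru
    obtain ⟨c, hc⟩ := exists_sq_char2 h2 (Q v0 * (Q u)⁻¹)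
    have hc0 : c ≠ 0 := by
      rintro rfl
      rw [mul_zero] at hc
      exact mul_ne_zero hv0 (inv_ne_zero hu) hc.symm
    have hQcu : Q (c • u) = Q v0 := by
      rw [QuadraticMap.map_smul, hc, smul_eq_mul, mul_assoc, inv_mul_cancel₀ hu, mul_one]
    have hcu : Q (c • u) ≠ 0 := by rw [hQcu]; exact hv0
    obtain ⟨ρ, hρ, hρv⟩ := char2_trans_gen h2 Q hQ hgood v0 (c • u) hcu hQcu.symm
    have hρG : ρ ∈ Cfsg.isometryGroup F (⇑Q) :=
      (Subgroup.closure_le _).2 (reflSetGL_subset Q) hρ
    obtain ⟨ρ', hρ'⟩ : ∃ ρ' : ↥(Cfsg.isometryGroup F (⇑Q)),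
        (ρ' : Matrix.GeneralLinearGroup ι F) = ρ := ⟨⟨ρ, hρG⟩, rfl⟩
    have e := conj_reflElt Q ρ' v0 hv0
    have e2 : reflElt Q (((ρ' : Matrix.GeneralLinearGroup ι F) : Matrix ι ι F) *ᵥ v0)
        (by rw [isoElt_preserves]; exact hv0) = reflElt Q u hu := by
      apply reflElt_eq_of_matrix
      rw [hρ', hρv, reflectionMatrix_smul Q c hc0]
    rw [e2] at e
    have hmem := Subgroup.commutator_mem_commutator (H₁ := ⊤) (H₂ := ⊤)
      (Subgroup.mem_top ρ') (Subgroup.mem_top r0)
    rw [commutatorElement_def, hr0inv, e] at hmem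
    rw [hru', commutator_def]
    exact hmem
  have hP : ∀ g : ↥(Cfsg.isometryGroup F (⇑Q)),
      g ∈ commutator ↥(Cfsg.isometryGroup F (⇑Q)) ∨
        g * r0 ∈ commutator ↥(Cfsg.isometryGroup F (⇑Q)) := by
    intro g
    have hg : g ∈ Subgroup.closure (reflSet Q) := by rw [hgen]; trivial
    have hstep : ∀ x : ↥(Cfsg.isometryGroup F (⇑Q)), ∀ y ∈ reflSet Q,
        (x ∈ commutator ↥(Cfsg.isometryGroup F (⇑Q)) ∨
          x * r0 ∈ commutator ↥(Cfsg.isometryGroup F (⇑Q))) →
        (x * y ∈ commutator ↥(Cfsg.isometryGroup F (⇑Q)) ∨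
          x * y * r0 ∈ commutator ↥(Cfsg.isometryGroup F (⇑Q))) := by
      intro x y hy hx
      have hyr := hconj y hy
      rcases hx with hx | hx
      · right
        rw [mul_assoc]
        exact Subgroup.mul_mem _ hx hyr
      · left
        have h1 : r0 * y ∈ commutator ↥(Cfsg.isometryGroup F (⇑Q)) := by
          have := Subgroup.inv_mem _ hyr
          rwa [_root_.mul_inv_rev, hr0inv, inv_mem_reflSet Q y hy] at this
        have hr0sq : r0 * r0 = 1 := reflElt_mul_self Q v0 hv0
        have : x * y = (x * r0) * (r0 * y) := by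
          calc x * y = x * (r0 * r0) * y := by rw [hr0sq, mul_one]
            _ = (x * r0) * (r0 * y) := by group
        rw [this]
        exact Subgroup.mul_mem _ hx h1
    induction hg using Subgroup.closure_induction_right with
    | one => left; exact Subgroup.one_mem _
    | mul_right x _ y hy ih => exact hstep x y hy ih
    | mul_inv_cancel x _ y hy ih =>
      rw [inv_mem_reflSet Q y hy]
      exact hstep x y hy ih
  exact index_eq_two_of_hom (dicksonHom Q hQ hgen) r0
    (by rw [dicksonHom_apply, dicksonPar_refl Q hQ r0 (reflElt_mem_reflSet Q v0 hv0)])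
    _ (Abelianization.commutator_subset_ker _) hP

/-- in characteristic two, membership in the commutator subgroup of the orthogonal group is
detected by the parity of the rank of `g - 1` (Dickson invariant) -/
theorem mem_commutator_iff_even_rank_char2_gen [Fintype F] (h2 : (2 : F) = 0)
    (Q : QuadraticForm F (ι → F)) (hQ : (QuadraticMap.polarBilin Q).Nondegenerate)
    (hgood : GoodOrth Q) (hex : ∃ v, Q v ≠ 0)
    (g : ↥(Cfsg.isometryGroup F (⇑Q))) :
    g ∈ commutator ↥(Cfsg.isometryGroup F (⇑Q)) ↔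
      Even (((g : Matrix.GeneralLinearGroup ι F) : Matrix ι ι F) - 1).rank := by
  have hgen := closure_reflSet_eq_top_gen Q hQ hgood
  have hidx := commutator_index_two_char2_gen h2 Q hQ hgood hex
  obtain ⟨v0, hv0⟩ := hex
  have hr0 : dicksonHom Q hQ hgen (reflElt Q v0 hv0) ≠ 1 := by
    rw [dicksonHom_apply, dicksonPar_refl Q hQ _ (reflElt_mem_reflSet Q v0 hv0)]
    intro h
    have : (1 : ZMod 2) = 0 := Multiplicative.ofAdd.injective h
    exact one_ne_zero this
  have hker := eq_ker_of_index_two (dicksonHom Q hQ hgen) _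
    (Abelianization.commutator_subset_ker _) hidx _ hr0
  rw [hker, MonoidHom.mem_ker, dicksonHom_apply]
  have hrk := rank_sub_one_add_finrank_fixSub
    (((g : Matrix.GeneralLinearGroup ι F) : Matrix ι ι F))
  constructor
  · intro h
    have h0 : dicksonPar Q g = 0 := Multiplicative.ofAdd.injective h
    unfold dicksonPar at h0
    rw [ZMod.natCast_eq_zero_iff_even] at h0
    rw [← hrk] at h0
    rcases h0 with ⟨k, hk⟩
    exact ⟨k - finrank F ↥(fixSub ((g : Matrix.GeneralLinearGroup ι F) : Matrix ι ι F)), by omega⟩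
  · intro h
    have h0 : dicksonPar Q g = 0 := by
      unfold dicksonPar
      rw [ZMod.natCast_eq_zero_iff_even, ← hrk]
      rcases h with ⟨k, hk⟩
      exact ⟨k + finrank F ↥(fixSub ((g : Matrix.GeneralLinearGroup ι F) : Matrix ι ι F)),
        by omega⟩
    rw [h0]; rfl

end Cfsg.Agent.Lib.Helper8
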