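import Mathlib

set_option autoImplicit false

namespace Cfsg.Agent.Lib.Helper8

open Module

universe u v

/-- the data of a hyperbolic family with radical part, spanning the space -/
def HasAltFamily {F : Type u} {V : Type v} [Field F] [AddCommGroup V] [Module F V]
    (B : LinearMap.BilinForm F V) : Prop :=
  ∃ (m k : ℕ) (e f : Fin m → V) (r : Fin k → V),
    (∀ i j, B (e i) (f j) = if i = j then 1 else 0) ∧
    (∀ i j, B (e i) (e j) = 0) ∧ (∀ i j, B (f i) (f j) = 0) ∧
    (∀ j v, B (r j) v = 0) ∧ LinearIndependent F r ∧
    ⊤ ≤ Submodule.span F (Set.range e ∪ Set.range f ∪ Set.range r)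

theorem hasAltFamily_aux {F : Type u} [Field F] : ∀ (n : ℕ) (V : Type v) [AddCommGroup V] [Module F V]
    [FiniteDimensional F V] (B : LinearMap.BilinForm F V), B.IsAlt → finrank F V = n →
    HasAltFamily B := by
  intro n
  induction n using Nat.strong_induction_on with
  | _ n ih =>
    intro V _ _ _ B hA hn
    by_cases hB : ∀ u v, B u v = 0
    · -- the form vanishes
      refine ⟨0, finrank F V, Fin.elim0, Fin.elim0, Module.finBasis F V, ?_, ?_, ?_, ?_, ?_, ?_⟩
      · intro i; exact i.elim0
      · intro i; exact i.elim0
      · intro i; exact i.elim0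
      · intro j v; exact hB _ _
      · exact (Module.finBasis F V).linearIndependent
      · rw [(Module.finBasis F V).span_eq.symm]
        apply Submodule.span_mono
        exact Set.subset_union_right
    · push Not at hB
      obtain ⟨e1, f1, hef1⟩ := hB
      set e0 := e1 with he0
      set f0 := (B e1 f1)⁻¹ • f1 with hf0
      have hef : B e0 f0 = 1 := by
        rw [hf0, map_smul, smul_eq_mul, inv_mul_cancel₀ hef1]
      have hneg : ∀ x y, B x y = -B y x := fun x y => (LinearMap.IsAlt.neg hA y x).symm
      have hfe : B f0 e0 = -1 := by
        rw [hneg, hef]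
      -- the orthogonal complement of the hyperbolic plane
      let W : Submodule F V := LinearMap.ker (B.flip e0) ⊓ LinearMap.ker (B.flip f0)
      have hW : ∀ w : V, w ∈ W ↔ B w e0 = 0 ∧ B w f0 = 0 := by
        intro w
        simp [W, Submodule.mem_inf, LinearMap.mem_ker]
      have hWne : W ≠ ⊤ := by
        intro h
        have : e0 ∈ W := by rw [h]; trivial
        rw [hW] at this
        rw [hef] at this
        exact one_ne_zero this.2
      have hlt : finrank F W < n := by
        rw [← hn]; exact Submodule.finrank_lt hWne
      let BW : LinearMap.BilinForm F W := B.compl₁₂ W.subtype W.subtype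
      have hBW : ∀ x y : W, BW x y = B x y := fun x y => rfl
      have hAW : BW.IsAlt := fun x => hA x
      obtain ⟨m, k, e, f, r, h1, h2, h3, h4, h5, h6⟩ := ih _ hlt W BW hAW rfl
      have hWe : ∀ w : W, B (w : V) e0 = 0 := fun w => ((hW w).1 w.2).1
      have hWf : ∀ w : W, B (w : V) f0 = 0 := fun w => ((hW w).1 w.2).2
      have heW : ∀ w : W, B e0 (w : V) = 0 := fun w => by rw [hneg, hWe, neg_zero]
      have hfW : ∀ w : W, B f0 (w : V) = 0 := fun w => by rw [hneg, hWf, neg_zero]
      -- decomposition
      have hdec : ∀ v : V, ∃ w : W, v = B v f0 • e0 - B v e0 • f0 + (w : V) := by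
        intro v
        refine ⟨⟨v - B v f0 • e0 + B v e0 • f0, ?_⟩, ?_⟩
        · rw [hW]
          constructor
          · simp only [map_add, map_sub, map_smul, LinearMap.add_apply, LinearMap.sub_apply,
              LinearMap.smul_apply, smul_eq_mul, hA e0, hfe]
            ring
          · simp only [map_add, map_sub, map_smul, LinearMap.add_apply, LinearMap.sub_apply,
              LinearMap.smul_apply, smul_eq_mul, hA f0, hef]
            ring
        · simp only
          abel
      refine ⟨m + 1, k, Fin.cons e0 (fun i => (e i : V)), Fin.cons f0 (fun i => (f i : V)),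
        fun j => (r j : V), ?_, ?_, ?_, ?_, ?_, ?_⟩
      · intro i j
        refine Fin.cases ?_ (fun i' => ?_) i <;> refine Fin.cases ?_ (fun j' => ?_) j
        · simp [hef]
        · simp only [Fin.cons_zero, Fin.cons_succ]
          rw [heW]
          simp [(Fin.succ_ne_zero j').symm]
        · simp only [Fin.cons_zero, Fin.cons_succ]
          rw [hWf]
          simp [Fin.succ_ne_zero i']
        · simp only [Fin.cons_succ]
          have := h1 i' j'
          rw [hBW] at this
          rw [this]
          simp [Fin.succ_inj]
      · intro i j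
        refine Fin.cases ?_ (fun i' => ?_) i <;> refine Fin.cases ?_ (fun j' => ?_) j
        · simp [hA e0]
        · simp only [Fin.cons_zero, Fin.cons_succ]; exact heW _
        · simp only [Fin.cons_zero, Fin.cons_succ]; exact hWe _
        · simp only [Fin.cons_succ]; exact h2 i' j'
      · intro i j
        refine Fin.cases ?_ (fun i' => ?_) i <;> refine Fin.cases ?_ (fun j' => ?_) j
        · simp [hA f0]
        · simp only [Fin.cons_zero, Fin.cons_succ]; exact hfW _
        · simp only [Fin.cons_zero, Fin.cons_succ]; exact hWf _
        · simp only [Fin.cons_succ]; exact h3 i' j'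
      · intro j v
        obtain ⟨w, hw⟩ := hdec v
        rw [hw]
        simp only [map_add, map_sub, map_smul, smul_eq_mul, hWe, hWf, mul_zero, sub_zero, zero_add]
        exact h4 j w
      · exact h5.map' W.subtype (Submodule.ker_subtype W)
      · intro v _
        obtain ⟨w, hw⟩ := hdec v
        rw [hw]
        apply Submodule.add_mem
        · apply Submodule.sub_mem
          · apply Submodule.smul_mem
            apply Submodule.subset_span
            left; left
            exact ⟨0, by simp⟩
          · apply Submodule.smul_mem
            apply Submodule.subset_span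
            left; right
            exact ⟨0, by simp⟩
        · have hw' : w ∈ Submodule.span F (Set.range e ∪ Set.range f ∪ Set.range r) := h6 trivial
          have hmap : (w : V) ∈ (Submodule.span F (Set.range e ∪ Set.range f ∪ Set.range r)).map W.subtype :=
            ⟨w, hw', rfl⟩
          rw [Submodule.map_span] at hmap
          refine Submodule.span_mono ?_ hmap
          rintro _ ⟨x, hx, rfl⟩
          rcases hx with (⟨i, rfl⟩ | ⟨i, rfl⟩) | ⟨j, rfl⟩
          · left; left
            exact ⟨i.succ, by simp⟩
          · left; right
            exact ⟨i.succ, by simp⟩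
          · right
            exact ⟨j, rfl⟩

theorem hasAltFamily {F : Type u} {V : Type v} [Field F] [AddCommGroup V] [Module F V]
    [FiniteDimensional F V] (B : LinearMap.BilinForm F V) (hA : B.IsAlt) : HasAltFamily B :=
  hasAltFamily_aux _ V B hA rfl

/-- linear independence of a hyperbolic family with independent radical part -/
theorem linearIndependent_altFamily {F : Type u} {V : Type v} [Field F] [AddCommGroup V] [Module F V]
    (B : LinearMap.BilinForm F V) (hA : B.IsAlt) {m k : ℕ} (e f : Fin m → V) (r : Fin k → V)
    (h1 : ∀ i j, B (e i) (f j) = if i = j then 1 else 0)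
    (h2 : ∀ i j, B (e i) (e j) = 0) (h3 : ∀ i j, B (f i) (f j) = 0)
    (h4 : ∀ j v, B (r j) v = 0) (h5 : LinearIndependent F r) :
    LinearIndependent F (Sum.elim (Sum.elim e f) r) := by
  rw [Fintype.linearIndependent_iff]
  intro g hg
  rw [Fintype.sum_sum_type, Fintype.sum_sum_type] at hg
  simp only [Sum.elim_inl, Sum.elim_inr] at hg
  have hfe : ∀ i j, B (f i) (e j) = if i = j then -1 else 0 := by
    intro i j
    rw [(LinearMap.IsAlt.neg hA (e j) (f i)).symm, h1]
    by_cases hij : i = j
    · simp [hij]
    · simp [hij, Ne.symm hij]
  have ha : ∀ i0, g (Sum.inl (Sum.inl i0)) = 0 := by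
    intro i0
    have := congrArg (fun x => B x (f i0)) hg
    simp only [map_add, map_sum, map_smul, LinearMap.add_apply, LinearMap.sum_apply,
      LinearMap.smul_apply, smul_eq_mul, h1, h3, h4, mul_zero, Finset.sum_const_zero, add_zero,
      map_zero, LinearMap.zero_apply] at this
    simpa using this
  have hb : ∀ i0, g (Sum.inl (Sum.inr i0)) = 0 := by
    intro i0
    have := congrArg (fun x => B x (e i0)) hg
    simp only [map_add, map_sum, map_smul, LinearMap.add_apply, LinearMap.sum_apply,
      LinearMap.smul_apply, smul_eq_mul, h2, hfe, h4, mul_zero, Finset.sum_const_zero, add_zero,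
      zero_add, map_zero, LinearMap.zero_apply] at this
    simpa using this
  have hc : ∀ j, g (Sum.inr j) = 0 := by
    have hg' : ∑ j, g (Sum.inr j) • r j = 0 := by
      simpa [ha, hb] using hg
    exact Fintype.linearIndependent_iff.1 h5 (fun j => g (Sum.inr j)) hg'
  rintro ((i | i) | j)
  · exact ha i
  · exact hb i
  · exact hc j

end Cfsg.Agent.Lib.Helper8
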