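import Mathlib

set_option autoImplicit false

namespace Cfsg.Agent.Lib.Helper8

open Module

universe u v

/-- an orthonormal family together with radical vectors, spanning the space -/
def HasOrthoFamily {F : Type u} {V : Type v} [Field F] [AddCommGroup V] [Module F V]
    (B : LinearMap.BilinForm F V) : Prop :=
  ∃ (s k : ℕ) (x : Fin s → V) (r : Fin k → V),
    (∀ i j, B (x i) (x j) = if i = j then 1 else 0) ∧
    (∀ j v, B (r j) v = 0) ∧
    ⊤ ≤ Submodule.span F (Set.range x ∪ Set.range r)

/-- a vector of norm one whose orthogonal complement is non-alternating or totally isotropic -/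
theorem exists_good_norm_one {F : Type u} {V : Type v} [Field F] [AddCommGroup V] [Module F V]
    (h2 : (2 : F) = 0) (hsq : ∀ a : F, ∃ c : F, c * c = a)
    (B : LinearMap.BilinForm F V) (hsymm : ∀ u v, B u v = B v u) (hna : ∃ x, B x x ≠ 0) :
    ∃ x₁, B x₁ x₁ = 1 ∧ ((∃ w, B w x₁ = 0 ∧ B w w ≠ 0) ∨
      (∀ w w', B w x₁ = 0 → B w' x₁ = 0 → B w w' = 0)) := by
  obtain ⟨x₀, hx₀⟩ := hna
  obtain ⟨c, hc⟩ := hsq (B x₀ x₀)⁻¹
  have hx₁ : B (c • x₀) (c • x₀) = 1 := by
    simp only [map_smul, LinearMap.smul_apply, smul_eq_mul]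
    rw [← mul_assoc, hc, inv_mul_cancel₀ hx₀]
  obtain ⟨x₁, hx₁def⟩ : ∃ x₁, x₁ = c • x₀ := ⟨_, rfl⟩
  rw [← hx₁def] at hx₁
  by_cases h : ∃ w, B w x₁ = 0 ∧ B w w ≠ 0
  · exact ⟨x₁, hx₁, Or.inl h⟩
  push Not at h
  by_cases h' : ∀ w w', B w x₁ = 0 → B w' x₁ = 0 → B w w' = 0
  · exact ⟨x₁, hx₁, Or.inr h'⟩
  push Not at h'
  obtain ⟨y, z, hy, hz, hyz⟩ := h'
  obtain ⟨z', hz'def⟩ : ∃ z', z' = (B y z)⁻¹ • z := ⟨_, rfl⟩
  have hyz' : B y z' = 1 := by
    rw [hz'def, map_smul, smul_eq_mul, inv_mul_cancel₀ hyz]
  have hz'x : B z' x₁ = 0 := by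
    rw [hz'def, map_smul, LinearMap.smul_apply, hz, smul_zero]
  have hyy : B y y = 0 := h y hy
  have hz'z' : B z' z' = 0 := h z' hz'x
  have hxy : B x₁ y = 0 := by rw [hsymm]; exact hy
  have hxz' : B x₁ z' = 0 := by rw [hsymm]; exact hz'x
  have hz'y : B z' y = 1 := by rw [hsymm]; exact hyz'
  refine ⟨x₁ + y, ?_, Or.inl ⟨x₁ + z', ?_, ?_⟩⟩
  · simp only [map_add, LinearMap.add_apply, hx₁, hxy, hy, hyy]
    ring
  · simp only [map_add, LinearMap.add_apply, hx₁, hxy, hz'x, hz'y]
    linear_combination h2
  · simp only [map_add, LinearMap.add_apply, hx₁, hxz', hz'x, hz'z']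
    simp

theorem hasOrthoFamily_aux {F : Type u} [Field F] (h2 : (2 : F) = 0)
    (hsq : ∀ a : F, ∃ c : F, c * c = a) :
    ∀ (n : ℕ) (V : Type v) [AddCommGroup V] [Module F V]
    [FiniteDimensional F V] (B : LinearMap.BilinForm F V), (∀ u v, B u v = B v u) →
    (∃ x, B x x ≠ 0) → finrank F V = n → HasOrthoFamily B := by
  intro n
  induction n using Nat.strong_induction_on with
  | _ n ih =>
    intro V _ _ _ B hsymm hna hn
    obtain ⟨x₁, hx₁, hgood⟩ := exists_good_norm_one h2 hsq B hsymm hna
    let W : Submodule F V := LinearMap.ker (B.flip x₁)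
    have hW : ∀ w : V, w ∈ W ↔ B w x₁ = 0 := by
      intro w
      simp [W, LinearMap.mem_ker]
    have hWne : W ≠ ⊤ := by
      intro h
      have : x₁ ∈ W := by rw [h]; trivial
      rw [hW, hx₁] at this
      exact one_ne_zero this
    have hlt : finrank F W < n := by
      rw [← hn]; exact Submodule.finrank_lt hWne
    have hdec : ∀ v : V, ∃ w : W, v = B v x₁ • x₁ + (w : V) := by
      intro v
      refine ⟨⟨v - B v x₁ • x₁, ?_⟩, ?_⟩
      · rw [hW]
        simp only [map_sub, map_smul, LinearMap.sub_apply, LinearMap.smul_apply, smul_eq_mul, hx₁]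
        ring
      · simp only
        abel
    have hWx : ∀ w : W, B (w : V) x₁ = 0 := fun w => (hW w).1 w.2
    have hxW : ∀ w : W, B x₁ (w : V) = 0 := fun w => by rw [hsymm]; exact hWx w
    rcases hgood with ⟨w₀, hw₀x, hw₀⟩ | hzero
    · -- the complement is non-alternating: induction
      let BW : LinearMap.BilinForm F W := B.compl₁₂ W.subtype W.subtype
      have hBW : ∀ x y : W, BW x y = B x y := fun x y => rfl
      obtain ⟨s, k, x, r, h1, h4, h6⟩ := ih _ hlt W BW (fun u v => hsymm u v)
        ⟨⟨w₀, (hW w₀).2 hw₀x⟩, hw₀⟩ rfl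
      refine ⟨s + 1, k, Fin.cons x₁ (fun i => (x i : V)), fun j => (r j : V), ?_, ?_, ?_⟩
      · intro i j
        refine Fin.cases ?_ (fun i' => ?_) i <;> refine Fin.cases ?_ (fun j' => ?_) j
        · simp [hx₁]
        · simp only [Fin.cons_zero, Fin.cons_succ]
          rw [hxW]
          simp [(Fin.succ_ne_zero j').symm]
        · simp only [Fin.cons_zero, Fin.cons_succ]
          rw [hWx]
          simp [Fin.succ_ne_zero i']
        · simp only [Fin.cons_succ]
          have := h1 i' j'
          rw [hBW] at this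
          rw [this]
          simp [Fin.succ_inj]
      · intro j v
        obtain ⟨w, hw⟩ := hdec v
        rw [hw]
        simp only [map_add, map_smul, smul_eq_mul, hWx, mul_zero, zero_add]
        exact h4 j w
      · intro v _
        obtain ⟨w, hw⟩ := hdec v
        rw [hw]
        apply Submodule.add_mem
        · apply Submodule.smul_mem
          apply Submodule.subset_span
          left
          exact ⟨0, by simp⟩
        · have hw' : w ∈ Submodule.span F (Set.range x ∪ Set.range r) := h6 trivial
          have hmap : (w : V) ∈ (Submodule.span F (Set.range x ∪ Set.range r)).map W.subtype :=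
            ⟨w, hw', rfl⟩
          rw [Submodule.map_span] at hmap
          refine Submodule.span_mono ?_ hmap
          rintro _ ⟨y, hy, rfl⟩
          rcases hy with ⟨i, rfl⟩ | ⟨j, rfl⟩
          · left
            exact ⟨i.succ, by simp⟩
          · right
            exact ⟨j, rfl⟩
    · -- the complement is totally isotropic
      refine ⟨1, finrank F W, fun _ => x₁, fun j => ((Module.finBasis F W j : W) : V), ?_, ?_, ?_⟩
      · intro i j
        rw [hx₁, if_pos (Subsingleton.elim i j)]
      · intro j v
        obtain ⟨w, hw⟩ := hdec v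
        rw [hw]
        simp only [map_add, map_smul, smul_eq_mul, hWx, mul_zero, zero_add]
        exact hzero _ _ (hWx _) (hWx _)
      · intro v _
        obtain ⟨w, hw⟩ := hdec v
        rw [hw]
        apply Submodule.add_mem
        · apply Submodule.smul_mem
          apply Submodule.subset_span
          left
          exact ⟨0, rfl⟩
        · have hw' : w ∈ Submodule.span F (Set.range (Module.finBasis F W)) := by
            rw [(Module.finBasis F W).span_eq]; trivial
          have hmap : (w : V) ∈ (Submodule.span F (Set.range (Module.finBasis F W))).map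
              W.subtype := ⟨w, hw', rfl⟩
          rw [Submodule.map_span] at hmap
          refine Submodule.span_mono ?_ hmap
          rintro _ ⟨y, ⟨j, rfl⟩, rfl⟩
          right
          exact ⟨j, rfl⟩

/-- a non-alternating symmetric bilinear form over a perfect field of characteristic two has an
orthonormal family spanning the space together with radical vectors -/
theorem hasOrthoFamily {F : Type u} {V : Type v} [Field F] [AddCommGroup V] [Module F V]
    [FiniteDimensional F V] (h2 : (2 : F) = 0) (hsq : ∀ a : F, ∃ c : F, c * c = a)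
    (B : LinearMap.BilinForm F V) (hsymm : ∀ u v, B u v = B v u) (hna : ∃ x, B x x ≠ 0) :
    HasOrthoFamily B :=
  hasOrthoFamily_aux h2 hsq _ V B hsymm hna rfl

end Cfsg.Agent.Lib.Helper8
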