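import Mathlib
import Cfsg.Agent.Lib.Helper8.AltBasis
import Cfsg.Agent.Lib.Helper8.OrthoFamily
import Cfsg.Agent.Lib.Helper8.WittQuad

set_option autoImplicit false

namespace Cfsg.Agent.Lib.Helper8

open Module QuadraticMap

universe u v

variable {F : Type u} {V : Type v} [Field F] [AddCommGroup V] [Module F V]

/-- an involutive isometry of a quadratic space (the identity is allowed) -/
structure IsInvIso (Q : QuadraticForm F V) (t : V →ₗ[F] V) : Prop where
  iso : ∀ v, Q (t v) = Q v
  inv : ∀ v, t (t v) = v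

/-- `t - 1` -/
def nilPart (t : V →ₗ[F] V) : V →ₗ[F] V := t - LinearMap.id

theorem nilPart_apply (t : V →ₗ[F] V) (z : V) : nilPart t z = t z - z := rfl

section basic

variable {Q : QuadraticForm F V} {t : V →ₗ[F] V} (ht : IsInvIso Q t)
include ht

theorem IsInvIso.polar_map (a b : V) : polar Q (t a) (t b) = polar Q a b :=
  polar_of_preserving Q t ht.iso a b

theorem IsInvIso.polar_swap (a b : V) : polar Q a (t b) = polar Q (t a) b := by
  rw [← ht.polar_map a (t b), ht.inv]

/-- `t - 1` is self-adjoint -/
theorem IsInvIso.polar_nil (a b : V) : polar Q a (nilPart t b) = polar Q (nilPart t a) b := by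
  rw [nilPart_apply, nilPart_apply, polar_sub_right, polar_sub_left, ht.polar_swap]

/-- the image of `t - 1` is totally isotropic in characteristic two -/
theorem IsInvIso.polar_nil_nil (h2 : (2 : F) = 0) (a b : V) :
    polar Q (nilPart t a) (nilPart t b) = 0 := by
  rw [nilPart_apply, nilPart_apply, polar_sub_right, polar_sub_left, polar_sub_left,
    ht.polar_map, ht.polar_swap a b]
  linear_combination (polar Q a b - polar Q (t a) b) * h2

theorem IsInvIso.quad_nil (h2 : (2 : F) = 0) (a : V) :
    Q (nilPart t a) = polar Q a (nilPart t a) := by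
  rw [nilPart_apply, quad_sub, ht.iso, polar_sub_right, polar_self, polar_comm Q (t a) a]
  simp only [nsmul_eq_mul, Nat.cast_ofNat]
  linear_combination (2 * Q a - polar Q a (t a)) * h2

end basic

/-- the symmetric bilinear form `(a, b) ↦ f(a, (t - 1) b)` -/
def nilForm (Q : QuadraticForm F V) (t : V →ₗ[F] V) : LinearMap.BilinForm F V :=
  (QuadraticMap.polarBilin Q).compl₂ (nilPart t)

theorem nilForm_apply (Q : QuadraticForm F V) (t : V →ₗ[F] V) (a b : V) :
    nilForm Q t a b = polar Q a (nilPart t b) := rfl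

theorem nilForm_symm {Q : QuadraticForm F V} {t : V →ₗ[F] V} (ht : IsInvIso Q t) (a b : V) :
    nilForm Q t a b = nilForm Q t b a := by
  rw [nilForm_apply, nilForm_apply, ht.polar_nil, polar_comm]

theorem nilForm_self {Q : QuadraticForm F V} {t : V →ₗ[F] V} (ht : IsInvIso Q t)
    (h2 : (2 : F) = 0) (a : V) : nilForm Q t a a = Q (nilPart t a) := by
  rw [nilForm_apply, ht.quad_nil h2]

/-- a standard frame for an involution: `t z = z + Σ_a f(z, w (σ a)) w a` -/
structure IsFrame (Q : QuadraticForm F V) (t : V →ₗ[F] V) {κ : Type} [Fintype κ] [DecidableEq κ]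
    (σ : κ → κ) (w : κ → V) : Prop where
  quad : ∀ a, Q (w a) = if σ a = a then 1 else 0
  orth : ∀ a b, QuadraticMap.polar Q (w a) (w b) = 0
  indep : LinearIndependent F w
  mem : ∀ a, w a ∈ LinearMap.range (nilPart t)
  formula : ∀ z, nilPart t z = ∑ a, QuadraticMap.polar Q z (w (σ a)) • w a

theorem linearIndependent_of_dual (Q : QuadraticForm F V) {κ : Type} [Fintype κ] [DecidableEq κ]
    (w x : κ → V) (h : ∀ a b, polar Q (x a) (w b) = if a = b then 1 else 0) :
    LinearIndependent F w := by
  rw [Fintype.linearIndependent_iff]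
  intro g hg a
  have h1 := congrArg (fun z => polar Q (x a) z) hg
  simp only [polar_zero_right] at h1
  have h3 : polar Q (x a) (∑ b, g b • w b) = ∑ b, g b * polar Q (x a) (w b) := by
    have := map_sum (QuadraticMap.polarBilin Q (x a)) (fun b => g b • w b) Finset.univ
    simp only [QuadraticMap.polarBilin_apply_apply, polar_smul_right, smul_eq_mul] at this
    exact this
  rw [h3] at h1
  simp only [h, mul_ite, mul_one, mul_zero, Finset.sum_ite_eq, Finset.mem_univ, if_true] at h1
  exact h1

theorem IsFrame.finrank_range {Q : QuadraticForm F V} {t : V →ₗ[F] V} {κ : Type} [Fintype κ]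
    [DecidableEq κ] {σ : κ → κ} {w : κ → V} (hw : IsFrame Q t σ w) :
    finrank F (LinearMap.range (nilPart t)) = Fintype.card κ := by
  have : LinearMap.range (nilPart t) = Submodule.span F (Set.range w) := by
    apply le_antisymm
    · rintro _ ⟨z, rfl⟩
      rw [hw.formula]
      apply Submodule.sum_mem
      intro a _
      exact Submodule.smul_mem _ _ (Submodule.subset_span ⟨a, rfl⟩)
    · rw [Submodule.span_le]
      rintro _ ⟨a, rfl⟩
      exact hw.mem a
  rw [this, finrank_span_eq_card hw.indep]

theorem nil_eq_zero_of_nilForm {Q : QuadraticForm F V} {t : V →ₗ[F] V} (ht : IsInvIso Q t)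
    (hQ : (QuadraticMap.polarBilin Q).Nondegenerate) (z : V)
    (h : ∀ v, nilForm Q t z v = 0) : nilPart t z = 0 := by
  apply hQ.1
  intro v
  show polar Q (nilPart t z) v = 0
  rw [← ht.polar_nil]
  exact h v

theorem bilin_eq_zero_of_span (B : LinearMap.BilinForm F V) (S : Set V)
    (hS : ⊤ ≤ Submodule.span F S) (z : V) (h : ∀ v ∈ S, B z v = 0) (v : V) : B z v = 0 := by
  have hv : v ∈ Submodule.span F S := hS trivial
  induction hv using Submodule.span_induction with
  | mem x hx => exact h x hx
  | zero => simp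
  | add a b _ _ ha hb => rw [map_add, ha, hb, add_zero]
  | smul c a _ ha => rw [map_smul, ha, smul_zero]

/-- involutions of non-alternating type are products of commuting reflections -/
theorem exists_frame_nonalt [FiniteDimensional F V] (h2 : (2 : F) = 0)
    (hsq : ∀ a : F, ∃ c : F, c * c = a) {Q : QuadraticForm F V}
    (hQ : (QuadraticMap.polarBilin Q).Nondegenerate) {t : V →ₗ[F] V} (ht : IsInvIso Q t)
    (hB : ∃ z, Q (nilPart t z) ≠ 0) :
    ∃ (s : ℕ) (w : Fin s → V), IsFrame Q t (id : Fin s → Fin s) w := by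
  obtain ⟨s, k, x, r, h1, h4, h6⟩ := hasOrthoFamily h2 hsq (nilForm Q t) (nilForm_symm ht)
    (by
      obtain ⟨z, hz⟩ := hB
      exact ⟨z, by rw [nilForm_self ht h2]; exact hz⟩)
  refine ⟨s, fun i => nilPart t (x i), ?_, ?_, ?_, ?_, ?_⟩
  · intro a
    rw [if_pos (id_eq a), ← nilForm_self ht h2, h1, if_pos rfl]
  · intro a b
    exact ht.polar_nil_nil h2 _ _
  · exact linearIndependent_of_dual Q _ x (fun a b => by rw [← nilForm_apply]; exact h1 a b)
  · intro a
    exact ⟨x a, rfl⟩
  · intro z
    obtain ⟨z', hz'def⟩ : ∃ z', z' = z - ∑ i, nilForm Q t z (x i) • x i := ⟨_, rfl⟩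
    have hz' : nilPart t z' = 0 := by
      apply nil_eq_zero_of_nilForm ht hQ z'
      apply bilin_eq_zero_of_span _ _ h6 z'
      rintro v (⟨j, rfl⟩ | ⟨j, rfl⟩)
      · rw [hz'def]
        simp only [map_sub, map_sum, map_smul, LinearMap.sub_apply, LinearMap.sum_apply,
          LinearMap.smul_apply, smul_eq_mul, h1, mul_ite, mul_one, mul_zero, Finset.sum_ite_eq',
          Finset.mem_univ, if_true, sub_self]
      · rw [nilForm_symm ht]; exact h4 j z'
    have hz : z = z' + ∑ i, nilForm Q t z (x i) • x i := by rw [hz'def]; abel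
    conv_lhs => rw [hz]
    rw [map_add, hz', zero_add, map_sum]
    apply Finset.sum_congr rfl
    intro i _
    rw [map_smul, nilForm_apply]
    rfl

theorem sum_swap_ne {r : ℕ} (a : Fin r ⊕ Fin r) : Sum.swap a ≠ a := by
  cases a <;> simp

/-- involutions of alternating type are products of commuting Siegel transformations -/
theorem exists_frame_alt [FiniteDimensional F V] (h2 : (2 : F) = 0) {Q : QuadraticForm F V}
    (hQ : (QuadraticMap.polarBilin Q).Nondegenerate) {t : V →ₗ[F] V} (ht : IsInvIso Q t)
    (hA : ∀ z, Q (nilPart t z) = 0) :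
    ∃ (r : ℕ) (w : Fin r ⊕ Fin r → V), IsFrame Q t (Sum.swap : Fin r ⊕ Fin r → Fin r ⊕ Fin r) w := by
  have halt : (nilForm Q t).IsAlt := by
    intro z
    rw [nilForm_self ht h2]; exact hA z
  obtain ⟨m, k, e, f, rad, h1, h2', h3, h4, h5, h6⟩ := hasAltFamily (nilForm Q t) halt
  have h1' : ∀ i j, nilForm Q t (f i) (e j) = if i = j then 1 else 0 := by
    intro i j
    rw [nilForm_symm ht, h1]
    by_cases hij : i = j
    · subst hij; simp
    · rw [if_neg hij, if_neg (fun h => hij h.symm)]
  refine ⟨m, Sum.elim (fun i => nilPart t (e i)) (fun i => nilPart t (f i)), ?_, ?_, ?_, ?_, ?_⟩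
  · intro a
    rw [if_neg (sum_swap_ne a)]
    cases a <;> exact hA _
  · intro a b
    cases a <;> cases b <;> exact ht.polar_nil_nil h2 _ _
  · apply linearIndependent_of_dual Q _ (Sum.elim f e)
    intro a b
    cases a with
    | inl i =>
      cases b with
      | inl j =>
        simp only [Sum.elim_inl, Sum.inl.injEq]
        rw [← nilForm_apply]; exact h1' i j
      | inr j =>
        simp only [Sum.elim_inl, Sum.elim_inr, reduceCtorEq, if_false]
        rw [← nilForm_apply]; exact h3 i j
    | inr i =>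
      cases b with
      | inl j =>
        simp only [Sum.elim_inl, Sum.elim_inr, reduceCtorEq, if_false]
        rw [← nilForm_apply]; exact h2' i j
      | inr j =>
        simp only [Sum.elim_inr, Sum.inr.injEq]
        rw [← nilForm_apply]; exact h1 i j
  · intro a
    cases a with
    | inl i => exact ⟨e i, rfl⟩
    | inr i => exact ⟨f i, rfl⟩
  · intro z
    obtain ⟨z', hz'def⟩ : ∃ z', z' = z - ∑ i, (nilForm Q t z (f i) • e i
        + nilForm Q t z (e i) • f i) := ⟨_, rfl⟩
    have hz' : nilPart t z' = 0 := by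
      apply nil_eq_zero_of_nilForm ht hQ z'
      apply bilin_eq_zero_of_span _ _ h6 z'
      rintro v ((⟨j, rfl⟩ | ⟨j, rfl⟩) | ⟨j, rfl⟩)
      · rw [hz'def]
        simp only [map_sub, map_sum, map_add, map_smul, LinearMap.sub_apply, LinearMap.sum_apply,
          LinearMap.add_apply, LinearMap.smul_apply, smul_eq_mul, h2', h1', mul_ite, mul_one,
          mul_zero, zero_add, Finset.sum_ite_eq', Finset.mem_univ, if_true, sub_self]
      · rw [hz'def]
        simp only [map_sub, map_sum, map_add, map_smul, LinearMap.sub_apply, LinearMap.sum_apply,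
          LinearMap.add_apply, LinearMap.smul_apply, smul_eq_mul, h3, h1, mul_ite, mul_one,
          mul_zero, add_zero, Finset.sum_ite_eq', Finset.mem_univ, if_true, sub_self]
      · rw [nilForm_symm ht]; exact h4 j z'
    have hz : z = z' + ∑ i, (nilForm Q t z (f i) • e i + nilForm Q t z (e i) • f i) := by
      rw [hz'def]; abel
    conv_lhs => rw [hz]
    rw [map_add, hz', zero_add, map_sum, Fintype.sum_sum_type, ← Finset.sum_add_distrib]
    apply Finset.sum_congr rfl
    intro i _
    simp only [map_add, map_smul, Sum.swap_inl, Sum.swap_inr, Sum.elim_inl, Sum.elim_inr,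
      nilForm_apply]

/-- involutions with standard frames of the same shape are conjugate -/
theorem conj_of_frames [FiniteDimensional F V] {Q : QuadraticForm F V}
    (hQ : (QuadraticMap.polarBilin Q).Nondegenerate) {t t' : V →ₗ[F] V} {κ : Type} [Fintype κ]
    [DecidableEq κ] {σ : κ → κ} {w w' : κ → V} (hw : IsFrame Q t σ w) (hw' : IsFrame Q t' σ w') :
    ∃ g : V ≃ₗ[F] V, (∀ v, Q (g v) = Q v) ∧ ∀ z, g (t z) = t' (g z) := by
  obtain ⟨e⟩ : Nonempty (κ ≃ Fin (Fintype.card κ)) := ⟨Fintype.equivFin κ⟩
  obtain ⟨g, hg, hgw⟩ := witt_family_quad Q hQ (Fintype.card κ) (w ∘ e.symm) (w' ∘ e.symm)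
    (hw.indep.comp _ e.symm.injective) (hw'.indep.comp _ e.symm.injective)
    (fun i => by simp only [Function.comp_apply, hw.quad, hw'.quad])
    (fun i j => by simp only [Function.comp_apply, hw.orth, hw'.orth])
  have hgw' : ∀ a, g (w a) = w' a := by
    intro a
    have := hgw (e a)
    simpa using this
  refine ⟨g, hg, ?_⟩
  intro z
  have h1 : t z = z + nilPart t z := by rw [nilPart_apply]; abel
  have h2 : t' (g z) = g z + nilPart t' (g z) := by rw [nilPart_apply]; abel
  rw [h1, h2, map_add, hw.formula, hw'.formula, map_sum]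
  congr 1
  apply Finset.sum_congr rfl
  intro a _
  rw [map_smul, hgw', ← hgw' (σ a)]
  congr 1
  exact (polar_of_preserving Q (g : V →ₗ[F] V) hg z (w (σ a))).symm

/-- classification of involutions of an orthogonal group in characteristic two -/
theorem conj_of_same_type [FiniteDimensional F V] (h2 : (2 : F) = 0)
    (hsq : ∀ a : F, ∃ c : F, c * c = a) {Q : QuadraticForm F V}
    (hQ : (QuadraticMap.polarBilin Q).Nondegenerate) {t t' : V →ₗ[F] V} (ht : IsInvIso Q t)
    (ht' : IsInvIso Q t')
    (hrank : finrank F (LinearMap.range (nilPart t)) = finrank F (LinearMap.range (nilPart t')))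
    (htype : (∀ z, Q (nilPart t z) = 0) ↔ (∀ z, Q (nilPart t' z) = 0)) :
    ∃ g : V ≃ₗ[F] V, (∀ v, Q (g v) = Q v) ∧ ∀ z, g (t z) = t' (g z) := by
  by_cases hA : ∀ z, Q (nilPart t z) = 0
  · obtain ⟨r, w, hw⟩ := exists_frame_alt h2 hQ ht hA
    obtain ⟨r', w', hw'⟩ := exists_frame_alt h2 hQ ht' (htype.1 hA)
    have h1 := hw.finrank_range
    have h2' := hw'.finrank_range
    have hrr : r = r' := by
      simp only [Fintype.card_sum, Fintype.card_fin] at h1 h2'
      omega
    subst hrr
    exact conj_of_frames hQ hw hw'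
  · have hA' : ¬ ∀ z, Q (nilPart t' z) = 0 := fun h => hA (htype.2 h)
    push Not at hA hA'
    obtain ⟨s, w, hw⟩ := exists_frame_nonalt h2 hsq hQ ht hA
    obtain ⟨s', w', hw'⟩ := exists_frame_nonalt h2 hsq hQ ht' hA'
    have h1 := hw.finrank_range
    have h2' := hw'.finrank_range
    have hss : s = s' := by
      simp only [Fintype.card_fin] at h1 h2'
      omega
    subst hss
    exact conj_of_frames hQ hw hw'

end Cfsg.Agent.Lib.Helper8
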