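import Mathlib
import Cfsg.Prelude.Def_ClassicalGeometry
import Cfsg.Agent.Lib.Helper8.InvolChar2
import Cfsg.Agent.Lib.Helper8.Eichler
import Cfsg.Agent.Lib.Helper8.CartanDieudonne2

set_option autoImplicit false

namespace Cfsg.Agent.Lib.Helper8

open Matrix Module QuadraticMap
open Cfsg.Agent.Lib.Helper13

variable {ι : Type} [Fintype ι] [DecidableEq ι] {F : Type*} [Field F]

/-- the linear map of an isometry -/
noncomputable def isoLin (Q : QuadraticForm F (ι → F)) (T : ↥(Cfsg.isometryGroup F (⇑Q))) :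
    (ι → F) →ₗ[F] (ι → F) :=
  Matrix.mulVecLin ((T : Matrix.GeneralLinearGroup ι F) : Matrix ι ι F)

theorem isoLin_apply (Q : QuadraticForm F (ι → F)) (T : ↥(Cfsg.isometryGroup F (⇑Q)))
    (z : ι → F) :
    isoLin Q T z = ((T : Matrix.GeneralLinearGroup ι F) : Matrix ι ι F) *ᵥ z := rfl

theorem isInvIso_isoLin (Q : QuadraticForm F (ι → F)) (T : ↥(Cfsg.isometryGroup F (⇑Q)))
    (hT : T * T = 1) : IsInvIso Q (isoLin Q T) := by
  refine ⟨fun v => isoElt_preserves Q T v, fun v => ?_⟩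
  rw [isoLin_apply, isoLin_apply, ← coe_mul_mulVec, hT]
  simp

theorem nilPart_isoLin (Q : QuadraticForm F (ι → F)) (T : ↥(Cfsg.isometryGroup F (⇑Q)))
    (z : ι → F) :
    nilPart (isoLin Q T) z
      = (((T : Matrix.GeneralLinearGroup ι F) : Matrix ι ι F) - 1) *ᵥ z := by
  rw [nilPart_apply, isoLin_apply, Matrix.sub_mulVec, Matrix.one_mulVec]

theorem finrank_range_nilPart (Q : QuadraticForm F (ι → F))
    (T : ↥(Cfsg.isometryGroup F (⇑Q))) :
    finrank F (LinearMap.range (nilPart (isoLin Q T)))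
      = (((T : Matrix.GeneralLinearGroup ι F) : Matrix ι ι F) - 1).rank := by
  have : nilPart (isoLin Q T)
      = Matrix.mulVecLin (((T : Matrix.GeneralLinearGroup ι F) : Matrix ι ι F) - 1) := by
    apply LinearMap.ext
    intro z
    rw [nilPart_isoLin, Matrix.mulVecLin_apply]
  rw [this]
  rfl

/-- involutions of the same rank and type are conjugate in the orthogonal group -/
theorem isConj_of_same_type [Fintype F] (h2 : (2 : F) = 0) (Q : QuadraticForm F (ι → F))
    (hQ : (QuadraticMap.polarBilin Q).Nondegenerate) (t s : ↥(Cfsg.isometryGroup F (⇑Q)))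
    (ht : t * t = 1) (hs : s * s = 1)
    (hrank : (((t : Matrix.GeneralLinearGroup ι F) : Matrix ι ι F) - 1).rank
      = (((s : Matrix.GeneralLinearGroup ι F) : Matrix ι ι F) - 1).rank)
    (htype : (∀ z, Q ((((t : Matrix.GeneralLinearGroup ι F) : Matrix ι ι F) - 1) *ᵥ z) = 0) ↔
      (∀ z, Q ((((s : Matrix.GeneralLinearGroup ι F) : Matrix ι ι F) - 1) *ᵥ z) = 0)) :
    IsConj t s := by
  obtain ⟨g, hg, hgt⟩ := conj_of_same_type h2 (exists_sq_char2 h2) hQ (isInvIso_isoLin Q t ht)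
    (isInvIso_isoLin Q s hs)
    (by rw [finrank_range_nilPart, finrank_range_nilPart, hrank])
    (by simp only [nilPart_isoLin]; exact htype)
  rw [isConj_iff]
  refine ⟨isoOfEquiv Q g hg, ?_⟩
  rw [mul_inv_eq_iff_eq_mul]
  apply iso_ext
  intro x
  rw [coe_mul_mulVec, coe_mul_mulVec, isoOfEquiv_mulVec, isoOfEquiv_mulVec]
  exact hgt x

/-- rank and type are invariant under conjugation by isometries of the polar form -/
theorem same_type_of_polar_conj (h2 : (2 : F) = 0) (Q : QuadraticForm F (ι → F))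
    (t s : ↥(Cfsg.isometryGroup F (⇑Q))) (ht : t * t = 1) (hs : s * s = 1)
    (g : Matrix.GeneralLinearGroup ι F)
    (hg : ∀ u v, polar (⇑Q) ((g : Matrix ι ι F) *ᵥ u) ((g : Matrix ι ι F) *ᵥ v) = polar (⇑Q) u v)
    (hconj : g * (t : Matrix.GeneralLinearGroup ι F) * g⁻¹ = (s : Matrix.GeneralLinearGroup ι F)) :
    (((t : Matrix.GeneralLinearGroup ι F) : Matrix ι ι F) - 1).rank
      = (((s : Matrix.GeneralLinearGroup ι F) : Matrix ι ι F) - 1).rank ∧
    ((∀ z, Q ((((t : Matrix.GeneralLinearGroup ι F) : Matrix ι ι F) - 1) *ᵥ z) = 0) ↔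
      (∀ z, Q ((((s : Matrix.GeneralLinearGroup ι F) : Matrix ι ι F) - 1) *ᵥ z) = 0)) := by
  have hmat : ((s : Matrix.GeneralLinearGroup ι F) : Matrix ι ι F) - 1
      = (g : Matrix ι ι F) * (((t : Matrix.GeneralLinearGroup ι F) : Matrix ι ι F) - 1)
        * ((g⁻¹ : Matrix.GeneralLinearGroup ι F) : Matrix ι ι F) := by
    have h1 : (g : Matrix ι ι F) * ((g⁻¹ : Matrix.GeneralLinearGroup ι F) : Matrix ι ι F) = 1 := by
      rw [← Units.val_mul, mul_inv_cancel, Units.val_one]
    rw [← hconj, Units.val_mul, Units.val_mul, Matrix.mul_sub, Matrix.sub_mul, Matrix.mul_one, h1]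
  have hgg : ∀ z, (g : Matrix ι ι F) *ᵥ (((g⁻¹ : Matrix.GeneralLinearGroup ι F) : Matrix ι ι F) *ᵥ z)
      = z := by
    intro z
    rw [Matrix.mulVec_mulVec, ← Units.val_mul, mul_inv_cancel, Units.val_one, Matrix.one_mulVec]
  have hgg' : ∀ z, ((g⁻¹ : Matrix.GeneralLinearGroup ι F) : Matrix ι ι F) *ᵥ ((g : Matrix ι ι F) *ᵥ z)
      = z := by
    intro z
    rw [Matrix.mulVec_mulVec, ← Units.val_mul, inv_mul_cancel, Units.val_one, Matrix.one_mulVec]
  have hqt := (isInvIso_isoLin Q t ht).quad_nil h2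
  have hqs := (isInvIso_isoLin Q s hs).quad_nil h2
  simp only [nilPart_isoLin] at hqt hqs
  -- the key identity
  have key : ∀ z, Q ((((s : Matrix.GeneralLinearGroup ι F) : Matrix ι ι F) - 1) *ᵥ z)
      = Q ((((t : Matrix.GeneralLinearGroup ι F) : Matrix ι ι F) - 1) *ᵥ
        (((g⁻¹ : Matrix.GeneralLinearGroup ι F) : Matrix ι ι F) *ᵥ z)) := by
    intro z
    rw [hqs, hqt, hmat, ← Matrix.mulVec_mulVec, ← Matrix.mulVec_mulVec]
    conv_lhs => rw [← hgg z]
    rw [hg, hgg']
  constructor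
  · rw [hmat]
    rw [Matrix.rank_mul_eq_left_of_isUnit_det _ _
      ((Matrix.isUnit_iff_isUnit_det _).1 (Units.isUnit g⁻¹)),
      Matrix.rank_mul_eq_right_of_isUnit_det _ _
      ((Matrix.isUnit_iff_isUnit_det _).1 (Units.isUnit g))]
  · constructor
    · intro h z
      rw [key]; exact h _
    · intro h z
      have := h ((g : Matrix ι ι F) *ᵥ z)
      rw [key, hgg'] at this
      exact this

theorem mul_self_of_orderOf_two {G : Type*} [Group G] (t : G) (ht : orderOf t = 2) : t * t = 1 := by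
  have := pow_orderOf_eq_one t
  rw [ht, pow_two] at this
  exact this

/-- involutions are conjugate in the orthogonal group iff they are conjugate under the symplectic
group of the polar form -/
theorem isConj_iff_polar_conj [Fintype F] (h2 : (2 : F) = 0) (Q : QuadraticForm F (ι → F))
    (hQ : (QuadraticMap.polarBilin Q).Nondegenerate) (t s : ↥(Cfsg.isometryGroup F (⇑Q)))
    (ht : orderOf t = 2) (hs : orderOf s = 2) :
    IsConj t s ↔ ∃ g ∈ Cfsg.preserving (Units.coeHom (Matrix ι ι F))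
      (fun u v => Q (u + v) - Q u - Q v),
      g * (t : Matrix.GeneralLinearGroup ι F) * g⁻¹ = (s : Matrix.GeneralLinearGroup ι F) := by
  constructor
  · intro h
    rw [isConj_iff] at h
    obtain ⟨c, hc⟩ := h
    refine ⟨(c : Matrix.GeneralLinearGroup ι F), ?_, ?_⟩
    · intro u v
      exact iso_polar Q c u v
    · rw [← hc]
      simp
  · rintro ⟨g, hg, hconj⟩
    obtain ⟨hr, hty⟩ := same_type_of_polar_conj h2 Q t s (mul_self_of_orderOf_two t ht)
      (mul_self_of_orderOf_two s hs) g (fun u v => hg u v) hconj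
    exact isConj_of_same_type h2 Q hQ t s (mul_self_of_orderOf_two t ht)
      (mul_self_of_orderOf_two s hs) hr hty

theorem isConj_iff_polar_conj' [Fintype F] (h2 : (2 : F) = 0) (f : (ι → F) → F)
    (Q : QuadraticForm F (ι → F)) (hf : f = ⇑Q)
    (hQ : (QuadraticMap.polarBilin Q).Nondegenerate) (t s : ↥(Cfsg.isometryGroup F f))
    (ht : orderOf t = 2) (hs : orderOf s = 2) :
    IsConj t s ↔ ∃ g ∈ Cfsg.preserving (Units.coeHom (Matrix ι ι F))
      (fun u v => f (u + v) - f u - f v),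
      g * (t : Matrix.GeneralLinearGroup ι F) * g⁻¹ = (s : Matrix.GeneralLinearGroup ι F) := by
  subst hf
  exact isConj_iff_polar_conj h2 Q hQ t s ht hs

end Cfsg.Agent.Lib.Helper8
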