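import Mathlib
import Cfsg.Agent.Lib.Helper8.InvolChar2
import Cfsg.Agent.Lib.Helper8.InvolOrth

set_option autoImplicit false

namespace Cfsg.Agent.Lib.Helper8

open Module QuadraticMap

universe u v

variable {F : Type u} {V : Type v} [Field F] [AddCommGroup V] [Module F V]

section basic

variable {Q : QuadraticForm F V} {t : V →ₗ[F] V} (ht : IsInvIso Q t)
include ht

/-- `(t - 1)^2 = 0` in characteristic two -/
theorem IsInvIso.nil_nil (h2 : (2 : F) = 0) (z : V) : nilPart t (nilPart t z) = 0 := by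
  simp only [nilPart_apply, map_sub, ht.inv]
  have : z - t z - (t z - z) = (2 : F) • (z - t z) := by rw [two_smul]; abel
  rw [this, h2, zero_smul]

/-- the rank of `t - 1` is at most half the dimension -/
theorem IsInvIso.two_mul_finrank_range_le [FiniteDimensional F V] (h2 : (2 : F) = 0) :
    2 * finrank F (LinearMap.range (nilPart t)) ≤ finrank F V := by
  have hle : LinearMap.range (nilPart t) ≤ LinearMap.ker (nilPart t) := by
    rintro _ ⟨z, rfl⟩
    exact ht.nil_nil h2 z
  have h1 := Submodule.finrank_mono hle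
  have h3 := LinearMap.finrank_range_add_finrank_ker (nilPart t)
  omega

/-- involutions of alternating type have even rank -/
theorem IsInvIso.even_finrank_of_alt [FiniteDimensional F V] (h2 : (2 : F) = 0)
    (hQ : (QuadraticMap.polarBilin Q).Nondegenerate) (hA : ∀ z, Q (nilPart t z) = 0) :
    Even (finrank F (LinearMap.range (nilPart t))) := by
  obtain ⟨r, w, hw⟩ := exists_frame_alt h2 hQ ht hA
  rw [hw.finrank_range]
  exact ⟨r, by simp⟩

end basic

theorem polar_sum_smul_right (Q : QuadraticForm F V) {κ : Type} (s : Finset κ) (c : κ → F)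
    (w : κ → V) (x : V) :
    polar Q x (∑ b ∈ s, c b • w b) = ∑ b ∈ s, c b * polar Q x (w b) := by
  have := map_sum (QuadraticMap.polarBilin Q x) (fun b => c b • w b) s
  simp only [QuadraticMap.polarBilin_apply_apply, polar_smul_right, smul_eq_mul] at this
  exact this

theorem quad_sum_orth (Q : QuadraticForm F V) {κ : Type} (s : Finset κ) (c : κ → F)
    (w : κ → V) (horth : ∀ a b, polar Q (w a) (w b) = 0) :
    Q (∑ a ∈ s, c a • w a) = ∑ a ∈ s, c a * c a * Q (w a) := by
  classical
  induction s using Finset.induction_on with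
  | empty => simp
  | insert a s ha ih =>
    rw [Finset.sum_insert ha, Finset.sum_insert ha, QuadraticMap.map_add (⇑Q), ih,
      QuadraticMap.map_smul, polar_smul_left, polar_sum_smul_right]
    simp [horth]

/-- the map `z ↦ z + Σ_a f(z, w (σ a)) w a` -/
noncomputable def frameMap (Q : QuadraticForm F V) {κ : Type} [Fintype κ] (σ : κ → κ)
    (w : κ → V) : V →ₗ[F] V :=
  LinearMap.id + ∑ a, (QuadraticMap.polarBilin Q (w (σ a))).smulRight (w a)

theorem frameMap_apply (Q : QuadraticForm F V) {κ : Type} [Fintype κ] (σ : κ → κ)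
    (w : κ → V) (z : V) :
    frameMap Q σ w z = z + ∑ a, polar Q z (w (σ a)) • w a := by
  unfold frameMap
  rw [LinearMap.add_apply, LinearMap.id_apply, LinearMap.sum_apply]
  congr 1
  apply Finset.sum_congr rfl
  intro a _
  rw [LinearMap.smulRight_apply, QuadraticMap.polarBilin_apply_apply, polar_comm]

theorem nilPart_frameMap (Q : QuadraticForm F V) {κ : Type} [Fintype κ] (σ : κ → κ)
    (w : κ → V) (z : V) :
    nilPart (frameMap Q σ w) z = ∑ a, polar Q z (w (σ a)) • w a := by
  rw [nilPart_apply, frameMap_apply]; abel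

section frame

variable (Q : QuadraticForm F V) {κ : Type} [Fintype κ] [DecidableEq κ] (σ : κ → κ)
  (hσ : ∀ a, σ (σ a) = a) (w : κ → V)
  (hquad : ∀ a, Q (w a) = if σ a = a then 1 else 0)
  (horth : ∀ a b, polar Q (w a) (w b) = 0)

include hσ hquad horth in
theorem frameMap_iso (h2 : (2 : F) = 0) (z : V) : Q (frameMap Q σ w z) = Q z := by
  rw [frameMap_apply, QuadraticMap.map_add (⇑Q), quad_sum_orth Q _ _ _ horth,
    polar_sum_smul_right]
  have key : ∑ a, polar Q z (w (σ a)) * polar Q z (w (σ a)) * Q (w a)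
      + ∑ a, polar Q z (w (σ a)) * polar Q z (w a) = 0 := by
    rw [← Finset.sum_add_distrib]
    apply Finset.sum_involution (fun a _ => σ a)
    · intro a _
      rw [hquad, hquad, hσ]
      by_cases h : σ a = a
      · rw [h, if_pos rfl]
        linear_combination (polar Q z (w a) * polar Q z (w a) * 2) * h2
      · have h' : ¬ a = σ a := fun h' => h h'.symm
        rw [if_neg h, if_neg h']
        linear_combination (polar Q z (w a) * polar Q z (w (σ a))) * h2
    · intro a _ hne heq
      apply hne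
      rw [hquad, heq, if_pos rfl]
      linear_combination (polar Q z (w a) * polar Q z (w a)) * h2
    · intro a _; exact Finset.mem_univ _
    · intro a _; exact hσ a
  rw [add_assoc, key, add_zero]

omit [DecidableEq κ] in
include horth in
theorem nilPart_frameMap_nil (z : V) :
    nilPart (frameMap Q σ w) (nilPart (frameMap Q σ w) z) = 0 := by
  rw [nilPart_frameMap Q σ w (nilPart (frameMap Q σ w) z)]
  apply Finset.sum_eq_zero
  intro a _
  rw [nilPart_frameMap, polar_comm, polar_sum_smul_right]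
  simp [horth]

omit [DecidableEq κ] in
include horth in
theorem frameMap_inv (h2 : (2 : F) = 0) (z : V) : frameMap Q σ w (frameMap Q σ w z) = z := by
  have h1 : ∀ x, frameMap Q σ w x = x + nilPart (frameMap Q σ w) x := by
    intro x; rw [nilPart_apply]; abel
  rw [h1 (frameMap Q σ w z), h1 z, map_add, nilPart_frameMap_nil Q σ w horth]
  have : z + nilPart (frameMap Q σ w) z + (nilPart (frameMap Q σ w) z + 0)
      = z + (2 : F) • nilPart (frameMap Q σ w) z := by rw [two_smul]; abel
  rw [this, h2, zero_smul, add_zero]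

include hσ hquad horth in
theorem isInvIso_frameMap (h2 : (2 : F) = 0) : IsInvIso Q (frameMap Q σ w) :=
  ⟨frameMap_iso Q σ hσ w hquad horth h2, frameMap_inv Q σ w horth h2⟩

include hσ hquad horth in
theorem isFrame_frameMap (y : κ → V)
    (hdual : ∀ a b, polar Q (y a) (w b) = if a = b then 1 else 0) :
    IsFrame Q (frameMap Q σ w) σ w := by
  have hinj : Function.Injective σ := fun a b h => by rw [← hσ a, h, hσ]
  refine ⟨hquad, horth, linearIndependent_of_dual Q w y hdual, ?_, nilPart_frameMap Q σ w⟩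
  intro a
  refine ⟨y (σ a), ?_⟩
  rw [nilPart_frameMap]
  rw [Finset.sum_eq_single a]
  · rw [hdual, if_pos rfl, one_smul]
  · intro b _ hb
    rw [hdual, if_neg (fun h => hb (hinj h).symm), zero_smul]
  · intro h; exact absurd (Finset.mem_univ _) h

end frame

/-- the type of an involution with a frame -/
theorem IsFrame.not_alt {Q : QuadraticForm F V} {t : V →ₗ[F] V} {κ : Type} [Fintype κ]
    [DecidableEq κ] {σ : κ → κ} {w : κ → V} (hw : IsFrame Q t σ w) (a : κ) (ha : σ a = a) :
    ¬ ∀ z, Q (nilPart t z) = 0 := by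
  intro h
  obtain ⟨z, hz⟩ := hw.mem a
  have := h z
  rw [hz, hw.quad, if_pos ha] at this
  exact one_ne_zero this

theorem IsFrame.alt {Q : QuadraticForm F V} {t : V →ₗ[F] V} {κ : Type} [Fintype κ]
    [DecidableEq κ] {σ : κ → κ} {w : κ → V} (hw : IsFrame Q t σ w) (hσ : ∀ a, σ a ≠ a) :
    ∀ z, Q (nilPart t z) = 0 := by
  intro z
  rw [hw.formula, quad_sum_orth Q _ _ _ hw.orth]
  apply Finset.sum_eq_zero
  intro a _
  rw [hw.quad, if_neg (hσ a), mul_zero]

/-- involutions of non-alternating type from an orthonormal family with a dual family -/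
theorem exists_nonalt_of_family (h2 : (2 : F) = 0) (Q : QuadraticForm F V) (n : ℕ)
    (w y : Fin n → V) (hquad : ∀ a, Q (w a) = 1) (horth : ∀ a b, polar Q (w a) (w b) = 0)
    (hdual : ∀ a b, polar Q (y a) (w b) = if a = b then 1 else 0) (s : ℕ) (hs1 : 1 ≤ s)
    (hsn : s ≤ n) :
    ∃ t : V →ₗ[F] V, IsInvIso Q t ∧ finrank F (LinearMap.range (nilPart t)) = s ∧
      ¬ ∀ z, Q (nilPart t z) = 0 := by
  have hσ : ∀ a : Fin s, (id : Fin s → Fin s) (id a) = a := fun a => rfl
  have hq : ∀ a : Fin s, Q ((w ∘ Fin.castLE hsn) a)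
      = if (id : Fin s → Fin s) a = a then 1 else 0 := by
    intro a
    rw [if_pos (id_eq a)]
    exact hquad _
  have ho : ∀ a b : Fin s, polar Q ((w ∘ Fin.castLE hsn) a) ((w ∘ Fin.castLE hsn) b) = 0 :=
    fun a b => horth _ _
  have hd : ∀ a b : Fin s, polar Q ((y ∘ Fin.castLE hsn) a) ((w ∘ Fin.castLE hsn) b)
      = if a = b then 1 else 0 := by
    intro a b
    simp only [Function.comp_apply]
    rw [hdual]
    by_cases hab : a = b
    · rw [if_pos hab, if_pos (by rw [hab])]
    · rw [if_neg hab, if_neg (fun h => hab (Fin.castLE_injective hsn h))]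
  have hfr := isFrame_frameMap Q id hσ (w ∘ Fin.castLE hsn) hq ho (y ∘ Fin.castLE hsn) hd
  refine ⟨frameMap Q id (w ∘ Fin.castLE hsn),
    isInvIso_frameMap Q id hσ (w ∘ Fin.castLE hsn) hq ho h2, ?_, ?_⟩
  · rw [hfr.finrank_range, Fintype.card_fin]
  · exact hfr.not_alt ⟨0, by omega⟩ rfl

/-- involutions of alternating type from a totally singular family with a dual family -/
theorem exists_alt_of_family (h2 : (2 : F) = 0) (Q : QuadraticForm F V) (n : ℕ)
    (w y : Fin n → V) (hquad : ∀ a, Q (w a) = 0) (horth : ∀ a b, polar Q (w a) (w b) = 0)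
    (hdual : ∀ a b, polar Q (y a) (w b) = if a = b then 1 else 0) (r : ℕ)
    (hrn : 2 * r ≤ n) :
    ∃ t : V →ₗ[F] V, IsInvIso Q t ∧ finrank F (LinearMap.range (nilPart t)) = 2 * r ∧
      ∀ z, Q (nilPart t z) = 0 := by
  let j : Fin r ⊕ Fin r → Fin n :=
    Sum.elim (fun i => ⟨i, by omega⟩) (fun i => ⟨r + i, by omega⟩)
  have hj : Function.Injective j := by
    rintro (a | a) (b | b) h
    · simp only [j, Sum.elim_inl, Fin.mk.injEq] at h
      rw [Fin.ext h]
    · simp only [j, Sum.elim_inl, Sum.elim_inr, Fin.mk.injEq] at h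
      omega
    · simp only [j, Sum.elim_inl, Sum.elim_inr, Fin.mk.injEq] at h
      omega
    · simp only [j, Sum.elim_inr, Fin.mk.injEq] at h
      rw [Fin.ext (by omega : (a : ℕ) = b)]
  have hσ : ∀ a : Fin r ⊕ Fin r, Sum.swap (Sum.swap a) = a := Sum.swap_swap
  have hq : ∀ a : Fin r ⊕ Fin r, Q ((w ∘ j) a) = if Sum.swap a = a then 1 else 0 := by
    intro a
    rw [if_neg (sum_swap_ne a)]
    exact hquad _
  have ho : ∀ a b : Fin r ⊕ Fin r, polar Q ((w ∘ j) a) ((w ∘ j) b) = 0 :=
    fun a b => horth _ _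
  have hd : ∀ a b : Fin r ⊕ Fin r, polar Q ((y ∘ j) a) ((w ∘ j) b)
      = if a = b then 1 else 0 := by
    intro a b
    simp only [Function.comp_apply]
    rw [hdual]
    by_cases hab : a = b
    · rw [if_pos hab, if_pos (by rw [hab])]
    · rw [if_neg hab, if_neg (fun h => hab (hj h))]
  have hfr := isFrame_frameMap Q Sum.swap hσ (w ∘ j) hq ho (y ∘ j) hd
  refine ⟨frameMap Q Sum.swap (w ∘ j), isInvIso_frameMap Q Sum.swap hσ (w ∘ j) hq ho h2, ?_, ?_⟩
  · rw [hfr.finrank_range, Fintype.card_sum, Fintype.card_fin]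
    omega
  · exact hfr.alt sum_swap_ne

/-- a bound for the dimension of totally singular subspaces, from a maximal totally singular
family -/
theorem ts_family_bound [FiniteDimensional F V] (Q : QuadraticForm F V)
    (hQ : (QuadraticMap.polarBilin Q).Nondegenerate) (k : ℕ) (e : Fin k → V)
    (he : LinearIndependent F e) (heQ : ∀ i, Q (e i) = 0)
    (heo : ∀ i j, polar Q (e i) (e j) = 0)
    (hmax : ∀ v, Q v = 0 → (∀ i, polar Q v (e i) = 0) → v ∈ Submodule.span F (Set.range e))
    (x : Fin (k + 1) → V) (hx : LinearIndependent F x) (hxQ : ∀ i, Q (x i) = 0)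
    (hxo : ∀ i j, polar Q (x i) (x j) = 0) : False := by
  rw [linearIndependent_finSucc'] at hx
  obtain ⟨g, hg, hgx⟩ := witt_family_quad Q hQ k (Fin.init x) e hx.1 he
    (fun i => by rw [heQ]; exact (hxQ _).symm)
    (fun i j => by rw [heo]; exact (hxo _ _).symm)
  have hpol : ∀ u v, polar Q (g u) (g v) = polar Q u v :=
    polar_of_preserving Q (g : V →ₗ[F] V) hg
  have hv := hmax (g (x (Fin.last k))) (by rw [hg]; exact hxQ _)
    (fun i => by rw [← hgx i, hpol]; exact hxo _ _)
  apply hx.2
  have h1 : g.symm (g (x (Fin.last k))) ∈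
      Submodule.map (g.symm : V →ₗ[F] V) (Submodule.span F (Set.range e)) :=
    ⟨_, hv, rfl⟩
  rw [g.symm_apply_apply, Submodule.map_span] at h1
  refine Submodule.span_mono ?_ h1
  rintro _ ⟨_, ⟨i, rfl⟩, rfl⟩
  refine ⟨i, ?_⟩
  rw [← hgx i]
  exact (g.symm_apply_apply _).symm

/-- the rank of an involution of alternating type is bounded by the Witt index -/
theorem alt_rank_le [FiniteDimensional F V] (h2 : (2 : F) = 0) (Q : QuadraticForm F V)
    (hQ : (QuadraticMap.polarBilin Q).Nondegenerate) (k : ℕ) (e : Fin k → V)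
    (he : LinearIndependent F e) (heQ : ∀ i, Q (e i) = 0)
    (heo : ∀ i j, polar Q (e i) (e j) = 0)
    (hmax : ∀ v, Q v = 0 → (∀ i, polar Q v (e i) = 0) → v ∈ Submodule.span F (Set.range e))
    (t : V →ₗ[F] V) (ht : IsInvIso Q t) (hA : ∀ z, Q (nilPart t z) = 0) :
    finrank F (LinearMap.range (nilPart t)) ≤ k := by
  obtain ⟨r, w, hw⟩ := exists_frame_alt h2 hQ ht hA
  rw [hw.finrank_range]
  by_contra hlt
  push Not at hlt
  have hcard : Fintype.card (Fin (k + 1)) ≤ Fintype.card (Fin r ⊕ Fin r) := by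
    rw [Fintype.card_fin]; omega
  obtain ⟨emb⟩ := Function.Embedding.nonempty_of_card_le hcard
  apply ts_family_bound Q hQ k e he heQ heo hmax (w ∘ emb) (hw.indep.comp _ emb.injective)
  · intro i
    simp only [Function.comp_apply]
    rw [hw.quad, if_neg (sum_swap_ne _)]
  · intro i j
    exact hw.orth _ _

/-- when the Witt index is less than half the dimension, an involutive isometry fixes a
nonsingular vector -/
theorem exists_nonsingular_fixed [FiniteDimensional F V] (h2 : (2 : F) = 0)
    (Q : QuadraticForm F V)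
    (hQ : (QuadraticMap.polarBilin Q).Nondegenerate) (k : ℕ) (e : Fin k → V)
    (he : LinearIndependent F e) (heQ : ∀ i, Q (e i) = 0)
    (heo : ∀ i j, polar Q (e i) (e j) = 0)
    (hmax : ∀ v, Q v = 0 → (∀ i, polar Q v (e i) = 0) → v ∈ Submodule.span F (Set.range e))
    (hdim : 2 * (k + 1) ≤ finrank F V)
    (t : V →ₗ[F] V) (ht : IsInvIso Q t) : ∃ w, t w = w ∧ Q w ≠ 0 := by
  by_contra hcon
  push Not at hcon
  have hker : ∀ x ∈ LinearMap.ker (nilPart t), Q x = 0 := by
    intro x hx
    apply hcon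
    rw [LinearMap.mem_ker, nilPart_apply, sub_eq_zero] at hx
    exact hx
  have h1 := ht.two_mul_finrank_range_le h2
  have h3 := LinearMap.finrank_range_add_finrank_ker (nilPart t)
  have hle : k + 1 ≤ finrank F ↥(LinearMap.ker (nilPart t)) := by omega
  let b := Module.finBasis F ↥(LinearMap.ker (nilPart t))
  have hx : LinearIndependent F
      (fun i : Fin (k + 1) => ((b (Fin.castLE hle i) : ↥(LinearMap.ker (nilPart t))) : V)) := by
    have h4 := b.linearIndependent.comp _ (Fin.castLE_injective hle)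
    exact h4.map' (LinearMap.ker (nilPart t)).subtype (Submodule.ker_subtype _)
  apply ts_family_bound Q hQ k e he heQ heo hmax _ hx
  · intro i
    exact hker _ (b (Fin.castLE hle i)).2
  · intro i j
    unfold polar
    rw [hker _ (b (Fin.castLE hle i)).2, hker _ (b (Fin.castLE hle j)).2,
      hker _ (Submodule.add_mem _ (b (Fin.castLE hle i)).2 (b (Fin.castLE hle j)).2)]
    ring

end Cfsg.Agent.Lib.Helper8
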