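import Mathlib
import Cfsg.Prelude.Def_ClassicalGeometry
import Cfsg.Agent.Lib.Helper8.InvolCount

set_option autoImplicit false

namespace Cfsg.Agent.Lib.Helper8

open Matrix Module QuadraticMap
open Cfsg.Agent.Lib.Helper13

variable {ι : Type} [Fintype ι] [DecidableEq ι] {F : Type*} [Field F]

/-- counting conjugacy classes by a complete numerical invariant with values `1, …, n`
(the same statement as helper44's `card_conjClasses_of_code`) -/
theorem card_classes_of_code {G : Type*} [Group G] (P : G → Prop) (n : ℕ) (code : G → ℕ)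
    (h1 : ∀ a b, IsConj a b → code a = code b)
    (h2 : ∀ a b, P a → P b → code a = code b → IsConj a b)
    (h3 : ∀ a, P a → 1 ≤ code a ∧ code a ≤ n)
    (h4 : ∀ j, 1 ≤ j → j ≤ n → ∃ a, P a ∧ code a = j) :
    Nat.card {C : ConjClasses G // ∃ g, ConjClasses.mk g = C ∧ P g} = n := by
  classical
  have hspec : ∀ C : {C : ConjClasses G // ∃ g, ConjClasses.mk g = C ∧ P g},
      ConjClasses.mk (Classical.choose C.2) = C.1 ∧ P (Classical.choose C.2) :=
    fun C => Classical.choose_spec C.2
  let Φ : {C : ConjClasses G // ∃ g, ConjClasses.mk g = C ∧ P g} →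
      {j // j ∈ Finset.Icc 1 n} := fun C =>
    ⟨code (Classical.choose C.2), by
      rw [Finset.mem_Icc]
      exact h3 _ (hspec C).2⟩
  have hΦ : Function.Bijective Φ := by
    constructor
    · intro C C' h
      have h5 : code (Classical.choose C.2) = code (Classical.choose C'.2) :=
        congrArg Subtype.val h
      have h6 := h2 _ _ (hspec C).2 (hspec C').2 h5
      apply Subtype.ext
      rw [← (hspec C).1, ← (hspec C').1]
      exact ConjClasses.mk_eq_mk_iff_isConj.mpr h6
    · rintro ⟨j, hj⟩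
      rw [Finset.mem_Icc] at hj
      obtain ⟨a, ha, hcode⟩ := h4 j hj.1 hj.2
      refine ⟨⟨ConjClasses.mk a, ⟨a, rfl, ha⟩⟩, ?_⟩
      apply Subtype.ext
      show code (Classical.choose _) = j
      rw [← hcode]
      apply h1
      exact ConjClasses.mk_eq_mk_iff_isConj.mp
        (hspec ⟨ConjClasses.mk a, ⟨a, rfl, ha⟩⟩).1
  rw [Nat.card_congr (Equiv.ofBijective Φ hΦ), Nat.card_eq_fintype_card, Fintype.card_coe,
    Nat.card_Icc]
  omega

/-- an involutive isometry as an element of the isometry group -/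
theorem exists_iso_of_isInvIso (Q : QuadraticForm F (ι → F))
    (hQ : (QuadraticMap.polarBilin Q).Nondegenerate) (t : (ι → F) →ₗ[F] (ι → F))
    (ht : IsInvIso Q t) :
    ∃ T : ↥(Cfsg.isometryGroup F (⇑Q)), T * T = 1 ∧ isoLin Q T = t := by
  have hg : ∀ v, Q (quadEquiv Q hQ t ht.iso v) = Q v := by
    intro v; rw [quadEquiv_apply]; exact ht.iso v
  have hlin : ∀ z, isoLin Q (isoOfEquiv Q (quadEquiv Q hQ t ht.iso) hg) z = t z := by
    intro z
    rw [isoLin_apply, isoOfEquiv_mulVec, quadEquiv_apply]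
  refine ⟨isoOfEquiv Q (quadEquiv Q hQ t ht.iso) hg, ?_, LinearMap.ext hlin⟩
  apply iso_ext
  intro x
  rw [coe_mul_mulVec, ← isoLin_apply, ← isoLin_apply, hlin, hlin, ht.inv]
  simp

/-- rank and type are invariant under conjugation in the orthogonal group -/
theorem same_type_of_conj (Q : QuadraticForm F (ι → F))
    (t s c : ↥(Cfsg.isometryGroup F (⇑Q))) (hconj : c * t * c⁻¹ = s) :
    (((t : Matrix.GeneralLinearGroup ι F) : Matrix ι ι F) - 1).rank
      = (((s : Matrix.GeneralLinearGroup ι F) : Matrix ι ι F) - 1).rank ∧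
    ((∀ z, Q ((((t : Matrix.GeneralLinearGroup ι F) : Matrix ι ι F) - 1) *ᵥ z) = 0) ↔
      (∀ z, Q ((((s : Matrix.GeneralLinearGroup ι F) : Matrix ι ι F) - 1) *ᵥ z) = 0)) := by
  set g : Matrix.GeneralLinearGroup ι F := (c : Matrix.GeneralLinearGroup ι F) with hgdef
  have hconj' : g * (t : Matrix.GeneralLinearGroup ι F) * g⁻¹
      = (s : Matrix.GeneralLinearGroup ι F) := by
    rw [← hconj]; rfl
  have hmat : ((s : Matrix.GeneralLinearGroup ι F) : Matrix ι ι F) - 1
      = (g : Matrix ι ι F) * (((t : Matrix.GeneralLinearGroup ι F) : Matrix ι ι F) - 1)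
        * ((g⁻¹ : Matrix.GeneralLinearGroup ι F) : Matrix ι ι F) := by
    have h1 : (g : Matrix ι ι F) * ((g⁻¹ : Matrix.GeneralLinearGroup ι F) : Matrix ι ι F) = 1 := by
      rw [← Units.val_mul, mul_inv_cancel, Units.val_one]
    rw [← hconj', Units.val_mul, Units.val_mul, Matrix.mul_sub, Matrix.sub_mul, Matrix.mul_one, h1]
  have hgg' : ∀ z, ((g⁻¹ : Matrix.GeneralLinearGroup ι F) : Matrix ι ι F) *ᵥ ((g : Matrix ι ι F) *ᵥ z)
      = z := by
    intro z
    rw [Matrix.mulVec_mulVec, ← Units.val_mul, inv_mul_cancel, Units.val_one, Matrix.one_mulVec]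
  have key : ∀ z, Q ((((s : Matrix.GeneralLinearGroup ι F) : Matrix ι ι F) - 1) *ᵥ z)
      = Q ((((t : Matrix.GeneralLinearGroup ι F) : Matrix ι ι F) - 1) *ᵥ
        (((g⁻¹ : Matrix.GeneralLinearGroup ι F) : Matrix ι ι F) *ᵥ z)) := by
    intro z
    rw [hmat, ← Matrix.mulVec_mulVec, ← Matrix.mulVec_mulVec]
    exact isoElt_preserves Q c _
  constructor
  · rw [hmat]
    rw [Matrix.rank_mul_eq_left_of_isUnit_det _ _
      ((Matrix.isUnit_iff_isUnit_det _).1 (Units.isUnit g⁻¹)),
      Matrix.rank_mul_eq_right_of_isUnit_det _ _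
      ((Matrix.isUnit_iff_isUnit_det _).1 (Units.isUnit g))]
  · constructor
    · intro h z
      rw [key]; exact h _
    · intro h z
      have := h ((g : Matrix ι ι F) *ᵥ z)
      rw [key, hgg'] at this
      exact this

theorem eq_one_of_rank_sub_one_eq_zero (Q : QuadraticForm F (ι → F))
    (T : ↥(Cfsg.isometryGroup F (⇑Q)))
    (h : (((T : Matrix.GeneralLinearGroup ι F) : Matrix ι ι F) - 1).rank = 0) : T = 1 := by
  have h1 : finrank F (LinearMap.range
      (((T : Matrix.GeneralLinearGroup ι F) : Matrix ι ι F) - 1).mulVecLin) = 0 := h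
  rw [Submodule.finrank_eq_zero, LinearMap.range_eq_bot] at h1
  apply iso_ext
  intro x
  have h3 := LinearMap.congr_fun h1 x
  rw [Matrix.mulVecLin_apply, Matrix.sub_mulVec, Matrix.one_mulVec, LinearMap.zero_apply,
    sub_eq_zero] at h3
  rw [h3]
  simp

/-- the number of classes of involutions in an orthogonal group in characteristic two, from the
dimension `2m` and the Witt index `k` -/
theorem card_involution_classes [Fintype F] (h2 : (2 : F) = 0) (Q : QuadraticForm F (ι → F))
    (hQ : (QuadraticMap.polarBilin Q).Nondegenerate) (m k : ℕ)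
    (hdim : finrank F (ι → F) = 2 * m)
    (hnon : ∀ s, 1 ≤ s → s ≤ m → ∃ t : (ι → F) →ₗ[F] (ι → F), IsInvIso Q t ∧
      finrank F (LinearMap.range (nilPart t)) = s ∧ ¬ ∀ z, Q (nilPart t z) = 0)
    (halt : ∀ r, 1 ≤ r → 2 * r ≤ k → ∃ t : (ι → F) →ₗ[F] (ι → F), IsInvIso Q t ∧
      finrank F (LinearMap.range (nilPart t)) = 2 * r ∧ ∀ z, Q (nilPart t z) = 0)
    (hts : ∀ t : (ι → F) →ₗ[F] (ι → F), IsInvIso Q t → (∀ z, Q (nilPart t z) = 0) →
      finrank F (LinearMap.range (nilPart t)) ≤ k) :
    Nat.card {C : ConjClasses ↥(Cfsg.isometryGroup F (⇑Q)) //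
      ∃ g : ↥(Cfsg.isometryGroup F (⇑Q)), ConjClasses.mk g = C ∧ orderOf g = 2} = m + k / 2 := by
  classical
  let rk : ↥(Cfsg.isometryGroup F (⇑Q)) → ℕ := fun g =>
    (((g : Matrix.GeneralLinearGroup ι F) : Matrix ι ι F) - 1).rank
  let alt : ↥(Cfsg.isometryGroup F (⇑Q)) → Prop := fun g =>
    ∀ z, Q ((((g : Matrix.GeneralLinearGroup ι F) : Matrix ι ι F) - 1) *ᵥ z) = 0
  have hrkdef : ∀ g, rk g = finrank F (LinearMap.range (nilPart (isoLin Q g))) :=
    fun g => (finrank_range_nilPart Q g).symm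
  have haltdef : ∀ g, alt g ↔ ∀ z, Q (nilPart (isoLin Q g) z) = 0 := by
    intro g
    simp only [nilPart_isoLin]
    exact Iff.rfl
  have hinv : ∀ a : ↥(Cfsg.isometryGroup F (⇑Q)), orderOf a = 2 → IsInvIso Q (isoLin Q a) :=
    fun a ha => isInvIso_isoLin Q a (mul_self_of_orderOf_two a ha)
  have hrk1 : ∀ a, orderOf a = 2 → 1 ≤ rk a := by
    intro a ha
    rcases Nat.eq_zero_or_pos (rk a) with h | h
    · exfalso
      have h1 := eq_one_of_rank_sub_one_eq_zero Q a h
      rw [h1, orderOf_one] at ha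
      omega
    · exact h
  have hrkm : ∀ a, orderOf a = 2 → rk a ≤ m := by
    intro a ha
    have := (hinv a ha).two_mul_finrank_range_le h2
    rw [← hrkdef, hdim] at this
    omega
  have heven : ∀ a, orderOf a = 2 → alt a → Even (rk a) := by
    intro a ha h
    rw [hrkdef]
    exact (hinv a ha).even_finrank_of_alt h2 hQ ((haltdef a).1 h)
  have hrkk : ∀ a, orderOf a = 2 → alt a → rk a ≤ k := by
    intro a ha h
    rw [hrkdef]
    exact hts _ (hinv a ha) ((haltdef a).1 h)
  have hlift : ∀ t : (ι → F) →ₗ[F] (ι → F), IsInvIso Q t →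
      1 ≤ finrank F (LinearMap.range (nilPart t)) →
      ∃ T : ↥(Cfsg.isometryGroup F (⇑Q)), orderOf T = 2 ∧
        rk T = finrank F (LinearMap.range (nilPart t)) ∧
        (alt T ↔ ∀ z, Q (nilPart t z) = 0) := by
    intro t ht hr
    obtain ⟨T, hTT, hT⟩ := exists_iso_of_isInvIso Q hQ t ht
    have hrT : rk T = finrank F (LinearMap.range (nilPart t)) := by rw [hrkdef, hT]
    refine ⟨T, ?_, hrT, by rw [haltdef, hT]⟩
    haveI : Fact (Nat.Prime 2) := ⟨Nat.prime_two⟩
    apply orderOf_eq_prime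
    · rw [pow_two]; exact hTT
    · intro h1
      have : rk T = 0 := by
        show (((T : Matrix.GeneralLinearGroup ι F) : Matrix ι ι F) - 1).rank = 0
        rw [h1]
        simp
      omega
  apply card_classes_of_code (fun g => orderOf g = 2) (m + k / 2)
    (fun g => if alt g then m + rk g / 2 else rk g)
  · -- invariance
    intro a b hab
    obtain ⟨c, hc⟩ := isConj_iff.mp hab
    obtain ⟨hr, hal⟩ := same_type_of_conj Q a b c hc
    have hr' : rk a = rk b := hr
    have hal' : alt a ↔ alt b := hal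
    show (if alt a then m + rk a / 2 else rk a) = (if alt b then m + rk b / 2 else rk b)
    by_cases h : alt a
    · rw [if_pos h, if_pos (hal'.mp h), hr']
    · rw [if_neg h, if_neg (fun h' => h (hal'.mpr h')), hr']
  · -- completeness
    intro a b ha hb hcode
    have hcode' : (if alt a then m + rk a / 2 else rk a) =
        (if alt b then m + rk b / 2 else rk b) := hcode
    have key : rk a = rk b ∧ (alt a ↔ alt b) := by
      have ha1 := hrk1 a ha
      have hb1 := hrk1 b hb
      have ham := hrkm a ha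
      have hbm := hrkm b hb
      by_cases h : alt a <;> by_cases h' : alt b
      · rw [if_pos h, if_pos h'] at hcode'
        obtain ⟨Na, hNa⟩ := heven a ha h
        obtain ⟨Nb, hNb⟩ := heven b hb h'
        refine ⟨by omega, ⟨fun _ => h', fun _ => h⟩⟩
      · rw [if_pos h, if_neg h'] at hcode'
        obtain ⟨Na, hNa⟩ := heven a ha h
        omega
      · rw [if_neg h, if_pos h'] at hcode'
        obtain ⟨Nb, hNb⟩ := heven b hb h'
        omega
      · rw [if_neg h, if_neg h'] at hcode'
        exact ⟨hcode', ⟨fun x => absurd x h, fun x => absurd x h'⟩⟩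
    exact isConj_of_same_type h2 Q hQ a b (mul_self_of_orderOf_two a ha)
      (mul_self_of_orderOf_two b hb) key.1 key.2
  · -- range
    intro a ha
    have ha1 := hrk1 a ha
    have ham := hrkm a ha
    show 1 ≤ (if alt a then m + rk a / 2 else rk a) ∧
      (if alt a then m + rk a / 2 else rk a) ≤ m + k / 2
    by_cases h : alt a
    · rw [if_pos h]
      obtain ⟨Na, hNa⟩ := heven a ha h
      have := hrkk a ha h
      constructor
      · omega
      · have : rk a / 2 ≤ k / 2 := Nat.div_le_div_right this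
        omega
    · rw [if_neg h]
      omega
  · -- every value is taken
    intro j hj1 hjm
    by_cases hj : j ≤ m
    · obtain ⟨t, ht, hr, hna⟩ := hnon j hj1 hj
      obtain ⟨T, hT2, hTr, hTa⟩ := hlift t ht (by omega)
      refine ⟨T, hT2, ?_⟩
      show (if alt T then m + rk T / 2 else rk T) = j
      rw [if_neg (fun h => hna (hTa.1 h)), hTr, hr]
    · have hr2 : 2 * (j - m) ≤ k := by omega
      obtain ⟨t, ht, hr, ha⟩ := halt (j - m) (by omega) hr2
      obtain ⟨T, hT2, hTr, hTa⟩ := hlift t ht (by omega)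
      refine ⟨T, hT2, ?_⟩
      show (if alt T then m + rk T / 2 else rk T) = j
      rw [if_pos (hTa.2 ha), hTr, hr]
      omega

/-- the same for a function that is the coercion of a quadratic form -/
theorem card_involution_classes' [Fintype F] (h2 : (2 : F) = 0) (f : (ι → F) → F)
    (Q : QuadraticForm F (ι → F)) (hf : f = ⇑Q)
    (hQ : (QuadraticMap.polarBilin Q).Nondegenerate) (m k : ℕ)
    (hdim : finrank F (ι → F) = 2 * m)
    (hnon : ∀ s, 1 ≤ s → s ≤ m → ∃ t : (ι → F) →ₗ[F] (ι → F), IsInvIso Q t ∧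
      finrank F (LinearMap.range (nilPart t)) = s ∧ ¬ ∀ z, Q (nilPart t z) = 0)
    (halt : ∀ r, 1 ≤ r → 2 * r ≤ k → ∃ t : (ι → F) →ₗ[F] (ι → F), IsInvIso Q t ∧
      finrank F (LinearMap.range (nilPart t)) = 2 * r ∧ ∀ z, Q (nilPart t z) = 0)
    (hts : ∀ t : (ι → F) →ₗ[F] (ι → F), IsInvIso Q t → (∀ z, Q (nilPart t z) = 0) →
      finrank F (LinearMap.range (nilPart t)) ≤ k) :
    Nat.card {C : ConjClasses ↥(Cfsg.isometryGroup F f) //
      ∃ g : ↥(Cfsg.isometryGroup F f), ConjClasses.mk g = C ∧ orderOf g = 2} = m + k / 2 := by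
  subst hf
  exact card_involution_classes h2 Q hQ m k hdim hnon halt hts

end Cfsg.Agent.Lib.Helper8
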