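import Mathlib
import Cfsg.Prelude.Def_ClassicalGeometry
import Cfsg.Agent.Lib.Helper8.InvolCountMat
import Cfsg.Agent.Lib.Helper8.DicksonOmega
import Cfsg.Agent.Lib.Helper8.DicksonGen

set_option autoImplicit false

namespace Cfsg.Agent.Lib.Helper8

open Matrix Module QuadraticMap
open Cfsg.Agent.Lib.Helper13

variable {ι : Type} [Fintype ι] [DecidableEq ι] {F : Type*} [Field F]

/-- reflections are outside the commutator subgroup in characteristic two -/
theorem reflElt_not_mem_commutator [Fintype F] (h2 : (2 : F) = 0) (Q : QuadraticForm F (ι → F))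
    (hQ : (QuadraticMap.polarBilin Q).Nondegenerate)
    (hgood : GoodOrth Q) (w : ι → F) (hw : Q w ≠ 0) :
    reflElt Q w hw ∉ commutator ↥(Cfsg.isometryGroup F (⇑Q)) := by
  rw [mem_commutator_iff_even_rank_char2_gen h2 Q hQ hgood ⟨w, hw⟩, coe_reflElt,
    rank_reflectionMatrix_sub_one Q hQ w hw]
  decide

/-- an isometry fixing a nonsingular vector commutes with the reflection in that vector -/
theorem reflElt_commute_of_fixed (Q : QuadraticForm F (ι → F))
    (t : ↥(Cfsg.isometryGroup F (⇑Q))) (w : ι → F) (hw : Q w ≠ 0)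
    (hfix : ((t : Matrix.GeneralLinearGroup ι F) : Matrix ι ι F) *ᵥ w = w) :
    reflElt Q w hw * t * (reflElt Q w hw)⁻¹ = t := by
  have h := conj_reflElt Q t w hw
  rw [reflElt_congr Q _ w _ hw hfix, mul_inv_eq_iff_eq_mul] at h
  rw [mul_inv_eq_iff_eq_mul]
  exact h.symm

/-- a class of the orthogonal group does not split in the commutator subgroup if its elements
fix a nonsingular vector -/
theorem omega_conj_of_fixed_nonsingular [Fintype F] (h2 : (2 : F) = 0)
    (Q : QuadraticForm F (ι → F)) (hQ : (QuadraticMap.polarBilin Q).Nondegenerate)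
    (hgood : GoodOrth Q)
    (t s : ↥(Cfsg.isometryGroup F (⇑Q))) (hconj : IsConj t s) (w : ι → F) (hw : Q w ≠ 0)
    (hfix : ((t : Matrix.GeneralLinearGroup ι F) : Matrix ι ι F) *ᵥ w = w) :
    ∃ g ∈ commutator ↥(Cfsg.isometryGroup F (⇑Q)), g * t * g⁻¹ = s := by
  obtain ⟨c, hc⟩ := isConj_iff.mp hconj
  by_cases hcO : c ∈ commutator ↥(Cfsg.isometryGroup F (⇑Q))
  · exact ⟨c, hcO, hc⟩
  · have hidx := commutator_index_two_char2_gen h2 Q hQ hgood ⟨w, hw⟩
    have hr := reflElt_not_mem_commutator h2 Q hQ hgood w hw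
    refine ⟨c * reflElt Q w hw, ?_, ?_⟩
    · rw [Subgroup.mul_mem_iff_of_index_two hidx]
      exact ⟨fun h => absurd h hcO, fun h => absurd h hr⟩
    · have hrt := reflElt_commute_of_fixed Q t w hw hfix
      calc c * reflElt Q w hw * t * (c * reflElt Q w hw)⁻¹
          = c * (reflElt Q w hw * t * (reflElt Q w hw)⁻¹) * c⁻¹ := by group
        _ = c * t * c⁻¹ := by rw [hrt]
        _ = s := hc

/-- no class of involutions splits in the commutator subgroup when the Witt index is less than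
half the dimension -/
theorem omega_conj_of_small_witt_index [Fintype F] (h2 : (2 : F) = 0) (f : (ι → F) → F)
    (Q : QuadraticForm F (ι → F)) (hf : f = ⇑Q)
    (hQ : (QuadraticMap.polarBilin Q).Nondegenerate)
    (hgood : GoodOrth Q)
    (k : ℕ) (e : Fin k → (ι → F))
    (he : LinearIndependent F e) (heQ : ∀ i, Q (e i) = 0)
    (heo : ∀ i j, polar Q (e i) (e j) = 0)
    (hmax : ∀ v, Q v = 0 → (∀ i, polar Q v (e i) = 0) → v ∈ Submodule.span F (Set.range e))
    (hdim : 2 * (k + 1) ≤ finrank F (ι → F))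
    (t s : ↥(Cfsg.isometryGroup F f)) (ht : orderOf t = 2) (hconj : IsConj t s) :
    ∃ g ∈ commutator ↥(Cfsg.isometryGroup F f), g * t * g⁻¹ = s := by
  subst hf
  obtain ⟨w, hfix, hw⟩ := exists_nonsingular_fixed h2 Q hQ k e he heQ heo hmax hdim (isoLin Q t)
    (isInvIso_isoLin Q t (mul_self_of_orderOf_two t ht))
  exact omega_conj_of_fixed_nonsingular h2 Q hQ hgood t s hconj w hw hfix

/-- Witt index one excludes `O⁺₄(2)` -/
theorem goodOrth_of_ts_bound [Fintype F] (Q : QuadraticForm F (ι → F))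
    (hQ : (QuadraticMap.polarBilin Q).Nondegenerate) (k : ℕ) (hk : k = 1)
    (e : Fin k → (ι → F))
    (he : LinearIndependent F e) (heQ : ∀ i, Q (e i) = 0)
    (heo : ∀ i j, polar Q (e i) (e j) = 0)
    (hmax : ∀ v, Q v = 0 → (∀ i, polar Q v (e i) = 0) → v ∈ Submodule.span F (Set.range e)) :
    GoodOrth Q := by
  subst hk
  right
  intro x y hx hy hxy hx0
  by_contra hcon
  push Not at hcon
  apply ts_family_bound Q hQ 1 e he heQ heo hmax ![x, y]
  · rw [LinearIndependent.pair_iff]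
    intro s t hst
    by_cases ht : t = 0
    · subst ht
      rw [zero_smul, add_zero] at hst
      rcases smul_eq_zero.1 hst with h | h
      · exact ⟨h, rfl⟩
      · exact absurd h hx0
    · exfalso
      apply hcon (-(t⁻¹ * s))
      have : y = t⁻¹ • (s • x + t • y) - (t⁻¹ * s) • x := by
        rw [smul_add, smul_smul, smul_smul, inv_mul_cancel₀ ht, one_smul]; abel
      rw [this, hst, smul_zero, zero_sub, neg_smul]
  · intro i
    fin_cases i
    · exact hx
    · exact hy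
  · intro i j
    fin_cases i <;> fin_cases j
    · show polar (⇑Q) x x = 0
      rw [polar_self, hx, smul_zero]
    · exact hxy
    · show polar (⇑Q) y x = 0
      rw [polar_comm]; exact hxy
    · show polar (⇑Q) y y = 0
      rw [polar_self, hy, smul_zero]

/-- the number of classes of involutions in the commutator subgroup of an orthogonal group in
characteristic two all of whose involutions fix a nonsingular vector -/
theorem card_omega_involution_classes [Fintype F] (h2 : (2 : F) = 0)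
    (Q : QuadraticForm F (ι → F))
    (hQ : (QuadraticMap.polarBilin Q).Nondegenerate) (hgood : GoodOrth Q)
    (hex : ∃ v, Q v ≠ 0) (m k : ℕ)
    (hdim : finrank F (ι → F) = 2 * m)
    (hnon : ∀ s, 1 ≤ s → s ≤ m → ∃ t : (ι → F) →ₗ[F] (ι → F), IsInvIso Q t ∧
      finrank F (LinearMap.range (nilPart t)) = s ∧ ¬ ∀ z, Q (nilPart t z) = 0)
    (halt : ∀ r, 1 ≤ r → 2 * r ≤ k → ∃ t : (ι → F) →ₗ[F] (ι → F), IsInvIso Q t ∧
      finrank F (LinearMap.range (nilPart t)) = 2 * r ∧ ∀ z, Q (nilPart t z) = 0)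
    (hts : ∀ t : (ι → F) →ₗ[F] (ι → F), IsInvIso Q t → (∀ z, Q (nilPart t z) = 0) →
      finrank F (LinearMap.range (nilPart t)) ≤ k)
    (hfix : ∀ t : (ι → F) →ₗ[F] (ι → F), IsInvIso Q t → ∃ w, t w = w ∧ Q w ≠ 0) :
    Nat.card {C : ConjClasses ↥(commutator ↥(Cfsg.isometryGroup F (⇑Q))) //
      ∃ g : ↥(commutator ↥(Cfsg.isometryGroup F (⇑Q))), ConjClasses.mk g = C ∧ orderOf g = 2}
      = m / 2 + k / 2 := by
  classical
  let rk : ↥(Cfsg.isometryGroup F (⇑Q)) → ℕ := fun g =>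
    (((g : Matrix.GeneralLinearGroup ι F) : Matrix ι ι F) - 1).rank
  let alt : ↥(Cfsg.isometryGroup F (⇑Q)) → Prop := fun g =>
    ∀ z, Q ((((g : Matrix.GeneralLinearGroup ι F) : Matrix ι ι F) - 1) *ᵥ z) = 0
  have hmem : ∀ g : ↥(Cfsg.isometryGroup F (⇑Q)),
      g ∈ commutator ↥(Cfsg.isometryGroup F (⇑Q)) ↔ Even (rk g) :=
    fun g => mem_commutator_iff_even_rank_char2_gen h2 Q hQ hgood hex g
  have hrkdef : ∀ g, rk g = finrank F (LinearMap.range (nilPart (isoLin Q g))) :=
    fun g => (finrank_range_nilPart Q g).symm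
  have haltdef : ∀ g, alt g ↔ ∀ z, Q (nilPart (isoLin Q g) z) = 0 := by
    intro g
    simp only [nilPart_isoLin]
    exact Iff.rfl
  have hinv : ∀ a : ↥(Cfsg.isometryGroup F (⇑Q)), orderOf a = 2 → IsInvIso Q (isoLin Q a) :=
    fun a ha => isInvIso_isoLin Q a (mul_self_of_orderOf_two a ha)
  have hrk1 : ∀ a, orderOf a = 2 → 1 ≤ rk a := by
    intro a ha
    rcases Nat.eq_zero_or_pos (rk a) with h | h
    · exfalso
      have h1 := eq_one_of_rank_sub_one_eq_zero Q a h
      rw [h1, orderOf_one] at ha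
      omega
    · exact h
  have hrkm : ∀ a, orderOf a = 2 → rk a ≤ m := by
    intro a ha
    have := (hinv a ha).two_mul_finrank_range_le h2
    rw [← hrkdef, hdim] at this
    omega
  have hrkk : ∀ a, orderOf a = 2 → alt a → rk a ≤ k := by
    intro a ha h
    rw [hrkdef]
    exact hts _ (hinv a ha) ((haltdef a).1 h)
  have hlift : ∀ t : (ι → F) →ₗ[F] (ι → F), IsInvIso Q t →
      1 ≤ finrank F (LinearMap.range (nilPart t)) →
      ∃ T : ↥(Cfsg.isometryGroup F (⇑Q)), orderOf T = 2 ∧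
        rk T = finrank F (LinearMap.range (nilPart t)) ∧
        (alt T ↔ ∀ z, Q (nilPart t z) = 0) := by
    intro t ht hr
    obtain ⟨T, hTT, hT⟩ := exists_iso_of_isInvIso Q hQ t ht
    have hrT : rk T = finrank F (LinearMap.range (nilPart t)) := by rw [hrkdef, hT]
    refine ⟨T, ?_, hrT, by rw [haltdef, hT]⟩
    have : Fact (Nat.Prime 2) := ⟨Nat.prime_two⟩
    apply orderOf_eq_prime
    · rw [pow_two]; exact hTT
    · intro h1
      have : rk T = 0 := by
        show (((T : Matrix.GeneralLinearGroup ι F) : Matrix ι ι F) - 1).rank = 0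
        rw [h1]
        simp
      omega
  have hnosplit : ∀ t s : ↥(Cfsg.isometryGroup F (⇑Q)), orderOf t = 2 → IsConj t s →
      ∃ g ∈ commutator ↥(Cfsg.isometryGroup F (⇑Q)), g * t * g⁻¹ = s := by
    intro t s ht hconj
    obtain ⟨w, hfixw, hw⟩ := hfix (isoLin Q t) (hinv t ht)
    exact omega_conj_of_fixed_nonsingular h2 Q hQ hgood t s hconj w hw hfixw
  have hord : ∀ a : ↥(commutator ↥(Cfsg.isometryGroup F (⇑Q))),
      orderOf a = 2 → orderOf (a : ↥(Cfsg.isometryGroup F (⇑Q))) = 2 := by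
    intro a ha
    rw [Subgroup.orderOf_coe]; exact ha
  have hev : ∀ a : ↥(commutator ↥(Cfsg.isometryGroup F (⇑Q))),
      Even (rk (a : ↥(Cfsg.isometryGroup F (⇑Q)))) := fun a => (hmem _).1 a.2
  apply card_classes_of_code (fun g => orderOf g = 2) (m / 2 + k / 2)
    (fun g : ↥(commutator ↥(Cfsg.isometryGroup F (⇑Q))) =>
      if alt (g : ↥(Cfsg.isometryGroup F (⇑Q))) then
        m / 2 + rk (g : ↥(Cfsg.isometryGroup F (⇑Q))) / 2
      else rk (g : ↥(Cfsg.isometryGroup F (⇑Q))) / 2)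
  · -- invariance
    intro a b hab
    obtain ⟨c, hc⟩ := isConj_iff.mp hab
    have hc' : (c : ↥(Cfsg.isometryGroup F (⇑Q))) * (a : ↥(Cfsg.isometryGroup F (⇑Q))) *
        (c : ↥(Cfsg.isometryGroup F (⇑Q)))⁻¹ = (b : ↥(Cfsg.isometryGroup F (⇑Q))) := by
      rw [← hc]; rfl
    obtain ⟨hr, hal⟩ := same_type_of_conj Q _ _ _ hc'
    have hr' : rk (a : ↥(Cfsg.isometryGroup F (⇑Q))) = rk (b : ↥(Cfsg.isometryGroup F (⇑Q))) :=
      hr
    have hal' : alt (a : ↥(Cfsg.isometryGroup F (⇑Q))) ↔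
        alt (b : ↥(Cfsg.isometryGroup F (⇑Q))) := hal
    show (if alt (a : ↥(Cfsg.isometryGroup F (⇑Q))) then _ else _) =
      (if alt (b : ↥(Cfsg.isometryGroup F (⇑Q))) then _ else _)
    by_cases h : alt (a : ↥(Cfsg.isometryGroup F (⇑Q)))
    · rw [if_pos h, if_pos (hal'.mp h), hr']
    · rw [if_neg h, if_neg (fun h' => h (hal'.mpr h')), hr']
  · -- completeness
    intro a b ha hb hcode
    have hcode' : (if alt (a : ↥(Cfsg.isometryGroup F (⇑Q))) then
        m / 2 + rk (a : ↥(Cfsg.isometryGroup F (⇑Q))) / 2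
        else rk (a : ↥(Cfsg.isometryGroup F (⇑Q))) / 2) =
        (if alt (b : ↥(Cfsg.isometryGroup F (⇑Q))) then
        m / 2 + rk (b : ↥(Cfsg.isometryGroup F (⇑Q))) / 2
        else rk (b : ↥(Cfsg.isometryGroup F (⇑Q))) / 2) := hcode
    have ha' := hord a ha
    have hb' := hord b hb
    have key : rk (a : ↥(Cfsg.isometryGroup F (⇑Q))) = rk (b : ↥(Cfsg.isometryGroup F (⇑Q))) ∧
        (alt (a : ↥(Cfsg.isometryGroup F (⇑Q))) ↔ alt (b : ↥(Cfsg.isometryGroup F (⇑Q)))) := by
      have ha1 := hrk1 _ ha'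
      have hb1 := hrk1 _ hb'
      have ham := hrkm _ ha'
      have hbm := hrkm _ hb'
      obtain ⟨Na, hNa⟩ := hev a
      obtain ⟨Nb, hNb⟩ := hev b
      by_cases h : alt (a : ↥(Cfsg.isometryGroup F (⇑Q))) <;>
        by_cases h' : alt (b : ↥(Cfsg.isometryGroup F (⇑Q)))
      · rw [if_pos h, if_pos h'] at hcode'
        refine ⟨by omega, ⟨fun _ => h', fun _ => h⟩⟩
      · rw [if_pos h, if_neg h'] at hcode'
        omega
      · rw [if_neg h, if_pos h'] at hcode'
        omega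
      · rw [if_neg h, if_neg h'] at hcode'
        exact ⟨by omega, ⟨fun x => absurd x h, fun x => absurd x h'⟩⟩
    have hO := isConj_of_same_type h2 Q hQ _ _ (mul_self_of_orderOf_two _ ha')
      (mul_self_of_orderOf_two _ hb') key.1 key.2
    obtain ⟨g, hg, hgab⟩ := hnosplit _ _ ha' hO
    rw [isConj_iff]
    refine ⟨⟨g, hg⟩, ?_⟩
    apply Subtype.ext
    exact hgab
  · -- range
    intro a ha
    have ha' := hord a ha
    have ha1 := hrk1 _ ha'
    have ham := hrkm _ ha'
    obtain ⟨Na, hNa⟩ := hev a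
    show 1 ≤ (if alt (a : ↥(Cfsg.isometryGroup F (⇑Q))) then
        m / 2 + rk (a : ↥(Cfsg.isometryGroup F (⇑Q))) / 2
        else rk (a : ↥(Cfsg.isometryGroup F (⇑Q))) / 2) ∧
      (if alt (a : ↥(Cfsg.isometryGroup F (⇑Q))) then
        m / 2 + rk (a : ↥(Cfsg.isometryGroup F (⇑Q))) / 2
        else rk (a : ↥(Cfsg.isometryGroup F (⇑Q))) / 2) ≤ m / 2 + k / 2
    by_cases h : alt (a : ↥(Cfsg.isometryGroup F (⇑Q)))
    · rw [if_pos h]
      have := hrkk _ ha' h
      omega
    · rw [if_neg h]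
      omega
  · -- every value is taken
    intro j hj1 hjm
    by_cases hj : j ≤ m / 2
    · obtain ⟨t, ht, hr, hna⟩ := hnon (2 * j) (by omega) (by omega)
      obtain ⟨T, hT2, hTr, hTa⟩ := hlift t ht (by omega)
      have hTO : T ∈ commutator ↥(Cfsg.isometryGroup F (⇑Q)) := by
        rw [hmem, hTr, hr]; exact ⟨j, by ring⟩
      refine ⟨⟨T, hTO⟩, ?_, ?_⟩
      · show orderOf (⟨T, hTO⟩ : ↥(commutator ↥(Cfsg.isometryGroup F (⇑Q)))) = 2
        rw [← Subgroup.orderOf_coe]; exact hT2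
      · show (if alt T then m / 2 + rk T / 2 else rk T / 2) = j
        rw [if_neg (fun h => hna (hTa.1 h)), hTr, hr]
        omega
    · have hr2 : 2 * (j - m / 2) ≤ k := by omega
      obtain ⟨t, ht, hr, ha⟩ := halt (j - m / 2) (by omega) hr2
      obtain ⟨T, hT2, hTr, hTa⟩ := hlift t ht (by omega)
      have hTO : T ∈ commutator ↥(Cfsg.isometryGroup F (⇑Q)) := by
        rw [hmem, hTr, hr]; exact ⟨j - m / 2, by ring⟩
      refine ⟨⟨T, hTO⟩, ?_, ?_⟩
      · show orderOf (⟨T, hTO⟩ : ↥(commutator ↥(Cfsg.isometryGroup F (⇑Q)))) = 2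
        rw [← Subgroup.orderOf_coe]; exact hT2
      · show (if alt T then m / 2 + rk T / 2 else rk T / 2) = j
        rw [if_pos (hTa.2 ha), hTr, hr]
        omega

/-- the same for a function that is the coercion of a quadratic form -/
theorem card_omega_involution_classes' [Fintype F] (h2 : (2 : F) = 0) (f : (ι → F) → F)
    (Q : QuadraticForm F (ι → F)) (hf : f = ⇑Q)
    (hQ : (QuadraticMap.polarBilin Q).Nondegenerate) (hgood : GoodOrth Q)
    (hex : ∃ v, Q v ≠ 0) (m k : ℕ)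
    (hdim : finrank F (ι → F) = 2 * m)
    (hnon : ∀ s, 1 ≤ s → s ≤ m → ∃ t : (ι → F) →ₗ[F] (ι → F), IsInvIso Q t ∧
      finrank F (LinearMap.range (nilPart t)) = s ∧ ¬ ∀ z, Q (nilPart t z) = 0)
    (halt : ∀ r, 1 ≤ r → 2 * r ≤ k → ∃ t : (ι → F) →ₗ[F] (ι → F), IsInvIso Q t ∧
      finrank F (LinearMap.range (nilPart t)) = 2 * r ∧ ∀ z, Q (nilPart t z) = 0)
    (hts : ∀ t : (ι → F) →ₗ[F] (ι → F), IsInvIso Q t → (∀ z, Q (nilPart t z) = 0) →
      finrank F (LinearMap.range (nilPart t)) ≤ k)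
    (hfix : ∀ t : (ι → F) →ₗ[F] (ι → F), IsInvIso Q t → ∃ w, t w = w ∧ Q w ≠ 0) :
    Nat.card {C : ConjClasses ↥(commutator ↥(Cfsg.isometryGroup F f)) //
      ∃ g : ↥(commutator ↥(Cfsg.isometryGroup F f)), ConjClasses.mk g = C ∧ orderOf g = 2}
      = m / 2 + k / 2 := by
  subst hf
  exact card_omega_involution_classes h2 Q hQ hgood hex m k hdim hnon halt hts hfix

end Cfsg.Agent.Lib.Helper8
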