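import Mathlib
import Cfsg.Prelude.Def_GeometricClasses
import Cfsg.Agent.Lib.Helper44.Transport
import Cfsg.Agent.Lib.Helper8.OmegaNoSplit
import Cfsg.Agent.Lib.Helper8.NonsingCount

/-!
# Elements of prime order of `Ω^±` in characteristic two and nonsingular points
-/

set_option autoImplicit false

namespace Cfsg.Agent.Lib.Helper8

open Matrix Module QuadraticMap
open Cfsg.Agent.Lib.Helper13

theorem mem_of_index_two_of_pow_eq_one {G : Type*} [Group G] (H : Subgroup G)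
    (hH : H.index = 2) (g : G) (r : ℕ) (hr : Odd r) (hg : g ^ r = 1) : g ∈ H := by
  obtain ⟨k, rfl⟩ := hr
  have h1 : g = (g * g) ^ (k + 1) := by
    rw [← pow_two, ← pow_mul, show 2 * (k + 1) = 2 * k + 1 + 1 by ring, pow_succ, hg, one_mul]
  rw [h1]
  exact H.pow_mem (Subgroup.mul_self_mem_of_index_two hH g) _

variable {ι : Type} [Fintype ι] [DecidableEq ι] {F : Type*} [Field F]

/-- membership in `omegaGL` unfolded -/
theorem mem_omegaGL_iff (f : (ι → F) → F) (x : GL ι F) :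
    x ∈ Cfsg.Geo.omegaGL f ↔
      ∃ y : ↥(Cfsg.isometryGroup F f), y ∈ commutator ↥(Cfsg.isometryGroup F f) ∧
        (y : GL ι F) = x := by
  unfold Cfsg.Geo.omegaGL
  rw [Subgroup.mem_map]
  rfl

/-- transport of a fixed-point-free isometry of odd order into `Ω` -/
theorem exists_omega_fpf [Fintype F] (h2 : (2 : F) = 0) (f : (ι → F) → F)
    (Q : QuadraticForm F (ι → F)) (hf : f = ⇑Q)
    (hQ : (QuadraticMap.polarBilin Q).Nondegenerate) (hgood : GoodOrth Q)
    (hex : ∃ v, Q v ≠ 0)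
    {V : Type*} [AddCommGroup V] [Module F V] (QV : V → F) (Θ : V ≃ₗ[F] (ι → F))
    (hΘ : ∀ v, f (Θ v) = QV v) (g : V ≃ₗ[F] V) (hg : ∀ v, QV (g v) = QV v)
    (r : ℕ) (hr : Odd r) (hgr : g ^ r = 1) (hfpf : ∀ v, g v = v → v = 0) :
    ∃ x : GL ι F, x ∈ Cfsg.Geo.omegaGL f ∧ x ^ r = 1 ∧
      ∀ u, (x : Matrix ι ι F) *ᵥ u = u → u = 0 := by
  subst hf
  obtain ⟨φ, hφ⟩ := Cfsg.Agent.Lib.Helper44.exists_mulEquiv_isometryGroup (⇑Q) QV Θ hΘ
  let g' : ↥(Cfsg.Agent.Lib.Helper44.absIsometryGroup F QV) := ⟨g, hg⟩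
  have hg'r : g' ^ r = 1 := Subtype.ext hgr
  have hyr : (φ g') ^ r = 1 := by rw [← map_pow, hg'r, map_one]
  have hidx := commutator_index_two_char2_gen h2 Q hQ hgood hex
  refine ⟨(φ g' : GL ι F), ?_, ?_, ?_⟩
  · rw [mem_omegaGL_iff]
    exact ⟨φ g', mem_of_index_two_of_pow_eq_one _ hidx _ r hr hyr, rfl⟩
  · have := congrArg (fun y : ↥(Cfsg.isometryGroup F (⇑Q)) => (y : GL ι F)) hyr
    simpa using this
  · intro u hu
    rw [hφ] at hu
    have h1 : g (Θ.symm u) = Θ.symm u := by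
      apply Θ.injective
      rw [hu, LinearEquiv.apply_symm_apply]
    have h3 := hfpf _ h1
    have := congrArg Θ h3
    rwa [LinearEquiv.apply_symm_apply, map_zero] at this

/-- an element of `Ω` all of whose fixed vectors are singular refutes the fixed point property -/
theorem not_forall_fix (h2 : (2 : F) = 0) (f : (ι → F) → F)
    (Q : QuadraticForm F (ι → F)) (hf : f = ⇑Q) (hex : ∃ v, Q v ≠ 0) (r : ℕ)
    (x : GL ι F) (hx : x ∈ Cfsg.Geo.omegaGL f) (hxr : x ^ r = 1)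
    (hfix : ∀ u, (x : Matrix ι ι F) *ᵥ u = u → f u = 0) :
    ¬ (∀ x : GL ι F, x ∈ Cfsg.Geo.omegaGL f →
      (∃ z : F, ((x ^ r : GL ι F) : Matrix ι ι F) = z • (1 : Matrix ι ι F)) →
      (∀ z : F, (x : Matrix ι ι F) ≠ z • (1 : Matrix ι ι F)) →
      ∃ W : Submodule F (ι → F), (Module.finrank F ↥W = 1 ∧ ∃ v ∈ W, f v ≠ 0) ∧
        W.map (Matrix.toLin' (x : Matrix ι ι F)) ≤ W) := by
  subst hf
  intro H
  obtain ⟨y, -, hyx⟩ := (mem_omegaGL_iff _ x).1 hx
  have hpres : ∀ u, Q ((x : Matrix ι ι F) *ᵥ u) = Q u := by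
    intro u
    rw [← hyx]
    exact isoElt_preserves Q y u
  have key : ∀ (c : F) (v : ι → F), Q v ≠ 0 → (x : Matrix ι ι F) *ᵥ v = c • v → False := by
    intro c v hv hc
    have h1 := hpres v
    rw [hc, QuadraticMap.map_smul, smul_eq_mul] at h1
    have h3 : c * c = 1 := by
      have : (c * c - 1) * Q v = 0 := by linear_combination h1
      rcases mul_eq_zero.1 this with h | h
      · exact sub_eq_zero.1 h
      · exact absurd h hv
    rw [eq_one_of_mul_self_char2 h2 c h3, one_smul] at hc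
    exact hv (hfix v hc)
  obtain ⟨W, ⟨hW1, v, hvW, hv⟩, hWx⟩ := H x hx ⟨1, by rw [hxr]; simp⟩ (by
    intro z hz
    obtain ⟨v0, hv0⟩ := hex
    apply key z v0 hv0
    rw [hz, Matrix.smul_mulVec, Matrix.one_mulVec])
  have hv0 : v ≠ 0 := by
    rintro rfl
    exact hv (map_zero _)
  have hmem : (x : Matrix ι ι F) *ᵥ v ∈ W := by
    apply hWx
    exact ⟨v, hvW, by rw [Matrix.toLin'_apply]⟩
  have h1 := (finrank_eq_one_iff_of_nonzero' (⟨v, hvW⟩ : ↥W)
    (by intro h; exact hv0 (congrArg Subtype.val h))).1 hW1 ⟨_, hmem⟩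
  obtain ⟨c, hc⟩ := h1
  have hc' : c • v = (x : Matrix ι ι F) *ᵥ v := congrArg Subtype.val hc
  exact key c v hv hc'.symm

/-- an involution of `Ω` from a non-scalar element whose square is scalar -/
theorem exists_involution_of_sq_scalar (h2 : (2 : F) = 0) (f : (ι → F) → F)
    (Q : QuadraticForm F (ι → F)) (hf : f = ⇑Q) (hex : ∃ v, Q v ≠ 0)
    (x : GL ι F) (hx : x ∈ Cfsg.Geo.omegaGL f)
    (hx2 : ∃ z : F, ((x ^ 2 : GL ι F) : Matrix ι ι F) = z • (1 : Matrix ι ι F)) :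
    ∃ y : ↥(Cfsg.isometryGroup F (⇑Q)), y ∈ commutator ↥(Cfsg.isometryGroup F (⇑Q)) ∧
      y * y = 1 ∧ (y : GL ι F) = x := by
  subst hf
  obtain ⟨y, hy, hyx⟩ := (mem_omegaGL_iff _ x).1 hx
  refine ⟨y, hy, ?_, hyx⟩
  obtain ⟨z, hz⟩ := hx2
  obtain ⟨v0, hv0⟩ := hex
  have h1 : ∀ u, (((y * y : ↥(Cfsg.isometryGroup F (⇑Q))) : GL ι F) : Matrix ι ι F) *ᵥ u
      = z • u := by
    intro u
    have : ((y * y : ↥(Cfsg.isometryGroup F (⇑Q))) : GL ι F) = x ^ 2 := by
      rw [pow_two, ← hyx]; rfl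
    rw [this, hz, Matrix.smul_mulVec, Matrix.one_mulVec]
  have hz1 : z = 1 := by
    have h3 := isoElt_preserves Q (y * y) v0
    rw [h1, QuadraticMap.map_smul, smul_eq_mul] at h3
    have h4 : z * z = 1 := by
      have : (z * z - 1) * Q v0 = 0 := by linear_combination h3
      rcases mul_eq_zero.1 this with h | h
      · exact sub_eq_zero.1 h
      · exact absurd h hv0
    exact eq_one_of_mul_self_char2 h2 z h4
  apply iso_ext
  intro u
  rw [h1, hz1, one_smul]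
  simp

/-- a fixed nonsingular vector gives a fixed nonsingular point -/
theorem exists_fixed_point_of_fixed_vector (f : (ι → F) → F) (x : GL ι F) (w : ι → F)
    (hw : f w ≠ 0) (hw0 : w ≠ 0) (hfix : (x : Matrix ι ι F) *ᵥ w = w) :
    ∃ W : Submodule F (ι → F), (Module.finrank F ↥W = 1 ∧ ∃ v ∈ W, f v ≠ 0) ∧
      W.map (Matrix.toLin' (x : Matrix ι ι F)) ≤ W := by
  refine ⟨Submodule.span F {w}, ⟨finrank_span_singleton hw0, w,
    Submodule.mem_span_singleton_self _, hw⟩, ?_⟩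
  rw [Submodule.map_span, Set.image_singleton, Matrix.toLin'_apply, hfix]

end Cfsg.Agent.Lib.Helper8
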