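import Mathlib
import Cfsg.Agent.Lib.Helper44.Hyperbolic
import Cfsg.Agent.Lib.Helper8.OddFpf

/-!
# The plus-type model `K × K` with the form `Tr(xy)`
-/

set_option autoImplicit false

namespace Cfsg.Agent.Lib.Helper8

open Module QuadraticMap

section plusModel

variable (F : Type*) [Field F] (K : Type*) [Field K] [Algebra F K]

/-- the bilinear map `(p, p') ↦ Tr(p₁ p'₂)` -/
noncomputable def trBil : LinearMap.BilinMap F (K × K) F :=
  (Algebra.traceForm F K).compl₁₂ (LinearMap.fst F K K) (LinearMap.snd F K K)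

theorem trBil_apply (p p' : K × K) : trBil F K p p' = Algebra.trace F K (p.1 * p'.2) := rfl

/-- the quadratic form `p ↦ Tr(p₁ p₂)` -/
noncomputable def trQ : QuadraticForm F (K × K) := (trBil F K).toQuadraticMap

theorem trQ_apply (p : K × K) : trQ F K p = Algebra.trace F K (p.1 * p.2) := rfl

theorem polar_trQ (p p' : K × K) :
    polar (⇑(trQ F K)) p p' = Algebra.trace F K (p.1 * p'.2) + Algebra.trace F K (p'.1 * p.2) := by
  rw [trQ, LinearMap.BilinMap.polar_toQuadraticMap, trBil_apply, trBil_apply]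

/-- multiplication by a unit as a linear automorphism -/
noncomputable def unitMul : Kˣ →* (K ≃ₗ[F] K) := DistribMulAction.toModuleAut F K

theorem unitMul_apply (ζ : Kˣ) (x : K) : unitMul F K ζ x = (ζ : K) * x := rfl

/-- the torus acting on `K × K` -/
noncomputable def torusPlus : Kˣ →* ((K × K) ≃ₗ[F] (K × K)) where
  toFun ζ := LinearEquiv.prodCongr (unitMul F K ζ) (unitMul F K ζ⁻¹)
  map_one' := by
    apply LinearEquiv.ext
    intro p
    simp
  map_mul' := by
    intro ζ η
    apply LinearEquiv.ext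
    intro p
    simp [unitMul_apply, mul_comm]

theorem torusPlus_apply (ζ : Kˣ) (p : K × K) :
    torusPlus F K ζ p = ((ζ : K) * p.1, ((ζ⁻¹ : Kˣ) : K) * p.2) := rfl

theorem torusPlus_isometry (ζ : Kˣ) (p : K × K) : trQ F K (torusPlus F K ζ p) = trQ F K p := by
  rw [trQ_apply, trQ_apply, torusPlus_apply]
  congr 1
  show (ζ : K) * p.1 * (((ζ⁻¹ : Kˣ) : K) * p.2) = p.1 * p.2
  have := ζ.mul_inv
  linear_combination (p.1 * p.2) * this

theorem torusPlus_fpf (ζ : Kˣ) (hζ : ζ ≠ 1) (p : K × K) (hp : torusPlus F K ζ p = p) : p = 0 := by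
  rw [torusPlus_apply] at hp
  have h1 : (ζ : K) * p.1 = p.1 := congrArg Prod.fst hp
  have h3 : ((ζ⁻¹ : Kˣ) : K) * p.2 = p.2 := congrArg Prod.snd hp
  have hζ1 : (ζ : K) - 1 ≠ 0 := by
    intro h
    apply hζ
    exact Units.ext (sub_eq_zero.1 h)
  have hζ2 : ((ζ⁻¹ : Kˣ) : K) - 1 ≠ 0 := by
    intro h
    apply hζ
    have : ζ⁻¹ = 1 := Units.ext (sub_eq_zero.1 h)
    exact inv_eq_one.1 this
  have hp1 : p.1 = 0 := by
    have : ((ζ : K) - 1) * p.1 = 0 := by linear_combination h1
    rcases mul_eq_zero.1 this with h | h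
    · exact absurd h hζ1
    · exact h
  have hp2 : p.2 = 0 := by
    have : (((ζ⁻¹ : Kˣ) : K) - 1) * p.2 = 0 := by linear_combination h3
    rcases mul_eq_zero.1 this with h | h
    · exact absurd h hζ2
    · exact h
  exact Prod.ext hp1 hp2

/-- coordinates in which `Tr(xy)` is the standard form of plus type -/
theorem exists_coords_trQ [FiniteDimensional F K] [Algebra.IsSeparable F K] (d : ℕ)
    (hd : finrank F K = d) :
    ∃ Θ : (K × K) ≃ₗ[F] (Fin d ⊕ Fin d → F), ∀ v, Cfsg.quadFormPlus d F (Θ v) = trQ F K v := by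
  classical
  let b : Basis (Fin d) F K := Module.finBasisOfFinrankEq F K hd
  have hnd := traceForm_nondegenerate F K
  let b' := (Algebra.traceForm F K).dualBasis hnd b
  have hdual : ∀ i j, Algebra.trace F K (b i * b' j) = if i = j then 1 else 0 := by
    intro i j
    have := LinearMap.BilinForm.apply_dualBasis_right hnd (Algebra.traceForm_isSymm F) b i j
    rwa [Algebra.traceForm_apply] at this
  apply Cfsg.Agent.Lib.Helper44.hyperbolic_coords d (K × K) (trQ F K)
    (by rw [Module.finrank_prod, hd]; ring) (fun i => (b i, 0)) (fun i => (0, b' i))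
  · intro i; rw [trQ_apply]; simp
  · intro i; rw [trQ_apply]; simp
  · intro i k; rw [polar_trQ]; simp
  · intro i k; rw [polar_trQ]; simp
  · intro i k; rw [polar_trQ]; simp [hdual]

end plusModel

end Cfsg.Agent.Lib.Helper8
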