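import Mathlib
import Cfsg.Agent.Lib.Helper8.OddFpfPlus
import Cfsg.Agent.Lib.Helper8.MinusClassify

/-!
# The minus-type model: a field `L` with an involution `σ` and the form `Tr(λ x σ(x))`
-/

set_option autoImplicit false

namespace Cfsg.Agent.Lib.Helper8

open Module QuadraticMap Matrix
open Cfsg.Agent.Lib.Helper43

section minusModel

variable (F : Type*) [Field F] (L : Type*) [Field L] [Algebra F L] (σ : L ≃ₐ[F] L) (lam : L)

/-- the bilinear map `(x, y) ↦ Tr(λ x σ(y))` -/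
noncomputable def sigBil : LinearMap.BilinMap F L F :=
  (Algebra.traceForm F L).compl₁₂ (LinearMap.mulLeft F lam) σ.toLinearMap

theorem sigBil_apply (x y : L) :
    sigBil F L σ lam x y = Algebra.trace F L (lam * x * σ y) := rfl

/-- the quadratic form `x ↦ Tr(λ x σ(x))` -/
noncomputable def sigQ : QuadraticForm F L := (sigBil F L σ lam).toQuadraticMap

theorem sigQ_apply (x : L) : sigQ F L σ lam x = Algebra.trace F L (lam * x * σ x) := rfl

variable {F L σ lam}

theorem polar_sigQ (hσ : ∀ x, σ (σ x) = x) (hlam : lam + σ lam = 1) (x y : L) :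
    polar (⇑(sigQ F L σ lam)) x y = Algebra.trace F L (x * σ y) := by
  rw [sigQ, LinearMap.BilinMap.polar_toQuadraticMap, sigBil_apply, sigBil_apply]
  have h1 : Algebra.trace F L (lam * y * σ x) = Algebra.trace F L (σ lam * σ y * x) := by
    rw [← Algebra.trace_eq_of_algEquiv σ (lam * y * σ x)]
    congr 1
    rw [map_mul, map_mul, hσ]
  rw [h1, ← map_add]
  congr 1
  linear_combination (x * σ y) * hlam

theorem sigQ_nondegenerate [FiniteDimensional F L] [Algebra.IsSeparable F L]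
    (hσ : ∀ x, σ (σ x) = x) (hlam : lam + σ lam = 1) :
    (polarBilin (sigQ F L σ lam)).Nondegenerate := by
  have hnd := traceForm_nondegenerate F L
  have hleft : ∀ x, (∀ y, polar (⇑(sigQ F L σ lam)) x y = 0) → x = 0 := by
    intro x hx
    apply hnd.1 x
    intro y
    have := hx (σ y)
    rw [polar_sigQ hσ hlam, hσ] at this
    rw [Algebra.traceForm_apply]
    exact this
  refine ⟨fun x hx => hleft x hx, fun y hy => hleft y (fun x => ?_)⟩
  rw [polar_comm]
  exact hy x

theorem unitMul_isometry (ζ : Lˣ) (hζ : (ζ : L) * σ ζ = 1) (x : L) :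
    sigQ F L σ lam (unitMul F L ζ x) = sigQ F L σ lam x := by
  rw [sigQ_apply, sigQ_apply, unitMul_apply, map_mul σ]
  congr 1
  linear_combination (lam * x * σ x) * hζ

theorem unitMul_fpf (ζ : Lˣ) (hζ : ζ ≠ 1) (x : L) (hx : unitMul F L ζ x = x) : x = 0 := by
  rw [unitMul_apply] at hx
  have hζ1 : (ζ : L) - 1 ≠ 0 := by
    intro h
    apply hζ
    exact Units.ext (sub_eq_zero.1 h)
  have : ((ζ : L) - 1) * x = 0 := by linear_combination hx
  rcases mul_eq_zero.1 this with h | h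
  · exact absurd h hζ1
  · exact h

/-- the norm-one torus divides the number of nonzero singular vectors -/
theorem card_ker_dvd_card_zeros [Finite L] (n : ℕ) (hσn : ∀ x : L, σ x = x ^ n) :
    Nat.card (powMonoidHom (n + 1) : Lˣ →* Lˣ).ker ∣
      Nat.card {u : Lˣ // sigQ F L σ lam (u : L) = 0} := by
  set T := (powMonoidHom (n + 1) : Lˣ →* Lˣ).ker with hT
  have hTmem : ∀ τ : Lˣ, τ ∈ T → (τ : L) * σ τ = 1 := by
    intro τ hτ
    rw [hT, MonoidHom.mem_ker, powMonoidHom_apply] at hτ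
    rw [hσn, ← pow_succ']
    have := congrArg (fun u : Lˣ => (u : L)) hτ
    simpa using this
  let S' : Set Lˣ := {u | sigQ F L σ lam (u : L) = 0}
  let t : Set (Lˣ ⧸ T) := QuotientGroup.mk '' S'
  have hpre : (QuotientGroup.mk ⁻¹' t : Set Lˣ) = S' := by
    apply Set.Subset.antisymm
    · rintro u ⟨u', hu', hmk⟩
      have h1 : u'⁻¹ * u ∈ T := QuotientGroup.eq.1 hmk
      have h3 := hTmem _ h1
      have h4 : (u : L) = ((u'⁻¹ * u : Lˣ) : L) * (u' : L) := by
        rw [← Units.val_mul]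
        congr 1
        rw [mul_comm, mul_inv_cancel_left]
      show sigQ F L σ lam (u : L) = 0
      rw [h4, ← unitMul_apply F L, unitMul_isometry _ h3]
      exact hu'
    · exact Set.subset_preimage_image _ _
  have e := QuotientGroup.preimageMkEquivSubgroupProdSet T t
  rw [hpre] at e
  have hcard : Nat.card {u : Lˣ // sigQ F L σ lam (u : L) = 0} = Nat.card T * Nat.card t := by
    rw [← Nat.card_prod]
    exact Nat.card_congr e
  rw [hcard]
  exact Dvd.intro _ rfl

/-- the zero count is one more than the number of singular units -/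
theorem card_zeros_eq_succ [Finite L] :
    Nat.card {x : L // sigQ F L σ lam x = 0}
      = Nat.card {u : Lˣ // sigQ F L σ lam (u : L) = 0} + 1 := by
  classical
  let z : {x : L // sigQ F L σ lam x = 0} := ⟨0, map_zero _⟩
  rw [← Nat.card_congr (Equiv.optionSubtypeNe z), Finite.card_option]
  congr 1
  refine Nat.card_congr ⟨fun a => ⟨Units.mk0 a.1.1 (fun h => a.2 (Subtype.ext h)), a.1.2⟩,
    fun u => ⟨⟨(u.1 : L), u.2⟩, fun h => u.1.ne_zero (congrArg Subtype.val h)⟩, ?_, ?_⟩
  · intro a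
    rfl
  · intro u
    apply Subtype.ext
    apply Units.ext
    rfl

/-- coordinates in which the form `Tr(λ x σ(x))` is the standard form of minus type -/
theorem exists_coords_sigQ [Fintype F] [FiniteDimensional F L] [Algebra.IsSeparable F L]
    (h2 : (2 : F) = 0) (hq2 : 2 ∣ Fintype.card F)
    (hσ : ∀ x, σ (σ x) = x) (hlam : lam + σ lam = 1) (m : ℕ)
    (hdim : finrank F L = 2 * m + 2) (hσn : ∀ x : L, σ x = x ^ (Fintype.card F ^ (m + 1)))
    (a b : F) (hab : ∀ z₁ z₂ : F, z₁ ^ 2 + a * z₁ * z₂ + b * z₂ ^ 2 = 0 → z₁ = 0 ∧ z₂ = 0) :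
    ∃ Θ : L ≃ₗ[F] ((Fin m ⊕ Fin m) ⊕ Fin 2 → F),
      ∀ v, Cfsg.quadFormMinus m F a b (Θ v) = sigQ F L σ lam v := by
  have : Finite L := Module.finite_of_finite F
  apply classify_minus_char2 h2 L (sigQ F L σ lam) (sigQ_nondegenerate hσ hlam) m hdim _ a b hab
  intro hZ
  have hq1 : 1 ≤ Fintype.card F := Fintype.card_pos
  have hq2' : 2 ≤ Fintype.card F := Fintype.one_lt_card
  rw [card_zeros_eq_succ, ZZ_plus _ hq1] at hZ
  have hS : Nat.card {u : Lˣ // sigQ F L σ lam (u : L) = 0}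
      = (Fintype.card F ^ (m + 1) - 1) * (Fintype.card F ^ m + 1) := by omega
  have hdvd := card_ker_dvd_card_zeros (σ := σ) (lam := lam) (Fintype.card F ^ (m + 1)) hσn
  rw [hS, IsCyclic.card_powMonoidHom_ker, Nat.card_units, Module.natCard_eq_pow_finrank (K := F),
    hdim, Nat.card_eq_fintype_card] at hdvd
  set A := Fintype.card F ^ (m + 1) with hA
  have hA1 : 1 ≤ A := Nat.one_le_pow _ _ hq1
  have hAA : Fintype.card F ^ (2 * m + 2) - 1 = (A - 1) * (A + 1) := by
    have : Fintype.card F ^ (2 * m + 2) = A * A := by rw [hA, ← pow_add]; congr 1; ring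
    rw [this]
    zify [hA1, Nat.one_le_iff_ne_zero.2 (Nat.mul_ne_zero (by omega : A ≠ 0) (by omega : A ≠ 0))]
    ring
  rw [hAA, Nat.gcd_eq_right (Dvd.intro_left _ rfl)] at hdvd
  have hAeven : 2 ∣ A := by
    rw [hA, pow_succ]
    exact Dvd.dvd.mul_left hq2 _
  have hcop : Nat.Coprime (A + 1) (A - 1) := by
    have hg1 : Nat.gcd (A + 1) (A - 1) ∣ A + 1 := Nat.gcd_dvd_left _ _
    have hg2 : Nat.gcd (A + 1) (A - 1) ∣ A - 1 := Nat.gcd_dvd_right _ _
    have hg3 : Nat.gcd (A + 1) (A - 1) ∣ 2 := by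
      have := Nat.dvd_sub hg1 hg2
      have h4 : A + 1 - (A - 1) = 2 := by omega
      rwa [h4] at this
    rcases (Nat.dvd_prime Nat.prime_two).1 hg3 with h | h
    · exact h
    · exfalso
      rw [h] at hg1
      omega
  have hdvd2 : A + 1 ∣ Fintype.card F ^ m + 1 := hcop.dvd_of_dvd_mul_left hdvd
  have hlt : Fintype.card F ^ m < A := by
    rw [hA]
    exact Nat.pow_lt_pow_right (by omega) (by omega)
  have := Nat.le_of_dvd (by omega) hdvd2
  omega

end minusModel

section concrete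

variable {F : Type*} [Field F] [Fintype F] [CharP F 2]

/-- a fixed-point-free element of odd prime order `r ∣ q^(m+1) + 1` in `Ω⁻_{2m+2}(q)`, `q` even -/
theorem exists_omega_minus_fpf (m : ℕ) (hm : 2 ≤ m) (r : ℕ) [Fact r.Prime] (hr2 : r ≠ 2)
    (hr : r ∣ Fintype.card F ^ (m + 1) + 1) (a b : F)
    (hab : ∀ z₁ z₂ : F, z₁ ^ 2 + a * z₁ * z₂ + b * z₂ ^ 2 = 0 → z₁ = 0 ∧ z₂ = 0) :
    ∃ x : GL ((Fin m ⊕ Fin m) ⊕ Fin 2) F, x ∈ Cfsg.Geo.omegaGL (Cfsg.quadFormMinus m F a b) ∧
      x ^ r = 1 ∧ ∀ u, (x : Matrix ((Fin m ⊕ Fin m) ⊕ Fin 2) ((Fin m ⊕ Fin m) ⊕ Fin 2) F) *ᵥ u = u →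
        u = 0 := by
  have h2 : (2 : F) = 0 := by
    have := CharP.cast_eq_zero F 2
    exact_mod_cast this
  have hrp : r.Prime := Fact.out
  have hrodd : Odd r := hrp.odd_of_ne_two hr2
  have hq1 : 1 ≤ Fintype.card F := Fintype.card_pos
  have hq2 : 2 ∣ Fintype.card F := by
    obtain ⟨n, -, hn⟩ := FiniteField.card F 2
    rw [hn]
    exact dvd_pow_self 2 n.ne_zero
  let L := FiniteField.Extension F 2 (2 * m + 1 + 1)
  have : Finite L := inferInstance
  let _ : Fintype L := Fintype.ofFinite L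
  have hdimL : Module.finrank F L = 2 * m + 2 := FiniteField.finrank_extension F 2 (2 * m + 1 + 1)
  have hcardL : Fintype.card L = Fintype.card F ^ (2 * m + 2) := by
    rw [← Nat.card_eq_fintype_card, FiniteField.natCard_extension, Nat.card_eq_fintype_card]
  have h2L : (2 : L) = 0 := by
    have h : (algebraMap F L) 2 = 2 := map_ofNat _ 2
    rw [← h, h2, map_zero]
  set A := Fintype.card F ^ (m + 1) with hA
  have hA1 : 1 ≤ A := Nat.one_le_pow _ _ hq1
  have hAA : Fintype.card F ^ (2 * m + 2) = A * A := by rw [hA, ← pow_add]; congr 1; ring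
  -- an element of order r
  have hcardU : Nat.card Lˣ = A * A - 1 := by
    rw [Nat.card_units, Nat.card_eq_fintype_card, hcardL, hAA]
  have hrU : r ∣ Nat.card Lˣ := by
    rw [hcardU]
    have : A * A - 1 = (A - 1) * (A + 1) := by
      zify [hA1, Nat.one_le_iff_ne_zero.2 (Nat.mul_ne_zero (by omega : A ≠ 0) (by omega : A ≠ 0))]
      ring
    rw [this]
    exact Dvd.dvd.mul_left hr _
  obtain ⟨ζ, hζ⟩ := exists_prime_orderOf_dvd_card' r hrU
  have hζ1 : ζ ≠ 1 := by
    rintro rfl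
    rw [orderOf_one] at hζ
    exact hrp.one_lt.ne hζ
  -- the involution
  let σ : L ≃ₐ[F] L := (FiniteField.Extension.frob F 2 (2 * m + 1 + 1)) ^ (m + 1)
  have hσn : ∀ x : L, σ x = x ^ A := by
    intro x
    show ((FiniteField.Extension.frob F 2 (2 * m + 1 + 1)) ^ (m + 1)) x = x ^ A
    rw [FiniteField.Extension.frob_iterate_apply, Nat.card_eq_fintype_card]
  have hσ : ∀ x, σ (σ x) = x := by
    intro x
    rw [hσn, hσn, ← pow_mul, ← hAA, ← hcardL]
    exact FiniteField.pow_card x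
  have hζσ : (ζ : L) * σ ζ = 1 := by
    rw [hσn, ← pow_succ']
    have h1 : ζ ^ (A + 1) = 1 := by
      rw [← orderOf_dvd_iff_pow_eq_one, hζ]
      exact hr
    have := congrArg (fun u : Lˣ => (u : L)) h1
    simpa using this
  have hσζ : σ (ζ : L) ≠ ζ := by
    intro h
    rw [h] at hζσ
    have h1 : ζ ^ 2 = 1 := by
      apply Units.ext
      rw [Units.val_pow_eq_pow_val, pow_two]
      exact hζσ
    have h3 := orderOf_dvd_of_pow_eq_one h1
    rw [hζ] at h3
    exact hr2 ((Nat.prime_dvd_prime_iff_eq hrp Nat.prime_two).1 h3)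
  -- the element λ
  set y₀ : L := (ζ : L) + σ ζ with hy₀
  have hy₀0 : y₀ ≠ 0 := by
    intro h
    apply hσζ
    have : σ (ζ : L) = (ζ : L) + (2 : L) * σ ζ - y₀ := by rw [hy₀]; ring
    rw [this, h, h2L]
    ring
  have hσy₀ : σ y₀ = y₀ := by
    rw [hy₀, map_add, hσ]
    ring
  set lam : L := (ζ : L) * y₀⁻¹ with hlamdef
  have hlam : lam + σ lam = 1 := by
    rw [hlamdef, map_mul, map_inv₀, hσy₀, ← add_mul, ← hy₀, mul_inv_cancel₀ hy₀0]
  -- coordinates
  obtain ⟨Θ, hΘ⟩ := exists_coords_sigQ (σ := σ) (lam := lam) h2 hq2 hσ hlam m hdimL hσn a b hab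
  have hc0 : a ≠ 0 := by
    rintro rfl
    obtain ⟨e, he⟩ := FiniteField.isSquare_of_char_two (ringChar.eq F 2) b
    have := hab e 1 (by rw [he]; linear_combination (e * e) * h2)
    exact one_ne_zero this.2
  have hdim : Module.finrank F ((Fin m ⊕ Fin m) ⊕ Fin 2 → F) = 2 * m + 2 := by
    rw [Module.finrank_fintype_fun_eq_card, Fintype.card_sum, Fintype.card_sum, Fintype.card_fin,
      Fintype.card_fin]
    omega
  exact exists_omega_fpf h2 (Cfsg.quadFormMinus m F a b) (minusForm m F a b)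
    (minusForm_coe m F a b) (minusForm_nondegenerate m F a b h2 hc0)
    (Or.inl (Or.inr (by rw [hdim]; omega))) (minusForm_exists_ne_zero m F a b)
    (⇑(sigQ F L σ lam)) Θ hΘ (unitMul F L ζ) (unitMul_isometry ζ hζσ) r hrodd
    (by rw [← map_pow, ← hζ, pow_orderOf_eq_one, map_one]) (unitMul_fpf ζ hζ1)

end concrete

end Cfsg.Agent.Lib.Helper8
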