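import Mathlib
import Cfsg.Agent.Lib.Helper8.InvolCount
import Cfsg.Agent.Lib.Helper8.OrthForms
import Cfsg.Agent.Lib.Helper8.OrthFormsMinus

set_option autoImplicit false
set_option linter.unusedSimpArgs false

namespace Cfsg.Agent.Lib.Helper8

open Module QuadraticMap

universe u v

section abstract

variable {F : Type u} {V : Type v} [Field F] [AddCommGroup V] [Module F V]

/-- a hyperbolic family -/
structure IsHypFamily (Q : QuadraticForm F V) {k : ℕ} (e f : Fin k → V) : Prop where
  qe : ∀ i, Q (e i) = 0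
  qf : ∀ i, Q (f i) = 0
  ee : ∀ i j, polar Q (e i) (e j) = 0
  ff : ∀ i j, polar Q (f i) (f j) = 0
  ef : ∀ i j, polar Q (e i) (f j) = if i = j then 1 else 0

variable {Q : QuadraticForm F V} {k : ℕ} {e f : Fin k → V}

theorem IsHypFamily.exists_alt (h : IsHypFamily Q e f) (h2 : (2 : F) = 0) (r : ℕ)
    (hr : 2 * r ≤ k) :
    ∃ t : V →ₗ[F] V, IsInvIso Q t ∧ finrank F (LinearMap.range (nilPart t)) = 2 * r ∧
      ∀ z, Q (nilPart t z) = 0 := by
  apply exists_alt_of_family h2 Q k e f h.qe h.ee _ r hr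
  intro a b
  rw [polar_comm, h.ef]
  by_cases hab : a = b
  · rw [if_pos hab, if_pos hab.symm]
  · rw [if_neg hab, if_neg (fun h' => hab h'.symm)]

theorem IsHypFamily.quad_add (h : IsHypFamily Q e f) (i : Fin k) : Q (e i + f i) = 1 := by
  rw [QuadraticMap.map_add (⇑Q), h.qe, h.qf, h.ef, if_pos rfl]; ring

theorem IsHypFamily.polar_add_add (h : IsHypFamily Q e f) (h2 : (2 : F) = 0) (i j : Fin k) :
    polar Q (e i + f i) (e j + f j) = 0 := by
  rw [polar_add_left, polar_add_right, polar_add_right, h.ee, h.ff, h.ef, polar_comm Q (f i),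
    h.ef]
  by_cases hij : i = j
  · rw [if_pos hij, if_pos hij.symm]; linear_combination h2
  · rw [if_neg hij, if_neg (fun h' => hij h'.symm)]; ring

theorem IsHypFamily.polar_e_add (h : IsHypFamily Q e f) (i j : Fin k) :
    polar Q (e i) (e j + f j) = if i = j then 1 else 0 := by
  rw [polar_add_right, h.ee, h.ef, zero_add]

theorem IsHypFamily.exists_nonalt (h : IsHypFamily Q e f) (h2 : (2 : F) = 0) (s : ℕ)
    (hs1 : 1 ≤ s) (hs : s ≤ k) :
    ∃ t : V →ₗ[F] V, IsInvIso Q t ∧ finrank F (LinearMap.range (nilPart t)) = s ∧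
      ¬ ∀ z, Q (nilPart t z) = 0 :=
  exists_nonalt_of_family h2 Q k (fun i => e i + f i) e h.quad_add (h.polar_add_add h2)
    h.polar_e_add s hs1 hs

theorem IsHypFamily.exists_nonalt_succ (h : IsHypFamily Q e f) (h2 : (2 : F) = 0) (u u' : V)
    (hu : Q u = 1) (hue : ∀ i, polar Q u (e i) = 0) (huf : ∀ i, polar Q u (f i) = 0)
    (hu'u : polar Q u' u = 1) (hu'e : ∀ i, polar Q u' (e i) = 0)
    (hu'f : ∀ i, polar Q u' (f i) = 0) (s : ℕ) (hs1 : 1 ≤ s) (hs : s ≤ k + 1) :
    ∃ t : V →ₗ[F] V, IsInvIso Q t ∧ finrank F (LinearMap.range (nilPart t)) = s ∧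
      ¬ ∀ z, Q (nilPart t z) = 0 := by
  apply exists_nonalt_of_family h2 Q (k + 1)
    (Fin.snoc (fun i => e i + f i) u : Fin (k + 1) → V) (Fin.snoc e u' : Fin (k + 1) → V)
    _ _ _ s hs1 hs
  · intro a
    refine Fin.lastCases ?_ (fun i => ?_) a
    · rw [Fin.snoc_last]; exact hu
    · rw [Fin.snoc_castSucc]; exact h.quad_add i
  · intro a b
    refine Fin.lastCases ?_ (fun i => ?_) a <;> refine Fin.lastCases ?_ (fun j => ?_) b
    · rw [Fin.snoc_last, polar_self, hu]
      simp only [nsmul_eq_mul, Nat.cast_ofNat, mul_one]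
      exact h2
    · rw [Fin.snoc_last, Fin.snoc_castSucc, polar_add_right, hue, huf, add_zero]
    · rw [Fin.snoc_last, Fin.snoc_castSucc, polar_comm, polar_add_right, hue, huf, add_zero]
    · rw [Fin.snoc_castSucc, Fin.snoc_castSucc]; exact h.polar_add_add h2 i j
  · intro a b
    refine Fin.lastCases ?_ (fun i => ?_) a <;> refine Fin.lastCases ?_ (fun j => ?_) b
    · rw [Fin.snoc_last, Fin.snoc_last, if_pos rfl]; exact hu'u
    · rw [Fin.snoc_last, Fin.snoc_castSucc, polar_add_right, hu'e, hu'f, add_zero,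
        if_neg (Fin.castSucc_lt_last j).ne']
    · rw [Fin.snoc_last, Fin.snoc_castSucc, polar_comm, hue,
        if_neg (Fin.castSucc_lt_last i).ne]
    · rw [Fin.snoc_castSucc, Fin.snoc_castSucc, h.polar_e_add]
      by_cases hij : i = j
      · rw [if_pos hij, if_pos (by rw [hij])]
      · rw [if_neg hij, if_neg (fun h' => hij (Fin.castSucc_injective _ h'))]

end abstract

section plus

variable (m : ℕ) (F : Type*) [Field F]

/-- the standard hyperbolic family of the plus form -/
theorem plusForm_hyp :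
    IsHypFamily (plusForm m F)
      (fun i : Fin m => (Pi.single (Sum.inl i) 1 : Fin m ⊕ Fin m → F))
      (fun i : Fin m => (Pi.single (Sum.inr i) 1 : Fin m ⊕ Fin m → F)) := by
  refine ⟨?_, ?_, ?_, ?_, ?_⟩
  · intro i
    rw [← plusForm_coe]
    unfold Cfsg.quadFormPlus
    simp
  · intro i
    rw [← plusForm_coe]
    unfold Cfsg.quadFormPlus
    simp
  · intro i j
    rw [polar_plusForm]
    simp
  · intro i j
    rw [polar_plusForm]
    simp
  · intro i j
    rw [polar_plusForm]
    simp only [Pi.single_apply, Sum.inl.injEq, reduceCtorEq, if_false, mul_zero, add_zero,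
      Sum.inr.injEq, mul_ite, mul_one, Finset.sum_ite_eq, Finset.mem_univ, if_true, ite_mul,
      one_mul, zero_mul]
    by_cases hij : i = j
    · simp [hij]
    · have : ¬ j = i := fun h => hij h.symm
      simp [hij, this]

end plus

section minus

variable (m : ℕ) (F : Type*) [Field F] (a b : F)

/-- the standard hyperbolic family of the minus form -/
theorem minusForm_hyp :
    IsHypFamily (minusForm m F a b)
      (fun i : Fin m => (Pi.single (Sum.inl (Sum.inl i)) 1 : (Fin m ⊕ Fin m) ⊕ Fin 2 → F))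
      (fun i : Fin m => (Pi.single (Sum.inl (Sum.inr i)) 1 : (Fin m ⊕ Fin m) ⊕ Fin 2 → F)) := by
  refine ⟨?_, ?_, ?_, ?_, ?_⟩
  · intro i
    rw [← minusForm_coe]
    unfold Cfsg.quadFormMinus
    simp
  · intro i
    rw [← minusForm_coe]
    unfold Cfsg.quadFormMinus
    simp
  · intro i j
    rw [polar_minusForm]
    simp
  · intro i j
    rw [polar_minusForm]
    simp
  · intro i j
    rw [polar_minusForm]
    simp only [Pi.single_apply, Sum.inl.injEq, reduceCtorEq, if_false, mul_zero, add_zero,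
      Sum.inr.injEq, mul_ite, mul_one, Finset.sum_ite_eq, Finset.mem_univ, if_true, ite_mul,
      one_mul, zero_mul]
    by_cases hij : i = j
    · simp [hij]
    · have : ¬ j = i := fun h => hij h.symm
      simp [hij, this]

theorem minusForm_u : minusForm m F a b (Pi.single (Sum.inr 0) 1) = 1 := by
  rw [← minusForm_coe]
  unfold Cfsg.quadFormMinus
  simp

theorem minusForm_polar_u_e (i : Fin m) :
    polar (⇑(minusForm m F a b)) (Pi.single (Sum.inr 0) 1)
      (Pi.single (Sum.inl (Sum.inl i)) 1) = 0 := by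
  rw [polar_minusForm]
  simp

theorem minusForm_polar_u_f (i : Fin m) :
    polar (⇑(minusForm m F a b)) (Pi.single (Sum.inr 0) 1)
      (Pi.single (Sum.inl (Sum.inr i)) 1) = 0 := by
  rw [polar_minusForm]
  simp

theorem minusForm_polar_u'_e (c : F) (i : Fin m) :
    polar (⇑(minusForm m F a b)) (c • Pi.single (Sum.inr 1) 1)
      (Pi.single (Sum.inl (Sum.inl i)) 1) = 0 := by
  rw [polar_minusForm]
  simp

theorem minusForm_polar_u'_f (c : F) (i : Fin m) :
    polar (⇑(minusForm m F a b)) (c • Pi.single (Sum.inr 1) 1)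
      (Pi.single (Sum.inl (Sum.inr i)) 1) = 0 := by
  rw [polar_minusForm]
  simp

theorem minusForm_polar_u'_u (ha : a ≠ 0) :
    polar (⇑(minusForm m F a b)) (a⁻¹ • Pi.single (Sum.inr 1) 1)
      (Pi.single (Sum.inr 0) 1) = 1 := by
  rw [polar_minusForm]
  simp [ha]

theorem minusForm_max
    (hab : ∀ z₁ z₂ : F, z₁ ^ 2 + a * z₁ * z₂ + b * z₂ ^ 2 = 0 → z₁ = 0 ∧ z₂ = 0)
    (v : (Fin m ⊕ Fin m) ⊕ Fin 2 → F) (hv : minusForm m F a b v = 0)
    (horth : ∀ i : Fin m,
      polar (⇑(minusForm m F a b)) v (Pi.single (Sum.inl (Sum.inl i)) 1) = 0) :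
    v ∈ Submodule.span F (Set.range (fun i : Fin m =>
      (Pi.single (Sum.inl (Sum.inl i)) 1 : (Fin m ⊕ Fin m) ⊕ Fin 2 → F))) := by
  have h1 : ∀ i, v (Sum.inl (Sum.inr i)) = 0 := by
    intro i
    have := horth i
    rw [polar_minusForm] at this
    simpa [Pi.single_apply] using this
  have h3 : v (Sum.inr 0) = 0 ∧ v (Sum.inr 1) = 0 := by
    apply hab
    rw [← minusForm_coe] at hv
    unfold Cfsg.quadFormMinus at hv
    simpa [h1] using hv
  have hv' : v = ∑ i : Fin m, v (Sum.inl (Sum.inl i)) •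
      (Pi.single (Sum.inl (Sum.inl i)) 1 : (Fin m ⊕ Fin m) ⊕ Fin 2 → F) := by
    funext j
    rw [Finset.sum_apply]
    rcases j with (j | j) | j
    · simp [Pi.single_apply]
    · simp [h1]
    · fin_cases j
      · simpa using h3.1
      · simpa using h3.2
  rw [hv']
  exact Submodule.sum_mem _ (fun i _ => Submodule.smul_mem _ _ (Submodule.subset_span ⟨i, rfl⟩))

theorem minusForm_e_indep :
    LinearIndependent F (fun i : Fin m =>
      (Pi.single (Sum.inl (Sum.inl i)) 1 : (Fin m ⊕ Fin m) ⊕ Fin 2 → F)) := by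
  apply linearIndependent_of_dual (minusForm m F 0 0) _
    (fun i : Fin m => (Pi.single (Sum.inl (Sum.inr i)) 1 : (Fin m ⊕ Fin m) ⊕ Fin 2 → F))
  intro i j
  rw [polar_comm, (minusForm_hyp m F 0 0).ef]
  by_cases hij : i = j
  · rw [if_pos hij, if_pos hij.symm]
  · rw [if_neg hij, if_neg (fun h' => hij h'.symm)]

end minus

end Cfsg.Agent.Lib.Helper8
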