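import Mathlib
import Cfsg.Agent.Lib.Helper8.InvolChar2
import Cfsg.Agent.Lib.Helper8.WittAlt
import Cfsg.Agent.Lib.Helper8.NonsingCount

set_option autoImplicit false

namespace Cfsg.Agent.Lib.Helper8

open Module QuadraticMap

universe u v

variable {F : Type u} {V : Type v} [Field F] [AddCommGroup V] [Module F V]

/-- a Frobenius-semilinear additive function is the square of a linear form -/
theorem exists_linear_sqrt (h2 : (2 : F) = 0) (hsq : ∀ a : F, ∃ c : F, c * c = a)
    (θ : V → F) (hadd : ∀ u v, θ (u + v) = θ u + θ v) (hsmul : ∀ (c : F) v, θ (c • v) = c * c * θ v) :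
    ∃ l : V →ₗ[F] F, ∀ v, l v * l v = θ v := by
  choose s hs using hsq
  refine ⟨{ toFun := fun v => s (θ v), map_add' := ?_, map_smul' := ?_ }, fun v => hs _⟩
  · intro x y
    apply eq_of_mul_self_eq_char2 h2
    rw [hs, hadd]
    linear_combination (-(hs (θ x))) - hs (θ y) - (s (θ x) * s (θ y)) * h2
  · intro c x
    apply eq_of_mul_self_eq_char2 h2
    rw [hs, hsmul, RingHom.id_apply, smul_eq_mul]
    linear_combination (-(c * c)) * hs (θ x)

/-- an involution preserving the polar form of a quadratic form preserves a quadratic form with the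
same polar form -/
theorem exists_invariant_form [FiniteDimensional F V] (h2 : (2 : F) = 0)
    (hsq : ∀ a : F, ∃ c : F, c * c = a) (Q : QuadraticForm F V) (t : V →ₗ[F] V)
    (hinv : ∀ v, t (t v) = v) (hpol : ∀ u v, polar Q (t u) (t v) = polar Q u v) :
    ∃ Q₁ : QuadraticForm F V, (∀ u v, polar Q₁ u v = polar Q u v) ∧ IsInvIso Q₁ t := by
  obtain ⟨l, hl⟩ := exists_linear_sqrt h2 hsq (fun v => Q (t v) + Q v)
    (by
      intro x y
      simp only [map_add]
      rw [QuadraticMap.map_add (⇑Q) (t x) (t y), QuadraticMap.map_add (⇑Q) x y, hpol]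
      linear_combination (polar Q x y) * h2)
    (by
      intro c x
      simp only [map_smul, QuadraticMap.map_smul, smul_eq_mul]
      ring)
  have hker : l ∈ (LinearMap.ker (nilPart t)).dualAnnihilator := by
    rw [Submodule.mem_dualAnnihilator]
    intro w hw
    rw [LinearMap.mem_ker, nilPart_apply, sub_eq_zero] at hw
    have h1 := hl w
    rw [hw] at h1
    have h3 : l w * l w = 0 := by rw [h1]; linear_combination (Q w) * h2
    exact mul_self_eq_zero.1 h3
  rw [← LinearMap.range_dualMap_eq_dualAnnihilator_ker] at hker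
  obtain ⟨μ, hμ⟩ := hker
  have hμ' : ∀ v, μ (nilPart t v) = l v := by
    intro v
    rw [← hμ]
    rfl
  refine ⟨Q + QuadraticMap.linMulLin μ μ, ?_, ?_, hinv⟩
  · intro x y
    simp only [polar, add_apply, QuadraticMap.linMulLin_apply, map_add]
    linear_combination (μ x * μ y) * h2
  · intro v
    have h1 : t v = v + nilPart t v := by rw [nilPart_apply]; abel
    have h3 : μ (t v) = μ v + l v := by rw [h1, map_add, hμ']
    simp only [add_apply, QuadraticMap.linMulLin_apply]
    rw [h3]
    linear_combination hl v + (μ v * l v + Q (t v)) * h2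

/-- involutions with standard frames of the same shape, for two quadratic forms with the same
polar form, are conjugate under the isometry group of the polar form -/
theorem polar_conj_of_frames [FiniteDimensional F V] (h2 : (2 : F) = 0) {Q Q' : QuadraticForm F V}
    (hQ : (QuadraticMap.polarBilin Q).Nondegenerate)
    (hQQ' : ∀ u v, polar Q' u v = polar Q u v) {t t' : V →ₗ[F] V} {κ : Type} [Fintype κ]
    [DecidableEq κ] {σ : κ → κ} {w w' : κ → V} (hw : IsFrame Q t σ w) (hw' : IsFrame Q' t' σ w') :
    ∃ g : V ≃ₗ[F] V, (∀ u v, polar Q (g u) (g v) = polar Q u v) ∧ ∀ z, g (t z) = t' (g z) := by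
  obtain ⟨e⟩ : Nonempty (κ ≃ Fin (Fintype.card κ)) := ⟨Fintype.equivFin κ⟩
  have hA : (QuadraticMap.polarBilin Q).IsAlt := by
    intro x
    rw [QuadraticMap.polarBilin_apply_apply, polar_self]
    simp only [nsmul_eq_mul, Nat.cast_ofNat]
    rw [h2, zero_mul]
  obtain ⟨g, hg, hgw⟩ := witt_family (QuadraticMap.polarBilin Q) hQ hA (Fintype.card κ)
    (w ∘ e.symm) (w' ∘ e.symm)
    (hw.indep.comp _ e.symm.injective) (hw'.indep.comp _ e.symm.injective)
    (fun i j => by
      simp only [Function.comp_apply, QuadraticMap.polarBilin_apply_apply]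
      rw [hw.orth, ← hQQ', hw'.orth])
  have hgw' : ∀ a, g (w a) = w' a := by
    intro a
    have := hgw (e a)
    simpa using this
  refine ⟨g, hg, ?_⟩
  intro z
  have h1 : t z = z + nilPart t z := by rw [nilPart_apply]; abel
  have h3 : t' (g z) = g z + nilPart t' (g z) := by rw [nilPart_apply]; abel
  rw [h1, h3, map_add, hw.formula, hw'.formula, map_sum]
  congr 1
  apply Finset.sum_congr rfl
  intro a _
  rw [map_smul, hgw', ← hgw' (σ a), hQQ']
  congr 1
  exact (hg z (w (σ a))).symm

/-- classification of involutions of a symplectic group in characteristic two -/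
theorem polar_conj_of_same_type [FiniteDimensional F V] (h2 : (2 : F) = 0)
    (hsq : ∀ a : F, ∃ c : F, c * c = a) {Q Q' : QuadraticForm F V}
    (hQ : (QuadraticMap.polarBilin Q).Nondegenerate)
    (hQQ' : ∀ u v, polar Q' u v = polar Q u v) {t t' : V →ₗ[F] V} (ht : IsInvIso Q t)
    (ht' : IsInvIso Q' t')
    (hrank : finrank F (LinearMap.range (nilPart t)) = finrank F (LinearMap.range (nilPart t')))
    (htype : (∀ z, Q (nilPart t z) = 0) ↔ (∀ z, Q' (nilPart t' z) = 0)) :
    ∃ g : V ≃ₗ[F] V, (∀ u v, polar Q (g u) (g v) = polar Q u v) ∧ ∀ z, g (t z) = t' (g z) := by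
  have hQ' : (QuadraticMap.polarBilin Q').Nondegenerate := by
    have : QuadraticMap.polarBilin Q' = QuadraticMap.polarBilin Q := by
      ext x y
      exact hQQ' x y
    rw [this]
    exact hQ
  by_cases hA : ∀ z, Q (nilPart t z) = 0
  · obtain ⟨r, w, hw⟩ := exists_frame_alt h2 hQ ht hA
    obtain ⟨r', w', hw'⟩ := exists_frame_alt h2 hQ' ht' (htype.1 hA)
    have h1 := hw.finrank_range
    have h2' := hw'.finrank_range
    have hrr : r = r' := by
      simp only [Fintype.card_sum, Fintype.card_fin] at h1 h2'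
      omega
    subst hrr
    exact polar_conj_of_frames h2 hQ hQQ' hw hw'
  · have hA' : ¬ ∀ z, Q' (nilPart t' z) = 0 := fun h => hA (htype.2 h)
    push Not at hA hA'
    obtain ⟨s, w, hw⟩ := exists_frame_nonalt h2 hsq hQ ht hA
    obtain ⟨s', w', hw'⟩ := exists_frame_nonalt h2 hsq hQ' ht' hA'
    have h1 := hw.finrank_range
    have h2' := hw'.finrank_range
    have hss : s = s' := by
      simp only [Fintype.card_fin] at h1 h2'
      omega
    subst hss
    exact polar_conj_of_frames h2 hQ hQQ' hw hw'

/-- a fixed-point-free linear map preserves at most one quadratic form with a given polar form -/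
theorem quad_eq_of_fpf [FiniteDimensional F V] (h2 : (2 : F) = 0)
    (hsq : ∀ a : F, ∃ c : F, c * c = a) (Q Q' : QuadraticForm F V)
    (hQQ' : ∀ u v, polar Q' u v = polar Q u v) (x : V →ₗ[F] V)
    (hx : ∀ v, Q (x v) = Q v) (hx' : ∀ v, Q' (x v) = Q' v) (hfpf : ∀ v, x v = v → v = 0) (v : V) :
    Q v = Q' v := by
  obtain ⟨l, hl⟩ := exists_linear_sqrt h2 hsq (fun v => Q v + Q' v)
    (by
      intro a b
      show Q (a + b) + Q' (a + b) = Q a + Q' a + (Q b + Q' b)
      rw [QuadraticMap.map_add (⇑Q) a b, QuadraticMap.map_add (⇑Q') a b, hQQ']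
      linear_combination (polar Q a b) * h2)
    (by
      intro c a
      show Q (c • a) + Q' (c • a) = c * c * (Q a + Q' a)
      rw [QuadraticMap.map_smul, QuadraticMap.map_smul, smul_eq_mul, smul_eq_mul]
      ring)
  have hlx : ∀ v, l (x v) = l v := by
    intro v
    apply eq_of_mul_self_eq_char2 h2
    rw [hl, hl, hx, hx']
  have hinj : Function.Injective ⇑(x - LinearMap.id : V →ₗ[F] V) := by
    rw [← LinearMap.ker_eq_bot, LinearMap.ker_eq_bot']
    intro v hv
    apply hfpf
    rw [LinearMap.sub_apply, LinearMap.id_apply, sub_eq_zero] at hv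
    exact hv
  have hsurj : Function.Surjective ⇑(x - LinearMap.id : V →ₗ[F] V) :=
    LinearMap.injective_iff_surjective.1 hinj
  obtain ⟨y, hy⟩ := hsurj v
  have hlv : l v = 0 := by
    rw [← hy, LinearMap.sub_apply, LinearMap.id_apply, map_sub, hlx, sub_self]
  have h1 := hl v
  rw [hlv, mul_zero] at h1
  linear_combination (-h1) - (Q' v) * h2

end Cfsg.Agent.Lib.Helper8
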