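import Mathlib
import Cfsg.Agent.Lib.Helper43.WittClass
import Cfsg.Agent.Lib.Helper43.OrthCardMinus
import Cfsg.Agent.Lib.Helper8.MinusClassify
import Cfsg.Agent.Lib.Helper8.InvolCountForms
import Cfsg.Agent.Lib.Helper8.InvolCount
import Cfsg.Agent.Lib.Helper8.SpOrthA

set_option autoImplicit false

namespace Cfsg.Agent.Lib.Helper8

open Module QuadraticMap Cfsg.Agent.Lib.Helper43

universe u v

section counts

variable {F : Type*} [Field F] [Fintype F]

theorem card_zeros_plusForm (m : ℕ) :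
    Nat.card {v : Fin m ⊕ Fin m → F // plusForm m F v = 0} = ZZ (Fintype.card F) 0 1 m := by
  have hQ₁ : (polarBilin (0 : QuadraticForm F (Fin 0 → F))).Nondegenerate :=
    ⟨fun x _ => Subsingleton.elim _ _, fun x _ => Subsingleton.elim _ _⟩
  obtain ⟨-, h3, -⟩ := card_OG_family (0 : QuadraticForm F (Fin 0 → F)) hQ₁ m _
    (plusForm m F) _ _ _ (plus_family m F)
  rw [h3]
  have hn : finrank F (Fin 0 → F) = 0 := by simp
  have hz : Nat.card {x : Fin 0 → F // (0 : QuadraticForm F (Fin 0 → F)) x = 0} = 1 := by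
    rw [Nat.card_eq_one_iff_unique]
    exact ⟨⟨fun x y => Subtype.ext (Subsingleton.elim _ _)⟩, ⟨⟨0, by simp⟩⟩⟩
  rw [hn, hz]

theorem card_zeros_minusForm (m : ℕ) (a b : F)
    (hab : ∀ z₁ z₂ : F, z₁ ^ 2 + a * z₁ * z₂ + b * z₂ ^ 2 = 0 → z₁ = 0 ∧ z₂ = 0) :
    Nat.card {v : (Fin m ⊕ Fin m) ⊕ Fin 2 → F // minusForm m F a b v = 0}
      = ZZ (Fintype.card F) 2 1 m := by
  obtain ⟨-, h3, -⟩ := card_OG_family (minusForm 0 F a b)
    (minusForm_zero_nondegenerate F a b hab) m _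
    (minusForm m F a b) _ _ _ (minus_family m F a b)
  rw [h3]
  have hn : finrank F ((Fin 0 ⊕ Fin 0) ⊕ Fin 2 → F) = 2 := by
    rw [Module.finrank_fintype_fun_eq_card]
    simp
  have hz : Nat.card {x : (Fin 0 ⊕ Fin 0) ⊕ Fin 2 → F // minusForm 0 F a b x = 0} = 1 := by
    rw [Nat.card_eq_one_iff_unique]
    refine ⟨⟨fun x y => Subtype.ext ?_⟩, ⟨⟨0, by simp⟩⟩⟩
    rw [minusForm_zero_anisotropic F a b hab x.1 x.2, minusForm_zero_anisotropic F a b hab y.1 y.2]
  rw [hn, hz]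

/-- an anisotropic binary form exists in characteristic two -/
theorem exists_aniso_char2 (h2 : (2 : F) = 0) :
    ∃ a b : F, ∀ z₁ z₂ : F, z₁ ^ 2 + a * z₁ * z₂ + b * z₂ ^ 2 = 0 → z₁ = 0 ∧ z₂ = 0 := by
  have hidx := index_range_asMap (F := F) h2
  have hne : (asMap F h2).range ≠ ⊤ := by
    intro h
    rw [h, AddSubgroup.index_top] at hidx
    omega
  obtain ⟨b, hb⟩ : ∃ b : F, b ∉ (asMap F h2).range := by
    by_contra hcon
    push Not at hcon
    exact hne (eq_top_iff.2 (fun x _ => hcon x))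
  refine ⟨1, b, fun z₁ z₂ h => ?_⟩
  by_cases hz : z₂ = 0
  · subst hz
    refine ⟨?_, rfl⟩
    have : z₁ ^ 2 = 0 := by linear_combination h
    exact pow_eq_zero_iff (two_ne_zero) |>.1 this
  · exfalso
    apply hb
    refine ⟨z₁ * z₂⁻¹, ?_⟩
    rw [asMap_apply]
    field_simp
    linear_combination h - (b * z₂ ^ 2) * h2

end counts

section congr

variable {F : Type*} [Field F] {V V' : Type*} [AddCommGroup V] [Module F V] [AddCommGroup V']
  [Module F V']

theorem card_zeros_congr (Q : V → F) (Q' : V' → F) (Θ : V ≃ₗ[F] V') (hΘ : ∀ v, Q' (Θ v) = Q v) :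
    Nat.card {v : V // Q v = 0} = Nat.card {v : V' // Q' v = 0} := by
  apply Nat.card_congr
  exact Θ.toEquiv.subtypeEquiv (fun v => by
    show Q v = 0 ↔ Q' (Θ v) = 0
    rw [hΘ])

theorem polar_of_equiv (Q : QuadraticForm F V) (Q' : QuadraticForm F V') (Θ : V ≃ₗ[F] V')
    (hΘ : ∀ v, Q' (Θ v) = Q v) (x y : V') :
    polar Q (Θ.symm x) (Θ.symm y) = polar Q' x y := by
  have h : ∀ z : V', Q (Θ.symm z) = Q' z := by
    intro z
    rw [← hΘ, LinearEquiv.apply_symm_apply]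
  simp only [polar, ← map_add, h]

theorem IsHypFamily.pullback {Q : QuadraticForm F V} {Q' : QuadraticForm F V'} (Θ : V ≃ₗ[F] V')
    (hΘ : ∀ v, Q' (Θ v) = Q v) {k : ℕ} {e f : Fin k → V'} (h : IsHypFamily Q' e f) :
    IsHypFamily Q (fun i => Θ.symm (e i)) (fun i => Θ.symm (f i)) := by
  have hq : ∀ z : V', Q (Θ.symm z) = Q' z := by
    intro z
    rw [← hΘ, LinearEquiv.apply_symm_apply]
  refine ⟨fun i => ?_, fun i => ?_, fun i j => ?_, fun i j => ?_, fun i j => ?_⟩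
  · rw [hq]; exact h.qe i
  · rw [hq]; exact h.qf i
  · rw [polar_of_equiv Q Q' Θ hΘ]; exact h.ee i j
  · rw [polar_of_equiv Q Q' Θ hΘ]; exact h.ff i j
  · rw [polar_of_equiv Q Q' Θ hΘ]; exact h.ef i j

end congr

end Cfsg.Agent.Lib.Helper8
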