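import Mathlib
import Cfsg.Agent.Lib.Helper8.SpOrthB

set_option autoImplicit false

namespace Cfsg.Agent.Lib.Helper8

open Module QuadraticMap Cfsg.Agent.Lib.Helper43

universe u

variable {F : Type*} [Field F] [Fintype F]

/-- in a quadratic space of minus type, totally singular subspaces have dimension less than half
the dimension of the space -/
theorem ts_bound_of_not_plus (h2 : (2 : F) = 0) (V : Type u) [AddCommGroup V] [Module F V]
    [FiniteDimensional F V] (Q : QuadraticForm F V) (hQ : (polarBilin Q).Nondegenerate) (M : ℕ)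
    (hdim : finrank F V = 2 * M + 2)
    (hZ : Nat.card {v : V // Q v = 0} ≠ ZZ (Fintype.card F) 0 1 (M + 1))
    (U : Submodule F V) (hU : ∀ u ∈ U, Q u = 0) : finrank F U ≤ M := by
  by_contra hlt
  push Not at hlt
  obtain ⟨a, b, hab⟩ := exists_aniso_char2 (F := F) h2
  have hc0 : a ≠ 0 := by
    rintro rfl
    obtain ⟨e, he⟩ := exists_sq_char2 h2 b
    have := hab e 1 (by rw [pow_two, he]; linear_combination b * h2)
    exact one_ne_zero this.2
  obtain ⟨Θ, hΘ⟩ := classify_minus_char2 h2 V Q hQ M hdim hZ a b hab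
  rw [minusForm_coe] at hΘ
  let bs := Module.finBasis F U
  have hle : M + 1 ≤ finrank F U := hlt
  let x : Fin (M + 1) → (Fin M ⊕ Fin M) ⊕ Fin 2 → F := fun i => Θ ((bs (Fin.castLE hle i) : U) : V)
  have hx : LinearIndependent F x := by
    have h1 : LinearIndependent F (fun i : Fin (M + 1) => bs (Fin.castLE hle i)) :=
      bs.linearIndependent.comp _ (Fin.castLE_injective hle)
    have h3 := h1.map' (Θ.toLinearMap ∘ₗ U.subtype) (by
      rw [LinearMap.ker_eq_bot]
      exact Θ.injective.comp U.injective_subtype)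
    exact h3
  have hyp := minusForm_hyp M F a b
  apply ts_family_bound (minusForm M F a b) (minusForm_nondegenerate M F a b h2 hc0) M _
    (minusForm_e_indep M F) hyp.qe hyp.ee (minusForm_max M F a b hab) x hx
  · intro i
    show minusForm M F a b (Θ _) = 0
    rw [hΘ]
    exact hU _ (bs (Fin.castLE hle i)).2
  · intro i j
    show polar (⇑(minusForm M F a b)) (Θ _) (Θ _) = 0
    simp only [polar, ← map_add, hΘ]
    rw [hU _ (bs (Fin.castLE hle i)).2, hU _ (bs (Fin.castLE hle j)).2,
      hU _ (U.add_mem (bs (Fin.castLE hle i)).2 (bs (Fin.castLE hle j)).2)]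
    ring

/-- involutions of alternating type with prescribed rank in an orthogonal group -/
theorem exists_alt_inv (h2 : (2 : F) = 0) (V : Type u) [AddCommGroup V] [Module F V]
    [FiniteDimensional F V] (Q : QuadraticForm F V) (hQ : (polarBilin Q).Nondegenerate) (M : ℕ)
    (hdim : finrank F V = 2 * M + 2)
    (hgood : Nat.card {v : V // Q v = 0} = ZZ (Fintype.card F) 0 1 (M + 1) ∨ Even M)
    (r : ℕ) (hr : 2 * r ≤ M + 1) :
    ∃ t : V →ₗ[F] V, IsInvIso Q t ∧ finrank F (LinearMap.range (nilPart t)) = 2 * r ∧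
      ∀ z, Q (nilPart t z) = 0 := by
  by_cases hZ : Nat.card {v : V // Q v = 0} = ZZ (Fintype.card F) 0 1 (M + 1)
  · obtain ⟨Θ, hΘ⟩ := classify_plus V Q hQ (M + 1) (by rw [hdim]; ring) hZ
    rw [plusForm_coe] at hΘ
    exact ((plusForm_hyp (M + 1) F).pullback Θ hΘ).exists_alt h2 r hr
  · have hM : Even M := hgood.resolve_left hZ
    obtain ⟨a, b, hab⟩ := exists_aniso_char2 (F := F) h2
    obtain ⟨Θ, hΘ⟩ := classify_minus_char2 h2 V Q hQ M hdim hZ a b hab
    rw [minusForm_coe] at hΘ
    obtain ⟨c, rfl⟩ := hM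
    exact ((minusForm_hyp (c + c) F a b).pullback Θ hΘ).exists_alt h2 r (by omega)

/-- involutions of non-alternating type with prescribed rank in an orthogonal group -/
theorem exists_nonalt_inv (h2 : (2 : F) = 0) (V : Type u) [AddCommGroup V] [Module F V]
    [FiniteDimensional F V] (Q : QuadraticForm F V) (hQ : (polarBilin Q).Nondegenerate) (M : ℕ)
    (hdim : finrank F V = 2 * M + 2) (s : ℕ) (hs1 : 1 ≤ s) (hs : s ≤ M + 1) :
    ∃ t : V →ₗ[F] V, IsInvIso Q t ∧ finrank F (LinearMap.range (nilPart t)) = s ∧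
      ¬ ∀ z, Q (nilPart t z) = 0 := by
  by_cases hZ : Nat.card {v : V // Q v = 0} = ZZ (Fintype.card F) 0 1 (M + 1)
  · obtain ⟨Θ, hΘ⟩ := classify_plus V Q hQ (M + 1) (by rw [hdim]; ring) hZ
    rw [plusForm_coe] at hΘ
    exact ((plusForm_hyp (M + 1) F).pullback Θ hΘ).exists_nonalt h2 s hs1 hs
  · obtain ⟨a, b, hab⟩ := exists_aniso_char2 (F := F) h2
    have hc0 : a ≠ 0 := by
      rintro rfl
      obtain ⟨e, he⟩ := exists_sq_char2 h2 b
      have := hab e 1 (by rw [pow_two, he]; linear_combination b * h2)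
      exact one_ne_zero this.2
    obtain ⟨Θ, hΘ⟩ := classify_minus_char2 h2 V Q hQ M hdim hZ a b hab
    rw [minusForm_coe] at hΘ
    have hq : ∀ z, Q (Θ.symm z) = minusForm M F a b z := by
      intro z
      rw [← hΘ, LinearEquiv.apply_symm_apply]
    have hp := polar_of_equiv Q (minusForm M F a b) Θ hΘ
    apply ((minusForm_hyp M F a b).pullback Θ hΘ).exists_nonalt_succ h2
      (Θ.symm (Pi.single (Sum.inr 0) 1)) (Θ.symm (a⁻¹ • Pi.single (Sum.inr 1) 1))
    · rw [hq]; exact minusForm_u M F a b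
    · intro i; rw [hp]; exact minusForm_polar_u_e M F a b i
    · intro i; rw [hp]; exact minusForm_polar_u_f M F a b i
    · rw [hp]; exact minusForm_polar_u'_u M F a b hc0
    · intro i; rw [hp]; exact minusForm_polar_u'_e M F a b _ i
    · intro i; rw [hp]; exact minusForm_polar_u'_f M F a b _ i
    · exact hs1
    · exact hs

/-- every involution of the symplectic group is conjugate into the orthogonal group, for plus type
or odd Witt index -/
theorem exists_sp_conj_into_orth (h2 : (2 : F) = 0) (V : Type u) [AddCommGroup V] [Module F V]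
    [FiniteDimensional F V] (Q : QuadraticForm F V) (hQ : (polarBilin Q).Nondegenerate) (M : ℕ)
    (hdim : finrank F V = 2 * M + 2)
    (hgood : Nat.card {v : V // Q v = 0} = ZZ (Fintype.card F) 0 1 (M + 1) ∨ Even M)
    (t : V →ₗ[F] V) (hinv : ∀ v, t (t v) = v) (hpol : ∀ u v, polar Q (t u) (t v) = polar Q u v) :
    ∃ g : V ≃ₗ[F] V, (∀ u v, polar Q (g u) (g v) = polar Q u v) ∧
      ∀ v, Q (g.symm (t (g v))) = Q v := by
  have hsq : ∀ a : F, ∃ c : F, c * c = a := exists_sq_char2 h2
  obtain ⟨Q₁, hQ₁Q, ht₁⟩ := exists_invariant_form h2 hsq Q t hinv hpol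
  have hQ₁ : (polarBilin Q₁).Nondegenerate := by
    have : polarBilin Q₁ = polarBilin Q := by
      ext x y
      exact hQ₁Q x y
    rw [this]
    exact hQ
  have hQQ₁ : ∀ u v, polar Q u v = polar Q₁ u v := fun u v => (hQ₁Q u v).symm
  have hle := ht₁.two_mul_finrank_range_le h2
  obtain ⟨t', ht', hrank, htype⟩ : ∃ t' : V →ₗ[F] V, IsInvIso Q t' ∧
      finrank F (LinearMap.range (nilPart t)) = finrank F (LinearMap.range (nilPart t')) ∧
      ((∀ z, Q₁ (nilPart t z) = 0) ↔ (∀ z, Q (nilPart t' z) = 0)) := by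
    by_cases hA : ∀ z, Q₁ (nilPart t z) = 0
    · obtain ⟨r, hr⟩ := ht₁.even_finrank_of_alt h2 hQ₁ hA
      obtain ⟨t', ht', h1, h3⟩ := exists_alt_inv h2 V Q hQ M hdim hgood r (by omega)
      exact ⟨t', ht', by omega, ⟨fun _ => h3, fun _ => hA⟩⟩
    · have hpos : 1 ≤ finrank F (LinearMap.range (nilPart t)) := by
        by_contra h0
        have h0' : finrank F (LinearMap.range (nilPart t)) = 0 := by omega
        rw [Submodule.finrank_eq_zero] at h0'
        apply hA
        intro z
        have : nilPart t z ∈ LinearMap.range (nilPart t) := ⟨z, rfl⟩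
        rw [h0', Submodule.mem_bot] at this
        rw [this, map_zero]
      obtain ⟨t', ht', h1, h3⟩ := exists_nonalt_inv h2 V Q hQ M hdim _ hpos (by omega)
      exact ⟨t', ht', h1.symm, ⟨fun h => absurd h hA, fun h => absurd h h3⟩⟩
  obtain ⟨g, hg, hgt⟩ := polar_conj_of_same_type h2 hsq hQ₁ hQQ₁ ht₁ ht' hrank htype
  refine ⟨g.symm, ?_, ?_⟩
  · intro x y
    have := hg (g.symm x) (g.symm y)
    rw [LinearEquiv.apply_symm_apply, LinearEquiv.apply_symm_apply] at this
    rw [hQQ₁, hQQ₁, this]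
  · intro v
    rw [LinearEquiv.symm_symm, hgt, LinearEquiv.apply_symm_apply, ht'.iso]

end Cfsg.Agent.Lib.Helper8
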