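import Mathlib
import Cfsg.Agent.Lib.Helper8.SpOrthC
import Cfsg.Agent.Lib.Helper40.Darboux
import Cfsg.Agent.Lib.Helper44.Transport
import Cfsg.Agent.Lib.Helper13.Orth
import Cfsg.Prelude.Def_GeometricClasses

set_option autoImplicit false

namespace Cfsg.Agent.Lib.Helper8

open Module QuadraticMap Cfsg.Agent.Lib.Helper43 Matrix

universe u

section plusType

variable {F : Type*} [Field F] [Fintype F]

/-- plus type in terms of the number of singular vectors -/
theorem isPlusTypeOn_iff_card (h2 : (2 : F) = 0) (M : ℕ)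
    (Q : QuadraticForm F (Fin (M + 1) ⊕ Fin (M + 1) → F)) (hQ : (polarBilin Q).Nondegenerate) :
    Cfsg.Geo.IsPlusTypeOn (⇑Q) ⊤ ↔
      Nat.card {v : Fin (M + 1) ⊕ Fin (M + 1) → F // Q v = 0}
        = ZZ (Fintype.card F) 0 1 (M + 1) := by
  have hdim : finrank F (Fin (M + 1) ⊕ Fin (M + 1) → F) = 2 * M + 2 := by
    rw [Module.finrank_fintype_fun_eq_card, Fintype.card_sum, Fintype.card_fin]
    omega
  constructor
  · rintro ⟨U, -, hts, hdimU⟩
    by_contra hZ
    have := ts_bound_of_not_plus h2 _ Q hQ M hdim hZ U hts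
    rw [finrank_top, hdim] at hdimU
    omega
  · intro hZ
    obtain ⟨Θ, hΘ⟩ := classify_plus _ Q hQ (M + 1) (by rw [hdim]; ring) hZ
    let j : (Fin (M + 1) → F) →ₗ[F] (Fin (M + 1) ⊕ Fin (M + 1) → F) :=
      { toFun := fun c => Sum.elim c 0
        map_add' := by
          intro x y
          funext t
          rcases t with t | t <;> simp
        map_smul' := by
          intro c x
          funext t
          rcases t with t | t <;> simp }
    have hj : Function.Injective j := by
      intro x y hxy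
      funext i
      exact congrFun hxy (Sum.inl i)
    refine ⟨LinearMap.range (Θ.symm.toLinearMap ∘ₗ j), le_top, ?_, ?_⟩
    · rintro _ ⟨c, rfl⟩
      show Q (Θ.symm (j c)) = 0
      rw [← hΘ, LinearEquiv.apply_symm_apply]
      unfold Cfsg.quadFormPlus
      apply Finset.sum_eq_zero
      intro i _
      show c i * 0 = 0
      rw [mul_zero]
    · have hinj : Function.Injective ⇑(Θ.symm.toLinearMap ∘ₗ j) := by
        intro x y hxy
        exact hj (Θ.symm.injective hxy)
      rw [LinearMap.finrank_range_of_inj hinj, finrank_top, hdim,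
        Module.finrank_fintype_fun_eq_card, Fintype.card_fin]
      ring

end plusType

section darboux

variable {F : Type*} [Field F]

/-- symplectic coordinates in characteristic two -/
theorem exists_symp_coords (h2 : (2 : F) = 0) {W : Type*} [AddCommGroup W] [Module F W]
    [FiniteDimensional F W] (ω : LinearMap.BilinForm F W) (halt : ω.IsAlt)
    (hnd : ω.Nondegenerate) (N : ℕ) (hfr : finrank F W = 2 * N) :
    ∃ Θ : W ≃ₗ[F] (Fin N ⊕ Fin N → F), ∀ u v, Cfsg.sympForm N F (Θ u) (Θ v) = ω u v := by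
  obtain ⟨b, hb⟩ := Cfsg.Agent.Lib.Helper40.Darboux.darboux_basis N W ω halt hnd hfr
  refine ⟨b.equivFun, fun u v => ?_⟩
  rw [LinearMap.BilinForm.apply_eq_dotProduct_toMatrix_mulVec b ω u v, hb,
    Cfsg.Agent.Lib.Helper40.Darboux.gramJ_eq]
  unfold Cfsg.sympForm
  have hneg : (-1 : F) = 1 := by linear_combination (-1 : F) * h2
  rw [Matrix.neg_mulVec, dotProduct_neg]
  have : ∀ a : F, -a = a := fun a => by linear_combination a * hneg - a * hneg + (-a) * h2
  rw [this]
  rfl

end darboux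

section transport

variable {F : Type*} [Field F]

/-- transport of an isometry of an abstract quadratic space to a symplectic matrix -/
theorem transport_model (h2 : (2 : F) = 0) {W : Type*} [AddCommGroup W] [Module F W]
    [FiniteDimensional F W] (Qm : QuadraticForm F W) (hQm : (polarBilin Qm).Nondegenerate)
    (N : ℕ) (hfr : finrank F W = 2 * N) (xm : W ≃ₗ[F] W) (hx : ∀ w, Qm (xm w) = Qm w) (r : ℕ)
    (hxr : xm ^ r = 1) (hfpf : ∀ w, xm w = w → w = 0) :
    ∃ (Q' : QuadraticForm F (Fin N ⊕ Fin N → F)) (X : GL (Fin N ⊕ Fin N) F),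
      (∀ u v, polar Q' u v = Cfsg.sympForm N F u v) ∧
      (∀ v, Q' ((X : Matrix (Fin N ⊕ Fin N) (Fin N ⊕ Fin N) F) *ᵥ v) = Q' v) ∧ X ^ r = 1 ∧
      (∀ v, (X : Matrix (Fin N ⊕ Fin N) (Fin N ⊕ Fin N) F) *ᵥ v = v → v = 0) ∧
      Nat.card {v : Fin N ⊕ Fin N → F // Q' v = 0} = Nat.card {w : W // Qm w = 0} := by
  have halt : (polarBilin Qm).IsAlt := by
    intro x
    rw [QuadraticMap.polarBilin_apply_apply, polar_self]
    simp only [nsmul_eq_mul, Nat.cast_ofNat]
    rw [h2, zero_mul]
  obtain ⟨Θ, hΘ⟩ := exists_symp_coords h2 (polarBilin Qm) halt hQm N hfr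
  let Q' : QuadraticForm F (Fin N ⊕ Fin N → F) := Qm.comp (Θ.symm : _ →ₗ[F] W)
  have hQ'app : ∀ v, Q' v = Qm (Θ.symm v) := fun v => rfl
  obtain ⟨φ, hφ⟩ := Cfsg.Agent.Lib.Helper44.exists_mulEquiv_isometryGroup (⇑Q') (⇑Qm) Θ
    (fun v => by rw [hQ'app, LinearEquiv.symm_apply_apply])
  let g' : ↥(Cfsg.Agent.Lib.Helper44.absIsometryGroup F (⇑Qm)) := ⟨xm, hx⟩
  have hg'r : g' ^ r = 1 := Subtype.ext hxr
  have hyr : (φ g') ^ r = 1 := by rw [← map_pow, hg'r, map_one]
  refine ⟨Q', (φ g' : GL (Fin N ⊕ Fin N) F), ?_, ?_, ?_, ?_, ?_⟩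
  · intro u v
    have := hΘ (Θ.symm u) (Θ.symm v)
    rw [LinearEquiv.apply_symm_apply, LinearEquiv.apply_symm_apply,
      QuadraticMap.polarBilin_apply_apply] at this
    rw [this]
    simp only [polar, hQ'app, map_add]
  · intro v
    exact (Cfsg.Agent.Lib.Helper13.mem_isometryGroup_iff (⇑Q') _).1 (φ g').2 v
  · have := congrArg (fun y : ↥(Cfsg.isometryGroup F (⇑Q')) => (y : GL (Fin N ⊕ Fin N) F)) hyr
    simpa using this
  · intro u hu
    rw [hφ] at hu
    have h1 : xm (Θ.symm u) = Θ.symm u := by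
      apply Θ.injective
      rw [LinearEquiv.apply_symm_apply]
      exact hu
    have h3 := hfpf _ h1
    have := congrArg Θ h3
    rwa [LinearEquiv.apply_symm_apply, map_zero] at this
  · exact (card_zeros_congr (⇑Qm) (⇑Q') Θ
      (fun v => by rw [hQ'app, LinearEquiv.symm_apply_apply])).symm

end transport

end Cfsg.Agent.Lib.Helper8
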