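import Mathlib
import Cfsg.Agent.Lib.Helper8.SpOrthD
import Cfsg.Agent.Lib.Helper8.OddFpfMinus

set_option autoImplicit false

namespace Cfsg.Agent.Lib.Helper8

open Module QuadraticMap Cfsg.Agent.Lib.Helper43 Matrix

section general

variable {F : Type*} [Field F] {V V' : Type*} [AddCommGroup V] [Module F V] [AddCommGroup V']
  [Module F V']

theorem nondegenerate_of_equiv (Q : QuadraticForm F V) (Q' : QuadraticForm F V') (Θ : V ≃ₗ[F] V')
    (hΘ : ∀ v, Q' (Θ v) = Q v) (hQ' : (polarBilin Q').Nondegenerate) :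
    (polarBilin Q).Nondegenerate := by
  have hp := polar_of_equiv Q Q' Θ hΘ
  have hleft : ∀ x, (∀ y, polar (⇑Q) x y = 0) → x = 0 := by
    intro x hx
    have h1 : Θ x = 0 := by
      apply hQ'.1 (Θ x)
      intro y'
      rw [QuadraticMap.polarBilin_apply_apply, ← hp, LinearEquiv.symm_apply_apply]
      exact hx _
    have := congrArg Θ.symm h1
    rwa [LinearEquiv.symm_apply_apply, map_zero] at this
  refine ⟨fun x hx => hleft x hx, fun y hy => hleft y (fun x => ?_)⟩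
  rw [polar_comm]
  exact hy x

end general

section concrete

variable {F : Type*} [Field F] [Fintype F] [CharP F 2]

/-- a fixed-point-free element of prime order `r ∣ q^(M+1) - 1` of the symplectic group preserving
a quadratic form of plus type -/
theorem exists_fpf_model_plus (M : ℕ) (r : ℕ) [Fact r.Prime]
    (hr : r ∣ Fintype.card F ^ (M + 1) - 1) :
    ∃ (Q' : QuadraticForm F (Fin (M + 1) ⊕ Fin (M + 1) → F)) (X : GL (Fin (M + 1) ⊕ Fin (M + 1)) F),
      (∀ u v, polar Q' u v = Cfsg.sympForm (M + 1) F u v) ∧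
      (∀ v, Q' ((X : Matrix (Fin (M + 1) ⊕ Fin (M + 1)) (Fin (M + 1) ⊕ Fin (M + 1)) F) *ᵥ v)
        = Q' v) ∧ X ^ r = 1 ∧
      (∀ v, (X : Matrix (Fin (M + 1) ⊕ Fin (M + 1)) (Fin (M + 1) ⊕ Fin (M + 1)) F) *ᵥ v = v →
        v = 0) ∧
      Nat.card {v : Fin (M + 1) ⊕ Fin (M + 1) → F // Q' v = 0}
        = ZZ (Fintype.card F) 0 1 (M + 1) := by
  have h2 : (2 : F) = 0 := by
    have := CharP.cast_eq_zero F 2
    exact_mod_cast this
  have hrp : r.Prime := Fact.out
  have hcardK : Nat.card (FiniteField.Extension F 2 (M + 1))ˣ = Fintype.card F ^ (M + 1) - 1 := by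
    rw [Nat.card_units, FiniteField.natCard_extension, Nat.card_eq_fintype_card]
  rw [← hcardK] at hr
  obtain ⟨ζ, hζ⟩ := exists_prime_orderOf_dvd_card' r hr
  have hζ1 : ζ ≠ 1 := by
    rintro rfl
    rw [orderOf_one] at hζ
    exact hrp.one_lt.ne hζ
  obtain ⟨Θ, hΘ⟩ := exists_coords_trQ F
    (FiniteField.Extension F 2 (M + 1)) (M + 1) (FiniteField.finrank_extension F 2 (M + 1))
  rw [plusForm_coe] at hΘ
  have hnd := nondegenerate_of_equiv (trQ F (FiniteField.Extension F 2 (M + 1)))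
    (plusForm (M + 1) F) Θ hΘ (plusForm_nondegenerate (M + 1) F)
  have hfr : finrank F (FiniteField.Extension F 2 (M + 1) × FiniteField.Extension F 2 (M + 1))
      = 2 * (M + 1) := by
    rw [Module.finrank_prod, FiniteField.finrank_extension]
    ring
  obtain ⟨Q', X, h1, h3, h4, h5, h6⟩ := transport_model h2
    (trQ F (FiniteField.Extension F 2 (M + 1))) hnd (M + 1) hfr
    (torusPlus F (FiniteField.Extension F 2 (M + 1)) ζ) (torusPlus_isometry F _ ζ) r
    (by rw [← map_pow, ← hζ, pow_orderOf_eq_one, map_one]) (torusPlus_fpf F _ ζ hζ1)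
  refine ⟨Q', X, h1, h3, h4, h5, ?_⟩
  rw [h6, card_zeros_congr _ _ Θ hΘ, card_zeros_plusForm]

/-- a fixed-point-free element of odd prime order `r ∣ q^(M+1) + 1` of the symplectic group
preserving a quadratic form of minus type -/
theorem exists_fpf_model_minus (m : ℕ) (r : ℕ) [Fact r.Prime] (hr2 : r ≠ 2)
    (hr : r ∣ Fintype.card F ^ (m + 1) + 1) :
    ∃ (Q' : QuadraticForm F (Fin (m + 1) ⊕ Fin (m + 1) → F)) (X : GL (Fin (m + 1) ⊕ Fin (m + 1)) F),
      (∀ u v, polar Q' u v = Cfsg.sympForm (m + 1) F u v) ∧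
      (∀ v, Q' ((X : Matrix (Fin (m + 1) ⊕ Fin (m + 1)) (Fin (m + 1) ⊕ Fin (m + 1)) F) *ᵥ v)
        = Q' v) ∧ X ^ r = 1 ∧
      (∀ v, (X : Matrix (Fin (m + 1) ⊕ Fin (m + 1)) (Fin (m + 1) ⊕ Fin (m + 1)) F) *ᵥ v = v →
        v = 0) ∧
      Nat.card {v : Fin (m + 1) ⊕ Fin (m + 1) → F // Q' v = 0}
        = ZZ (Fintype.card F) 2 1 m := by
  have h2 : (2 : F) = 0 := by
    have := CharP.cast_eq_zero F 2
    exact_mod_cast this
  obtain ⟨a, b, hab⟩ := exists_aniso_char2 (F := F) h2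
  have hrp : r.Prime := Fact.out
  have hq1 : 1 ≤ Fintype.card F := Fintype.card_pos
  have hq2 : 2 ∣ Fintype.card F := by
    obtain ⟨n, -, hn⟩ := FiniteField.card F 2
    rw [hn]
    exact dvd_pow_self 2 n.ne_zero
  let L := FiniteField.Extension F 2 (2 * m + 1 + 1)
  have : Finite L := inferInstance
  let _ : Fintype L := Fintype.ofFinite L
  have hdimL : Module.finrank F L = 2 * m + 2 := FiniteField.finrank_extension F 2 (2 * m + 1 + 1)
  have hcardL : Fintype.card L = Fintype.card F ^ (2 * m + 2) := by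
    rw [← Nat.card_eq_fintype_card, FiniteField.natCard_extension, Nat.card_eq_fintype_card]
  have h2L : (2 : L) = 0 := by
    have h : (algebraMap F L) 2 = 2 := map_ofNat _ 2
    rw [← h, h2, map_zero]
  set A := Fintype.card F ^ (m + 1) with hA
  have hA1 : 1 ≤ A := Nat.one_le_pow _ _ hq1
  have hAA : Fintype.card F ^ (2 * m + 2) = A * A := by rw [hA, ← pow_add]; congr 1; ring
  have hcardU : Nat.card Lˣ = A * A - 1 := by
    rw [Nat.card_units, Nat.card_eq_fintype_card, hcardL, hAA]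
  have hrU : r ∣ Nat.card Lˣ := by
    rw [hcardU]
    have : A * A - 1 = (A - 1) * (A + 1) := by
      zify [hA1, Nat.one_le_iff_ne_zero.2 (Nat.mul_ne_zero (by omega : A ≠ 0) (by omega : A ≠ 0))]
      ring
    rw [this]
    exact Dvd.dvd.mul_left hr _
  obtain ⟨ζ, hζ⟩ := exists_prime_orderOf_dvd_card' r hrU
  have hζ1 : ζ ≠ 1 := by
    rintro rfl
    rw [orderOf_one] at hζ
    exact hrp.one_lt.ne hζ
  let σ : L ≃ₐ[F] L := (FiniteField.Extension.frob F 2 (2 * m + 1 + 1)) ^ (m + 1)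
  have hσn : ∀ x : L, σ x = x ^ A := by
    intro x
    show ((FiniteField.Extension.frob F 2 (2 * m + 1 + 1)) ^ (m + 1)) x = x ^ A
    rw [FiniteField.Extension.frob_iterate_apply, Nat.card_eq_fintype_card]
  have hσ : ∀ x, σ (σ x) = x := by
    intro x
    rw [hσn, hσn, ← pow_mul, ← hAA, ← hcardL]
    exact FiniteField.pow_card x
  have hζσ : (ζ : L) * σ ζ = 1 := by
    rw [hσn, ← pow_succ']
    have h1 : ζ ^ (A + 1) = 1 := by
      rw [← orderOf_dvd_iff_pow_eq_one, hζ]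
      exact hr
    have := congrArg (fun u : Lˣ => (u : L)) h1
    simpa using this
  have hσζ : σ (ζ : L) ≠ ζ := by
    intro h
    rw [h] at hζσ
    have h1 : ζ ^ 2 = 1 := by
      apply Units.ext
      rw [Units.val_pow_eq_pow_val, pow_two]
      exact hζσ
    have h3 := orderOf_dvd_of_pow_eq_one h1
    rw [hζ] at h3
    exact hr2 ((Nat.prime_dvd_prime_iff_eq hrp Nat.prime_two).1 h3)
  set y₀ : L := (ζ : L) + σ ζ with hy₀
  have hy₀0 : y₀ ≠ 0 := by
    intro h
    apply hσζ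
    have : σ (ζ : L) = (ζ : L) + (2 : L) * σ ζ - y₀ := by rw [hy₀]; ring
    rw [this, h, h2L]
    ring
  have hσy₀ : σ y₀ = y₀ := by
    rw [hy₀, map_add, hσ]
    ring
  set lam : L := (ζ : L) * y₀⁻¹ with hlamdef
  have hlam : lam + σ lam = 1 := by
    rw [hlamdef, map_mul, map_inv₀, hσy₀, ← add_mul, ← hy₀, mul_inv_cancel₀ hy₀0]
  obtain ⟨Θ, hΘ⟩ := exists_coords_sigQ (σ := σ) (lam := lam) h2 hq2 hσ hlam m hdimL hσn a b hab
  rw [minusForm_coe] at hΘ
  obtain ⟨Q', X, h1, h3, h4, h5, h6⟩ := transport_model h2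
    (sigQ F L σ lam) (sigQ_nondegenerate hσ hlam) (m + 1) (by rw [hdimL]; ring)
    (unitMul F L ζ) (unitMul_isometry ζ hζσ) r
    (by rw [← map_pow, ← hζ, pow_orderOf_eq_one, map_one]) (unitMul_fpf ζ hζ1)
  refine ⟨Q', X, h1, h3, h4, h5, ?_⟩
  rw [h6, card_zeros_congr _ _ Θ hΘ, card_zeros_minusForm m a b hab]

end concrete

end Cfsg.Agent.Lib.Helper8
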