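import Mathlib
import Cfsg.Agent.Lib.Helper8.SpOrthE
import Cfsg.Agent.Lib.Helper99.SpMax
import Cfsg.Agent.Lib.Helper5.SympCard

set_option autoImplicit false

namespace Cfsg.Agent.Lib.Helper8

open Module QuadraticMap Cfsg.Agent.Lib.Helper43 Matrix

section groups

variable {F : Type*} [Field F]

theorem sympForm_basis_pair (M : ℕ) :
    Cfsg.sympForm (M + 1) F (Pi.single (Sum.inr 0) 1) (Pi.single (Sum.inl 0) 1) = 1 := by
  rw [Cfsg.Agent.Lib.Helper99.sympForm_expand]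
  simp [Pi.single_apply]

/-- the orthogonal group inside the symplectic group -/
theorem inf_spGL_eq_isometryGroup (M : ℕ) (Q : QuadraticForm F (Fin (M + 1) ⊕ Fin (M + 1) → F))
    (hpol : ∀ u v, polar (⇑Q) u v = Cfsg.sympForm (M + 1) F u v) :
    Cfsg.Geo.quadSimilarityGroup (⇑Q) ⊓ Cfsg.spGL (M + 1) F = Cfsg.isometryGroup F (⇑Q) := by
  ext g
  rw [Subgroup.mem_inf, Cfsg.Agent.Lib.Helper13.mem_isometryGroup_iff,
    Cfsg.Agent.Lib.Helper99.mem_spGL_iff]
  constructor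
  · rintro ⟨⟨c, hc⟩, hsp⟩
    have h1 := hsp (Pi.single (Sum.inr 0) 1) (Pi.single (Sum.inl 0) 1)
    rw [sympForm_basis_pair, ← hpol] at h1
    simp only [polar, ← Matrix.mulVec_add, hc] at h1
    have h3 := sympForm_basis_pair (F := F) M
    rw [← hpol] at h3
    simp only [polar] at h3
    have hc1 : (c : F) = 1 := by
      rw [← h1]
      linear_combination (-(c : F)) * h3
    intro x
    rw [hc, hc1, one_mul]
  · intro h
    refine ⟨⟨1, fun v => by rw [h, Units.val_one, one_mul]⟩, fun u v => ?_⟩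
    rw [← hpol, ← hpol]
    simp only [polar, ← Matrix.mulVec_add, h]

theorem card_spGL [Fintype F] (m : ℕ) :
    Nat.card (Cfsg.spGL m F) = Fintype.card F ^ (m ^ 2) *
      ∏ i ∈ Finset.range m, (Fintype.card F ^ (2 * (i + 1)) - 1) := by
  rw [← Cfsg.Agent.Lib.Helper5.card_symplecticGroup_fin]
  symm
  apply Nat.card_congr
  refine Equiv.ofBijective (fun A => ⟨Cfsg.Agent.Lib.Helper99.spToGL m A,
    Cfsg.Agent.Lib.Helper99.spToGL_mem m A⟩) ⟨?_, ?_⟩
  · intro A B hAB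
    apply Subtype.ext
    have := congrArg (fun y : ↥(Cfsg.spGL m F) =>
      ((y : GL (Fin m ⊕ Fin m) F) : Matrix (Fin m ⊕ Fin m) (Fin m ⊕ Fin m) F)) hAB
    exact this
  · rintro ⟨x, hx⟩
    have hx' : (x : Matrix (Fin m ⊕ Fin m) (Fin m ⊕ Fin m) F) ∈
        Matrix.symplecticGroup (Fin m) F :=
      Cfsg.Agent.Lib.Helper13.mem_symplectic_of_preserves m _
        ((Cfsg.Agent.Lib.Helper99.mem_spGL_iff m x).mp hx)
    refine ⟨⟨(x : Matrix _ _ F), hx'⟩, ?_⟩
    apply Subtype.ext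
    exact Units.ext rfl

theorem card_isometryGroup_of_coords {ι ι' : Type} [Fintype ι] [DecidableEq ι] [Fintype ι']
    [DecidableEq ι'] (Q : (ι → F) → F) (Q' : (ι' → F) → F) (Θ : (ι → F) ≃ₗ[F] (ι' → F))
    (hΘ : ∀ v, Q' (Θ v) = Q v) :
    Nat.card (Cfsg.isometryGroup F Q) = Nat.card (Cfsg.isometryGroup F Q') := by
  obtain ⟨φ₁, -⟩ := Cfsg.Agent.Lib.Helper44.exists_mulEquiv_isometryGroup Q Q
    (LinearEquiv.refl F _) (fun v => rfl)
  obtain ⟨φ₂, -⟩ := Cfsg.Agent.Lib.Helper44.exists_mulEquiv_isometryGroup Q' Q Θ hΘ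
  rw [← Nat.card_congr φ₁.toEquiv, Nat.card_congr φ₂.toEquiv]

end groups

section index

variable {F : Type*} [Field F] [Fintype F] [CharP F 2]

theorem odd_prime_dvd_of_dvd_mul_pow (r : ℕ) (hrp : r.Prime) (hr2 : r ≠ 2) (k B : ℕ)
    (h : r ∣ Fintype.card F ^ k * B) : r ∣ B := by
  refine (hrp.dvd_mul.1 h).resolve_left ?_
  intro h'
  have h1 := hrp.dvd_of_dvd_pow h'
  obtain ⟨n, -, hn⟩ := FiniteField.card F 2
  rw [hn] at h1
  have h3 := hrp.dvd_of_dvd_pow h1
  exact hr2 ((Nat.prime_dvd_prime_iff_eq hrp Nat.prime_two).1 h3)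

/-- the odd primes dividing the index of an orthogonal group in the symplectic group -/
theorem index_dvd_cases (M : ℕ) (Q : QuadraticForm F (Fin (M + 1) ⊕ Fin (M + 1) → F))
    (hQ : (polarBilin Q).Nondegenerate)
    (hpol : ∀ u v, polar (⇑Q) u v = Cfsg.sympForm (M + 1) F u v) (r : ℕ) (hrp : r.Prime)
    (hr2 : r ≠ 2)
    (hΩ : r ∣ (Cfsg.Geo.quadSimilarityGroup (⇑Q)).relIndex (Cfsg.spGL (M + 1) F)) :
    (Nat.card {v : Fin (M + 1) ⊕ Fin (M + 1) → F // Q v = 0} = ZZ (Fintype.card F) 0 1 (M + 1) ∧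
        r ∣ Fintype.card F ^ (M + 1) + 1) ∨
      (Nat.card {v : Fin (M + 1) ⊕ Fin (M + 1) → F // Q v = 0} ≠ ZZ (Fintype.card F) 0 1 (M + 1) ∧
        r ∣ Fintype.card F ^ (M + 1) - 1) := by
  have h2 : (2 : F) = 0 := by
    have := CharP.cast_eq_zero F 2
    exact_mod_cast this
  have hdim : finrank F (Fin (M + 1) ⊕ Fin (M + 1) → F) = 2 * M + 2 := by
    rw [Module.finrank_fintype_fun_eq_card, Fintype.card_sum, Fintype.card_fin]
    omega
  set I := (Cfsg.Geo.quadSimilarityGroup (⇑Q)).relIndex (Cfsg.spGL (M + 1) F) with hIdef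
  have hI : Nat.card (Cfsg.isometryGroup F (⇑Q)) * I = Nat.card (Cfsg.spGL (M + 1) F) := by
    have h1 := Subgroup.relIndex_mul_relIndex (⊥ : Subgroup (GL (Fin (M + 1) ⊕ Fin (M + 1)) F))
      (Cfsg.Geo.quadSimilarityGroup (⇑Q) ⊓ Cfsg.spGL (M + 1) F) (Cfsg.spGL (M + 1) F)
      bot_le inf_le_right
    rw [Subgroup.relIndex_bot_left, Subgroup.relIndex_bot_left, Subgroup.inf_relIndex_right,
      inf_spGL_eq_isometryGroup M Q hpol] at h1
    exact h1
  have hq2 : 2 ≤ Fintype.card F := Fintype.one_lt_card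
  set q := Fintype.card F with hq
  set A := q ^ (M + 1) with hA
  set E := q ^ ((M + 1) * M) with hE
  set P := ∏ i ∈ Finset.range M, (q ^ (2 * (i + 1)) - 1) with hP
  have hA2 : 2 ≤ A := by
    calc 2 ≤ q := hq2
      _ = q ^ 1 := (pow_one q).symm
      _ ≤ q ^ (M + 1) := Nat.pow_le_pow_right (by omega) (by omega)
  have hEpos : 0 < E := Nat.pow_pos (by omega)
  have hPpos : 0 < P := by
    apply Finset.prod_pos
    intro i _
    have : 2 ≤ q ^ (2 * (i + 1)) := by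
      calc 2 ≤ q := hq2
        _ = q ^ 1 := (pow_one q).symm
        _ ≤ q ^ (2 * (i + 1)) := Nat.pow_le_pow_right (by omega) (by omega)
    omega
  have hSp : Nat.card (Cfsg.spGL (M + 1) F) = E * A * (P * ((A - 1) * (A + 1))) := by
    rw [card_spGL, Finset.prod_range_succ]
    have h1 : q ^ ((M + 1) ^ 2) = E * A := by
      rw [hE, hA, ← pow_add]
      congr 1
      ring
    have h3 : q ^ (2 * (M + 1)) - 1 = (A - 1) * (A + 1) := by
      have h4 : q ^ (2 * (M + 1)) = A * A := by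
        rw [hA, ← pow_add]
        congr 1
        ring
      rw [h4]
      obtain ⟨A', hA'⟩ : ∃ A', A = A' + 1 := ⟨A - 1, by omega⟩
      rw [hA']
      simp only [Nat.add_sub_cancel]
      have : (A' + 1) * (A' + 1) = A' * (A' + 1 + 1) + 1 := by ring
      rw [this, Nat.add_sub_cancel]
    rw [h1, h3]
  by_cases hZ : Nat.card {v : Fin (M + 1) ⊕ Fin (M + 1) → F // Q v = 0} = ZZ q 0 1 (M + 1)
  · left
    refine ⟨hZ, ?_⟩
    obtain ⟨Θ, hΘ⟩ := classify_plus _ Q hQ (M + 1) (by rw [hdim]; ring) hZ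
    have hO : Nat.card (Cfsg.isometryGroup F (⇑Q)) = 2 * E * (A - 1) * P := by
      rw [card_isometryGroup_of_coords (⇑Q) (Cfsg.quadFormPlus (M + 1) F) Θ hΘ,
        card_isometryGroup_plus]
    rw [hO, hSp] at hI
    have hpos : 0 < E * (A - 1) * P := by
      apply Nat.mul_pos (Nat.mul_pos hEpos (by omega)) hPpos
    have h5 : 2 * I = A * (A + 1) := by
      apply Nat.eq_of_mul_eq_mul_left hpos
      calc E * (A - 1) * P * (2 * I) = 2 * E * (A - 1) * P * I := by ring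
        _ = E * A * (P * ((A - 1) * (A + 1))) := hI
        _ = E * (A - 1) * P * (A * (A + 1)) := by ring
    have h6 : r ∣ A * (A + 1) := by
      rw [← h5]
      exact Dvd.dvd.mul_left hΩ 2
    exact odd_prime_dvd_of_dvd_mul_pow (F := F) r hrp hr2 (M + 1) _ h6
  · right
    refine ⟨hZ, ?_⟩
    obtain ⟨a, b, hab⟩ := exists_aniso_char2 (F := F) h2
    obtain ⟨Θ, hΘ⟩ := classify_minus_char2 h2 _ Q hQ M hdim hZ a b hab
    have hO : Nat.card (Cfsg.isometryGroup F (⇑Q)) = 2 * E * (A + 1) * P := by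
      rw [card_isometryGroup_of_coords (⇑Q) (Cfsg.quadFormMinus M F a b) Θ hΘ,
        card_isometryGroup_minus M F a b hab]
    rw [hO, hSp] at hI
    have hpos : 0 < E * (A + 1) * P := by
      apply Nat.mul_pos (Nat.mul_pos hEpos (by omega)) hPpos
    have h5 : 2 * I = A * (A - 1) := by
      apply Nat.eq_of_mul_eq_mul_left hpos
      calc E * (A + 1) * P * (2 * I) = 2 * E * (A + 1) * P * I := by ring
        _ = E * A * (P * ((A - 1) * (A + 1))) := hI
        _ = E * (A + 1) * P * (A * (A - 1)) := by ring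
    have h6 : r ∣ A * (A - 1) := by
      rw [← h5]
      exact Dvd.dvd.mul_left hΩ 2
    exact odd_prime_dvd_of_dvd_mul_pow (F := F) r hrp hr2 (M + 1) _ h6

end index

end Cfsg.Agent.Lib.Helper8
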