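import Mathlib
import Cfsg.Prelude.Def_ClassicalGeometry
import Cfsg.Agent.Lib.Helper99.SympForm
import Cfsg.Agent.Lib.Helper13.SpWeyl
import Cfsg.Agent.Lib.Helper13.Symp
import Cfsg.Agent.Lib.Helper5.SympCard

/-!
# Pairs of complementary totally isotropic subspaces of the standard symplectic space
-/

set_option autoImplicit false

namespace Cfsg.Agent.Lib.Helper8

open Matrix Module
open Cfsg.Agent.Lib.Helper99 Cfsg.Agent.Lib.Helper13

section lagpairs

variable {F : Type*} [Field F] (d : ℕ)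

theorem sympB_antisymm (u v : Fin d ⊕ Fin d → F) : sympB d u v = - sympB d v u := by
  rw [sympB_apply, sympB_apply, Helper99.sympForm_expand, Helper99.sympForm_expand,
    ← Finset.sum_neg_distrib]
  apply Finset.sum_congr rfl
  intro i _
  ring

theorem sympB_nd_left (u : Fin d ⊕ Fin d → F) (h : ∀ v, sympB d u v = 0) : u = 0 :=
  sympB_nd d u Submodule.mem_top (fun v _ => h v)

theorem sympB_nd_right (v : Fin d ⊕ Fin d → F) (h : ∀ u, sympB d u v = 0) : v = 0 := by
  apply sympB_nd_left d v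
  intro u
  rw [sympB_antisymm, h u, neg_zero]

/-- a pair of complementary totally isotropic subspaces -/
def IsLagPair
    (P : Submodule F (Fin d ⊕ Fin d → F) × Submodule F (Fin d ⊕ Fin d → F)) : Prop :=
  IsCompl P.1 P.2 ∧ (∀ u ∈ P.1, ∀ v ∈ P.1, Cfsg.sympForm d F u v = 0) ∧
    (∀ u ∈ P.2, ∀ v ∈ P.2, Cfsg.sympForm d F u v = 0)

/-- the pairing `W → U^*` -/
noncomputable def lagPairing (U W : Submodule F (Fin d ⊕ Fin d → F)) :
    ↥W →ₗ[F] (↥U →ₗ[F] F) :=
  (LinearMap.lcomp F F U.subtype) ∘ₗ ((sympB d).flip ∘ₗ W.subtype)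

theorem lagPairing_apply (U W : Submodule F (Fin d ⊕ Fin d → F)) (w : ↥W) (u : ↥U) :
    lagPairing d U W w u = sympB d (u : Fin d ⊕ Fin d → F) (w : Fin d ⊕ Fin d → F) := rfl

theorem lagPairing_injective {U W : Submodule F (Fin d ⊕ Fin d → F)} (hc : IsCompl U W)
    (hW : ∀ u ∈ W, ∀ v ∈ W, Cfsg.sympForm d F u v = 0) :
    Function.Injective (lagPairing d U W) := by
  rw [injective_iff_map_eq_zero]
  intro w hw
  apply Subtype.ext
  apply sympB_nd_right d
  intro v
  have hv : v ∈ U ⊔ W := by rw [hc.sup_eq_top]; exact Submodule.mem_top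
  obtain ⟨u, hu, w', hw', rfl⟩ := Submodule.mem_sup.1 hv
  rw [map_add, LinearMap.add_apply]
  have h1 : sympB d u (w : Fin d ⊕ Fin d → F) = 0 := by
    have := congrArg (fun f : ↥U →ₗ[F] F => f ⟨u, hu⟩) hw
    simpa [lagPairing_apply] using this
  have h2 : sympB d w' (w : Fin d ⊕ Fin d → F) = 0 := by
    rw [sympB_apply]; exact hW w' hw' w w.2
  rw [h1, h2, add_zero]

theorem lagPair_finrank {U W : Submodule F (Fin d ⊕ Fin d → F)} (hc : IsCompl U W)
    (hU : ∀ u ∈ U, ∀ v ∈ U, Cfsg.sympForm d F u v = 0)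
    (hW : ∀ u ∈ W, ∀ v ∈ W, Cfsg.sympForm d F u v = 0) :
    finrank F ↥U = d ∧ finrank F ↥W = d := by
  have h1 : finrank F ↥W ≤ finrank F ↥U := by
    have := LinearMap.finrank_le_finrank_of_injective (lagPairing_injective d hc hW)
    rwa [Subspace.dual_finrank_eq] at this
  have h2 : finrank F ↥U ≤ finrank F ↥W := by
    have := LinearMap.finrank_le_finrank_of_injective (lagPairing_injective d hc.symm hU)
    rwa [Subspace.dual_finrank_eq] at this
  have h3 := Submodule.finrank_add_eq_of_isCompl hc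
  rw [Module.finrank_fintype_fun_eq_card, Fintype.card_sum, Fintype.card_fin] at h3
  omega

/-- the standard Lagrangian `⟨e_i⟩` -/
def stdU : Submodule F (Fin d ⊕ Fin d → F) :=
  Submodule.span F (Set.range fun i : Fin d =>
    (Pi.single (Sum.inl i) (1 : F) : Fin d ⊕ Fin d → F))

/-- the standard Lagrangian `⟨f_i⟩` -/
def stdW : Submodule F (Fin d ⊕ Fin d → F) :=
  Submodule.span F (Set.range fun i : Fin d =>
    (Pi.single (Sum.inr i) (1 : F) : Fin d ⊕ Fin d → F))

/-- the symplectic group is transitive on pairs of complementary Lagrangians -/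
theorem exists_symp_of_lagPair {U W : Submodule F (Fin d ⊕ Fin d → F)} (hc : IsCompl U W)
    (hU : ∀ u ∈ U, ∀ v ∈ U, Cfsg.sympForm d F u v = 0)
    (hW : ∀ u ∈ W, ∀ v ∈ W, Cfsg.sympForm d F u v = 0) :
    ∃ g : ↥(symplecticGroup (Fin d) F),
      (stdU (F := F) d).map (Matrix.toLin' (g : Matrix (Fin d ⊕ Fin d) (Fin d ⊕ Fin d) F)) = U ∧
      (stdW (F := F) d).map (Matrix.toLin' (g : Matrix (Fin d ⊕ Fin d) (Fin d ⊕ Fin d) F)) = W := by
  classical
  obtain ⟨hfU, hfW⟩ := lagPair_finrank d hc hU hW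
  have hψ := lagPairing_injective d hc hW
  have hdim : finrank F ↥W = finrank F (↥U →ₗ[F] F) := by
    rw [Subspace.dual_finrank_eq, hfU, hfW]
  let e : ↥W ≃ₗ[F] (↥U →ₗ[F] F) := LinearMap.linearEquivOfInjective (lagPairing d U W) hψ hdim
  let bU : Basis (Fin d) F ↥U := Module.finBasisOfFinrankEq F ↥U hfU
  let bW : Basis (Fin d) F ↥W := (bU.dualBasis.map e.symm).map (LinearEquiv.neg F)
  have hbW : ∀ j, bW j = -(e.symm (bU.dualBasis j)) := by
    intro j
    simp [bW]
  have hpair : ∀ i j, sympB d (bU i : Fin d ⊕ Fin d → F) (bW j : Fin d ⊕ Fin d → F)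
      = if i = j then -1 else 0 := by
    intro i j
    rw [← lagPairing_apply, hbW, map_neg, LinearMap.neg_apply]
    have h1 : lagPairing d U W (e.symm (bU.dualBasis j)) = bU.dualBasis j := by
      have := e.apply_symm_apply (bU.dualBasis j)
      rwa [LinearMap.linearEquivOfInjective_apply] at this
    rw [h1, Basis.dualBasis_apply_self]
    split_ifs <;> simp
  let y : Fin d ⊕ Fin d → (Fin d ⊕ Fin d → F) :=
    Sum.elim (fun i => (bU i : Fin d ⊕ Fin d → F)) (fun j => (bW j : Fin d ⊕ Fin d → F))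
  let A : Matrix (Fin d ⊕ Fin d) (Fin d ⊕ Fin d) F := Matrix.of (fun a s => y s a)
  have hA : ∀ s, A *ᵥ Pi.single s 1 = y s := by
    intro s
    rw [mulVec_single_one]
    rfl
  have hmem : A ∈ symplecticGroup (Fin d) F := by
    apply mem_symplectic_of_preserves_basis
    intro s s'
    rw [hA, hA, sympForm_single_single']
    rcases s with i | j <;> rcases s' with i' | j'
    · simp only [y, Sum.elim_inl, Sum.swap_inl, reduceCtorEq, if_false]
      exact hU _ (bU i).2 _ (bU i').2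
    · simp only [y, Sum.elim_inl, Sum.elim_inr, Sum.swap_inl, Sum.inr.injEq, eta_inl]
      rw [← sympB_apply, hpair]
      by_cases h : i = j'
      · subst h; simp
      · have h' : ¬ j' = i := fun hh => h hh.symm
        simp [h, h']
    · simp only [y, Sum.elim_inl, Sum.elim_inr, Sum.swap_inr, Sum.inl.injEq, eta_inr]
      rw [← sympB_apply, sympB_antisymm, hpair]
      by_cases h : i' = j
      · subst h; simp
      · simp [h]
    · simp only [y, Sum.elim_inr, Sum.swap_inr, reduceCtorEq, if_false]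
      exact hW _ (bW j).2 _ (bW j').2
  refine ⟨⟨A, hmem⟩, ?_, ?_⟩
  · rw [stdU, Submodule.map_span, ← Set.range_comp]
    have h1 : (⇑(Matrix.toLin' A) ∘ fun i : Fin d =>
        (Pi.single (Sum.inl i) (1 : F) : Fin d ⊕ Fin d → F))
        = (U.subtype ∘ fun i => bU i) := by
      funext i
      simp only [Function.comp_apply, Matrix.toLin'_apply, hA]
      rfl
    rw [h1, Set.range_comp, ← Submodule.map_span, bU.span_eq, Submodule.map_subtype_top]
  · rw [stdW, Submodule.map_span, ← Set.range_comp]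
    have h1 : (⇑(Matrix.toLin' A) ∘ fun i : Fin d =>
        (Pi.single (Sum.inr i) (1 : F) : Fin d ⊕ Fin d → F))
        = (W.subtype ∘ fun i => bW i) := by
      funext i
      simp only [Function.comp_apply, Matrix.toLin'_apply, hA]
      rfl
    rw [h1, Set.range_comp, ← Submodule.map_span, bW.span_eq, Submodule.map_subtype_top]

theorem mem_stdU (v : Fin d ⊕ Fin d → F) : v ∈ stdU (F := F) d ↔ ∀ i, v (Sum.inr i) = 0 := by
  classical
  constructor
  · intro hv
    unfold stdU at hv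
    induction hv using Submodule.span_induction with
    | mem x hx =>
      obtain ⟨j, rfl⟩ := hx
      intro i
      simp
    | zero => intro i; rfl
    | add x y _ _ hx hy => intro i; rw [Pi.add_apply, hx i, hy i, add_zero]
    | smul c x _ hx => intro i; rw [Pi.smul_apply, hx i, smul_zero]
  · intro hv
    have h1 : v = ∑ s : Fin d ⊕ Fin d, v s • (Pi.single s (1 : F) : Fin d ⊕ Fin d → F) := by
      funext t
      simp [Finset.sum_apply, Pi.single_apply]
    rw [h1, Fintype.sum_sum_type]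
    apply Submodule.add_mem
    · apply Submodule.sum_mem
      intro i _
      apply Submodule.smul_mem
      exact Submodule.subset_span ⟨i, rfl⟩
    · apply Submodule.sum_mem
      intro i _
      rw [hv i, zero_smul]
      exact Submodule.zero_mem _

theorem mem_stdW (v : Fin d ⊕ Fin d → F) : v ∈ stdW (F := F) d ↔ ∀ i, v (Sum.inl i) = 0 := by
  classical
  constructor
  · intro hv
    unfold stdW at hv
    induction hv using Submodule.span_induction with
    | mem x hx =>
      obtain ⟨j, rfl⟩ := hx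
      intro i
      simp
    | zero => intro i; rfl
    | add x y _ _ hx hy => intro i; rw [Pi.add_apply, hx i, hy i, add_zero]
    | smul c x _ hx => intro i; rw [Pi.smul_apply, hx i, smul_zero]
  · intro hv
    have h1 : v = ∑ s : Fin d ⊕ Fin d, v s • (Pi.single s (1 : F) : Fin d ⊕ Fin d → F) := by
      funext t
      simp [Finset.sum_apply, Pi.single_apply]
    rw [h1, Fintype.sum_sum_type]
    apply Submodule.add_mem
    · apply Submodule.sum_mem
      intro i _
      rw [hv i, zero_smul]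
      exact Submodule.zero_mem _
    · apply Submodule.sum_mem
      intro i _
      apply Submodule.smul_mem
      exact Submodule.subset_span ⟨i, rfl⟩

theorem isLagPair_std : IsLagPair d (stdU (F := F) d, stdW (F := F) d) := by
  refine ⟨?_, ?_, ?_⟩
  · apply IsCompl.of_eq
    · rw [Submodule.eq_bot_iff]
      intro v hv
      obtain ⟨h1, h2⟩ := Submodule.mem_inf.1 hv
      funext s
      rcases s with i | i
      · exact (mem_stdW d v).1 h2 i
      · exact (mem_stdU d v).1 h1 i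
    · rw [Submodule.eq_top_iff']
      intro v
      rw [Submodule.mem_sup]
      refine ⟨Sum.elim (fun i => v (Sum.inl i)) (fun _ => 0), ?_,
        Sum.elim (fun _ => 0) (fun i => v (Sum.inr i)), ?_, ?_⟩
      · rw [mem_stdU]; intro i; rfl
      · rw [mem_stdW]; intro i; rfl
      · funext s
        rcases s with i | i <;> simp
  · intro u hu v hv
    rw [Helper99.sympForm_expand]
    apply Finset.sum_eq_zero
    intro i _
    rw [(mem_stdU d u).1 hu i, (mem_stdU d v).1 hv i]
    ring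
  · intro u hu v hv
    rw [Helper99.sympForm_expand]
    apply Finset.sum_eq_zero
    intro i _
    rw [(mem_stdW d u).1 hu i, (mem_stdW d v).1 hv i]
    ring

/-- a symplectic matrix as a linear automorphism -/
noncomputable def spEquiv (g : ↥(symplecticGroup (Fin d) F)) :
    (Fin d ⊕ Fin d → F) ≃ₗ[F] (Fin d ⊕ Fin d → F) :=
  LinearEquiv.ofLinearMap (Matrix.toLin' (g : Matrix (Fin d ⊕ Fin d) (Fin d ⊕ Fin d) F))
    (Matrix.toLin' ((g⁻¹ : ↥(symplecticGroup (Fin d) F)) : Matrix (Fin d ⊕ Fin d) (Fin d ⊕ Fin d) F))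
    (by
      rw [← Matrix.toLin'_mul]
      have : (g : Matrix (Fin d ⊕ Fin d) (Fin d ⊕ Fin d) F)
          * ((g⁻¹ : ↥(symplecticGroup (Fin d) F)) : Matrix (Fin d ⊕ Fin d) (Fin d ⊕ Fin d) F) = 1 := by
        rw [← Submonoid.coe_mul, mul_inv_cancel]; rfl
      rw [this, Matrix.toLin'_one])
    (by
      rw [← Matrix.toLin'_mul]
      have : ((g⁻¹ : ↥(symplecticGroup (Fin d) F)) : Matrix (Fin d ⊕ Fin d) (Fin d ⊕ Fin d) F)
          * (g : Matrix (Fin d ⊕ Fin d) (Fin d ⊕ Fin d) F) = 1 := by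
        rw [← Submonoid.coe_mul, inv_mul_cancel]; rfl
      rw [this, Matrix.toLin'_one])

theorem spEquiv_coe (g : ↥(symplecticGroup (Fin d) F)) :
    (spEquiv d g : (Fin d ⊕ Fin d → F) →ₗ[F] (Fin d ⊕ Fin d → F))
      = Matrix.toLin' (g : Matrix (Fin d ⊕ Fin d) (Fin d ⊕ Fin d) F) := rfl

/-- the action of the symplectic group on pairs of subspaces -/
@[instance_reducible]
noncomputable def pairAction : MulAction ↥(symplecticGroup (Fin d) F)
    (Submodule F (Fin d ⊕ Fin d → F) × Submodule F (Fin d ⊕ Fin d → F)) where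
  smul g P := (P.1.map (Matrix.toLin' (g : Matrix (Fin d ⊕ Fin d) (Fin d ⊕ Fin d) F)),
    P.2.map (Matrix.toLin' (g : Matrix (Fin d ⊕ Fin d) (Fin d ⊕ Fin d) F)))
  one_smul P := by
    show (P.1.map (Matrix.toLin' ((1 : ↥(symplecticGroup (Fin d) F)) :
      Matrix (Fin d ⊕ Fin d) (Fin d ⊕ Fin d) F)), P.2.map (Matrix.toLin'
        ((1 : ↥(symplecticGroup (Fin d) F)) : Matrix (Fin d ⊕ Fin d) (Fin d ⊕ Fin d) F))) = P
    rw [OneMemClass.coe_one, Matrix.toLin'_one, Submodule.map_id, Submodule.map_id]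
  mul_smul g h P := by
    show (P.1.map (Matrix.toLin' ((g * h : ↥(symplecticGroup (Fin d) F)) :
      Matrix (Fin d ⊕ Fin d) (Fin d ⊕ Fin d) F)), P.2.map (Matrix.toLin'
        ((g * h : ↥(symplecticGroup (Fin d) F)) : Matrix (Fin d ⊕ Fin d) (Fin d ⊕ Fin d) F)))
      = ((P.1.map (Matrix.toLin' (h : Matrix (Fin d ⊕ Fin d) (Fin d ⊕ Fin d) F))).map
          (Matrix.toLin' (g : Matrix (Fin d ⊕ Fin d) (Fin d ⊕ Fin d) F)),
        (P.2.map (Matrix.toLin' (h : Matrix (Fin d ⊕ Fin d) (Fin d ⊕ Fin d) F))).map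
          (Matrix.toLin' (g : Matrix (Fin d ⊕ Fin d) (Fin d ⊕ Fin d) F)))
    rw [Submonoid.coe_mul, Matrix.toLin'_mul, Submodule.map_comp, Submodule.map_comp]

theorem pairAction_smul (g : ↥(symplecticGroup (Fin d) F))
    (P : Submodule F (Fin d ⊕ Fin d → F) × Submodule F (Fin d ⊕ Fin d → F)) :
    (pairAction d).smul g P
      = (P.1.map (Matrix.toLin' (g : Matrix (Fin d ⊕ Fin d) (Fin d ⊕ Fin d) F)),
        P.2.map (Matrix.toLin' (g : Matrix (Fin d ⊕ Fin d) (Fin d ⊕ Fin d) F))) := rfl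

theorem isLagPair_map (g : ↥(symplecticGroup (Fin d) F))
    (P : Submodule F (Fin d ⊕ Fin d → F) × Submodule F (Fin d ⊕ Fin d → F))
    (hP : IsLagPair d P) :
    IsLagPair d (P.1.map (Matrix.toLin' (g : Matrix (Fin d ⊕ Fin d) (Fin d ⊕ Fin d) F)),
      P.2.map (Matrix.toLin' (g : Matrix (Fin d ⊕ Fin d) (Fin d ⊕ Fin d) F))) := by
  obtain ⟨hc, hU, hW⟩ := hP
  refine ⟨?_, ?_, ?_⟩
  · have := (OrderIso.isCompl_iff (Submodule.orderIsoMapComap (spEquiv d g))).1 hc
    exact this
  · rintro _ ⟨u, hu, rfl⟩ _ ⟨v, hv, rfl⟩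
    rw [Matrix.toLin'_apply, Matrix.toLin'_apply, preserves_of_mem_symplectic d _ g.2]
    exact hU u hu v hv
  · rintro _ ⟨u, hu, rfl⟩ _ ⟨v, hv, rfl⟩
    rw [Matrix.toLin'_apply, Matrix.toLin'_apply, preserves_of_mem_symplectic d _ g.2]
    exact hW u hu v hv

/-- the Levi matrix `diag(A, A⁻ᵀ)` -/
def leviMat (A : GL (Fin d) F) : Matrix (Fin d ⊕ Fin d) (Fin d ⊕ Fin d) F :=
  Matrix.fromBlocks (A : Matrix (Fin d) (Fin d) F) 0 0
    (((A⁻¹ : GL (Fin d) F) : Matrix (Fin d) (Fin d) F))ᵀ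

theorem leviMat_mem (A : GL (Fin d) F) : leviMat d A ∈ symplecticGroup (Fin d) F := by
  rw [SymplecticGroup.mem_iff]
  unfold leviMat Matrix.J
  rw [Matrix.fromBlocks_multiply, Matrix.fromBlocks_transpose, Matrix.fromBlocks_multiply]
  simp only [Matrix.mul_zero, Matrix.zero_mul, add_zero, zero_add, Matrix.transpose_zero,
    Matrix.mul_one, Matrix.transpose_transpose, Matrix.mul_neg, Matrix.neg_mul]
  have h1 : (A : Matrix (Fin d) (Fin d) F) * ((A⁻¹ : GL (Fin d) F) : Matrix (Fin d) (Fin d) F)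
      = 1 := by
    rw [← Units.val_mul, mul_inv_cancel]; rfl
  have h2 : (((A⁻¹ : GL (Fin d) F) : Matrix (Fin d) (Fin d) F))ᵀ
      * (A : Matrix (Fin d) (Fin d) F)ᵀ = 1 := by
    rw [← Matrix.transpose_mul, h1, Matrix.transpose_one]
  rw [h1, h2, neg_zero]

/-- the Levi embedding `GL_d → Sp_{2d}` -/
def leviHom : GL (Fin d) F →* ↥(symplecticGroup (Fin d) F) where
  toFun A := ⟨leviMat d A, leviMat_mem d A⟩
  map_one' := by
    apply Subtype.ext
    show leviMat d 1 = 1
    unfold leviMat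
    simp
  map_mul' A B := by
    apply Subtype.ext
    show leviMat d (A * B) = leviMat d A * leviMat d B
    unfold leviMat
    rw [Matrix.fromBlocks_multiply]
    simp only [Matrix.mul_zero, Matrix.zero_mul, add_zero, zero_add, _root_.mul_inv_rev,
      Units.val_mul, Matrix.transpose_mul]

theorem leviHom_injective : Function.Injective (leviHom (F := F) d) := by
  intro A B h
  have h1 := congrArg (fun g : ↥(symplecticGroup (Fin d) F) =>
    (g : Matrix (Fin d ⊕ Fin d) (Fin d ⊕ Fin d) F)) h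
  have h2 : leviMat d A = leviMat d B := h1
  unfold leviMat at h2
  rw [Matrix.fromBlocks_inj] at h2
  exact Units.ext h2.1

theorem leviMat_map_stdU_le (A : GL (Fin d) F) :
    (stdU (F := F) d).map (Matrix.toLin' (leviMat d A)) ≤ stdU d := by
  rintro _ ⟨v, hv, rfl⟩
  rw [SetLike.mem_coe, mem_stdU] at hv
  rw [mem_stdU]
  intro i
  rw [Matrix.toLin'_apply]
  unfold leviMat
  simp [Matrix.mulVec, dotProduct, Fintype.sum_sum_type, hv]

theorem leviMat_map_stdW_le (A : GL (Fin d) F) :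
    (stdW (F := F) d).map (Matrix.toLin' (leviMat d A)) ≤ stdW d := by
  rintro _ ⟨v, hv, rfl⟩
  rw [SetLike.mem_coe, mem_stdW] at hv
  rw [mem_stdW]
  intro i
  rw [Matrix.toLin'_apply]
  unfold leviMat
  simp [Matrix.mulVec, dotProduct, Fintype.sum_sum_type, hv]

theorem leviMat_map_stdU (A : GL (Fin d) F) :
    (stdU (F := F) d).map (Matrix.toLin' (leviMat d A)) = stdU d := by
  apply le_antisymm (leviMat_map_stdU_le d A)
  have h1 : leviMat d A * leviMat d A⁻¹ = 1 := by
    have := congrArg (fun g : ↥(symplecticGroup (Fin d) F) =>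
      (g : Matrix (Fin d ⊕ Fin d) (Fin d ⊕ Fin d) F)) ((leviHom (F := F) d).map_mul A A⁻¹)
    rw [mul_inv_cancel, map_one] at this
    exact this.symm
  calc stdU (F := F) d = (stdU (F := F) d).map (Matrix.toLin' (leviMat d A * leviMat d A⁻¹)) := by
        rw [h1, Matrix.toLin'_one, Submodule.map_id]
    _ = ((stdU (F := F) d).map (Matrix.toLin' (leviMat d A⁻¹))).map
          (Matrix.toLin' (leviMat d A)) := by
        rw [Matrix.toLin'_mul, Submodule.map_comp]
    _ ≤ (stdU (F := F) d).map (Matrix.toLin' (leviMat d A)) :=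
        Submodule.map_mono (leviMat_map_stdU_le d A⁻¹)

theorem leviMat_map_stdW (A : GL (Fin d) F) :
    (stdW (F := F) d).map (Matrix.toLin' (leviMat d A)) = stdW d := by
  apply le_antisymm (leviMat_map_stdW_le d A)
  have h1 : leviMat d A * leviMat d A⁻¹ = 1 := by
    have := congrArg (fun g : ↥(symplecticGroup (Fin d) F) =>
      (g : Matrix (Fin d ⊕ Fin d) (Fin d ⊕ Fin d) F)) ((leviHom (F := F) d).map_mul A A⁻¹)
    rw [mul_inv_cancel, map_one] at this
    exact this.symm
  calc stdW (F := F) d = (stdW (F := F) d).map (Matrix.toLin' (leviMat d A * leviMat d A⁻¹)) := by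
        rw [h1, Matrix.toLin'_one, Submodule.map_id]
    _ = ((stdW (F := F) d).map (Matrix.toLin' (leviMat d A⁻¹))).map
          (Matrix.toLin' (leviMat d A)) := by
        rw [Matrix.toLin'_mul, Submodule.map_comp]
    _ ≤ (stdW (F := F) d).map (Matrix.toLin' (leviMat d A)) :=
        Submodule.map_mono (leviMat_map_stdW_le d A⁻¹)

/-- orbit-stabiliser for the pairs of complementary Lagrangians -/
theorem card_lagPairs_mul [Fintype F] :
    ∃ s : ℕ, Nat.card {P : Submodule F (Fin d ⊕ Fin d → F) × Submodule F (Fin d ⊕ Fin d → F) //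
        IsLagPair d P} * (s * Nat.card (GL (Fin d) F))
      = Nat.card ↥(symplecticGroup (Fin d) F) := by
  classical
  let _ := pairAction (F := F) d
  let P₀ : Submodule F (Fin d ⊕ Fin d → F) × Submodule F (Fin d ⊕ Fin d → F) :=
    (stdU (F := F) d, stdW (F := F) d)
  have hsmul : ∀ (g : ↥(symplecticGroup (Fin d) F))
      (P : Submodule F (Fin d ⊕ Fin d → F) × Submodule F (Fin d ⊕ Fin d → F)),
      g • P = (P.1.map (Matrix.toLin' (g : Matrix (Fin d ⊕ Fin d) (Fin d ⊕ Fin d) F)),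
        P.2.map (Matrix.toLin' (g : Matrix (Fin d ⊕ Fin d) (Fin d ⊕ Fin d) F))) :=
    fun g P => rfl
  have horb : MulAction.orbit ↥(symplecticGroup (Fin d) F) P₀ = {P | IsLagPair d P} := by
    ext P
    constructor
    · rintro ⟨g, rfl⟩
      show IsLagPair d (g • P₀)
      rw [hsmul]
      exact isLagPair_map d g P₀ (isLagPair_std d)
    · intro hP
      obtain ⟨g, hg1, hg2⟩ := exists_symp_of_lagPair d hP.1 hP.2.1 hP.2.2
      refine ⟨g, ?_⟩
      show g • P₀ = P
      rw [hsmul]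
      exact Prod.ext hg1 hg2
  have hle : (leviHom (F := F) d).range ≤ MulAction.stabilizer ↥(symplecticGroup (Fin d) F) P₀ := by
    rintro _ ⟨A, rfl⟩
    rw [MulAction.mem_stabilizer_iff, hsmul]
    exact Prod.ext (leviMat_map_stdU d A) (leviMat_map_stdW d A)
  obtain ⟨s, hs⟩ := Subgroup.card_dvd_of_le hle
  have hrange : Nat.card ↥(leviHom (F := F) d).range = Nat.card (GL (Fin d) F) :=
    (Nat.card_congr (MonoidHom.ofInjective (leviHom_injective d)).toEquiv).symm
  have h1 := Subgroup.card_mul_index (MulAction.stabilizer ↥(symplecticGroup (Fin d) F) P₀)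
  rw [MulAction.index_stabilizer, horb, ← Nat.card_coe_set_eq, hs, hrange] at h1
  refine ⟨s, ?_⟩
  rw [← h1]
  have e : Nat.card {P : Submodule F (Fin d ⊕ Fin d → F) × Submodule F (Fin d ⊕ Fin d → F) //
      IsLagPair d P} = Nat.card ↑{P : Submodule F (Fin d ⊕ Fin d → F) ×
        Submodule F (Fin d ⊕ Fin d → F) | IsLagPair d P} := rfl
  rw [e]
  ring

/-- the number of pairs is even -/
theorem even_card_lagPairs [Fintype F] (hd : 1 ≤ d) :
    2 ∣ Nat.card {P : Submodule F (Fin d ⊕ Fin d → F) × Submodule F (Fin d ⊕ Fin d → F) //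
        IsLagPair d P} := by
  classical
  have : Fintype {P : Submodule F (Fin d ⊕ Fin d → F) × Submodule F (Fin d ⊕ Fin d → F) //
        IsLagPair d P} := Fintype.ofFinite _
  let f : Function.End {P : Submodule F (Fin d ⊕ Fin d → F) × Submodule F (Fin d ⊕ Fin d → F) //
        IsLagPair d P} := fun P => ⟨(P.1.2, P.1.1), P.2.1.symm, P.2.2.2, P.2.2.1⟩
  have hf : f ^ 2 ^ 1 = 1 := by
    rw [pow_one, pow_two]
    rfl
  have := Fact.mk Nat.prime_two
  have h := Equiv.Perm.card_fixedPoints_modEq (p := 2) (n := 1) hf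
  have hfix : Fintype.card ↑(Function.fixedPoints f) = 0 := by
    rw [Fintype.card_eq_zero_iff]
    constructor
    rintro ⟨P, hP⟩
    have h1 : (f P).1.1 = P.1.1 := by rw [hP]
    have h2 : P.1.2 = P.1.1 := h1
    have hc := P.2.1
    rw [h2] at hc
    have hbot : P.1.1 = ⊥ := by
      have := hc.inf_eq_bot
      rwa [inf_idem] at this
    have htop : P.1.1 = ⊤ := by
      have := hc.sup_eq_top
      rwa [sup_idem] at this
    have : (⊥ : Submodule F (Fin d ⊕ Fin d → F)) = ⊤ := by rw [← hbot, htop]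
    have hmem : (Pi.single (Sum.inl ⟨0, hd⟩) (1 : F) : Fin d ⊕ Fin d → F)
        ∈ (⊥ : Submodule F (Fin d ⊕ Fin d → F)) := by
      rw [this]; exact Submodule.mem_top
    rw [Submodule.mem_bot] at hmem
    have := congrFun hmem (Sum.inl ⟨0, hd⟩)
    simp at this
  rw [hfix] at h
  rw [Nat.card_eq_fintype_card]
  exact (Nat.modEq_zero_iff_dvd).1 h

/-- the arithmetic step -/
theorem exists_dvd_of_card_eq (q N s : ℕ) (hq : 2 ≤ q)
    (h : N * (s * ∏ i : Fin d, (q ^ d - q ^ (i : ℕ)))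
      = q ^ (d ^ 2) * ∏ i ∈ Finset.range d, (q ^ (2 * (i + 1)) - 1))
    (r : ℕ) (hr : r.Prime) (hrq : ¬ r ∣ q) (hrN : r ∣ N) :
    ∃ i, i < d ∧ r ∣ q ^ (i + 1) + 1 := by
  have hq1 : ∀ k, 1 ≤ q ^ k := fun k => Nat.one_le_pow _ _ (by omega)
  have e1 : ∏ i : Fin d, (q ^ d - q ^ (i : ℕ))
      = (∏ i ∈ Finset.range d, q ^ i) * ∏ i ∈ Finset.range d, (q ^ (i + 1) - 1) := by
    rw [Fin.prod_univ_eq_prod_range (fun i => q ^ d - q ^ i) d,
      ← Finset.prod_range_reflect (fun i => q ^ (i + 1) - 1) d, ← Finset.prod_mul_distrib]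
    apply Finset.prod_congr rfl
    intro i hi
    have hi' : i < d := Finset.mem_range.1 hi
    have h1 : d - 1 - i + 1 = d - i := by omega
    rw [h1, Nat.mul_sub, mul_one, ← pow_add]
    congr 2
    omega
  have e2 : ∏ i ∈ Finset.range d, (q ^ (2 * (i + 1)) - 1)
      = (∏ i ∈ Finset.range d, (q ^ (i + 1) - 1)) * ∏ i ∈ Finset.range d, (q ^ (i + 1) + 1) := by
    rw [← Finset.prod_mul_distrib]
    apply Finset.prod_congr rfl
    intro i _
    have h1 : q ^ (2 * (i + 1)) = q ^ (i + 1) * q ^ (i + 1) := by rw [← pow_add]; congr 1; ring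
    rw [h1]
    have := hq1 (i + 1)
    zify [this, Nat.one_le_iff_ne_zero.2 (Nat.mul_ne_zero (by omega : q ^ (i + 1) ≠ 0)
      (by omega : q ^ (i + 1) ≠ 0))]
    ring
  rw [e1, e2] at h
  set Pm := ∏ i ∈ Finset.range d, (q ^ (i + 1) - 1) with hPm
  set Pp := ∏ i ∈ Finset.range d, (q ^ (i + 1) + 1) with hPp
  set Qa := ∏ i ∈ Finset.range d, q ^ i with hQa
  have hPm0 : 0 < Pm := by
    apply Finset.prod_pos
    intro i _
    have : 2 ≤ q ^ (i + 1) := by
      calc 2 ≤ q := hq
        _ = q ^ 1 := (pow_one q).symm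
        _ ≤ q ^ (i + 1) := Nat.pow_le_pow_right (by omega) (by omega)
    omega
  have h' : (N * s * Qa) * Pm = (q ^ (d ^ 2) * Pp) * Pm := by
    calc (N * s * Qa) * Pm = N * (s * (Qa * Pm)) := by ring
      _ = q ^ (d ^ 2) * (Pm * Pp) := h
      _ = (q ^ (d ^ 2) * Pp) * Pm := by ring
  have h'' := Nat.eq_of_mul_eq_mul_right hPm0 h'
  have hdvd : r ∣ q ^ (d ^ 2) * Pp := by
    rw [← h'']
    exact Dvd.dvd.mul_right (Dvd.dvd.mul_right hrN _) _
  rcases (Nat.Prime.dvd_mul hr).1 hdvd with h1 | h1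
  · exact absurd (hr.dvd_of_dvd_pow h1) hrq
  · rw [hPp, Prime.dvd_finsetProd_iff (Nat.Prime.prime hr)] at h1
    obtain ⟨i, hi, hri⟩ := h1
    exact ⟨i, Finset.mem_range.1 hi, hri⟩

/-- a prime `r ∤ q` dividing half the number of pairs divides some `q^i + 1`, `1 ≤ i ≤ d` -/
theorem exists_dvd_pow_add_one_of_dvd_card_lagPairs [Fintype F] (hd : 1 ≤ d) (r : ℕ)
    (hr : r.Prime) (hrq : ¬ r ∣ Fintype.card F)
    (hΩ : r ∣ Nat.card {P : Submodule F (Fin d ⊕ Fin d → F) × Submodule F (Fin d ⊕ Fin d → F) //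
        IsLagPair d P} / 2) :
    ∃ i, i < d ∧ r ∣ Fintype.card F ^ (i + 1) + 1 := by
  obtain ⟨s, hs⟩ := card_lagPairs_mul (F := F) d
  have heven := even_card_lagPairs (F := F) d hd
  have hrN : r ∣ Nat.card {P : Submodule F (Fin d ⊕ Fin d → F) ×
      Submodule F (Fin d ⊕ Fin d → F) // IsLagPair d P} := by
    obtain ⟨k, hk⟩ := heven
    rw [hk] at hΩ ⊢
    rw [Nat.mul_div_cancel_left k (by norm_num)] at hΩ
    exact Dvd.dvd.mul_left hΩ 2
  rw [Matrix.card_GL_field, Cfsg.Agent.Lib.Helper5.card_symplecticGroup_fin] at hs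
  exact exists_dvd_of_card_eq d (Fintype.card F) _ s Fintype.one_lt_card hs r hr hrq hrN

end lagpairs

end Cfsg.Agent.Lib.Helper8
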