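import Mathlib
import Cfsg.Prelude.Def_ClassicalGeometry
import Cfsg.Agent.Lib.Helper99.SympForm
import Cfsg.Agent.Lib.Helper13.Symp
import Cfsg.Agent.Lib.Helper40.Darboux
import Cfsg.Agent.Lib.Helper8.OddFpfMinus
import Cfsg.Agent.Lib.Helper8.LagPairs

/-!
# An element of odd prime order of `Sp_{2d}(q)` acting irreducibly on a nondegenerate block
-/

set_option autoImplicit false

namespace Cfsg.Agent.Lib.Helper8

open Matrix Module
open Cfsg.Agent.Lib.Helper99 Cfsg.Agent.Lib.Helper13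

section core

variable {F : Type*} [Field F] {M : Type*} [AddCommGroup M] [Module F M]

/-- no invariant pair of complementary totally isotropic subspaces -/
theorem no_invariant_pair (ω : M → M → F) (g : M ≃ₗ[F] M) (r : ℕ) (hr : Odd r)
    (hgr : ∀ a, (⇑g)^[r] a = a) (N : Submodule F M) (hN : ∀ a, g a - a ∈ N)
    (h3 : ∀ U : Submodule F M, (∀ a ∈ U, g a ∈ U) → (∀ a ∈ U, ∀ b ∈ U, ω a b = 0) → U ⊓ N = ⊥)
    (hne : ∃ a, g a ≠ a)
    (U W : Submodule F M) (hc : IsCompl U W) (hU : ∀ a ∈ U, ∀ b ∈ U, ω a b = 0)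
    (hW : ∀ a ∈ W, ∀ b ∈ W, ω a b = 0)
    (h : ((∀ a ∈ U, g a ∈ U) ∧ (∀ b ∈ W, g b ∈ W)) ∨
      ((∀ a ∈ U, g a ∈ W) ∧ (∀ b ∈ W, g b ∈ U))) : False := by
  have key : ∀ U : Submodule F M, (∀ a ∈ U, g a ∈ U) → (∀ a ∈ U, ∀ b ∈ U, ω a b = 0) →
      ∀ a ∈ U, g a = a := by
    intro U hi ht a ha
    have hmem : g a - a ∈ U ⊓ N := ⟨U.sub_mem (hi a ha) ha, hN a⟩
    rw [h3 U hi ht] at hmem
    exact sub_eq_zero.1 ((Submodule.mem_bot F).1 hmem)
  rcases h with ⟨h1, h2⟩ | ⟨h1, h2⟩
  · obtain ⟨a, ha⟩ := hne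
    apply ha
    have hmem : a ∈ U ⊔ W := by rw [hc.sup_eq_top]; exact Submodule.mem_top
    obtain ⟨u, hu, w, hw, rfl⟩ := Submodule.mem_sup.1 hmem
    rw [map_add, key U h1 hU u hu, key W h2 hW w hw]
  · have hiter : ∀ k a, a ∈ U → (⇑g)^[2 * k] a ∈ U := by
      intro k
      induction k with
      | zero => intro a ha; exact ha
      | succ k ih =>
        intro a ha
        have e : 2 * (k + 1) = (2 * k + 1) + 1 := by ring
        rw [e, Function.iterate_succ_apply', Function.iterate_succ_apply']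
        exact h2 _ (h1 _ (ih a ha))
    obtain ⟨k, hk⟩ := hr
    have hU' : ∀ a ∈ U, g a ∈ U := by
      intro a ha
      have h4 := hiter (k + 1) a ha
      have e : 2 * (k + 1) = r + 1 := by omega
      rw [e, Function.iterate_succ_apply, hgr] at h4
      exact h4
    have hU0 : ∀ a ∈ U, a = 0 := by
      intro a ha
      have h5 : g a ∈ U ⊓ W := ⟨hU' a ha, h1 a ha⟩
      rw [hc.inf_eq_bot, Submodule.mem_bot] at h5
      exact g.map_eq_zero_iff.1 h5
    have hall : ∀ a : M, a = 0 := by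
      intro a
      have hmem : a ∈ U ⊔ W := by rw [hc.sup_eq_top]; exact Submodule.mem_top
      obtain ⟨u, hu, w, hw, rfl⟩ := Submodule.mem_sup.1 hmem
      have h6 : g w = 0 := hU0 _ (h2 w hw)
      rw [hU0 u hu, g.map_eq_zero_iff.1 h6, add_zero]
    obtain ⟨a, ha⟩ := hne
    apply ha
    rw [hall a, map_zero]

end core

section model

variable {F : Type*} [Field F] {L : Type*} [Field L] [Algebra F L] (σ : L ≃ₐ[F] L) (c : L)

theorem sigBil_self (h2 : (2 : F) ≠ 0) (hσ : ∀ x, σ (σ x) = x) (hc : σ c = -c) (x : L) :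
    sigBil F L σ c x x = 0 := by
  rw [sigBil_apply]
  have h1 : Algebra.trace F L (c * x * σ x) = Algebra.trace F L (σ (c * x * σ x)) :=
    (Algebra.trace_eq_of_algEquiv σ (c * x * σ x)).symm
  have h3 : σ (c * x * σ x) = -(c * x * σ x) := by
    rw [map_mul, map_mul, hσ, hc]; ring
  rw [h3, map_neg] at h1
  have h4 : (2 : F) * Algebra.trace F L (c * x * σ x) = 0 := by linear_combination h1
  rcases mul_eq_zero.1 h4 with h | h
  · exact absurd h h2
  · exact h

theorem sigBil_sepLeft [FiniteDimensional F L] [Algebra.IsSeparable F L]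
    (hσ : ∀ x, σ (σ x) = x) (hc0 : c ≠ 0) (x : L) (h : ∀ y, sigBil F L σ c x y = 0) : x = 0 := by
  have hnd := traceForm_nondegenerate F L
  have h1 : c * x = 0 := by
    apply hnd.1 (c * x)
    intro z
    have := h (σ z)
    rw [sigBil_apply, hσ] at this
    rw [Algebra.traceForm_apply]
    exact this
  rcases mul_eq_zero.1 h1 with h | h
  · exact absurd h hc0
  · exact h

theorem sigBil_unitMul (ζ : Lˣ) (hζ : (ζ : L) * σ ζ = 1) (x y : L) :
    sigBil F L σ c (unitMul F L ζ x) (unitMul F L ζ y) = sigBil F L σ c x y := by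
  rw [sigBil_apply, sigBil_apply, unitMul_apply, unitMul_apply, map_mul σ]
  congr 1
  linear_combination (c * x * σ y) * hζ

end model

section irreducible

variable {F : Type*} [Field F] [Fintype F] {L : Type*} [Field L] [Algebra F L]
  [FiniteDimensional F L]

/-- a unit of prime order `r` with `ord_r(q) = dim L` acts irreducibly on `L` -/
theorem unit_irreducible (ζ : Lˣ) (r : ℕ) [Fact r.Prime] (hζ : orderOf ζ = r)
    (he : orderOf ((Fintype.card F : ℕ) : ZMod r) = finrank F L)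
    (U : Submodule F L) (hinv : ∀ u ∈ U, (ζ : L) * u ∈ U) : U = ⊥ ∨ U = ⊤ := by
  classical
  by_cases hU : U = ⊥
  · exact Or.inl hU
  right
  have hrp : r.Prime := Fact.out
  have : Finite L := Module.finite_of_finite F
  have : Fintype ↥U := Fintype.ofFinite _
  have hζ1 : ζ ≠ 1 := by
    rintro rfl
    rw [orderOf_one] at hζ
    exact hrp.one_lt.ne hζ
  let f : Function.End ↥U := fun u => ⟨(ζ : L) * u, hinv u u.2⟩
  have hfk : ∀ k : ℕ, ∀ u : ↥U, (((f ^ k) u : ↥U) : L) = (ζ : L) ^ k * u := by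
    intro k
    induction k with
    | zero =>
      intro u
      rw [pow_zero, pow_zero, one_mul]
      rfl
    | succ k ih =>
      intro u
      rw [pow_succ']
      show (ζ : L) * (((f ^ k) u : ↥U) : L) = _
      rw [ih, pow_succ]
      ring
  have hf : f ^ r ^ 1 = 1 := by
    rw [pow_one]
    funext u
    apply Subtype.ext
    rw [hfk, ← Units.val_pow_eq_pow_val, ← hζ, pow_orderOf_eq_one, Units.val_one, one_mul]
    rfl
  have h := Equiv.Perm.card_fixedPoints_modEq (p := r) (n := 1) hf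
  have hfix : Fintype.card ↑(Function.fixedPoints f) = 1 := by
    rw [Fintype.card_eq_one_iff]
    refine ⟨⟨0, ?_⟩, ?_⟩
    · show f 0 = 0
      apply Subtype.ext
      show (ζ : L) * ((0 : ↥U) : L) = ((0 : ↥U) : L)
      simp
    · rintro ⟨u, hu⟩
      apply Subtype.ext
      apply Subtype.ext
      show (u : L) = ((0 : ↥U) : L)
      have h1 : (ζ : L) * u = u := congrArg (fun v : ↥U => (v : L)) hu
      have hζ1' : (ζ : L) - 1 ≠ 0 := by
        intro h
        apply hζ1
        exact Units.ext (sub_eq_zero.1 h)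
      have h2 : ((ζ : L) - 1) * u = 0 := by linear_combination h1
      rcases mul_eq_zero.1 h2 with h | h
      · exact absurd h hζ1'
      · rw [h]; rfl
  rw [hfix, ← Nat.card_eq_fintype_card, Module.natCard_eq_pow_finrank (K := F),
    Nat.card_eq_fintype_card] at h
  have h1 : ((Fintype.card F : ℕ) : ZMod r) ^ finrank F ↥U = 1 := by
    have := (ZMod.natCast_eq_natCast_iff _ _ r).2 h
    simpa using this
  have h2 := orderOf_dvd_of_pow_eq_one h1
  rw [he] at h2
  have hpos : 0 < finrank F ↥U := by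
    rw [Module.finrank_pos_iff_exists_ne_zero]
    obtain ⟨u, hu, hu0⟩ := (Submodule.ne_bot_iff U).1 hU
    exact ⟨⟨u, hu⟩, fun h => hu0 (congrArg Subtype.val h)⟩
  have h3 := Nat.le_of_dvd hpos h2
  have h4 := Submodule.finrank_le U
  exact Submodule.eq_top_of_finrank_eq (le_antisymm h4 h3)

end irreducible

section coords

variable {F : Type*} [Field F]

/-- symplectic coordinates for a nondegenerate alternating form (any characteristic) -/
theorem exists_symp_coords_gen {W : Type*} [AddCommGroup W] [Module F W]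
    [FiniteDimensional F W] (ω : LinearMap.BilinForm F W) (halt : ω.IsAlt)
    (hnd : ω.Nondegenerate) (N : ℕ) (hfr : finrank F W = 2 * N) :
    ∃ Θ : W ≃ₗ[F] (Fin N ⊕ Fin N → F), ∀ u v, Cfsg.sympForm N F (Θ u) (Θ v) = ω u v := by
  have halt' : (-ω).IsAlt := by
    intro x
    rw [LinearMap.neg_apply, LinearMap.neg_apply, halt x, neg_zero]
  have hnd' : (-ω).Nondegenerate := by
    refine ⟨fun x hx => hnd.1 x (fun y => ?_), fun y hy => hnd.2 y (fun x => ?_)⟩
    · have := hx y
      rwa [LinearMap.neg_apply, LinearMap.neg_apply, neg_eq_zero] at this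
    · have := hy x
      rwa [LinearMap.neg_apply, LinearMap.neg_apply, neg_eq_zero] at this
  obtain ⟨b, hb⟩ := Cfsg.Agent.Lib.Helper40.Darboux.darboux_basis N W (-ω) halt' hnd' hfr
  refine ⟨b.equivFun, fun u v => ?_⟩
  have h1 := LinearMap.BilinForm.apply_eq_dotProduct_toMatrix_mulVec b (-ω) u v
  rw [hb, Cfsg.Agent.Lib.Helper40.Darboux.gramJ_eq, Matrix.neg_mulVec, dotProduct_neg,
    LinearMap.neg_apply, LinearMap.neg_apply, neg_inj] at h1
  rw [h1]
  rfl

end coords

section prodmodel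

variable {F : Type*} [Field F] {L : Type*} [Field L] [Algebra F L] (σ : L ≃ₐ[F] L) (c : L)
  (k : ℕ)

/-- the form on `L × F^(2k)` -/
noncomputable def prodForm : LinearMap.BilinForm F (L × (Fin k ⊕ Fin k → F)) :=
  (sigBil F L σ c).compl₁₂ (LinearMap.fst F L (Fin k ⊕ Fin k → F))
      (LinearMap.fst F L (Fin k ⊕ Fin k → F))
    + (sympB k).compl₁₂ (LinearMap.snd F L (Fin k ⊕ Fin k → F))
      (LinearMap.snd F L (Fin k ⊕ Fin k → F))

theorem prodForm_apply (a b : L × (Fin k ⊕ Fin k → F)) :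
    prodForm σ c k a b = sigBil F L σ c a.1 b.1 + Cfsg.sympForm k F a.2 b.2 := by
  simp [prodForm, sympB_apply]

end prodmodel

section main

variable {F : Type*} [Field F] [Fintype F]

/-- an element of odd prime order `r ∣ q^j + 1` of `Sp_{2d}(q)`, `q` odd, fixing no pair of
complementary totally isotropic subspaces -/
theorem exists_irred_elt (p : ℕ) [Fact p.Prime] [CharP F p] (h2 : (2 : F) ≠ 0) (d j : ℕ) (hj1 : 1 ≤ j) (hjd : j ≤ d) (r : ℕ)
    [Fact r.Prime] (hr2 : r ≠ 2) (hrj : r ∣ Fintype.card F ^ j + 1)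
    (he : orderOf ((Fintype.card F : ℕ) : ZMod r) = 2 * j) :
    ∃ x : ↥(symplecticGroup (Fin d) F),
      ((x ^ r : ↥(symplecticGroup (Fin d) F)) : Matrix (Fin d ⊕ Fin d) (Fin d ⊕ Fin d) F) = 1 ∧
      (∀ z : F, (x : Matrix (Fin d ⊕ Fin d) (Fin d ⊕ Fin d) F)
        ≠ z • (1 : Matrix (Fin d ⊕ Fin d) (Fin d ⊕ Fin d) F)) ∧
      ¬ ∃ U W : Submodule F (Fin d ⊕ Fin d → F), IsCompl U W ∧
        (∀ u ∈ U, ∀ v ∈ U, Cfsg.sympForm d F u v = 0) ∧
        (∀ u ∈ W, ∀ v ∈ W, Cfsg.sympForm d F u v = 0) ∧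
        ((U.map (Matrix.toLin' (x : Matrix (Fin d ⊕ Fin d) (Fin d ⊕ Fin d) F)) = U ∧
          W.map (Matrix.toLin' (x : Matrix (Fin d ⊕ Fin d) (Fin d ⊕ Fin d) F)) = W) ∨
         (U.map (Matrix.toLin' (x : Matrix (Fin d ⊕ Fin d) (Fin d ⊕ Fin d) F)) = W ∧
          W.map (Matrix.toLin' (x : Matrix (Fin d ⊕ Fin d) (Fin d ⊕ Fin d) F)) = U)) := by
  classical
  obtain ⟨j', rfl⟩ : ∃ j', j = j' + 1 := ⟨j - 1, by omega⟩
  have hrp : r.Prime := Fact.out
  have hrodd : Odd r := hrp.odd_of_ne_two hr2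
  have hq1 : 1 ≤ Fintype.card F := Fintype.card_pos
  let L := FiniteField.Extension F p (2 * j' + 1 + 1)
  have : Finite L := inferInstance
  let _ : Fintype L := Fintype.ofFinite L
  have hdimL : Module.finrank F L = 2 * j' + 2 := FiniteField.finrank_extension F p (2 * j' + 1 + 1)
  have hcardL : Fintype.card L = Fintype.card F ^ (2 * j' + 2) := by
    rw [← Nat.card_eq_fintype_card, FiniteField.natCard_extension, Nat.card_eq_fintype_card]
  set A := Fintype.card F ^ (j' + 1) with hA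
  have hA1 : 1 ≤ A := Nat.one_le_pow _ _ hq1
  have hAA : Fintype.card F ^ (2 * j' + 2) = A * A := by rw [hA, ← pow_add]; congr 1; ring
  have hcardU : Nat.card Lˣ = A * A - 1 := by
    rw [Nat.card_units, Nat.card_eq_fintype_card, hcardL, hAA]
  have hrU : r ∣ Nat.card Lˣ := by
    rw [hcardU]
    have : A * A - 1 = (A - 1) * (A + 1) := by
      zify [hA1, Nat.one_le_iff_ne_zero.2 (Nat.mul_ne_zero (by omega : A ≠ 0) (by omega : A ≠ 0))]
      ring
    rw [this]
    exact Dvd.dvd.mul_left hrj _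
  obtain ⟨ζ, hζ⟩ := exists_prime_orderOf_dvd_card' r hrU
  have hζ1 : ζ ≠ 1 := by
    rintro rfl
    rw [orderOf_one] at hζ
    exact hrp.one_lt.ne hζ
  let σ : L ≃ₐ[F] L := (FiniteField.Extension.frob F p (2 * j' + 1 + 1)) ^ (j' + 1)
  have hσn : ∀ x : L, σ x = x ^ A := by
    intro x
    show ((FiniteField.Extension.frob F p (2 * j' + 1 + 1)) ^ (j' + 1)) x = x ^ A
    rw [FiniteField.Extension.frob_iterate_apply, Nat.card_eq_fintype_card]
  have hσ : ∀ x, σ (σ x) = x := by
    intro x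
    rw [hσn, hσn, ← pow_mul, ← hAA, ← hcardL]
    exact FiniteField.pow_card x
  have hζσ : (ζ : L) * σ ζ = 1 := by
    rw [hσn, ← pow_succ']
    have h1 : ζ ^ (A + 1) = 1 := by
      rw [← orderOf_dvd_iff_pow_eq_one, hζ]
      exact hrj
    have := congrArg (fun u : Lˣ => (u : L)) h1
    simpa using this
  have hσζ : σ (ζ : L) ≠ ζ := by
    intro h
    rw [h] at hζσ
    have h1 : ζ ^ 2 = 1 := by
      apply Units.ext
      rw [Units.val_pow_eq_pow_val, pow_two]
      exact hζσ
    have h3 := orderOf_dvd_of_pow_eq_one h1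
    rw [hζ] at h3
    exact hr2 ((Nat.prime_dvd_prime_iff_eq hrp Nat.prime_two).1 h3)
  set c : L := (ζ : L) - σ ζ with hcdef
  have hc0 : c ≠ 0 := sub_ne_zero.2 (fun h => hσζ h.symm)
  have hc : σ c = -c := by
    rw [hcdef, map_sub, hσ]; ring
  -- the model space
  set k := d - (j' + 1) with hk
  let ω := prodForm σ c k
  have hω : ∀ a b : L × (Fin k ⊕ Fin k → F),
      ω a b = sigBil F L σ c a.1 b.1 + Cfsg.sympForm k F a.2 b.2 := prodForm_apply σ c k
  have halt : ω.IsAlt := by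
    intro a
    rw [hω, sigBil_self σ c h2 hσ hc, ← sympB_apply, sympB_self, add_zero]
  have hleft : ∀ a, (∀ b, ω a b = 0) → a = 0 := by
    intro a ha
    apply Prod.ext
    · apply sigBil_sepLeft σ c hσ hc0
      intro y
      have := ha (y, 0)
      rw [hω] at this
      simp only at this
      rw [← sympB_apply, map_zero, add_zero] at this
      exact this
    · apply sympB_nd_left k
      intro v
      have := ha (0, v)
      rw [hω] at this
      simp only at this
      rw [map_zero, zero_add] at this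
      rw [sympB_apply]
      exact this
  have hnd : ω.Nondegenerate := by
    refine ⟨hleft, fun b hb => hleft b (fun a => ?_)⟩
    have := hb a
    rw [← LinearMap.IsAlt.neg halt, this, neg_zero]
  have hfr : finrank F (L × (Fin k ⊕ Fin k → F)) = 2 * d := by
    rw [Module.finrank_prod, hdimL, Module.finrank_fintype_fun_eq_card, Fintype.card_sum,
      Fintype.card_fin, hk]
    omega
  obtain ⟨Θ, hΘ⟩ := exists_symp_coords_gen ω halt hnd d hfr
  let g : (L × (Fin k ⊕ Fin k → F)) ≃ₗ[F] (L × (Fin k ⊕ Fin k → F)) :=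
    (unitMul F L ζ).prodCongr (LinearEquiv.refl F (Fin k ⊕ Fin k → F))
  have hg : ∀ a, g a = ((ζ : L) * a.1, a.2) := fun a => rfl
  have hgω : ∀ a b, ω (g a) (g b) = ω a b := by
    intro a b
    rw [hω, hω, hg, hg]
    simp only
    rw [← unitMul_apply F L ζ a.1, ← unitMul_apply F L ζ b.1, sigBil_unitMul σ c ζ hζσ]
  have hgn : ∀ n a, (⇑g)^[n] a = ((ζ : L) ^ n * a.1, a.2) := by
    intro n
    induction n with
    | zero => intro a; simp
    | succ n ih =>
      intro a
      rw [Function.iterate_succ_apply', ih, hg]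
      simp only
      rw [pow_succ]
      apply Prod.ext
      · simp only; ring
      · rfl
  have hgr : ∀ a, (⇑g)^[r] a = a := by
    intro a
    rw [hgn, ← Units.val_pow_eq_pow_val, ← hζ, pow_orderOf_eq_one, Units.val_one, one_mul]
  -- the matrix
  let fL : (Fin d ⊕ Fin d → F) →ₗ[F] (Fin d ⊕ Fin d → F) :=
    (Θ.symm.trans (g.trans Θ)).toLinearMap
  let X : Matrix (Fin d ⊕ Fin d) (Fin d ⊕ Fin d) F := LinearMap.toMatrix' fL
  have hXv : ∀ v, X *ᵥ v = Θ (g (Θ.symm v)) := by
    intro v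
    rw [← Matrix.toLin'_apply, Matrix.toLin'_toMatrix']
    rfl
  have hXΘ : ∀ a, X *ᵥ (Θ a) = Θ (g a) := by
    intro a
    rw [hXv, LinearEquiv.symm_apply_apply]
  have hXmem : X ∈ symplecticGroup (Fin d) F := by
    apply mem_symplectic_of_preserves
    intro u v
    rw [hXv, hXv, hΘ, hgω, ← hΘ, LinearEquiv.apply_symm_apply, LinearEquiv.apply_symm_apply]
  have hXn : ∀ n v, (X ^ n) *ᵥ v = Θ ((⇑g)^[n] (Θ.symm v)) := by
    intro n
    induction n with
    | zero => intro v; simp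
    | succ n ih =>
      intro v
      rw [pow_succ', ← Matrix.mulVec_mulVec, ih, hXΘ, Function.iterate_succ_apply']
  refine ⟨⟨X, hXmem⟩, ?_, ?_, ?_⟩
  · rw [SubmonoidClass.coe_pow]
    show X ^ r = 1
    rw [Matrix.ext_iff_mulVec]
    intro v
    rw [hXn, hgr, LinearEquiv.apply_symm_apply, Matrix.one_mulVec]
  · intro z hz
    have hz' : X = z • (1 : Matrix (Fin d ⊕ Fin d) (Fin d ⊕ Fin d) F) := hz
    have h1 := hXΘ ((1 : L), (0 : Fin k ⊕ Fin k → F))
    rw [hz', Matrix.smul_mulVec, Matrix.one_mulVec, ← map_smul, hg] at h1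
    have h3 := congrArg Prod.fst (Θ.injective h1)
    simp only [Prod.smul_fst, mul_one] at h3
    apply hσζ
    rw [← h3, Algebra.smul_def, mul_one, AlgEquiv.commutes]
  · rintro ⟨U, W, hc', hU, hW, h⟩
    let N : Submodule F (L × (Fin k ⊕ Fin k → F)) :=
      LinearMap.ker (LinearMap.snd F L (Fin k ⊕ Fin k → F))
    have hN : ∀ a, g a - a ∈ N := by
      intro a
      rw [LinearMap.mem_ker, hg]
      simp
    have h3 : ∀ U' : Submodule F (L × (Fin k ⊕ Fin k → F)), (∀ a ∈ U', g a ∈ U') →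
        (∀ a ∈ U', ∀ b ∈ U', ω a b = 0) → U' ⊓ N = ⊥ := by
      intro U' hi ht
      rw [Submodule.eq_bot_iff]
      rintro a ⟨haU, haN⟩
      have ha2 : a.2 = 0 := haN
      let U'' : Submodule F L := U'.comap (LinearMap.inl F L (Fin k ⊕ Fin k → F))
      have hmemU'' : ∀ u : L, u ∈ U'' ↔ (u, (0 : Fin k ⊕ Fin k → F)) ∈ U' := fun u => Iff.rfl
      have hinv'' : ∀ u ∈ U'', (ζ : L) * u ∈ U'' := by
        intro u hu
        rw [hmemU''] at hu ⊢
        have := hi _ hu
        rwa [hg] at this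
      have he' : orderOf ((Fintype.card F : ℕ) : ZMod r) = finrank F L := by
        rw [he, hdimL]; ring
      have ha1 : a.1 ∈ U'' := by
        rw [hmemU'']
        have : (a.1, (0 : Fin k ⊕ Fin k → F)) = a := Prod.ext rfl ha2.symm
        rw [this]
        exact haU
      rcases unit_irreducible ζ r hζ he' U'' hinv'' with hb | htop
      · rw [hb, Submodule.mem_bot] at ha1
        exact Prod.ext ha1 ha2
      · exfalso
        have h1 : (1 : L) = 0 := by
          apply sigBil_sepLeft σ c hσ hc0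
          intro y
          have hy : y ∈ U'' := by rw [htop]; exact Submodule.mem_top
          have h1' : (1 : L) ∈ U'' := by rw [htop]; exact Submodule.mem_top
          have := ht _ ((hmemU'' 1).1 h1') _ ((hmemU'' y).1 hy)
          rw [hω] at this
          simp only at this
          rw [← sympB_apply, map_zero, add_zero] at this
          exact this
        exact one_ne_zero h1
    have hne : ∃ a, g a ≠ a := by
      refine ⟨((1 : L), 0), ?_⟩
      rw [hg]
      intro h
      have := congrArg Prod.fst h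
      simp only [mul_one] at this
      apply hζ1
      exact Units.ext this
    have hcM : IsCompl (U.comap (Θ : (L × (Fin k ⊕ Fin k → F)) →ₗ[F] (Fin d ⊕ Fin d → F)))
        (W.comap (Θ : (L × (Fin k ⊕ Fin k → F)) →ₗ[F] (Fin d ⊕ Fin d → F))) := by
      have := (OrderIso.isCompl_iff (Submodule.orderIsoMapComap Θ).symm).1 hc'
      exact this
    have htiU : ∀ a ∈ U.comap (Θ : (L × (Fin k ⊕ Fin k → F)) →ₗ[F] (Fin d ⊕ Fin d → F)),
        ∀ b ∈ U.comap (Θ : (L × (Fin k ⊕ Fin k → F)) →ₗ[F] (Fin d ⊕ Fin d → F)), ω a b = 0 := by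
      intro a ha b hb
      rw [← hΘ]
      exact hU _ ha _ hb
    have htiW : ∀ a ∈ W.comap (Θ : (L × (Fin k ⊕ Fin k → F)) →ₗ[F] (Fin d ⊕ Fin d → F)),
        ∀ b ∈ W.comap (Θ : (L × (Fin k ⊕ Fin k → F)) →ₗ[F] (Fin d ⊕ Fin d → F)), ω a b = 0 := by
      intro a ha b hb
      rw [← hΘ]
      exact hW _ ha _ hb
    have hmap : ∀ (S T : Submodule F (Fin d ⊕ Fin d → F)),
        S.map (Matrix.toLin' X) = T →
        ∀ a ∈ S.comap (Θ : (L × (Fin k ⊕ Fin k → F)) →ₗ[F] (Fin d ⊕ Fin d → F)),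
          g a ∈ T.comap (Θ : (L × (Fin k ⊕ Fin k → F)) →ₗ[F] (Fin d ⊕ Fin d → F)) := by
      intro S T hST a ha
      rw [Submodule.mem_comap]
      rw [← hST]
      refine ⟨Θ a, ha, ?_⟩
      rw [Matrix.toLin'_apply]
      exact hXΘ a
    apply no_invariant_pair (fun a b => ω a b) g r hrodd hgr N hN h3 hne _ _ hcM htiU htiW
    rcases h with ⟨h1, h2'⟩ | ⟨h1, h2'⟩
    · exact Or.inl ⟨hmap U U h1, hmap W W h2'⟩
    · exact Or.inr ⟨hmap U W h1, hmap W U h2'⟩

end main

end Cfsg.Agent.Lib.Helper8
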