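import Mathlib
import Cfsg.Agent.Lib.Helper6.Nc.Defs

/-! # Nc hive (helper6, S3894), leaf NC-SFIX (helper8): `diag(a, a⁻¹)`, `a² ≠ 1`, fixes only two lines. -/

set_option autoImplicit false

namespace Cfsg.Agent.Lib.Helper6.Nc

open Matrix

variable {F : Type*} [Field F]

/-- NC-SFIX.  `diag(a,a⁻¹)` with `a² ≠ 1` fixes only the lines `(1,0)` and `(0,1)`. -/
theorem sDg_fix (a : Fˣ) (ha : a ^ 2 ≠ 1) (x : Option F) (h : sDg a ∈ lineStab (vec x)) :
    x = none ∨ x = some 0 := by
  cases x with
  | none => exact Or.inl rfl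
  | some c =>
    right
    obtain ⟨d, hd⟩ := mem_lineStab.1 h
    rw [coe_sDg] at hd
    have h0 := congrFun hd 0
    have h1 := congrFun hd 1
    simp [vec, Matrix.mulVec, dotProduct, Fin.sum_univ_two] at h0 h1
    -- h0 : a * c = d * c,  h1 : a⁻¹ = d
    have hne : (a : F) ≠ ((a⁻¹ : Fˣ) : F) := by
      intro he
      apply ha
      have : a = a⁻¹ := Units.ext he
      rw [pow_two]
      calc a * a = a * a⁻¹ := by rw [← this]
        _ = 1 := mul_inv_cancel a
    have hc : c = 0 := by
      by_contra hc0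
      apply hne
      rcases h0 with h0 | h0
      · rw [h0, ← h1]
        simp
      · exact absurd h0 hc0
    rw [hc]

end Cfsg.Agent.Lib.Helper6.Nc
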