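import Mathlib
import Cfsg.Agent.Lib.Helper6.EqD.Inv
import Cfsg.Agent.Lib.Helper44.CharTwoSym

/-!
# Isometries of prime order of an alternating space: basic facts

Nondegenerate subspaces, orthogonal complements, invariance and the fixed space.
-/

set_option autoImplicit false

namespace Cfsg.Agent.Lib.Helper8.SpBlk

open Module Cfsg.Agent.Lib.Helper2.BG

universe u v

section basic

variable {F : Type v} [Field F] {V : Type u} [AddCommGroup V] [Module F V]

/-- the form is nondegenerate on the subspace -/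
def NonDeg (ω : LinearMap.BilinForm F V) (W : Submodule F V) : Prop :=
  ∀ u ∈ W, (∀ v ∈ W, ω u v = 0) → u = 0

theorem alt_swap {ω : LinearMap.BilinForm F V} (halt : ω.IsAlt) (a b : V) :
    ω a b = - ω b a := by
  rw [LinearMap.IsAlt.neg halt]

theorem nonDeg_bot (ω : LinearMap.BilinForm F V) : NonDeg ω ⊥ := by
  intro u hu _
  exact (Submodule.mem_bot F).1 hu

theorem nonDeg_top {ω : LinearMap.BilinForm F V} (hnd : ω.Nondegenerate) : NonDeg ω ⊤ := by
  intro u _ hu
  exact hnd.1 u (fun v => hu v Submodule.mem_top)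

theorem nonDeg_restrict {ω : LinearMap.BilinForm F V} (halt : ω.IsAlt) {W : Submodule F V}
    (h : NonDeg ω W) : (ω.restrict W).Nondegenerate := by
  refine ⟨?_, ?_⟩
  · intro u hu
    apply Subtype.ext
    apply h u u.2
    intro v hv
    have h1 := hu ⟨v, hv⟩
    simpa [LinearMap.BilinForm.restrict_apply, LinearMap.domRestrict_apply] using h1
  · intro u hu
    apply Subtype.ext
    apply h u u.2
    intro v hv
    have h1 := hu ⟨v, hv⟩
    simp only [LinearMap.BilinForm.restrict_apply, LinearMap.domRestrict_apply] at h1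
    rw [alt_swap halt]
    have h3 : ω v (u : V) = 0 := by simpa using h1
    rw [h3, neg_zero]

theorem nonDeg_even [FiniteDimensional F V] {ω : LinearMap.BilinForm F V} (halt : ω.IsAlt)
    {W : Submodule F V} (h : NonDeg ω W) : Even (finrank F W) := by
  obtain ⟨N, hN⟩ := Cfsg.Agent.Lib.Helper44.alt_finrank_even (finrank F W) W (ω.restrict W)
    (fun u => halt u) (nonDeg_restrict halt h) rfl
  exact ⟨N, by omega⟩

theorem isCompl_orth [FiniteDimensional F V] {ω : LinearMap.BilinForm F V} (halt : ω.IsAlt)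
    {W : Submodule F V} (h : NonDeg ω W) : IsCompl W (ω.orthogonal W) :=
  LinearMap.BilinForm.isCompl_orthogonal_of_restrict_nondegenerate halt.isRefl
    (nonDeg_restrict halt h)

theorem mem_orth {ω : LinearMap.BilinForm F V} {W : Submodule F V} {m : V} :
    m ∈ ω.orthogonal W ↔ ∀ n ∈ W, ω n m = 0 :=
  LinearMap.BilinForm.mem_orthogonal_iff

theorem orth_left {ω : LinearMap.BilinForm F V} (halt : ω.IsAlt) {W : Submodule F V} {m : V}
    (hm : m ∈ ω.orthogonal W) {n : V} (hn : n ∈ W) : ω m n = 0 := by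
  rw [alt_swap halt, mem_orth.1 hm n hn, neg_zero]

/-- orthogonal sums of nondegenerate subspaces -/
theorem nonDeg_sup {ω : LinearMap.BilinForm F V} (halt : ω.IsAlt) {W₁ W₂ : Submodule F V}
    (h1 : NonDeg ω W₁) (h2 : NonDeg ω W₂) (horth : W₂ ≤ ω.orthogonal W₁) :
    NonDeg ω (W₁ ⊔ W₂) ∧ Disjoint W₁ W₂ := by
  constructor
  · intro u hu hu0
    obtain ⟨w₁, hw₁, w₂, hw₂, rfl⟩ := Submodule.mem_sup.1 hu
    have e1 : w₁ = 0 := by
      apply h1 w₁ hw₁
      intro v hv
      have h3 := hu0 v (Submodule.mem_sup_left hv)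
      rw [map_add, LinearMap.add_apply, orth_left halt (horth hw₂) hv, add_zero] at h3
      exact h3
    have e2 : w₂ = 0 := by
      apply h2 w₂ hw₂
      intro v hv
      have h3 := hu0 v (Submodule.mem_sup_right hv)
      rw [map_add, LinearMap.add_apply, mem_orth.1 (horth hv) w₁ hw₁, zero_add] at h3
      exact h3
    rw [e1, e2, add_zero]
  · rw [Submodule.disjoint_def]
    intro x hx1 hx2
    apply h1 x hx1
    intro v hv
    exact orth_left halt (horth hx2) hv

/-- the orthogonal complement of a nondegenerate subspace inside a nondegenerate subspace -/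
theorem orth_in [FiniteDimensional F V] {ω : LinearMap.BilinForm F V} (halt : ω.IsAlt)
    {W M : Submodule F V} (hW : NonDeg ω W) (hM : NonDeg ω M) (hWM : W ≤ M) :
    NonDeg ω (M ⊓ ω.orthogonal W) ∧ Disjoint W (M ⊓ ω.orthogonal W) ∧
      W ⊔ M ⊓ ω.orthogonal W = M ∧
      finrank F M = finrank F W + finrank F ↥(M ⊓ ω.orthogonal W) := by
  have hc := isCompl_orth halt hW
  have hdisj : Disjoint W (M ⊓ ω.orthogonal W) := hc.disjoint.mono_right inf_le_right
  have hsup : W ⊔ M ⊓ ω.orthogonal W = M := by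
    have h1 : (W ⊔ ω.orthogonal W) ⊓ M = W ⊔ ω.orthogonal W ⊓ M :=
      sup_inf_assoc_of_le (ω.orthogonal W) hWM
    rw [hc.sup_eq_top, top_inf_eq] at h1
    rw [inf_comm M, ← h1]
  refine ⟨?_, hdisj, hsup, ?_⟩
  · intro u hu hu0
    apply hM u hu.1
    intro v hv
    rw [← hsup] at hv
    obtain ⟨w, hw, m, hm, rfl⟩ := Submodule.mem_sup.1 hv
    rw [map_add, orth_left halt hu.2 hw, hu0 m hm, add_zero]
  · rw [← finrank_sup_of_disjoint' W _ hdisj, hsup]

end basic

section iso

variable {F : Type v} [Field F] {V : Type u} [AddCommGroup V] [Module F V]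
  {ω : LinearMap.BilinForm F V} {y : Module.End F V}

theorem iso_pow (hiso : ∀ a b, ω (y a) (y b) = ω a b) (k : ℕ) (a b : V) :
    ω ((y ^ k) a) ((y ^ k) b) = ω a b := by
  induction k with
  | zero => simp
  | succ k ih =>
    rw [pow_succ', Module.End.mul_apply, Module.End.mul_apply, hiso, ih]

theorem pow_pred_apply {r : ℕ} (hr : 0 < r) (hy : y ^ r = 1) (a : V) :
    y ((y ^ (r - 1)) a) = a := by
  have : (y * y ^ (r - 1)) a = a := by
    rw [← pow_succ', Nat.sub_add_cancel hr, hy]
    rfl
  exact this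

theorem pow_pred_apply' {r : ℕ} (hr : 0 < r) (hy : y ^ r = 1) (a : V) :
    (y ^ (r - 1)) (y a) = a := by
  have : (y ^ (r - 1) * y) a = a := by
    rw [← pow_succ, Nat.sub_add_cancel hr, hy]
    rfl
  exact this

/-- the inverse is the adjoint -/
theorem iso_adj (hiso : ∀ a b, ω (y a) (y b) = ω a b) {r : ℕ} (hr : 0 < r) (hy : y ^ r = 1)
    (a b : V) : ω (y a) b = ω a ((y ^ (r - 1)) b) := by
  nth_rewrite 1 [← pow_pred_apply hr hy b]
  rw [hiso]

/-- the orthogonal complement of an invariant subspace is invariant -/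
theorem inv_orth (hiso : ∀ a b, ω (y a) (y b) = ω a b) {r : ℕ} (hr : 0 < r) (hy : y ^ r = 1)
    {W : Submodule F V} (hW : Inv y W) : Inv y (ω.orthogonal W) := by
  intro v hv
  rw [mem_orth] at hv ⊢
  intro n hn
  rw [← pow_pred_apply hr hy n, hiso]
  exact hv _ (hW.pow (r - 1) n hn)

/-- the fixed space of an isometry of order prime to the characteristic is nondegenerate -/
theorem nonDeg_fix (hiso : ∀ a b, ω (y a) (y b) = ω a b) {r : ℕ} (hrF : (r : F) ≠ 0)
    (hy : y ^ r = 1) {N : Submodule F V} (hN : NonDeg ω N) (hNi : Inv y N) :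
    NonDeg ω (N ⊓ LinearMap.ker (y - 1)) := by
  intro u hu hu0
  have hfix : y u = u := by
    have := LinearMap.mem_ker.1 hu.2
    rw [LinearMap.sub_apply, Module.End.one_apply, sub_eq_zero] at this
    exact this
  have hfixk : ∀ k : ℕ, (y ^ k) u = u := by
    intro k
    induction k with
    | zero => simp
    | succ k ih => rw [pow_succ, Module.End.mul_apply, hfix, ih]
  apply hN u hu.1
  intro v hv
  have hmem : (∑ k ∈ Finset.range r, y ^ k) v ∈ N ⊓ LinearMap.ker (y - 1) := by
    refine ⟨?_, ?_⟩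
    · rw [LinearMap.sum_apply]
      exact Submodule.sum_mem _ (fun k _ => hNi.pow k v hv)
    · show (∑ k ∈ Finset.range r, y ^ k) v ∈ LinearMap.ker (y - 1)
      rw [LinearMap.mem_ker, ← Module.End.mul_apply, mul_geom_sum, hy, sub_self]
      rfl
  have h1 := hu0 _ hmem
  rw [LinearMap.sum_apply, map_sum] at h1
  have h3 : ∀ k ∈ Finset.range r, ω u ((y ^ k) v) = ω u v := by
    intro k _
    nth_rewrite 1 [← hfixk k]
    exact iso_pow hiso k u v
  rw [Finset.sum_congr rfl h3, Finset.sum_const, Finset.card_range, nsmul_eq_mul] at h1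
  exact (mul_eq_zero.1 h1).resolve_left hrF

end iso

end Cfsg.Agent.Lib.Helper8.SpBlk
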