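import Mathlib
import Cfsg.Agent.Lib.Helper8.SpBlkBasic

/-!
# Isometries of odd prime order of an alternating space: minimal nondegenerate blocks

A minimal nonzero nondegenerate invariant subspace without fixed vectors has dimension `i`
(the order of `q` modulo `r`) if `i` is even and `2 i` if `i` is odd.
-/

set_option autoImplicit false

namespace Cfsg.Agent.Lib.Helper8.SpBlk

open Module Polynomial Cfsg.Agent.Lib.Helper2.BG Cfsg.Agent.Lib.Helper6.EqD

universe u v

section poly

variable {F : Type v} [Field F] {V : Type u} [AddCommGroup V] [Module F V]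

theorem aeval_restrict_apply (y : Module.End F V) {U : Submodule F V} (hU : ∀ x ∈ U, y x ∈ U)
    (P : F[X]) (a : U) :
    ((aeval (y.restrict hU) P) a : V) = aeval y P (a : V) := by
  induction P using Polynomial.induction_on' with
  | add p q hp hq =>
    rw [map_add, map_add, LinearMap.add_apply, LinearMap.add_apply, Submodule.coe_add, hp, hq]
  | monomial n c =>
    rw [aeval_monomial, aeval_monomial, Module.End.mul_apply, Module.End.mul_apply,
      Module.algebraMap_end_apply, Module.algebraMap_end_apply, Submodule.coe_smul,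
      Module.End.pow_restrict]
    rfl

/-- the adjoint of a polynomial in an isometry is the polynomial in the inverse -/
theorem aeval_adj {ω : LinearMap.BilinForm F V} {y y' : Module.End F V}
    (hadj : ∀ a b, ω (y a) b = ω a (y' b)) (P : F[X]) (a b : V) :
    ω (aeval y P a) b = ω a (aeval y' P b) := by
  have hpow : ∀ (n : ℕ) (a b : V), ω ((y ^ n) a) b = ω a ((y' ^ n) b) := by
    intro n
    induction n with
    | zero => intro a b; simp
    | succ n ih =>
      intro a b
      rw [pow_succ', Module.End.mul_apply, hadj, ih, pow_succ, Module.End.mul_apply]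
  induction P using Polynomial.induction_on' with
  | add p q hp hq =>
    rw [map_add, map_add, LinearMap.add_apply, LinearMap.add_apply, map_add,
      LinearMap.add_apply, map_add, hp, hq]
  | monomial n c =>
    rw [aeval_monomial, aeval_monomial, Module.End.mul_apply, Module.End.mul_apply,
      Module.algebraMap_end_apply, Module.algebraMap_end_apply, map_smul,
      LinearMap.smul_apply, map_smul, hpow]

theorem inv_range_orbit (T : Module.End F V) (v : V) :
    Inv T (LinearMap.range (orbitMap T v)) := by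
  rintro _ ⟨A, rfl⟩
  refine ⟨X * A, ?_⟩
  show aeval T (X * A) v = T (aeval T A v)
  rw [map_mul, aeval_X, Module.End.mul_apply]

theorem range_orbit_le (T : Module.End F V) {Y : Submodule F V} (hY : Inv T Y) {v : V}
    (hv : v ∈ Y) : LinearMap.range (orbitMap T v) ≤ Y := by
  rintro _ ⟨A, rfl⟩
  exact hY.aeval A v hv

/-- the cyclic subspace generated by a vector killed by a monic polynomial -/
theorem finrank_range_orbitMap_le [FiniteDimensional F V] (y : Module.End F V) (v : V) (g : F[X])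
    (hg : g.Monic) (hgv : aeval y g v = 0) :
    finrank F (LinearMap.range (orbitMap y v)) ≤ g.natDegree := by
  let ψ := orbitMap y v
  let ψd : ↥(degreeLT F g.natDegree) →ₗ[F] V := ψ.comp (degreeLT F g.natDegree).subtype
  have hrange : LinearMap.range ψ ≤ LinearMap.range ψd := by
    rintro _ ⟨A, rfl⟩
    by_cases hg1 : g = 1
    · refine ⟨0, ?_⟩
      have : aeval y A v = 0 := by
        have h1 : A = A * g := by rw [hg1, mul_one]
        rw [h1, map_mul, Module.End.mul_apply, hgv, map_zero]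
      show ψ 0 = ψ A
      rw [map_zero]
      exact this.symm
    have hmod : (A %ₘ g) ∈ degreeLT F g.natDegree := by
      rw [Polynomial.mem_degreeLT]
      have h1 := Polynomial.degree_modByMonic_lt A hg
      rwa [Polynomial.degree_eq_natDegree hg.ne_zero] at h1
    refine ⟨⟨A %ₘ g, hmod⟩, ?_⟩
    show aeval y (A %ₘ g) v = aeval y A v
    conv_rhs => rw [← Polynomial.modByMonic_add_div A g]
    rw [map_add, LinearMap.add_apply, mul_comm, map_mul, Module.End.mul_apply, hgv, map_zero, add_zero]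
  calc finrank F (LinearMap.range (orbitMap y v)) ≤ finrank F (LinearMap.range ψd) :=
        Submodule.finrank_mono hrange
    _ ≤ finrank F ↥(degreeLT F g.natDegree) := LinearMap.finrank_range_le ψd
    _ = g.natDegree := by
        rw [LinearEquiv.finrank_eq (Polynomial.degreeLTEquiv F g.natDegree)]
        simp

end poly

section frob

variable {F : Type v} [Field F] [Fintype F] {V : Type u} [AddCommGroup V] [Module F V]

/-- Frobenius: evaluating at a `q^s`-th power -/
theorem aeval_pow_card (y : Module.End F V) (g : F[X]) (s : ℕ) :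
    aeval (y ^ (Fintype.card F ^ s)) g = (aeval y g) ^ (Fintype.card F ^ s) := by
  induction s with
  | zero => simp
  | succ s ih =>
    rw [pow_succ, pow_mul, ← Polynomial.expand_aeval, FiniteField.expand_card, map_pow, ih,
      ← pow_mul]

end frob

section minimal

variable {F : Type v} [Field F] [Fintype F] {V : Type u} [AddCommGroup V] [Module F V]
  [FiniteDimensional F V] {p : ℕ} [Fact p.Prime] [CharP F p] {r : ℕ} [Fact r.Prime]
  {ω : LinearMap.BilinForm F V} {y : Module.End F V}

/-- invariant subspaces without fixed vectors have dimension divisible by the order -/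
theorem ord_dvd_finrank (hrp : r ≠ p) (hy : y ^ r = 1) {Z : Submodule F V} (hZ : Inv y Z)
    (hfpf : Z ⊓ LinearMap.ker (y - 1) = ⊥) :
    orderOf ((Fintype.card F : ℕ) : ZMod r) ∣ finrank F Z := by
  obtain ⟨s, hs⟩ := finrank_inv_eq (p := p) hrp y hy hZ
  rw [hfpf, finrank_bot, zero_add] at hs
  exact ⟨s, by rw [hs, mul_comm]⟩

theorem ord_le_finrank (hrp : r ≠ p) (hy : y ^ r = 1) {Z : Submodule F V} (hZ : Inv y Z)
    (hfpf : Z ⊓ LinearMap.ker (y - 1) = ⊥) (hne : Z ≠ ⊥) :
    orderOf ((Fintype.card F : ℕ) : ZMod r) ≤ finrank F Z := by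
  apply Nat.le_of_dvd _ (ord_dvd_finrank (p := p) hrp hy hZ hfpf)
  rw [Nat.pos_iff_ne_zero]
  intro h0
  exact hne (Submodule.finrank_eq_zero.1 h0)

theorem fpf_mono {Z W : Submodule F V} (hZW : Z ≤ W) (hfpf : W ⊓ LinearMap.ker (y - 1) = ⊥) :
    Z ⊓ LinearMap.ker (y - 1) = ⊥ := by
  rw [eq_bot_iff, ← hfpf]
  exact inf_le_inf_right _ hZW

/-- a minimal invariant subspace -/
theorem exists_min_inv (hrp : r ≠ p) (hy : y ^ r = 1) {W : Submodule F V} (hW : Inv y W)
    (hfpf : W ⊓ LinearMap.ker (y - 1) = ⊥) (hne : W ≠ ⊥) :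
    ∃ U : Submodule F V, U ≤ W ∧ Inv y U ∧ U ≠ ⊥ ∧
      finrank F U = orderOf ((Fintype.card F : ℕ) : ZMod r) ∧
      ∀ Z : Submodule F V, Z ≤ U → Inv y Z → Z ≠ ⊥ → Z = U := by
  have hpos : 0 < orderOf ((Fintype.card F : ℕ) : ZMod r) := orderOf_pos_of_ne (p := p) hrp
  have hle := ord_le_finrank (p := p) hrp hy hW hfpf hne
  obtain ⟨U, hUW, hUd, hU⟩ := exists_inv_le_of_pow_eq_one (p := p) hrp y hy hW
    (orderOf ((Fintype.card F : ℕ) : ZMod r)) hle (by rw [Nat.mod_self]; exact Nat.zero_le _)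
  refine ⟨U, hUW, hU, ?_, hUd, ?_⟩
  · intro h0
    rw [h0, finrank_bot] at hUd
    omega
  · intro Z hZU hZ hZne
    apply Submodule.eq_of_le_of_finrank_le hZU
    rw [hUd]
    exact ord_le_finrank (p := p) hrp hy hZ (fpf_mono (hZU.trans hUW) hfpf) hZne

/-- a nondegenerate invariant complement of the radical -/
theorem exists_nondeg_of_inv (halt : ω.IsAlt) (hiso : ∀ a b, ω (y a) (y b) = ω a b) (hrp : r ≠ p)
    (hy : y ^ r = 1) {Z : Submodule F V} (hZ : Inv y Z) :
    ∃ Z₁ : Submodule F V, Z₁ ≤ Z ∧ Inv y Z₁ ∧ NonDeg ω Z₁ ∧ (Z₁ = ⊥ → Z ≤ ω.orthogonal Z) := by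
  have hr : r.Prime := Fact.out
  have hss := isSemisimple_of_pow_eq_one (p := p) hrp y hy
  have hR : Inv y (Z ⊓ ω.orthogonal Z) := hZ.inf (inv_orth hiso hr.pos hy hZ)
  obtain ⟨Z₁, hZ₁, hZ₁Z, hdisj, hsup, _⟩ := exists_inv_compl_in hss hR hZ inf_le_left
  refine ⟨Z₁, hZ₁Z, hZ₁, ?_, ?_⟩
  · intro a ha ha0
    have hmem : a ∈ Z ⊓ ω.orthogonal Z := by
      refine ⟨hZ₁Z ha, ?_⟩
      refine mem_orth.2 (fun n hn => ?_)
      rw [← hsup] at hn
      obtain ⟨ρ, hρ, z, hz, rfl⟩ := Submodule.mem_sup.1 hn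
      rw [map_add, LinearMap.add_apply, orth_left halt hρ.2 (hZ₁Z ha), zero_add,
        alt_swap halt, ha0 z hz, neg_zero]
    have := (Submodule.disjoint_def.1 hdisj) a hmem ha
    exact this
  · intro h0
    rw [h0, sup_bot_eq] at hsup
    intro a ha
    have h1 : a ∈ Z ⊓ ω.orthogonal Z := by rw [hsup]; exact ha
    exact h1.2

/-- in a minimal nondegenerate invariant subspace, invariant subspaces are totally isotropic
or everything -/
theorem isotropic_or_eq (halt : ω.IsAlt) (hiso : ∀ a b, ω (y a) (y b) = ω a b) (hrp : r ≠ p)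
    (hy : y ^ r = 1) {W : Submodule F V}
    (hmin : ∀ W' : Submodule F V, W' ≤ W → Inv y W' → NonDeg ω W' → W' ≠ ⊥ → W' = W)
    {Z : Submodule F V} (hZW : Z ≤ W) (hZ : Inv y Z) : Z ≤ ω.orthogonal Z ∨ Z = W := by
  obtain ⟨Z₁, hZ₁Z, hZ₁, hnd, hbot⟩ := exists_nondeg_of_inv (p := p) halt hiso hrp hy hZ
  by_cases h0 : Z₁ = ⊥
  · left; exact hbot h0
  · right
    have := hmin Z₁ (hZ₁Z.trans hZW) hZ₁ hnd h0
    rw [this] at hZ₁Z
    exact le_antisymm hZW hZ₁Z

/-- the dimension of a minimal block, odd order -/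
theorem finrank_min_odd (halt : ω.IsAlt) (hiso : ∀ a b, ω (y a) (y b) = ω a b) (hrp : r ≠ p)
    (hy : y ^ r = 1) {W : Submodule F V} (hW : Inv y W) (hWnd : NonDeg ω W) (hne : W ≠ ⊥)
    (hfpf : W ⊓ LinearMap.ker (y - 1) = ⊥)
    (hmin : ∀ W' : Submodule F V, W' ≤ W → Inv y W' → NonDeg ω W' → W' ≠ ⊥ → W' = W)
    (hodd : ¬ Even (orderOf ((Fintype.card F : ℕ) : ZMod r))) :
    finrank F W = 2 * orderOf ((Fintype.card F : ℕ) : ZMod r) := by
  have hr : r.Prime := Fact.out
  have hss := isSemisimple_of_pow_eq_one (p := p) hrp y hy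
  obtain ⟨U, hUW, hU, hUne, hUd, hUmin⟩ := exists_min_inv (p := p) hrp hy hW hfpf hne
  -- U is totally isotropic
  have hUiso : U ≤ ω.orthogonal U := by
    rcases isotropic_or_eq (p := p) halt hiso hrp hy hmin hUW hU with h | h
    · exact h
    · exfalso
      apply hodd
      rw [← hUd, h]
      exact nonDeg_even halt hWnd
  have hT : Inv y (W ⊓ ω.orthogonal U) := hW.inf (inv_orth hiso hr.pos hy hU)
  have hTne : W ⊓ ω.orthogonal U ≠ W := by
    intro h
    apply hUne
    rw [eq_bot_iff]
    intro a ha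
    rw [Submodule.mem_bot]
    apply hWnd a (hUW ha)
    intro w hw
    have hw' : w ∈ ω.orthogonal U := by
      rw [← h] at hw
      exact hw.2
    exact mem_orth.1 hw' a ha
  obtain ⟨U'', hU'', hU''W, hdisj, hsup, _⟩ := exists_inv_compl_in hss hT hW inf_le_left
  have hU''ne : U'' ≠ ⊥ := by
    intro h
    rw [h, sup_bot_eq] at hsup
    exact hTne hsup
  obtain ⟨U₃, hU₃U, hU₃, hU₃ne, hU₃d, _⟩ := exists_min_inv (p := p) hrp hy hU''
    (fpf_mono hU''W hfpf) hU''ne
  have hdisj3 : Disjoint U U₃ :=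
    hdisj.mono (le_inf hUW hUiso) hU₃U
  have hPnd : NonDeg ω (U ⊔ U₃) := by
    intro z hz hz0
    obtain ⟨a, ha, b, hb, rfl⟩ := Submodule.mem_sup.1 hz
    have hb0 : b = 0 := by
      have hbT : b ∈ W ⊓ ω.orthogonal U := by
        refine ⟨hU''W (hU₃U hb), ?_⟩
        refine mem_orth.2 (fun n hn => ?_)
        have h1 := hz0 n (Submodule.mem_sup_left hn)
        rw [map_add, LinearMap.add_apply, mem_orth.1 (hUiso hn) a ha, zero_add] at h1
        rw [alt_swap halt, h1, neg_zero]
      exact (Submodule.disjoint_def.1 hdisj) b hbT (hU₃U hb)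
    rw [hb0, add_zero]
    have haZ : a ∈ U ⊓ ω.orthogonal U₃ := by
      refine ⟨ha, ?_⟩
      refine mem_orth.2 (fun n hn => ?_)
      have h1 := hz0 n (Submodule.mem_sup_right hn)
      rw [hb0, add_zero] at h1
      rw [alt_swap halt, h1, neg_zero]
    by_contra ha0
    have hZne : U ⊓ ω.orthogonal U₃ ≠ ⊥ := by
      intro h
      rw [h] at haZ
      exact ha0 ((Submodule.mem_bot F).1 haZ)
    have hZeq := hUmin _ inf_le_left (hU.inf (inv_orth hiso hr.pos hy hU₃)) hZne
    -- then U₃ is orthogonal to U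
    apply hU₃ne
    rw [eq_bot_iff]
    intro c hc
    have hcT : c ∈ W ⊓ ω.orthogonal U := by
      refine ⟨hU''W (hU₃U hc), ?_⟩
      refine mem_orth.2 (fun n hn => ?_)
      have hn' : n ∈ ω.orthogonal U₃ := by
        rw [← hZeq] at hn
        exact hn.2
      exact orth_left halt hn' hc
    exact (Submodule.disjoint_def.1 hdisj) c hcT (hU₃U hc)
  have hPne : U ⊔ U₃ ≠ ⊥ := by
    intro h
    apply hUne
    rw [eq_bot_iff, ← h]
    exact le_sup_left
  have hPW := hmin (U ⊔ U₃) (sup_le hUW (hU₃U.trans hU''W)) (hU.sup hU₃) hPnd hPne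
  rw [← hPW, finrank_sup_of_disjoint' U U₃ hdisj3, hUd, hU₃d]
  ring

/-- `q^(i/2) ≡ -1` when the order `i` of `q` is even -/
theorem dvd_pow_half_add_one (hr2 : r ≠ 2) (hrp : r ≠ p)
    (heven : Even (orderOf ((Fintype.card F : ℕ) : ZMod r))) :
    r ∣ Fintype.card F ^ (orderOf ((Fintype.card F : ℕ) : ZMod r) / 2) + 1 := by
  have hr : r.Prime := Fact.out
  have hpos : 0 < orderOf ((Fintype.card F : ℕ) : ZMod r) := orderOf_pos_of_ne (p := p) hrp
  obtain ⟨j, hj⟩ := heven
  set Q : ZMod r := ((Fintype.card F : ℕ) : ZMod r) with hQ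
  have hj2 : orderOf Q / 2 = j := by omega
  rw [hj2]
  have h1 : (Q ^ j) * (Q ^ j) = 1 := by
    rw [← pow_add, ← hj]
    exact pow_orderOf_eq_one Q
  have h3 : Q ^ j ≠ 1 := by
    apply pow_ne_one_of_lt_orderOf
    · omega
    · omega
  have h4 : Q ^ j = -1 := by
    rcases mul_self_eq_one_iff.1 h1 with h | h
    · exact absurd h h3
    · exact h
  rw [← ZMod.natCast_eq_zero_iff]
  push_cast
  rw [← hQ, h4]
  ring

/-- the dimension of a minimal block, even order -/
theorem finrank_min_even (halt : ω.IsAlt) (hiso : ∀ a b, ω (y a) (y b) = ω a b) (hr2 : r ≠ 2)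
    (hrp : r ≠ p) (hy : y ^ r = 1) {W : Submodule F V} (hW : Inv y W) (hWnd : NonDeg ω W)
    (hne : W ≠ ⊥) (hfpf : W ⊓ LinearMap.ker (y - 1) = ⊥)
    (hmin : ∀ W' : Submodule F V, W' ≤ W → Inv y W' → NonDeg ω W' → W' ≠ ⊥ → W' = W)
    (heven : Even (orderOf ((Fintype.card F : ℕ) : ZMod r))) :
    finrank F W = orderOf ((Fintype.card F : ℕ) : ZMod r) := by
  have hr : r.Prime := Fact.out
  have hss := isSemisimple_of_pow_eq_one (p := p) hrp y hy
  obtain ⟨U, hUW, hU, hUne, hUd, hUmin⟩ := exists_min_inv (p := p) hrp hy hW hfpf hne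
  have hU' : ∀ x ∈ U, y x ∈ U := hU
  set g : F[X] := (y.restrict hU').charpoly with hg
  have hgm : g.Monic := LinearMap.charpoly_monic _
  have hgd : g.natDegree = orderOf ((Fintype.card F : ℕ) : ZMod r) := by
    rw [hg, LinearMap.charpoly_natDegree, hUd]
  have hTU : ∀ a ∈ U, aeval y g a = 0 := by
    intro a ha
    have h1 := aeval_restrict_apply y hU' g ⟨a, ha⟩
    rw [hg, LinearMap.aeval_self_charpoly] at h1
    exact h1.symm
  -- the inverse of y
  set y' : Module.End F V := y ^ (r - 1) with hy'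
  have hadj : ∀ a b, ω (y a) b = ω a (y' b) := fun a b => iso_adj hiso hr.pos hy a b
  have hadj' : ∀ a b, ω (y' a) b = ω a (y b) := by
    intro a b
    rw [← hiso (y' a) b, hy', pow_pred_apply hr.pos hy]
  -- Frobenius
  set Q := Fintype.card F ^ (orderOf ((Fintype.card F : ℕ) : ZMod r) / 2) with hQ
  have hQ1 : 1 ≤ Q := Nat.one_le_pow _ _ Fintype.card_pos
  have hyQ : y ^ Q = y' := by
    obtain ⟨k, hk⟩ := dvd_pow_half_add_one (p := p) (F := F) hr2 hrp heven
    have h1 : y ^ (Q + 1) = 1 := by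
      rw [hQ, hk, pow_mul, hy, one_pow]
    have h3 : y' * y = 1 := by
      rw [hy', ← pow_succ, Nat.sub_add_cancel hr.pos, hy]
    calc y ^ Q = y ^ Q * (y * y') := by
          rw [hy', ← pow_succ', Nat.sub_add_cancel hr.pos, hy, mul_one]
      _ = y ^ (Q + 1) * y' := by rw [pow_succ, mul_assoc]
      _ = y' := by rw [h1, one_mul]
  have hT' : aeval y' g = (aeval y g) ^ Q := by
    rw [← hyQ, hQ, aeval_pow_card]
  have hkill' : ∀ a : V, aeval y g a = 0 → aeval y' g a = 0 := by
    intro a ha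
    rw [hT']
    obtain ⟨Q', hQ'⟩ : ∃ Q', Q = Q' + 1 := ⟨Q - 1, by omega⟩
    rw [hQ', pow_succ, Module.End.mul_apply, ha, map_zero]
  -- the kernel of T in W is everything
  have hW' : Inv y (W ⊓ LinearMap.ker (aeval y g)) := hW.inf (inv_ker_aeval y g)
  obtain ⟨C, hC, hCW, hdisj, hsup, _⟩ := exists_inv_compl_in hss hW' hW inf_le_left
  have hTC : ∀ c ∈ C, aeval y g c ∈ C := hC.aeval g
  have hinj : Function.Injective ((aeval y g).restrict hTC) := by
    rw [← LinearMap.ker_eq_bot, LinearMap.ker_eq_bot']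
    intro c hc
    have h1 : aeval y g (c : V) = 0 := by
      have := congrArg Subtype.val hc
      simpa [LinearMap.restrict_apply] using this
    have h3 : (c : V) ∈ W ⊓ LinearMap.ker (aeval y g) := ⟨hCW c.2, LinearMap.mem_ker.2 h1⟩
    apply Subtype.ext
    exact (Submodule.disjoint_def.1 hdisj) c h3 c.2
  have hsurj : Function.Surjective ((aeval y g).restrict hTC) :=
    LinearMap.injective_iff_surjective.1 hinj
  have hW'nd : NonDeg ω (W ⊓ LinearMap.ker (aeval y g)) := by
    intro a ha ha0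
    apply hWnd a ha.1
    intro w hw
    rw [← hsup] at hw
    obtain ⟨w', hw', c, hc, rfl⟩ := Submodule.mem_sup.1 hw
    rw [map_add, ha0 w' hw', zero_add]
    obtain ⟨c', hc'⟩ := hsurj ⟨c, hc⟩
    have hc'' : aeval y g (c' : V) = c := by
      have := congrArg Subtype.val hc'
      simpa [LinearMap.restrict_apply] using this
    rw [← hc'', alt_swap halt, aeval_adj hadj g, hkill' a (LinearMap.mem_ker.1 ha.2), map_zero,
      neg_zero]
  have hW'ne : W ⊓ LinearMap.ker (aeval y g) ≠ ⊥ := by
    intro h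
    apply hUne
    rw [eq_bot_iff, ← h]
    intro a ha
    exact ⟨hUW ha, LinearMap.mem_ker.2 (hTU a ha)⟩
  have hW'eq := hmin _ inf_le_left hW' hW'nd hW'ne
  have hTW : ∀ a ∈ W, aeval y g a = 0 := by
    intro a ha
    rw [← hW'eq] at ha
    exact LinearMap.mem_ker.1 ha.2
  -- polarization
  have hpol : ∃ a ∈ W, ω a (y a) ≠ 0 := by
    by_contra hcon
    push Not at hcon
    apply hne
    rw [eq_bot_iff]
    intro b hb
    have hyy : y b = y' b := by
      have hmem : y b - y' b ∈ W := W.sub_mem (hW b hb) (hW.pow (r - 1) b hb)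
      have h0 : y b - y' b = 0 := by
        apply hWnd _ hmem
        intro a ha
        have h1 := hcon (a + b) (W.add_mem ha hb)
        simp only [map_add, LinearMap.add_apply] at h1
        rw [hcon a ha, hcon b hb, zero_add, add_zero] at h1
        have h3 : ω b (y a) = - ω a (y' b) := by
          rw [alt_swap halt, hadj]
        rw [h3] at h1
        rw [alt_swap halt, map_sub]
        linear_combination (-1 : F) * h1
      exact sub_eq_zero.1 h0
    have hy2 : y (y b) = b := by
      rw [hyy]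
      exact pow_pred_apply hr.pos hy b
    have hodd : Odd r := hr.odd_of_ne_two hr2
    obtain ⟨k, hk⟩ := hodd
    have hpow2 : ∀ n : ℕ, (y ^ (2 * n)) b = b := by
      intro n
      induction n with
      | zero => simp
      | succ n ih =>
        have : 2 * (n + 1) = 2 * n + 1 + 1 := by ring
        rw [this, pow_succ, pow_succ, Module.End.mul_apply, Module.End.mul_apply, hy2, ih]
    have hyb : y b = b := by
      have h1 : (y ^ r) b = b := by rw [hy]; rfl
      rw [hk, pow_succ', Module.End.mul_apply, hpow2 k] at h1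
      exact h1
    have hmem : b ∈ W ⊓ LinearMap.ker (y - 1) := by
      refine ⟨hb, ?_⟩
      show b ∈ LinearMap.ker (y - 1)
      rw [LinearMap.mem_ker, LinearMap.sub_apply, hyb, Module.End.one_apply, sub_self]
    rw [hfpf] at hmem
    exact hmem
  obtain ⟨a, ha, hane⟩ := hpol
  -- the cyclic subspace of a
  have hZW : LinearMap.range (orbitMap y a) ≤ W := range_orbit_le y hW ha
  have hZ : Inv y (LinearMap.range (orbitMap y a)) := inv_range_orbit y a
  have hZd : finrank F (LinearMap.range (orbitMap y a)) ≤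
      orderOf ((Fintype.card F : ℕ) : ZMod r) := by
    rw [← hgd]
    exact finrank_range_orbitMap_le y a g hgm (hTW a ha)
  have ha1 : a ∈ LinearMap.range (orbitMap y a) := ⟨1, by simp⟩
  have ha2 : y a ∈ LinearMap.range (orbitMap y a) := ⟨X, by simp⟩
  rcases isotropic_or_eq (p := p) halt hiso hrp hy hmin hZW hZ with h | h
  · exfalso
    exact hane (mem_orth.1 (h ha2) a ha1)
  · apply le_antisymm
    · rw [← h]
      exact hZd
    · exact ord_le_finrank (p := p) hrp hy hW hfpf hne

/-- the size of the blocks of an isometry of odd prime order -/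
noncomputable def blk (F : Type v) [Fintype F] (r : ℕ) : ℕ :=
  if Even (orderOf ((Fintype.card F : ℕ) : ZMod r)) then orderOf ((Fintype.card F : ℕ) : ZMod r)
  else 2 * orderOf ((Fintype.card F : ℕ) : ZMod r)

/-- the dimension of a minimal block -/
theorem finrank_min (halt : ω.IsAlt) (hiso : ∀ a b, ω (y a) (y b) = ω a b) (hr2 : r ≠ 2)
    (hrp : r ≠ p) (hy : y ^ r = 1) {W : Submodule F V} (hW : Inv y W) (hWnd : NonDeg ω W)
    (hne : W ≠ ⊥) (hfpf : W ⊓ LinearMap.ker (y - 1) = ⊥)
    (hmin : ∀ W' : Submodule F V, W' ≤ W → Inv y W' → NonDeg ω W' → W' ≠ ⊥ → W' = W) :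
    finrank F W = blk F r := by
  unfold blk
  by_cases heven : Even (orderOf ((Fintype.card F : ℕ) : ZMod r))
  · rw [if_pos heven]
    exact finrank_min_even (p := p) halt hiso hr2 hrp hy hW hWnd hne hfpf hmin heven
  · rw [if_neg heven]
    exact finrank_min_odd (p := p) halt hiso hrp hy hW hWnd hne hfpf hmin heven

end minimal

end Cfsg.Agent.Lib.Helper8.SpBlk
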