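import Mathlib
import Cfsg.Agent.Lib.Helper8.SpBlkMin

/-!
# Isometries of odd prime order of an alternating space: block decompositions

Every nondegenerate invariant subspace is the orthogonal sum of its fixed space and of minimal
blocks; nondegenerate invariant subspaces of prescribed dimension; orthogonal decompositions into
invariant nondegenerate subspaces.
-/

set_option autoImplicit false

namespace Cfsg.Agent.Lib.Helper8.SpBlk

open Module Polynomial Cfsg.Agent.Lib.Helper2.BG Cfsg.Agent.Lib.Helper6.EqD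

universe u v

section hyp

variable {F : Type v} [Field F] {V : Type u} [AddCommGroup V] [Module F V] [FiniteDimensional F V]
  {ω : LinearMap.BilinForm F V}

/-- a hyperbolic plane -/
theorem nonDeg_pair (halt : ω.IsAlt) {a b : V} (hab : ω a b ≠ 0) :
    NonDeg ω (Submodule.span F {a, b}) ∧ finrank F (Submodule.span F ({a, b} : Set V)) = 2 := by
  have hnd : NonDeg ω (Submodule.span F {a, b}) := by
    intro x hx hx0
    obtain ⟨α, β, rfl⟩ := Submodule.mem_span_pair.1 hx
    have h1 := hx0 a (Submodule.subset_span (by simp))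
    have h2 := hx0 b (Submodule.subset_span (by simp))
    simp only [map_add, map_smul, LinearMap.add_apply, LinearMap.smul_apply, smul_eq_mul] at h1 h2
    rw [halt a, mul_zero, zero_add] at h1
    rw [halt b, mul_zero, add_zero] at h2
    have hba : ω b a = - ω a b := alt_swap halt b a
    rw [hba] at h1
    have hβ : β = 0 := by
      rcases mul_eq_zero.1 h1 with h | h
      · exact h
      · exact absurd (neg_eq_zero.1 h) hab
    have hα : α = 0 := (mul_eq_zero.1 h2).resolve_right hab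
    rw [hα, hβ, zero_smul, zero_smul, add_zero]
  refine ⟨hnd, ?_⟩
  have heven := nonDeg_even halt hnd
  have hle : finrank F (Submodule.span F ({a, b} : Set V)) ≤ 2 := by
    classical
    have h1 := finrank_span_finset_le_card (R := F) ({a, b} : Finset V)
    rw [Finset.coe_insert, Finset.coe_singleton] at h1
    exact h1.trans Finset.card_le_two
  have hne : finrank F (Submodule.span F ({a, b} : Set V)) ≠ 0 := by
    intro h0
    rw [Submodule.finrank_eq_zero] at h0
    have h1 : a ∈ (⊥ : Submodule F V) := by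
      rw [← h0]
      exact Submodule.subset_span (by simp)
    rw [Submodule.mem_bot] at h1
    rw [h1, map_zero, LinearMap.zero_apply] at hab
    exact hab rfl
  obtain ⟨k, hk⟩ := heven
  omega

/-- nondegenerate subspaces of every even dimension -/
theorem exists_nonDeg_le (halt : ω.IsAlt) : ∀ (k : ℕ) (M : Submodule F V), NonDeg ω M →
    2 * k ≤ finrank F M →
    ∃ Z : Submodule F V, Z ≤ M ∧ NonDeg ω Z ∧ finrank F Z = 2 * k := by
  intro k
  induction k with
  | zero =>
    intro M _ _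
    exact ⟨⊥, bot_le, nonDeg_bot ω, by simp⟩
  | succ k ih =>
    intro M hM hk
    have hMne : M ≠ ⊥ := by
      intro h
      rw [h, finrank_bot] at hk
      omega
    obtain ⟨a, ha, ha0⟩ := Submodule.exists_mem_ne_zero_of_ne_bot hMne
    have hex : ∃ b ∈ M, ω a b ≠ 0 := by
      by_contra hcon
      push Not at hcon
      exact ha0 (hM a ha hcon)
    obtain ⟨b, hb, hab⟩ := hex
    obtain ⟨hH, hHd⟩ := nonDeg_pair halt hab
    have hHM : Submodule.span F ({a, b} : Set V) ≤ M := by
      rw [Submodule.span_le]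
      intro x hx
      rcases hx with rfl | hx
      · exact ha
      · rw [Set.mem_singleton_iff] at hx
        rw [hx]
        exact hb
    obtain ⟨hM'nd, hdisj, hsup, hfr⟩ := orth_in halt hH hM hHM
    obtain ⟨Z', hZ'M, hZ'nd, hZ'd⟩ := ih _ hM'nd (by omega)
    have h1 := nonDeg_sup halt hH hZ'nd (hZ'M.trans inf_le_right)
    refine ⟨Submodule.span F ({a, b} : Set V) ⊔ Z', sup_le hHM (hZ'M.trans inf_le_left), h1.1, ?_⟩
    rw [finrank_sup_of_disjoint' _ _ h1.2, hHd, hZ'd]
    ring

end hyp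

section arith

/-- the arithmetic of the choice of the number of blocks -/
theorem exists_blocks_arith {c m n f s : ℕ} (hn : n = f + s * c) (hm : m ≤ n)
    (hmod : m % c ≤ n % c) : ∃ j, j ≤ s ∧ j * c ≤ m ∧ m - j * c ≤ f := by
  by_cases hs : s ≤ m / c
  · refine ⟨s, le_rfl, ?_, ?_⟩
    · calc s * c ≤ m / c * c := Nat.mul_le_mul_right c hs
        _ ≤ m := Nat.div_mul_le_self m c
    · omega
  · refine ⟨m / c, by omega, Nat.div_mul_le_self m c, ?_⟩
    have h1 : m - m / c * c = m % c := by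
      have := Nat.div_add_mod m c
      rw [mul_comm] at this
      omega
    have h2 : n % c = f % c := by rw [hn, Nat.add_mul_mod_self_right]
    rw [h1]
    calc m % c ≤ n % c := hmod
      _ = f % c := h2
      _ ≤ f := Nat.mod_le f c

end arith

section blocks

variable {F : Type v} [Field F] [Fintype F] {V : Type u} [AddCommGroup V] [Module F V]
  [FiniteDimensional F V] {p : ℕ} [Fact p.Prime] [CharP F p] {r : ℕ} [Fact r.Prime]
  {ω : LinearMap.BilinForm F V} {y : Module.End F V}

theorem blk_pos (hrp : r ≠ p) : 0 < blk F r := by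
  unfold blk
  have := orderOf_pos_of_ne (F := F) (p := p) hrp
  split_ifs <;> omega

theorem blk_even : Even (blk F r) := by
  unfold blk
  split_ifs with h
  · exact h
  · exact even_two_mul _

theorem inv_fix (y : Module.End F V) : Inv y (LinearMap.ker (y - 1)) := by
  intro v hv
  have h1 : y v = v := by
    have := LinearMap.mem_ker.1 hv
    rwa [LinearMap.sub_apply, Module.End.one_apply, sub_eq_zero] at this
  rw [h1]
  exact hv

theorem fix_apply {v : V} (hv : v ∈ LinearMap.ker (y - 1)) : y v = v := by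
  have := LinearMap.mem_ker.1 hv
  rwa [LinearMap.sub_apply, Module.End.one_apply, sub_eq_zero] at this

/-- a minimal nonzero nondegenerate invariant subspace -/
theorem exists_min_nondeg : ∀ (n : ℕ) (N : Submodule F V), finrank F N = n → Inv y N →
    NonDeg ω N → N ≠ ⊥ →
    ∃ W : Submodule F V, W ≤ N ∧ Inv y W ∧ NonDeg ω W ∧ W ≠ ⊥ ∧
      ∀ W' : Submodule F V, W' ≤ W → Inv y W' → NonDeg ω W' → W' ≠ ⊥ → W' = W := by
  intro n
  induction n using Nat.strong_induction_on with
  | _ n ih =>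
    intro N hn hN hNnd hNne
    by_cases hmin : ∀ W' : Submodule F V, W' ≤ N → Inv y W' → NonDeg ω W' → W' ≠ ⊥ → W' = N
    · exact ⟨N, le_rfl, hN, hNnd, hNne, hmin⟩
    · push Not at hmin
      obtain ⟨W', hW'N, hW', hW'nd, hW'ne, hne⟩ := hmin
      have hlt : finrank F W' < n := by
        rw [← hn]
        exact Submodule.finrank_lt_finrank_of_lt (lt_of_le_of_ne hW'N hne)
      obtain ⟨W, hWW', h2, h3, h4, h5⟩ := ih _ hlt W' rfl hW' hW'nd hW'ne
      exact ⟨W, hWW'.trans hW'N, h2, h3, h4, h5⟩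

/-- a nondegenerate invariant subspace without fixed vectors is an orthogonal sum of blocks -/
theorem exists_blocks (halt : ω.IsAlt) (hiso : ∀ a b, ω (y a) (y b) = ω a b) (hr2 : r ≠ 2)
    (hrp : r ≠ p) (hy : y ^ r = 1) : ∀ (n : ℕ) (N : Submodule F V), finrank F N = n → Inv y N →
    NonDeg ω N → N ⊓ LinearMap.ker (y - 1) = ⊥ →
    ∃ s : ℕ, n = s * blk F r ∧ ∀ j ≤ s, ∃ W : Submodule F V, W ≤ N ∧ Inv y W ∧ NonDeg ω W ∧
      finrank F W = j * blk F r := by
  have hr : r.Prime := Fact.out
  have hbpos := blk_pos (F := F) (p := p) hrp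
  intro n
  induction n using Nat.strong_induction_on with
  | _ n ih =>
    intro N hn hN hNnd hfpf
    by_cases hNne : N = ⊥
    · refine ⟨0, ?_, ?_⟩
      · rw [← hn, hNne, finrank_bot, zero_mul]
      · intro j hj
        have hj0 : j = 0 := by omega
        subst hj0
        exact ⟨⊥, bot_le, inv_bot y, nonDeg_bot ω, by simp⟩
    · obtain ⟨W₀, hW₀N, hW₀, hW₀nd, hW₀ne, hW₀min⟩ := exists_min_nondeg n N hn hN hNnd hNne
      have hW₀d := finrank_min (p := p) halt hiso hr2 hrp hy hW₀ hW₀nd hW₀ne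
        (fpf_mono hW₀N hfpf) hW₀min
      obtain ⟨hN'nd, hdisj, hsup, hfr⟩ := orth_in halt hW₀nd hNnd hW₀N
      have hN' : Inv y (N ⊓ ω.orthogonal W₀) := hN.inf (inv_orth hiso hr.pos hy hW₀)
      have hlt : finrank F ↥(N ⊓ ω.orthogonal W₀) < n := by omega
      obtain ⟨s', hs', hW'⟩ := ih _ hlt _ rfl hN' hN'nd (fpf_mono inf_le_left hfpf)
      refine ⟨s' + 1, ?_, ?_⟩
      · rw [← hn, hfr, hW₀d, hs']
        ring
      · intro j hj
        rcases Nat.eq_zero_or_pos j with h0 | hpos
        · subst h0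
          exact ⟨⊥, bot_le, inv_bot y, nonDeg_bot ω, by simp⟩
        · obtain ⟨j', rfl⟩ : ∃ j', j = j' + 1 := ⟨j - 1, by omega⟩
          obtain ⟨W', hW'N', hW'i, hW'nd, hW'd⟩ := hW' j' (by omega)
          have h1 := nonDeg_sup halt hW₀nd hW'nd (hW'N'.trans inf_le_right)
          refine ⟨W₀ ⊔ W', sup_le hW₀N (hW'N'.trans inf_le_left), hW₀.sup hW'i, h1.1, ?_⟩
          rw [finrank_sup_of_disjoint' _ _ h1.2, hW₀d, hW'd]
          ring

/-- splitting off the fixed space -/
theorem fix_split (halt : ω.IsAlt) (hiso : ∀ a b, ω (y a) (y b) = ω a b) (hrp : r ≠ p)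
    (hy : y ^ r = 1) {N : Submodule F V} (hN : Inv y N) (hNnd : NonDeg ω N) :
    NonDeg ω (N ⊓ LinearMap.ker (y - 1)) ∧
      Inv y (N ⊓ ω.orthogonal (N ⊓ LinearMap.ker (y - 1))) ∧
      NonDeg ω (N ⊓ ω.orthogonal (N ⊓ LinearMap.ker (y - 1))) ∧
      (N ⊓ ω.orthogonal (N ⊓ LinearMap.ker (y - 1))) ⊓ LinearMap.ker (y - 1) = ⊥ ∧
      finrank F N = finrank F ↥(N ⊓ LinearMap.ker (y - 1)) +
        finrank F ↥(N ⊓ ω.orthogonal (N ⊓ LinearMap.ker (y - 1))) := by
  have hr : r.Prime := Fact.out
  have hrF : (r : F) ≠ 0 := natCast_ne_zero_of_ne (p := p) hrp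
  have hC : NonDeg ω (N ⊓ LinearMap.ker (y - 1)) := nonDeg_fix hiso hrF hy hNnd hN
  have hCi : Inv y (N ⊓ LinearMap.ker (y - 1)) := hN.inf (inv_fix y)
  obtain ⟨h1, hdisj, hsup, hfr⟩ := orth_in halt hC hNnd inf_le_left
  refine ⟨hC, hN.inf (inv_orth hiso hr.pos hy hCi), h1, ?_, hfr⟩
  rw [eq_bot_iff]
  intro v hv
  have hv1 : v ∈ N ⊓ LinearMap.ker (y - 1) := ⟨hv.1.1, hv.2⟩
  have := (Submodule.disjoint_def.1 hdisj) v hv1 hv.1
  rw [this]
  exact Submodule.zero_mem _

/-- the dimension of a nondegenerate invariant subspace -/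
theorem finrank_nondeg_inv (halt : ω.IsAlt) (hiso : ∀ a b, ω (y a) (y b) = ω a b) (hr2 : r ≠ 2)
    (hrp : r ≠ p) (hy : y ^ r = 1) {N : Submodule F V} (hN : Inv y N) (hNnd : NonDeg ω N) :
    ∃ s : ℕ, finrank F N = finrank F ↥(N ⊓ LinearMap.ker (y - 1)) + s * blk F r := by
  obtain ⟨_, h2, h3, h4, h5⟩ := fix_split (p := p) halt hiso hrp hy hN hNnd
  obtain ⟨s, hs, _⟩ := exists_blocks (p := p) halt hiso hr2 hrp hy _ _ rfl h2 h3 h4
  exact ⟨s, by rw [h5, hs]⟩

/-- nondegenerate invariant subspaces of prescribed dimension -/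
theorem exists_nondeg_inv_le (halt : ω.IsAlt) (hiso : ∀ a b, ω (y a) (y b) = ω a b) (hr2 : r ≠ 2)
    (hrp : r ≠ p) (hy : y ^ r = 1) {N : Submodule F V} (hN : Inv y N) (hNnd : NonDeg ω N)
    (m : ℕ) (hme : Even m) (hm : m ≤ finrank F N)
    (hmod : m % blk F r ≤ finrank F N % blk F r) :
    ∃ W : Submodule F V, W ≤ N ∧ Inv y W ∧ NonDeg ω W ∧ finrank F W = m := by
  obtain ⟨hCnd, h2, h3, h4, h5⟩ := fix_split (p := p) halt hiso hrp hy hN hNnd
  obtain ⟨s, hs, hblocks⟩ := exists_blocks (p := p) halt hiso hr2 hrp hy _ _ rfl h2 h3 h4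
  have hn : finrank F N = finrank F ↥(N ⊓ LinearMap.ker (y - 1)) + s * blk F r := by
    rw [h5, hs]
  obtain ⟨j, hjs, hjm, hjf⟩ := exists_blocks_arith hn hm hmod
  obtain ⟨Wb, hWbN, hWbi, hWbnd, hWbd⟩ := hblocks j hjs
  have hev : Even (m - j * blk F r) :=
    (Nat.even_sub hjm).2 (iff_of_true hme ((blk_even (F := F) (r := r)).mul_left j))
  obtain ⟨k, hk⟩ := hev
  obtain ⟨Z, hZC, hZnd, hZd⟩ := exists_nonDeg_le halt k _ hCnd (by omega)
  have hZi : Inv y Z := by
    intro z hz
    rw [fix_apply (hZC hz).2]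
    exact hz
  have horth : Wb ≤ ω.orthogonal Z := by
    intro b hb
    refine mem_orth.2 (fun n hn => ?_)
    exact mem_orth.1 (hWbN hb).2 n (hZC hn)
  have h1 := nonDeg_sup halt hZnd hWbnd horth
  refine ⟨Z ⊔ Wb, sup_le (hZC.trans inf_le_left) (hWbN.trans inf_le_left), hZi.sup hWbi, h1.1, ?_⟩
  rw [finrank_sup_of_disjoint' _ _ h1.2, hZd, hWbd]
  omega

end blocks

section dec

variable {F : Type v} [Field F] [Fintype F] {V : Type u} [AddCommGroup V] [Module F V]
  [FiniteDimensional F V] {p : ℕ} [Fact p.Prime] [CharP F p] {r : ℕ} [Fact r.Prime]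
  {ω : LinearMap.BilinForm F V} {y : Module.End F V}

/-- an orthogonal decomposition into invariant nondegenerate subspaces -/
structure ODec (ω : LinearMap.BilinForm F V) (y : Module.End F V) (a : ℕ) (M : Submodule F V)
    {ι : Type*} (D : ι → Submodule F V) : Prop where
  dec : Dec y a M D 1
  nondeg : ∀ i, NonDeg ω (D i)
  orth : ∀ i j, i ≠ j → D j ≤ ω.orthogonal (D i)

/-- orthogonal decompositions into invariant subspaces -/
theorem exists_odec (halt : ω.IsAlt) (hiso : ∀ a b, ω (y a) (y b) = ω a b) (hr2 : r ≠ 2)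
    (hrp : r ≠ p) (hy : y ^ r = 1) (a : ℕ) (hae : Even a) :
    ∀ (t' : ℕ) (M : Submodule F V), Inv y M → NonDeg ω M → finrank F M = a * t' →
      (a * t') % blk F r = t' * (a % blk F r) →
      ∃ D : Fin t' → Submodule F V, ODec ω y a M D := by
  have hr := (Fact.out : r.Prime)
  have hcpos : 0 < blk F r := blk_pos (F := F) (p := p) hrp
  set c := blk F r with hc
  have hinj := injective_of_pow_eq_one hr.pos hy
  intro t'
  induction t' with
  | zero =>
    intro M _ _ hMd _
    rw [mul_zero, Submodule.finrank_eq_zero] at hMd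
    subst hMd
    exact ⟨fun i => i.elim0, ⟨Dec.empty a _ _, fun i => i.elim0, fun i => i.elim0⟩⟩
  | succ t' ih =>
    intro M hM hMnd hMd hmod
    have hmod1 : a % c ≤ finrank F M % c := by
      rw [hMd, hmod]
      exact Nat.le_mul_of_pos_left _ (Nat.succ_pos t')
    have hale : a ≤ finrank F M := by
      rw [hMd]; exact Nat.le_mul_of_pos_right _ (Nat.succ_pos t')
    obtain ⟨W, hWM, hW, hWnd, hWd⟩ :=
      exists_nondeg_inv_le (p := p) halt hiso hr2 hrp hy hM hMnd a hae hale hmod1
    obtain ⟨hT'nd, hdisj, hsup, hfr⟩ := orth_in halt hWnd hMnd hWM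
    have hT' : Inv y (M ⊓ ω.orthogonal W) := hM.inf (inv_orth hiso hr.pos hy hW)
    have hT'd : finrank F ↥(M ⊓ ω.orthogonal W) = a * t' := by
      rw [hMd, hWd, Nat.mul_succ] at hfr
      omega
    have hmod' : (a * t') % c = t' * (a % c) := by
      have h1 : (a * t') % c = ((a % c) * t') % c :=
        ((Nat.mod_modEq a c).mul_right t').symm
      have h2 : (a * (t' + 1)) % c < c := Nat.mod_lt _ hcpos
      rw [hmod] at h2
      rw [h1, Nat.mod_eq_of_lt, mul_comm]
      calc (a % c) * t' ≤ (t' + 1) * (a % c) := by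
            rw [mul_comm]; exact Nat.mul_le_mul_right _ (Nat.le_succ t')
        _ < c := h2
    obtain ⟨D', hD'⟩ := ih _ hT' hT'nd hT'd hmod'
    have hsingle : Dec y a W (fun _ : Unit => W) 1 := hWd ▸ Dec.single (map_eq_of_inv hinj hW)
    have hglue := hsingle.glue hD'.dec hdisj
    rw [hsup] at hglue
    have hcard : Fintype.card (Unit ⊕ Fin t') = t' + 1 := by
      simp; omega
    let e : Unit ⊕ Fin t' ≃ Fin (t' + 1) := Fintype.equivFinOfCardEq hcard
    have hre := hglue.reindex e
    have hperm : e.permCongr (Equiv.sumCongr (1 : Equiv.Perm Unit) (1 : Equiv.Perm (Fin t'))) = 1 := by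
      ext k
      simp [Equiv.permCongr_apply]
    rw [hperm] at hre
    have hnd : ∀ x : Unit ⊕ Fin t', NonDeg ω (Sum.elim (fun _ : Unit => W) D' x) := by
      rintro (x | x)
      · exact hWnd
      · exact hD'.nondeg x
    have hD'le : ∀ k, D' k ≤ ω.orthogonal W := fun k => (hD'.dec.le k).trans inf_le_right
    have horth : ∀ x x' : Unit ⊕ Fin t', x ≠ x' →
        Sum.elim (fun _ : Unit => W) D' x' ≤ ω.orthogonal (Sum.elim (fun _ : Unit => W) D' x) := by
      rintro (x | x) (x' | x') hne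
      · exact absurd rfl hne
      · exact hD'le x'
      · intro w hw
        refine mem_orth.2 (fun n hn => ?_)
        exact orth_left halt (hD'le x hn) hw
      · exact hD'.orth x x' (fun h => hne (by rw [h]))
    refine ⟨_, ⟨hre, fun k => hnd (e.symm k), fun k k' hkk' => ?_⟩⟩
    exact horth (e.symm k) (e.symm k') (fun h => hkk' (e.symm.injective h))

end dec

end Cfsg.Agent.Lib.Helper8.SpBlk
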