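import Cfsg.Agent.Lib.Helper41.PsDefs

/-! # Ps hive (S4321, helper41): leaf PS22 `ps_cG1` (helper8) -/

set_option autoImplicit false

namespace Cfsg.Agent.Lib.Helper41.Ps

open Subgroup
open Cfsg.Agent.Lib.Helper22.Cg

universe u

/-- PS22 (G1). for `a ∈ Z₂(P)` the commutators `y a y⁻¹ a⁻¹` (`y ∈ P`) form a subgroup `B` of
`Z(P)`, and conjugation by `P` changes commutators with `a` trivially. -/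
theorem ps_cG1 {G : Type u} [Group G] [Finite G] (p : ℕ) [Fact p.Prime] (P : Sylow p G)
    (a : G) (ha : a ∈ P)
    (hZ2 : ∀ y ∈ P, ∀ u ∈ P, (y * a * y⁻¹ * a⁻¹) * u = u * (y * a * y⁻¹ * a⁻¹)) :
    ∃ B : Subgroup G, (∀ z : G, z ∈ B ↔ ∃ y ∈ P, z = y * a * y⁻¹ * a⁻¹) ∧
      (∀ z ∈ B, z ∈ P ∧ ∀ u ∈ P, z * u = u * z) ∧
      (∀ x ∈ P, ∀ y ∈ P, (y⁻¹ * x * y) * a * (y⁻¹ * x * y)⁻¹ * a⁻¹ = x * a * x⁻¹ * a⁻¹) := by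
  -- the commutator map `φ y = y a y⁻¹ a⁻¹`
  have hφP : ∀ y ∈ P, y * a * y⁻¹ * a⁻¹ ∈ P := fun y hy =>
    mul_mem (mul_mem (mul_mem hy ha) (inv_mem hy)) (inv_mem ha)
  have hmul : ∀ x ∈ P, ∀ y ∈ P,
      (x * y) * a * (x * y)⁻¹ * a⁻¹ = (x * a * x⁻¹ * a⁻¹) * (y * a * y⁻¹ * a⁻¹) := by
    intro x hx y hy
    have h1 : (x * y) * a * (x * y)⁻¹ * a⁻¹ = x * (y * a * y⁻¹ * a⁻¹) * (a * x⁻¹ * a⁻¹) := by group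
    have h2 : x * (y * a * y⁻¹ * a⁻¹) = (y * a * y⁻¹ * a⁻¹) * x := (hZ2 y hy x hx).symm
    have h3 : (y * a * y⁻¹ * a⁻¹) * (x * a * x⁻¹ * a⁻¹) = (x * a * x⁻¹ * a⁻¹) * (y * a * y⁻¹ * a⁻¹) :=
      hZ2 y hy _ (hφP x hx)
    rw [h1, h2, ← h3]
    group
  have hone : (1 : G) * a * (1 : G)⁻¹ * a⁻¹ = 1 := by group
  have hinv : ∀ y ∈ P, (y * a * y⁻¹ * a⁻¹)⁻¹ = y⁻¹ * a * (y⁻¹)⁻¹ * a⁻¹ := by
    intro y hy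
    have h := hmul y⁻¹ (inv_mem hy) y hy
    rw [inv_mul_cancel, hone] at h
    exact (eq_inv_of_mul_eq_one_left h.symm).symm ▸ rfl
  let B : Subgroup G :=
    { carrier := {z | ∃ y ∈ P, z = y * a * y⁻¹ * a⁻¹}
      one_mem' := ⟨1, one_mem _, hone.symm⟩
      mul_mem' := by
        rintro _ _ ⟨x, hx, rfl⟩ ⟨y, hy, rfl⟩
        exact ⟨x * y, mul_mem hx hy, (hmul x hx y hy).symm⟩
      inv_mem' := by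
        rintro _ ⟨y, hy, rfl⟩
        exact ⟨y⁻¹, inv_mem hy, hinv y hy⟩ }
  refine ⟨B, fun z => Iff.rfl, ?_, ?_⟩
  · rintro _ ⟨y, hy, rfl⟩
    exact ⟨hφP y hy, fun u hu => hZ2 y hy u hu⟩
  · intro x hx y hy
    have hy' : y⁻¹ ∈ P := inv_mem hy
    rw [hmul (y⁻¹ * x) (mul_mem hy' hx) y hy, hmul y⁻¹ hy' x hx]
    -- φ(y⁻¹) φ(x) φ(y) = φ(x)
    have hc : (y⁻¹ * a * (y⁻¹)⁻¹ * a⁻¹) * (x * a * x⁻¹ * a⁻¹) =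
        (x * a * x⁻¹ * a⁻¹) * (y⁻¹ * a * (y⁻¹)⁻¹ * a⁻¹) := hZ2 y⁻¹ hy' _ (hφP x hx)
    rw [hc, mul_assoc, ← hinv y hy, inv_mul_cancel, mul_one]

end Cfsg.Agent.Lib.Helper41.Ps
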