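import Cfsg.Agent.Lib.Helper22.CgDefs

/-! # Cg hive (S4257, helper22): leaf CG8b `cg8b` (helper8) -/

set_option autoImplicit false

namespace Cfsg.Agent.Lib.Helper22.Cg

open Subgroup

universe u

/-- CG8b. a `q`-element centralizing a Sylow `q`-subgroup lies in it. -/
theorem cg8b {G : Type u} [Group G] [Finite G] (q : ℕ) [Fact q.Prime] (Q : Sylow q G) (a : G)
    (ha : ∃ n : ℕ, orderOf a = q ^ n) (hQ : ∀ y ∈ Q, a * y = y * a) : a ∈ Q := by
  obtain ⟨n, hn⟩ := ha
  have hzp : IsPGroup q ↥(zpowers a) := by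
    apply IsPGroup.of_card (n := n)
    rw [Nat.card_zpowers, hn]
  have hnorm : zpowers a ≤ Subgroup.normalizer ((Q : Subgroup G) : Set G) := by
    rw [zpowers_le]
    rw [Subgroup.mem_normalizer_iff]
    intro y
    constructor
    · intro hy
      have : a * y * a⁻¹ = y := by rw [hQ y hy]; group
      rw [this]; exact hy
    · intro hy
      have h1 := hQ _ hy
      -- a * (a y a⁻¹) = (a y a⁻¹) * a  ⇒  a y = y a
      have h2 : a * y * a⁻¹ = y := by
        have : a * (a * y * a⁻¹) * a⁻¹ = a * y * a⁻¹ := by rw [h1]; group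
        have h3 : a * (a * y * a⁻¹) * a⁻¹ = a * (a * y * a⁻¹ * a⁻¹) := by group
        have h4 : a⁻¹ * (a * (a * y * a⁻¹) * a⁻¹) * a = a⁻¹ * (a * y * a⁻¹) * a := by rw [this]
        have h5 : a⁻¹ * (a * (a * y * a⁻¹) * a⁻¹) * a = a * y * a⁻¹ := by group
        have h6 : a⁻¹ * (a * y * a⁻¹) * a = y := by group
        rw [h5, h6] at h4
        exact h4
      rw [← h2]; exact hy
  have hsup : IsPGroup q ↥(zpowers a ⊔ (Q : Subgroup G)) :=
    IsPGroup.to_sup_of_normal_right' hzp Q.2 hnorm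
  have heq : zpowers a ⊔ (Q : Subgroup G) = (Q : Subgroup G) := Q.is_maximal' hsup le_sup_right
  have : a ∈ zpowers a ⊔ (Q : Subgroup G) := (le_sup_left : zpowers a ≤ _) (mem_zpowers a)
  rw [heq] at this
  exact this

end Cfsg.Agent.Lib.Helper22.Cg
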