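import Mathlib

/-! Maximal totally singular subspaces of a quadratic space of dimension `2m` in characteristic
two: a reflection changes the parity of the dimension of the intersection with a fixed maximal
totally singular subspace (the two families). -/

set_option autoImplicit false

namespace Cfsg.Agent.Lib.Helper8

open Module QuadraticMap

universe u v

variable {F : Type u} {V : Type v} [Field F] [AddCommGroup V] [Module F V]

/-- the polar form vanishes on a totally singular subspace -/
theorem polar_eq_zero_of_ts (Q : QuadraticForm F V) (W : Submodule F V)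
    (hW : ∀ w ∈ W, Q w = 0) (x y : V) (hx : x ∈ W) (hy : y ∈ W) : polar Q x y = 0 := by
  unfold polar
  rw [hW _ (W.add_mem hx hy), hW x hx, hW y hy]
  ring

/-- intersecting with the kernel of a functional drops the dimension by at most one -/
theorem finrank_inf_ker_gen [FiniteDimensional F V] (A : Submodule F V) (l : V →ₗ[F] F) :
    (A ≤ LinearMap.ker l → finrank F ↥(A ⊓ LinearMap.ker l) = finrank F A) ∧
    (¬ A ≤ LinearMap.ker l → finrank F ↥(A ⊓ LinearMap.ker l) + 1 = finrank F A) := by
  constructor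
  · intro h
    rw [inf_eq_left.2 h]
  · intro h
    have hne : l.comp A.subtype ≠ 0 := by
      intro h0
      apply h
      intro x hx
      have := congrArg (fun f => f ⟨x, hx⟩) h0
      simpa using this
    have hsurj : LinearMap.range (l.comp A.subtype) = ⊤ := by
      rw [LinearMap.range_eq_top]
      exact LinearMap.surjective hne
    have hrn := LinearMap.finrank_range_add_finrank_ker (l.comp A.subtype)
    rw [hsurj, finrank_top, Module.finrank_self] at hrn
    have hker : LinearMap.ker (l.comp A.subtype)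
        = Submodule.comap A.subtype (A ⊓ LinearMap.ker l) := by
      ext ⟨x, hx⟩
      simp
    have e := Submodule.comapSubtypeEquivOfLe (inf_le_left : A ⊓ LinearMap.ker l ≤ A)
    rw [hker, e.finrank_eq] at hrn
    omega

/-- a subspace of more than half the dimension contains a nonsingular vector -/
theorem exists_nonsingular_of_finrank_gt [FiniteDimensional F V] (Q : QuadraticForm F V)
    (hQ : (QuadraticMap.polarBilin Q).Nondegenerate) (K : Submodule F V)
    (hK : finrank F V < 2 * finrank F K) : ∃ w ∈ K, Q w ≠ 0 := by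
  by_contra hcon
  push Not at hcon
  have hle : K ≤ LinearMap.BilinForm.orthogonal (QuadraticMap.polarBilin Q) K := by
    intro x hx
    rw [LinearMap.BilinForm.mem_orthogonal_iff]
    intro n hn
    show polar Q n x = 0
    exact polar_eq_zero_of_ts Q K hcon n x hn hx
  have h1 := Submodule.finrank_mono hle
  rw [LinearMap.BilinForm.finrank_orthogonal hQ] at h1
  have h3 : finrank F K ≤ finrank F V := Submodule.finrank_le K
  omega

/-- the flip lemma: a reflection changes the parity of the dimension of the intersection of two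
maximal totally singular subspaces -/
theorem flip_parity [FiniteDimensional F V] (h2 : (2 : F) = 0) (Q : QuadraticForm F V)
    (hQ : (QuadraticMap.polarBilin Q).Nondegenerate) (m : ℕ) (hdim : finrank F V = 2 * m)
    (W W' : Submodule F V) (hW : ∀ w ∈ W, Q w = 0) (hW' : ∀ w ∈ W', Q w = 0)
    (hWm : finrank F W = m) (hW'm : finrank F W' = m) (v : V) (hv : Q v ≠ 0)
    (r : V →ₗ[F] V) (hr : ∀ x, r x = x - ((Q v)⁻¹ * polar Q v x) • v) :
    Odd (finrank F ↥(W ⊓ W'.map r) + finrank F ↥(W ⊓ W')) := by
  obtain ⟨l, hl⟩ : ∃ l : V →ₗ[F] F, ∀ x, l x = (Q v)⁻¹ * polar Q v x :=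
    ⟨(Q v)⁻¹ • (QuadraticMap.polarBilin Q v), fun x => rfl⟩
  have hr' : ∀ x, r x = x - l x • v := by
    intro x; rw [hr, hl]
  have hlv : l v = 0 := by
    rw [hl, polar_self]
    simp only [nsmul_eq_mul, Nat.cast_ofNat]
    rw [h2, zero_mul, mul_zero]
  have hrr : ∀ x, r (r x) = x := by
    intro x
    have e1 : l (r x) = l x := by
      rw [hr' x, map_sub, map_smul, hlv, smul_zero, sub_zero]
    rw [hr' (r x), e1, hr' x]
    have : x - l x • v - l x • v = x - (2 : F) • (l x • v) := by rw [two_smul]; abel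
    rw [this, h2, zero_smul, sub_zero]
  have hmemmap : ∀ x, x ∈ W'.map r ↔ r x ∈ W' := by
    intro x
    constructor
    · rintro ⟨y, hy, rfl⟩
      rw [hrr]; exact hy
    · intro h
      exact ⟨r x, h, hrr x⟩
  have hfix : ∀ x ∈ LinearMap.ker l, r x = x := by
    intro x hx
    rw [hr', LinearMap.mem_ker.1 hx, zero_smul, sub_zero]
  have hAH : (W ⊓ W'.map r) ⊓ LinearMap.ker l = (W ⊓ W') ⊓ LinearMap.ker l := by
    ext x
    simp only [Submodule.mem_inf]
    constructor
    · rintro ⟨⟨h1, h3⟩, h4⟩
      refine ⟨⟨h1, ?_⟩, h4⟩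
      have := (hmemmap x).1 h3
      rwa [hfix x h4] at this
    · rintro ⟨⟨h1, h3⟩, h4⟩
      refine ⟨⟨h1, ?_⟩, h4⟩
      rw [hmemmap, hfix x h4]; exact h3
  -- not both outside the hyperplane
  have hnot1 : ¬ (¬ (W ⊓ W'.map r) ≤ LinearMap.ker l ∧ ¬ (W ⊓ W') ≤ LinearMap.ker l) := by
    rintro ⟨h1, h3⟩
    rw [SetLike.not_le_iff_exists] at h1 h3
    obtain ⟨a', ha', ha'H⟩ := h1
    obtain ⟨a, ha, haH⟩ := h3
    have e1 : l a' • v = a' - r a' := by rw [hr']; abel
    have e2 : polar Q a (l a' • v) = 0 := by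
      rw [e1, polar_sub_right, polar_eq_zero_of_ts Q W hW a a' ha.1 ha'.1,
        polar_eq_zero_of_ts Q W' hW' a (r a') ha.2 ((hmemmap a').1 ha'.2), sub_zero]
    rw [polar_smul_right, smul_eq_mul] at e2
    have hne : l a' ≠ 0 := fun h => ha'H (LinearMap.mem_ker.2 h)
    have h5 : polar Q a v = 0 := (mul_eq_zero.1 e2).resolve_left hne
    apply haH
    rw [LinearMap.mem_ker, hl, polar_comm, h5, mul_zero]
  -- not both inside the hyperplane
  have hnot2 : ¬ ((W ⊓ W'.map r) ≤ LinearMap.ker l ∧ (W ⊓ W') ≤ LinearMap.ker l) := by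
    rintro ⟨h1, h3⟩
    have hsup : W ⊔ W' = LinearMap.BilinForm.orthogonal (QuadraticMap.polarBilin Q) (W ⊓ W') := by
      apply Submodule.eq_of_le_of_finrank_eq
      · rw [sup_le_iff]
        constructor
        · intro x hx
          rw [LinearMap.BilinForm.mem_orthogonal_iff]
          intro n hn
          show polar Q n x = 0
          exact polar_eq_zero_of_ts Q W hW n x hn.1 hx
        · intro x hx
          rw [LinearMap.BilinForm.mem_orthogonal_iff]
          intro n hn
          show polar Q n x = 0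
          exact polar_eq_zero_of_ts Q W' hW' n x hn.2 hx
      · rw [LinearMap.BilinForm.finrank_orthogonal hQ]
        have h4 := Submodule.finrank_sup_add_finrank_inf_eq W W'
        have h5 : finrank F ↥(W ⊓ W') ≤ finrank F W := Submodule.finrank_mono inf_le_left
        omega
    have hvmem : v ∈ W ⊔ W' := by
      rw [hsup, LinearMap.BilinForm.mem_orthogonal_iff]
      intro n hn
      show polar Q n v = 0
      have h4 := LinearMap.mem_ker.1 (h3 hn)
      rw [hl] at h4
      rw [polar_comm]
      exact (mul_eq_zero.1 h4).resolve_left (inv_ne_zero hv)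
    obtain ⟨w, hw, w', hw', hww'⟩ := Submodule.mem_sup.1 hvmem
    have hQv : Q v = polar Q w w' := by
      rw [← hww', QuadraticMap.map_add (⇑Q), hW w hw, hW' w' hw']; ring
    have hlw : l w = 1 := by
      rw [hl, ← hww', polar_add_left, polar_self, hW w hw, smul_zero, zero_add,
        polar_comm (⇑Q) w' w, ← hQv, hww', inv_mul_cancel₀ hv]
    have hrw : r w = -w' := by
      rw [hr', hlw, one_smul, ← hww']; abel
    have hwA' : w ∈ W ⊓ W'.map r :=
      Submodule.mem_inf.2 ⟨hw, by rw [hmemmap, hrw]; exact W'.neg_mem hw'⟩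
    have := LinearMap.mem_ker.1 (h1 hwA')
    rw [hlw] at this
    exact one_ne_zero this
  obtain ⟨hA1, hA2⟩ := finrank_inf_ker_gen (W ⊓ W'.map r) l
  obtain ⟨hB1, hB2⟩ := finrank_inf_ker_gen (W ⊓ W') l
  rw [hAH] at hA1 hA2
  by_cases c1 : (W ⊓ W'.map r) ≤ LinearMap.ker l <;> by_cases c2 : (W ⊓ W') ≤ LinearMap.ker l
  · exact absurd ⟨c1, c2⟩ hnot2
  · have e1 := hA1 c1
    have e2 := hB2 c2
    exact ⟨finrank F ↥((W ⊓ W') ⊓ LinearMap.ker l), by omega⟩
  · have e1 := hA2 c1
    have e2 := hB1 c2
    exact ⟨finrank F ↥((W ⊓ W') ⊓ LinearMap.ker l), by omega⟩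
  · exact absurd ⟨c1, c2⟩ hnot1

end Cfsg.Agent.Lib.Helper8
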