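import Mathlib
import Cfsg.Prelude.Def_ClassicalGeometry
import Cfsg.Agent.Lib.Helper8.MaxTS
import Cfsg.Agent.Lib.Helper8.Dickson
import Cfsg.Agent.Lib.Helper8.OmegaTransitive

/-! The parity theorem: in characteristic two, for maximal totally singular subspaces `W`, `W'` of
a quadratic space of dimension `2m` and an isometry `g`, the parities of `dim (W ∩ g W')` and
`dim (W ∩ W')` differ by the Dickson invariant of `g`. -/

set_option autoImplicit false

namespace Cfsg.Agent.Lib.Helper8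

open Matrix Module QuadraticMap
open Cfsg.Agent.Lib.Helper13

variable {ι : Type} [Fintype ι] [DecidableEq ι] {F : Type*} [Field F]

theorem finrank_mapSub (Q : QuadraticForm F (ι → F)) (h : ↥(Cfsg.isometryGroup F (⇑Q)))
    (X : Submodule F (ι → F)) : finrank F ↥(mapSub Q h X) = finrank F X := by
  unfold mapSub
  apply LinearEquiv.finrank_eq
  symm
  apply Submodule.equivMapOfInjective
  intro x y hxy
  simp only [Matrix.mulVecLin_apply] at hxy
  have hinv : ∀ z : ι → F, (((h : Matrix.GeneralLinearGroup ι F)⁻¹ :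
      Matrix.GeneralLinearGroup ι F) : Matrix ι ι F) *ᵥ
      (((h : Matrix.GeneralLinearGroup ι F) : Matrix ι ι F) *ᵥ z) = z := by
    intro z
    rw [Matrix.mulVec_mulVec, ← Units.val_mul, inv_mul_cancel, Units.val_one, Matrix.one_mulVec]
  rw [← hinv x, ← hinv y]
  exact congrArg _ hxy

theorem ts_mapSub (Q : QuadraticForm F (ι → F)) (h : ↥(Cfsg.isometryGroup F (⇑Q)))
    (X : Submodule F (ι → F)) (hX : ∀ w ∈ X, Q w = 0) : ∀ w ∈ mapSub Q h X, Q w = 0 := by
  intro w hw
  obtain ⟨x, hx, rfl⟩ := (mem_mapSub Q h X w).1 hw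
  rw [isoElt_preserves]
  exact hX x hx

/-- the parity theorem for the two families of maximal totally singular subspaces -/
theorem maxTS_parity (h2 : (2 : F) = 0) (Q : QuadraticForm F (ι → F))
    (hQ : (QuadraticMap.polarBilin Q).Nondegenerate)
    (hgen : Subgroup.closure (reflSet Q) = ⊤) (m : ℕ) (hdim : finrank F (ι → F) = 2 * m)
    (W : Submodule F (ι → F)) (hW : ∀ w ∈ W, Q w = 0) (hWm : finrank F W = m)
    (g : ↥(Cfsg.isometryGroup F (⇑Q))) :
    ∀ W' : Submodule F (ι → F), (∀ w ∈ W', Q w = 0) → finrank F W' = m →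
      ((finrank F ↥(W ⊓ mapSub Q g W') : ℕ) : ZMod 2)
        = ((finrank F ↥(W ⊓ W') : ℕ) : ZMod 2) + dicksonPar Q g := by
  have hg : g ∈ Subgroup.closure (reflSet Q) := by rw [hgen]; trivial
  have hstep : ∀ x : ↥(Cfsg.isometryGroup F (⇑Q)), ∀ y ∈ reflSet Q,
      (∀ W' : Submodule F (ι → F), (∀ w ∈ W', Q w = 0) → finrank F W' = m →
        ((finrank F ↥(W ⊓ mapSub Q x W') : ℕ) : ZMod 2)
          = ((finrank F ↥(W ⊓ W') : ℕ) : ZMod 2) + dicksonPar Q x) →
      (∀ W' : Submodule F (ι → F), (∀ w ∈ W', Q w = 0) → finrank F W' = m →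
        ((finrank F ↥(W ⊓ mapSub Q (x * y) W') : ℕ) : ZMod 2)
          = ((finrank F ↥(W ⊓ W') : ℕ) : ZMod 2) + dicksonPar Q (x * y)) := by
    intro x y hy ih W' hW' hW'm
    rw [mapSub_mul, ih (mapSub Q y W') (ts_mapSub Q y W' hW') (by rw [finrank_mapSub]; exact hW'm),
      dicksonPar_mul_refl Q hQ x y hy]
    obtain ⟨v, hv, hyv⟩ := hy
    have hflip := flip_parity h2 Q hQ m hdim W W' hW hW' hWm hW'm v hv
      (Matrix.mulVecLin ((y : Matrix.GeneralLinearGroup ι F) : Matrix ι ι F))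
      (fun z => by rw [Matrix.mulVecLin_apply, hyv, reflectionMatrix_mulVec])
    have hmap : mapSub Q y W'
        = W'.map (Matrix.mulVecLin ((y : Matrix.GeneralLinearGroup ι F) : Matrix ι ι F)) := rfl
    rw [← hmap] at hflip
    obtain ⟨k, hk⟩ := hflip
    have h3 : ((finrank F ↥(W ⊓ mapSub Q y W') : ℕ) : ZMod 2)
        + ((finrank F ↥(W ⊓ W') : ℕ) : ZMod 2) = 1 := by
      rw [← Nat.cast_add, hk]
      push_cast
      have : (2 : ZMod 2) = 0 := rfl
      rw [this, zero_mul, zero_add]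
    have h4 : ∀ a b : ZMod 2, a + b = 1 → a = b + 1 := by decide
    rw [h4 _ _ h3]
    ring
  induction hg using Subgroup.closure_induction_right with
  | one =>
    intro W' _ _
    rw [mapSub_one, dicksonPar_one, add_zero]
  | mul_right x _ y hy ih => exact hstep x y hy ih
  | mul_inv_cancel x _ y hy ih =>
    rw [inv_mem_reflSet Q y hy]
    exact hstep x y hy ih

end Cfsg.Agent.Lib.Helper8
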