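import Cfsg.Agent.Lib.Helper37.B2O5Defs

/-! # Bo hive (S1083, helper37): leaf Bo-REL2-4 `rel2_4`. -/

set_option autoImplicit false
set_option linter.unusedSectionVars false
set_option linter.unusedVariables false
set_option linter.unusedSimpArgs false

namespace Cfsg.Agent.Lib.Helper37.B2O5

open Matrix Module QuadraticMap
open Cfsg.Agent.Lib.Helper8 Cfsg.Agent.Lib.Helper13 Cfsg.Agent.Lib.Helper37 Cfsg.Agent.Lib.Helper43

variable {F : Type*} [Field F]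

theorem rel24_s0 (t u : F) :
    (Xn 0 u)⁻¹ * (Xn 4 t)⁻¹ * Xn 0 u * Xn 4 t = wprod (Cfsg.Lie.chevB2.commWord F 4 0 t u) := by
  have h : Cfsg.Lie.chevB2.commTerms 4 0 = [] := by decide
  unfold wprod Cfsg.Lie.ChevalleyDatum.commWord
  rw [h]
  simp only [List.map_cons, List.map_nil, List.prod_cons, List.prod_nil, mul_one]
  have x0 := @Xn_of_lt F _ 0 (by norm_num)
  have x1 := @Xn_of_lt F _ 1 (by norm_num)
  have x2 := @Xn_of_lt F _ 2 (by norm_num)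
  have x3 := @Xn_of_lt F _ 3 (by norm_num)
  have x4 := @Xn_of_lt F _ 4 (by norm_num)
  have x5 := @Xn_of_lt F _ 5 (by norm_num)
  have x6 := @Xn_of_lt F _ 6 (by norm_num)
  have x7 := @Xn_of_lt F _ 7 (by norm_num)
  simp only [x0, x1, x2, x3, x4, x5, x6, x7, X_inv]
  apply reflElt_ext
  intro x
  simp only [act_mul, act_one]
  have e0 : ∀ (t : F) y, act (Q5 F) (X ⟨0, by norm_num⟩ t) y = act (Q5 F) (X 0 t) y := fun _ _ => rfl
  have e1 : ∀ (t : F) y, act (Q5 F) (X ⟨1, by norm_num⟩ t) y = act (Q5 F) (X 1 t) y := fun _ _ => rfl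
  have e2 : ∀ (t : F) y, act (Q5 F) (X ⟨2, by norm_num⟩ t) y = act (Q5 F) (X 2 t) y := fun _ _ => rfl
  have e3 : ∀ (t : F) y, act (Q5 F) (X ⟨3, by norm_num⟩ t) y = act (Q5 F) (X 3 t) y := fun _ _ => rfl
  have e4 : ∀ (t : F) y, act (Q5 F) (X ⟨4, by norm_num⟩ t) y = act (Q5 F) (X 4 t) y := fun _ _ => rfl
  have e5 : ∀ (t : F) y, act (Q5 F) (X ⟨5, by norm_num⟩ t) y = act (Q5 F) (X 5 t) y := fun _ _ => rfl
  have e6 : ∀ (t : F) y, act (Q5 F) (X ⟨6, by norm_num⟩ t) y = act (Q5 F) (X 6 t) y := fun _ _ => rfl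
  have e7 : ∀ (t : F) y, act (Q5 F) (X ⟨7, by norm_num⟩ t) y = act (Q5 F) (X 7 t) y := fun _ _ => rfl
  simp only [e0, e1, e2, e3, e4, e5, e6, e7, act_X0, act_X1, act_X2, act_X3, act_X4, act_X5, act_X6, act_X7]
  apply ext5 <;> simp <;> ring

theorem rel24_s1 (t u : F) :
    (Xn 1 u)⁻¹ * (Xn 4 t)⁻¹ * Xn 1 u * Xn 4 t = wprod (Cfsg.Lie.chevB2.commWord F 4 1 t u) := by
  have h : Cfsg.Lie.chevB2.commTerms 4 1 = [(2, -1, 1, 1), (0, 1, 1, 2)] := by decide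
  unfold wprod Cfsg.Lie.ChevalleyDatum.commWord
  rw [h]
  simp only [List.map_cons, List.map_nil, List.prod_cons, List.prod_nil, mul_one]
  have x0 := @Xn_of_lt F _ 0 (by norm_num)
  have x1 := @Xn_of_lt F _ 1 (by norm_num)
  have x2 := @Xn_of_lt F _ 2 (by norm_num)
  have x3 := @Xn_of_lt F _ 3 (by norm_num)
  have x4 := @Xn_of_lt F _ 4 (by norm_num)
  have x5 := @Xn_of_lt F _ 5 (by norm_num)
  have x6 := @Xn_of_lt F _ 6 (by norm_num)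
  have x7 := @Xn_of_lt F _ 7 (by norm_num)
  simp only [x0, x1, x2, x3, x4, x5, x6, x7, X_inv]
  apply reflElt_ext
  intro x
  simp only [act_mul, act_one]
  have e0 : ∀ (t : F) y, act (Q5 F) (X ⟨0, by norm_num⟩ t) y = act (Q5 F) (X 0 t) y := fun _ _ => rfl
  have e1 : ∀ (t : F) y, act (Q5 F) (X ⟨1, by norm_num⟩ t) y = act (Q5 F) (X 1 t) y := fun _ _ => rfl
  have e2 : ∀ (t : F) y, act (Q5 F) (X ⟨2, by norm_num⟩ t) y = act (Q5 F) (X 2 t) y := fun _ _ => rfl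
  have e3 : ∀ (t : F) y, act (Q5 F) (X ⟨3, by norm_num⟩ t) y = act (Q5 F) (X 3 t) y := fun _ _ => rfl
  have e4 : ∀ (t : F) y, act (Q5 F) (X ⟨4, by norm_num⟩ t) y = act (Q5 F) (X 4 t) y := fun _ _ => rfl
  have e5 : ∀ (t : F) y, act (Q5 F) (X ⟨5, by norm_num⟩ t) y = act (Q5 F) (X 5 t) y := fun _ _ => rfl
  have e6 : ∀ (t : F) y, act (Q5 F) (X ⟨6, by norm_num⟩ t) y = act (Q5 F) (X 6 t) y := fun _ _ => rfl
  have e7 : ∀ (t : F) y, act (Q5 F) (X ⟨7, by norm_num⟩ t) y = act (Q5 F) (X 7 t) y := fun _ _ => rfl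
  simp only [e0, e1, e2, e3, e4, e5, e6, e7, act_X0, act_X1, act_X2, act_X3, act_X4, act_X5, act_X6, act_X7]
  apply ext5 <;> simp <;> ring

theorem rel24_s2 (t u : F) :
    (Xn 2 u)⁻¹ * (Xn 4 t)⁻¹ * Xn 2 u * Xn 4 t = wprod (Cfsg.Lie.chevB2.commWord F 4 2 t u) := by
  have h : Cfsg.Lie.chevB2.commTerms 4 2 = [] := by decide
  unfold wprod Cfsg.Lie.ChevalleyDatum.commWord
  rw [h]
  simp only [List.map_cons, List.map_nil, List.prod_cons, List.prod_nil, mul_one]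
  have x0 := @Xn_of_lt F _ 0 (by norm_num)
  have x1 := @Xn_of_lt F _ 1 (by norm_num)
  have x2 := @Xn_of_lt F _ 2 (by norm_num)
  have x3 := @Xn_of_lt F _ 3 (by norm_num)
  have x4 := @Xn_of_lt F _ 4 (by norm_num)
  have x5 := @Xn_of_lt F _ 5 (by norm_num)
  have x6 := @Xn_of_lt F _ 6 (by norm_num)
  have x7 := @Xn_of_lt F _ 7 (by norm_num)
  simp only [x0, x1, x2, x3, x4, x5, x6, x7, X_inv]
  apply reflElt_ext
  intro x
  simp only [act_mul, act_one]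
  have e0 : ∀ (t : F) y, act (Q5 F) (X ⟨0, by norm_num⟩ t) y = act (Q5 F) (X 0 t) y := fun _ _ => rfl
  have e1 : ∀ (t : F) y, act (Q5 F) (X ⟨1, by norm_num⟩ t) y = act (Q5 F) (X 1 t) y := fun _ _ => rfl
  have e2 : ∀ (t : F) y, act (Q5 F) (X ⟨2, by norm_num⟩ t) y = act (Q5 F) (X 2 t) y := fun _ _ => rfl
  have e3 : ∀ (t : F) y, act (Q5 F) (X ⟨3, by norm_num⟩ t) y = act (Q5 F) (X 3 t) y := fun _ _ => rfl
  have e4 : ∀ (t : F) y, act (Q5 F) (X ⟨4, by norm_num⟩ t) y = act (Q5 F) (X 4 t) y := fun _ _ => rfl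
  have e5 : ∀ (t : F) y, act (Q5 F) (X ⟨5, by norm_num⟩ t) y = act (Q5 F) (X 5 t) y := fun _ _ => rfl
  have e6 : ∀ (t : F) y, act (Q5 F) (X ⟨6, by norm_num⟩ t) y = act (Q5 F) (X 6 t) y := fun _ _ => rfl
  have e7 : ∀ (t : F) y, act (Q5 F) (X ⟨7, by norm_num⟩ t) y = act (Q5 F) (X 7 t) y := fun _ _ => rfl
  simp only [e0, e1, e2, e3, e4, e5, e6, e7, act_X0, act_X1, act_X2, act_X3, act_X4, act_X5, act_X6, act_X7]
  apply ext5 <;> simp <;> ring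

theorem rel24_s5 (t u : F) :
    (Xn 5 u)⁻¹ * (Xn 4 t)⁻¹ * Xn 5 u * Xn 4 t = wprod (Cfsg.Lie.chevB2.commWord F 4 5 t u) := by
  have h : Cfsg.Lie.chevB2.commTerms 4 5 = [(6, 1, 1, 1), (7, -1, 1, 2)] := by decide
  unfold wprod Cfsg.Lie.ChevalleyDatum.commWord
  rw [h]
  simp only [List.map_cons, List.map_nil, List.prod_cons, List.prod_nil, mul_one]
  have x0 := @Xn_of_lt F _ 0 (by norm_num)
  have x1 := @Xn_of_lt F _ 1 (by norm_num)
  have x2 := @Xn_of_lt F _ 2 (by norm_num)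
  have x3 := @Xn_of_lt F _ 3 (by norm_num)
  have x4 := @Xn_of_lt F _ 4 (by norm_num)
  have x5 := @Xn_of_lt F _ 5 (by norm_num)
  have x6 := @Xn_of_lt F _ 6 (by norm_num)
  have x7 := @Xn_of_lt F _ 7 (by norm_num)
  simp only [x0, x1, x2, x3, x4, x5, x6, x7, X_inv]
  apply reflElt_ext
  intro x
  simp only [act_mul, act_one]
  have e0 : ∀ (t : F) y, act (Q5 F) (X ⟨0, by norm_num⟩ t) y = act (Q5 F) (X 0 t) y := fun _ _ => rfl
  have e1 : ∀ (t : F) y, act (Q5 F) (X ⟨1, by norm_num⟩ t) y = act (Q5 F) (X 1 t) y := fun _ _ => rfl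
  have e2 : ∀ (t : F) y, act (Q5 F) (X ⟨2, by norm_num⟩ t) y = act (Q5 F) (X 2 t) y := fun _ _ => rfl
  have e3 : ∀ (t : F) y, act (Q5 F) (X ⟨3, by norm_num⟩ t) y = act (Q5 F) (X 3 t) y := fun _ _ => rfl
  have e4 : ∀ (t : F) y, act (Q5 F) (X ⟨4, by norm_num⟩ t) y = act (Q5 F) (X 4 t) y := fun _ _ => rfl
  have e5 : ∀ (t : F) y, act (Q5 F) (X ⟨5, by norm_num⟩ t) y = act (Q5 F) (X 5 t) y := fun _ _ => rfl
  have e6 : ∀ (t : F) y, act (Q5 F) (X ⟨6, by norm_num⟩ t) y = act (Q5 F) (X 6 t) y := fun _ _ => rfl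
  have e7 : ∀ (t : F) y, act (Q5 F) (X ⟨7, by norm_num⟩ t) y = act (Q5 F) (X 7 t) y := fun _ _ => rfl
  simp only [e0, e1, e2, e3, e4, e5, e6, e7, act_X0, act_X1, act_X2, act_X3, act_X4, act_X5, act_X6, act_X7]
  apply ext5 <;> simp <;> ring

theorem rel24_s6 (t u : F) :
    (Xn 6 u)⁻¹ * (Xn 4 t)⁻¹ * Xn 6 u * Xn 4 t = wprod (Cfsg.Lie.chevB2.commWord F 4 6 t u) := by
  have h : Cfsg.Lie.chevB2.commTerms 4 6 = [] := by decide
  unfold wprod Cfsg.Lie.ChevalleyDatum.commWord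
  rw [h]
  simp only [List.map_cons, List.map_nil, List.prod_cons, List.prod_nil, mul_one]
  have x0 := @Xn_of_lt F _ 0 (by norm_num)
  have x1 := @Xn_of_lt F _ 1 (by norm_num)
  have x2 := @Xn_of_lt F _ 2 (by norm_num)
  have x3 := @Xn_of_lt F _ 3 (by norm_num)
  have x4 := @Xn_of_lt F _ 4 (by norm_num)
  have x5 := @Xn_of_lt F _ 5 (by norm_num)
  have x6 := @Xn_of_lt F _ 6 (by norm_num)
  have x7 := @Xn_of_lt F _ 7 (by norm_num)
  simp only [x0, x1, x2, x3, x4, x5, x6, x7, X_inv]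
  apply reflElt_ext
  intro x
  simp only [act_mul, act_one]
  have e0 : ∀ (t : F) y, act (Q5 F) (X ⟨0, by norm_num⟩ t) y = act (Q5 F) (X 0 t) y := fun _ _ => rfl
  have e1 : ∀ (t : F) y, act (Q5 F) (X ⟨1, by norm_num⟩ t) y = act (Q5 F) (X 1 t) y := fun _ _ => rfl
  have e2 : ∀ (t : F) y, act (Q5 F) (X ⟨2, by norm_num⟩ t) y = act (Q5 F) (X 2 t) y := fun _ _ => rfl
  have e3 : ∀ (t : F) y, act (Q5 F) (X ⟨3, by norm_num⟩ t) y = act (Q5 F) (X 3 t) y := fun _ _ => rfl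
  have e4 : ∀ (t : F) y, act (Q5 F) (X ⟨4, by norm_num⟩ t) y = act (Q5 F) (X 4 t) y := fun _ _ => rfl
  have e5 : ∀ (t : F) y, act (Q5 F) (X ⟨5, by norm_num⟩ t) y = act (Q5 F) (X 5 t) y := fun _ _ => rfl
  have e6 : ∀ (t : F) y, act (Q5 F) (X ⟨6, by norm_num⟩ t) y = act (Q5 F) (X 6 t) y := fun _ _ => rfl
  have e7 : ∀ (t : F) y, act (Q5 F) (X ⟨7, by norm_num⟩ t) y = act (Q5 F) (X 7 t) y := fun _ _ => rfl
  simp only [e0, e1, e2, e3, e4, e5, e6, e7, act_X0, act_X1, act_X2, act_X3, act_X4, act_X5, act_X6, act_X7]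
  apply ext5 <;> simp <;> ring

theorem rel24_s7 (t u : F) :
    (Xn 7 u)⁻¹ * (Xn 4 t)⁻¹ * Xn 7 u * Xn 4 t = wprod (Cfsg.Lie.chevB2.commWord F 4 7 t u) := by
  have h : Cfsg.Lie.chevB2.commTerms 4 7 = [] := by decide
  unfold wprod Cfsg.Lie.ChevalleyDatum.commWord
  rw [h]
  simp only [List.map_cons, List.map_nil, List.prod_cons, List.prod_nil, mul_one]
  have x0 := @Xn_of_lt F _ 0 (by norm_num)
  have x1 := @Xn_of_lt F _ 1 (by norm_num)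
  have x2 := @Xn_of_lt F _ 2 (by norm_num)
  have x3 := @Xn_of_lt F _ 3 (by norm_num)
  have x4 := @Xn_of_lt F _ 4 (by norm_num)
  have x5 := @Xn_of_lt F _ 5 (by norm_num)
  have x6 := @Xn_of_lt F _ 6 (by norm_num)
  have x7 := @Xn_of_lt F _ 7 (by norm_num)
  simp only [x0, x1, x2, x3, x4, x5, x6, x7, X_inv]
  apply reflElt_ext
  intro x
  simp only [act_mul, act_one]
  have e0 : ∀ (t : F) y, act (Q5 F) (X ⟨0, by norm_num⟩ t) y = act (Q5 F) (X 0 t) y := fun _ _ => rfl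
  have e1 : ∀ (t : F) y, act (Q5 F) (X ⟨1, by norm_num⟩ t) y = act (Q5 F) (X 1 t) y := fun _ _ => rfl
  have e2 : ∀ (t : F) y, act (Q5 F) (X ⟨2, by norm_num⟩ t) y = act (Q5 F) (X 2 t) y := fun _ _ => rfl
  have e3 : ∀ (t : F) y, act (Q5 F) (X ⟨3, by norm_num⟩ t) y = act (Q5 F) (X 3 t) y := fun _ _ => rfl
  have e4 : ∀ (t : F) y, act (Q5 F) (X ⟨4, by norm_num⟩ t) y = act (Q5 F) (X 4 t) y := fun _ _ => rfl
  have e5 : ∀ (t : F) y, act (Q5 F) (X ⟨5, by norm_num⟩ t) y = act (Q5 F) (X 5 t) y := fun _ _ => rfl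
  have e6 : ∀ (t : F) y, act (Q5 F) (X ⟨6, by norm_num⟩ t) y = act (Q5 F) (X 6 t) y := fun _ _ => rfl
  have e7 : ∀ (t : F) y, act (Q5 F) (X ⟨7, by norm_num⟩ t) y = act (Q5 F) (X 7 t) y := fun _ _ => rfl
  simp only [e0, e1, e2, e3, e4, e5, e6, e7, act_X0, act_X1, act_X2, act_X3, act_X4, act_X5, act_X6, act_X7]
  apply ext5 <;> simp <;> ring

/-- Bo-REL2-4 -/
theorem rel2_4 (s : ℕ) (hs : s < 8) (h1 : s ≠ 4) (h2 : s ≠ 3) (t u : F) :
    (Xn s u)⁻¹ * (Xn 4 t)⁻¹ * Xn s u * Xn 4 t = wprod (Cfsg.Lie.chevB2.commWord F 4 s t u) := by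
  interval_cases s
  · exact rel24_s0 t u
  · exact rel24_s1 t u
  · exact rel24_s2 t u
  · exact absurd rfl h2
  · exact absurd rfl h1
  · exact rel24_s5 t u
  · exact rel24_s6 t u
  · exact rel24_s7 t u

end Cfsg.Agent.Lib.Helper37.B2O5
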