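import Mathlib
import Cfsg.Agent.Lib.Helper21.S11Defs

/-! # S11 mini-hive (S3911, helper21): leaf S11-CHAIN `card_inf_of_not_le` (helper8) -/

set_option autoImplicit false

namespace Cfsg.Agent.Lib.Helper21.S11

/-- aux: in a finite cyclic group, a subgroup whose order divides the order of another one lies inside it. -/
theorem s11chain_le_of_card_dvd {C : Type*} [Group C] [Finite C] [IsCyclic C] (A B : Subgroup C)
    (h : Nat.card ↥A ∣ Nat.card ↥B) : A ≤ B := by
  classical
  let _ : Fintype C := Fintype.ofFinite C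
  have hn : 0 < Nat.card ↥B := Nat.card_pos
  have hS := IsCyclic.card_pow_eq_one_le (α := C) hn
  set S : Finset C := Finset.univ.filter (fun a : C => a ^ Nat.card ↥B = 1) with hSdef
  set Bf : Finset C := Finset.univ.filter (fun a : C => a ∈ B) with hBdef
  have hBcard : Bf.card = Nat.card ↥B := by
    rw [hBdef, Nat.card_eq_fintype_card, Fintype.card_subtype]
  have hsub : Bf ⊆ S := by
    intro x hx
    rw [hBdef, Finset.mem_filter] at hx
    rw [hSdef, Finset.mem_filter]
    refine ⟨Finset.mem_univ _, ?_⟩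
    have h1 := pow_card_eq_one' (G := ↥B) (x := ⟨x, hx.2⟩)
    have h2 : (((⟨x, hx.2⟩ : ↥B) ^ Nat.card ↥B : ↥B) : C) = ((1 : ↥B) : C) := congrArg Subtype.val h1
    rw [Subgroup.coe_pow, Subgroup.coe_one] at h2
    exact h2
  have heq : Bf = S := Finset.eq_of_subset_of_card_le hsub (by rw [hBcard]; exact hS)
  intro x hx
  have hxA : x ^ Nat.card ↥A = 1 := by
    have h1 := pow_card_eq_one' (G := ↥A) (x := ⟨x, hx⟩)
    have h2 : (((⟨x, hx⟩ : ↥A) ^ Nat.card ↥A : ↥A) : C) = ((1 : ↥A) : C) := congrArg Subtype.val h1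
    rw [Subgroup.coe_pow, Subgroup.coe_one] at h2
    exact h2
  have hxB : x ^ Nat.card ↥B = 1 := by
    obtain ⟨c, hc⟩ := h
    rw [hc, pow_mul, hxA, one_pow]
  have : x ∈ S := by
    rw [hSdef, Finset.mem_filter]; exact ⟨Finset.mem_univ _, hxB⟩
  rw [← heq, hBdef, Finset.mem_filter] at this
  exact this.2

variable {G : Type*} [Group G] [Finite G]

/-- aux: for a Sylow `p`-subgroup `P` and a normal subgroup `M`, `|P ⊓ M| = p ^ v_p(|M|)`. -/
theorem s11chain_card_sylow_inf (M : Subgroup G) [M.Normal] (p : ℕ) [Fact p.Prime] (P : Sylow p G) :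
    Nat.card ↥((P : Subgroup G) ⊓ M) = p ^ (Nat.card ↥M).factorization p := by
  have hp : p.Prime := Fact.out
  -- `P ⊓ M` is a `p`-group
  have hPM : IsPGroup p ↥((P : Subgroup G) ⊓ M) := P.2.to_le inf_le_left
  obtain ⟨k, hk⟩ := IsPGroup.iff_card.1 hPM
  have hdvdM : Nat.card ↥((P : Subgroup G) ⊓ M) ∣ Nat.card ↥M := Subgroup.card_dvd_of_le inf_le_right
  have hMpos : Nat.card ↥M ≠ 0 := Nat.card_pos.ne'
  have hk_le : k ≤ (Nat.card ↥M).factorization p := by
    rw [hk] at hdvdM
    exact (hp.pow_dvd_iff_le_factorization hMpos).1 hdvdM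
  -- counting: |M ⊔ P| * |M ⊓ P| = |M| * |P|
  have h1 : Nat.card ↥M * M.relIndex (M ⊔ (P : Subgroup G)) = Nat.card ↥(M ⊔ (P : Subgroup G)) := by
    have := Subgroup.card_mul_index (M.subgroupOf (M ⊔ (P : Subgroup G)))
    rw [← this, Subgroup.relIndex]
    congr 1
    exact Nat.card_congr (Subgroup.subgroupOfEquivOfLe le_sup_left).toEquiv |>.symm
  have h2 : Nat.card ↥(M ⊓ (P : Subgroup G)) * M.relIndex (P : Subgroup G) = Nat.card ↥(P : Subgroup G) := by
    have := Subgroup.card_mul_index (M.subgroupOf (P : Subgroup G))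
    rw [← this, Subgroup.relIndex]
    congr 1
    rw [← Subgroup.inf_subgroupOf_right]
    exact Nat.card_congr (Subgroup.subgroupOfEquivOfLe inf_le_right).toEquiv |>.symm
  have h3 : M.relIndex (M ⊔ (P : Subgroup G)) = M.relIndex (P : Subgroup G) := Subgroup.relIndex_sup_left _ _
  have hdvdG : Nat.card ↥(M ⊔ (P : Subgroup G)) ∣ Nat.card G := Subgroup.card_subgroup_dvd_card _
  have hPcard : Nat.card ↥(P : Subgroup G) = p ^ (Nat.card G).factorization p := P.card_eq_multiplicity
  have hcomm : (M ⊓ (P : Subgroup G)) = ((P : Subgroup G) ⊓ M) := inf_comm _ _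
  rw [hcomm, hk] at h2
  -- |M ⊔ P| * p^k = |M| * |P|
  have hkey : Nat.card ↥(M ⊔ (P : Subgroup G)) * p ^ k = Nat.card ↥M * Nat.card ↥(P : Subgroup G) := by
    rw [← h1, ← h2, h3]; ring
  have hGpos : Nat.card G ≠ 0 := Nat.card_pos.ne'
  have hSpos : Nat.card ↥(M ⊔ (P : Subgroup G)) ≠ 0 := Nat.card_pos.ne'
  have hfac : (Nat.card ↥(M ⊔ (P : Subgroup G)) * p ^ k).factorization p =
      (Nat.card ↥M * Nat.card ↥(P : Subgroup G)).factorization p := by rw [hkey]
  rw [Nat.factorization_mul hSpos (pow_ne_zero _ hp.ne_zero), Nat.factorization_mul hMpos (Nat.card_pos.ne'),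
    hPcard, Finsupp.add_apply, Finsupp.add_apply, hp.factorization_pow, hp.factorization_pow,
    Finsupp.single_eq_same, Finsupp.single_eq_same] at hfac
  have hle : (Nat.card ↥(M ⊔ (P : Subgroup G))).factorization p ≤ (Nat.card G).factorization p :=
    (Nat.factorization_le_iff_dvd hSpos hGpos).2 hdvdG p
  have : k = (Nat.card ↥M).factorization p := by omega
  rw [hk, this]

/-- S11-CHAIN. If the Sylow `p`-subgroups of `G` are cyclic, `M` is normal and the `p`-subgroup `Q` is not inside `M`,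
then `Q ∩ M` is a full Sylow `p`-subgroup of `M`. -/
theorem card_inf_of_not_le (M : Subgroup G) [M.Normal] (p : ℕ) [Fact p.Prime]
    (hcyc : ∀ P : Sylow p G, IsCyclic ↥(P : Subgroup G)) (Q : Subgroup G) (hQ : IsPGroup p ↥Q)
    (hQM : ¬ Q ≤ M) : Nat.card ↥(Q ⊓ M) = p ^ (Nat.card ↥M).factorization p := by
  have hp : p.Prime := Fact.out
  obtain ⟨P, hQP⟩ := hQ.exists_le_sylow
  have hPc : IsCyclic ↥(P : Subgroup G) := hcyc P
  have hcard := s11chain_card_sylow_inf M p P
  obtain ⟨j, hj⟩ := IsPGroup.iff_card.1 hQ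
  set A : Subgroup ↥(P : Subgroup G) := ((P : Subgroup G) ⊓ M).subgroupOf (P : Subgroup G) with hA
  set B : Subgroup ↥(P : Subgroup G) := Q.subgroupOf (P : Subgroup G) with hB
  have hAcard : Nat.card ↥A = p ^ (Nat.card ↥M).factorization p := by
    rw [← hcard]
    exact Nat.card_congr (Subgroup.subgroupOfEquivOfLe inf_le_left).toEquiv
  have hBcard : Nat.card ↥B = p ^ j := by
    rw [← hj]
    exact Nat.card_congr (Subgroup.subgroupOfEquivOfLe hQP).toEquiv
  rcases le_or_gt ((Nat.card ↥M).factorization p) j with hmj | hjm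
  · -- A ≤ B, so P ⊓ M ≤ Q
    have hAB : A ≤ B := s11chain_le_of_card_dvd A B (by rw [hAcard, hBcard]; exact pow_dvd_pow p hmj)
    have hle : (P : Subgroup G) ⊓ M ≤ Q := by
      intro x hx
      have hxP : x ∈ (P : Subgroup G) := hx.1
      have : (⟨x, hxP⟩ : ↥(P : Subgroup G)) ∈ A := by
        rw [hA, Subgroup.mem_subgroupOf]; exact hx
      have := hAB this
      rw [hB, Subgroup.mem_subgroupOf] at this
      exact this
    have heq : Q ⊓ M = (P : Subgroup G) ⊓ M := by
      apply le_antisymm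
      · exact inf_le_inf_right M hQP
      · exact le_inf hle inf_le_right
    rw [heq, hcard]
  · -- B ≤ A, so Q ≤ M: contradiction
    exfalso
    have hBA : B ≤ A := s11chain_le_of_card_dvd B A (by rw [hAcard, hBcard]; exact pow_dvd_pow p hjm.le)
    apply hQM
    intro x hx
    have hxP : x ∈ (P : Subgroup G) := hQP hx
    have : (⟨x, hxP⟩ : ↥(P : Subgroup G)) ∈ B := by
      rw [hB, Subgroup.mem_subgroupOf]; exact hx
    have := hBA this
    rw [hA, Subgroup.mem_subgroupOf] at this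
    exact this.2

end Cfsg.Agent.Lib.Helper21.S11
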