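import Cfsg.Prelude.Def_Sporadic_a
import Mathlib

set_option autoImplicit false

namespace Cfsg.Agent.Lib.Helper8

open Cfsg

/-- the mod 2 inner product of binary words -/
def dot₂ {α : Type*} [Fintype α] (u v : α → ZMod 2) : ZMod 2 := ∑ i, u i * v i

theorem dot₂_add_left {α : Type*} [Fintype α] (u u' v : α → ZMod 2) :
    dot₂ (u + u') v = dot₂ u v + dot₂ u' v := by
  simp only [dot₂, Pi.add_apply, add_mul, Finset.sum_add_distrib]

theorem dot₂_add_right {α : Type*} [Fintype α] (u v v' : α → ZMod 2) :
    dot₂ u (v + v') = dot₂ u v + dot₂ u v' := by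
  simp only [dot₂, Pi.add_apply, mul_add, Finset.sum_add_distrib]

theorem dot₂_smul_left {α : Type*} [Fintype α] (a : ZMod 2) (u v : α → ZMod 2) :
    dot₂ (a • u) v = a * dot₂ u v := by
  simp only [dot₂, Pi.smul_apply, smul_eq_mul, Finset.mul_sum, mul_assoc]

theorem dot₂_smul_right {α : Type*} [Fintype α] (a : ZMod 2) (u v : α → ZMod 2) :
    dot₂ u (a • v) = a * dot₂ u v := by
  simp only [dot₂, Pi.smul_apply, smul_eq_mul, Finset.mul_sum]
  apply Finset.sum_congr rfl
  intro i _; ring

theorem dot₂_zero_left {α : Type*} [Fintype α] (v : α → ZMod 2) : dot₂ 0 v = 0 := by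
  simp [dot₂]

theorem dot₂_zero_right {α : Type*} [Fintype α] (v : α → ZMod 2) : dot₂ v 0 = 0 := by
  simp [dot₂]

set_option maxRecDepth 100000 in
theorem qr_qr : ∀ s t : ZMod 23, ∑ i : GolayPt, qrWord s i * qrWord t i = 0 := by decide

set_option maxRecDepth 100000 in
theorem qr_one : ∀ s : ZMod 23, ∑ i : GolayPt, qrWord s i * (1 : GolayPt → ZMod 2) i = 0 := by decide

set_option maxRecDepth 100000 in
theorem one_qr : ∀ s : ZMod 23, ∑ i : GolayPt, (1 : GolayPt → ZMod 2) i * qrWord s i = 0 := by decide

set_option maxRecDepth 100000 in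
theorem one_one : ∑ i : GolayPt, (1 : GolayPt → ZMod 2) i * (1 : GolayPt → ZMod 2) i = 0 := by decide

theorem dot₂_gen {u v : GolayPt → ZMod 2} (hu : u ∈ Set.range qrWord ∪ {1})
    (hv : v ∈ Set.range qrWord ∪ {1}) : dot₂ u v = 0 := by
  rcases hu with ⟨s, rfl⟩ | hu
  · rcases hv with ⟨t, rfl⟩ | hv
    · exact qr_qr s t
    · rw [Set.mem_singleton_iff] at hv; subst hv; exact qr_one s
  · rw [Set.mem_singleton_iff] at hu; subst hu
    rcases hv with ⟨t, rfl⟩ | hv
    · exact one_qr t
    · rw [Set.mem_singleton_iff] at hv; subst hv; exact one_one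

/-- the Golay code is self-orthogonal -/
theorem golay_orth {u v : GolayPt → ZMod 2} (hu : u ∈ golayCode) (hv : v ∈ golayCode) :
    dot₂ u v = 0 := by
  have h1 : ∀ v ∈ Set.range qrWord ∪ {1}, ∀ u ∈ golayCode, dot₂ u v = 0 := by
    intro v hv u hu
    induction hu using Submodule.span_induction with
    | mem x h => exact dot₂_gen h hv
    | zero => exact dot₂_zero_left v
    | add x y _ _ hx hy => rw [dot₂_add_left, hx, hy, add_zero]
    | smul a x _ hx => rw [dot₂_smul_left, hx, mul_zero]
  induction hv using Submodule.span_induction with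
  | mem x h => exact h1 x h u hu
  | zero => exact dot₂_zero_right u
  | add x y _ _ hx hy => rw [dot₂_add_right, hx, hy, add_zero]
  | smul a x _ hx => rw [dot₂_smul_right, hx, mul_zero]

theorem mem_support₂ {α : Type*} [Fintype α] (w : α → ZMod 2) (a : α) :
    a ∈ support₂ w ↔ w a ≠ 0 := by
  simp [support₂]

theorem zmod2_cases (a : ZMod 2) : a = 0 ∨ a = 1 := by
  revert a; decide

theorem card_inter_cast {α : Type*} [Fintype α] [DecidableEq α] (u v : α → ZMod 2) :
    (((support₂ u ∩ support₂ v).card : ℕ) : ZMod 2) = dot₂ u v := by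
  have : support₂ u ∩ support₂ v = Finset.univ.filter (fun i => u i ≠ 0 ∧ v i ≠ 0) := by
    ext i; simp [mem_support₂]
  rw [this, ← Finset.sum_boole, dot₂]
  apply Finset.sum_congr rfl
  intro i _
  rcases zmod2_cases (u i) with h1 | h1 <;> rcases zmod2_cases (v i) with h2 | h2 <;>
    simp [h1, h2]

theorem even_card_inter {u v : GolayPt → ZMod 2} (hu : u ∈ golayCode) (hv : v ∈ golayCode) :
    2 ∣ (support₂ u ∩ support₂ v).card := by
  rw [← ZMod.natCast_eq_zero_iff, card_inter_cast, golay_orth hu hv]

theorem card_support₂_add {α : Type*} [Fintype α] [DecidableEq α] (u v : α → ZMod 2) :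
    (support₂ (u + v)).card + 2 * (support₂ u ∩ support₂ v).card
      = (support₂ u).card + (support₂ v).card := by
  have : support₂ u ∩ support₂ v = Finset.univ.filter (fun i => u i ≠ 0 ∧ v i ≠ 0) := by
    ext i; simp [mem_support₂]
  rw [this]
  simp only [support₂, Finset.card_filter, Finset.mul_sum, ← Finset.sum_add_distrib]
  apply Finset.sum_congr rfl
  intro i _
  rcases zmod2_cases (u i) with h1 | h1 <;> rcases zmod2_cases (v i) with h2 | h2 <;>
    simp [h1, h2]
  · decide

set_option maxRecDepth 100000 in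
theorem qr_card : ∀ s : ZMod 23, 4 ∣ (support₂ (qrWord s)).card := by decide

set_option maxRecDepth 100000 in
theorem one_card : 4 ∣ (support₂ (1 : GolayPt → ZMod 2)).card := by decide

/-- the Golay code is doubly even -/
theorem golay_doubly_even {u : GolayPt → ZMod 2} (hu : u ∈ golayCode) :
    4 ∣ (support₂ u).card := by
  induction hu using Submodule.span_induction with
  | mem x h =>
    rcases h with ⟨s, rfl⟩ | h
    · exact qr_card s
    · rw [Set.mem_singleton_iff] at h; subst h; exact one_card
  | zero => simp [support₂]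
  | add x y hx hy ihx ihy =>
    have h1 := card_support₂_add x y
    have h2 := even_card_inter hx hy
    omega
  | smul a x _ ihx =>
    rcases zmod2_cases a with h | h
    · subst h; simp [support₂]
    · subst h; simpa using ihx

end Cfsg.Agent.Lib.Helper8
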