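import Mathlib
import Cfsg.Agent.Lib.Helper44.CharTwoSym

/-!
# Skew-adjoint square roots of a nonsquare scalar on a symplectic space

Abstract theory: invariant subspaces have even dimension, hermitian orthonormal frames,
conjugacy of all such structures under isometries, existence and gluing.
-/

set_option autoImplicit false

namespace Cfsg.Agent.Lib.Helper8.GUSp

open Module LinearMap

universe u v w

section basic

variable {F : Type v} [Field F] {V : Type u} [AddCommGroup V] [Module F V]

/-- a skew-adjoint square root of the scalar `Δ` -/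
structure IsJ (ω : LinearMap.BilinForm F V) (Δ : F) (J : V →ₗ[F] V) : Prop where
  sq : ∀ v, J (J v) = Δ • v
  adj : ∀ u v, ω (J u) v = - ω u (J v)

theorem IsJ.adj' {ω : LinearMap.BilinForm F V} {Δ : F} {J : V →ₗ[F] V} (h : IsJ ω Δ J) (u v : V) :
    ω u (J v) = - ω (J u) v := by rw [h.adj, neg_neg]

theorem IsJ.JJ {ω : LinearMap.BilinForm F V} {Δ : F} {J : V →ₗ[F] V} (h : IsJ ω Δ J) (u v : V) :
    ω (J u) (J v) = - (Δ * ω u v) := by
  rw [h.adj, h.sq, map_smul, smul_eq_mul]

theorem ne_zero_of_not_isSquare {Δ : F} (hΔ : ¬ IsSquare Δ) : Δ ≠ 0 := by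
  rintro rfl
  exact hΔ ⟨0, by simp⟩

/-- invariant subspaces of a square root of a nonsquare have even dimension -/
theorem even_finrank_of_sq [FiniteDimensional F V] (J : V →ₗ[F] V) (Δ : F) (hΔ : ¬ IsSquare Δ)
    (hsq : ∀ v, J (J v) = Δ • v) (U : Submodule F V) (hU : ∀ u ∈ U, J u ∈ U) :
    Even (finrank F U) := by
  by_contra hodd
  rw [Nat.not_even_iff_odd] at hodd
  obtain ⟨k, hk⟩ := hodd
  have hΔ0 : Δ ≠ 0 := ne_zero_of_not_isSquare hΔ
  let T : U →ₗ[F] U := J.restrict hU
  have hTT : T * T = Δ • (1 : Module.End F U) := by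
    apply LinearMap.ext
    intro u
    apply Subtype.ext
    show J (J (u : V)) = Δ • (u : V)
    exact hsq _
  have hdet : LinearMap.det T * LinearMap.det T = Δ ^ (2 * k + 1) := by
    rw [← map_mul, hTT, LinearMap.det_smul, hk, map_one, mul_one]
  apply hΔ
  refine ⟨LinearMap.det T / Δ ^ k, ?_⟩
  have hk0 : Δ ^ k ≠ 0 := pow_ne_zero _ hΔ0
  rw [div_mul_div_comm, hdet, eq_div_iff (mul_ne_zero hk0 hk0)]
  ring

/-- the norm form `a² - Δ b²` of a finite field of odd order represents everything -/
theorem exists_norm_eq [Fintype F] (hcard : Fintype.card F % 2 = 1) (Δ t : F) (hΔ : Δ ≠ 0) :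
    ∃ a b : F, a * a - Δ * (b * b) = t := by
  classical
  have hf : (Polynomial.X ^ 2 - Polynomial.C t : Polynomial F).degree = 2 := by
    rw [Polynomial.degree_X_pow_sub_C (by norm_num)]
    rfl
  have hg : (Polynomial.C (-Δ) * Polynomial.X ^ 2 : Polynomial F).degree = 2 := by
    rw [Polynomial.degree_C_mul_X_pow 2 (neg_ne_zero.2 hΔ)]
    rfl
  obtain ⟨a, b, hab⟩ := FiniteField.exists_root_sum_quadratic hf hg hcard
  refine ⟨a, b, ?_⟩
  simp only [Polynomial.eval_sub, Polynomial.eval_pow, Polynomial.eval_X, Polynomial.eval_C,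
    Polynomial.eval_mul] at hab
  linear_combination hab

end basic

section frames

variable {F : Type v} [Field F]

/-- hermitian orthonormal frames exist -/
theorem exists_frame [Fintype F] (hcard : Fintype.card F % 2 = 1) (h2 : (2 : F) ≠ 0) (Δ : F)
    (hΔ : ¬ IsSquare Δ) :
    ∀ (m : ℕ) (V : Type u) [AddCommGroup V] [Module F V] [FiniteDimensional F V]
      (ω : LinearMap.BilinForm F V) (J : V →ₗ[F] V), ω.IsAlt → ω.Nondegenerate → IsJ ω Δ J →
      finrank F V = 2 * m →
      ∃ e : Fin m → V, (∀ i k, ω (e i) (e k) = 0) ∧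
        (∀ i k, ω (e i) (J (e k)) = if i = k then 1 else 0) := by
  intro m
  induction m with
  | zero =>
    intro V _ _ _ ω J _ _ _ _
    exact ⟨Fin.elim0, fun i => i.elim0, fun i => i.elim0⟩
  | succ m ih =>
    intro V _ _ _ ω J halt hnd hJ hfr
    have hanti : ∀ x y, ω x y = - ω y x := fun x y => by rw [halt.neg_eq]
    have hΔ0 : Δ ≠ 0 := ne_zero_of_not_isSquare hΔ
    have hpos : 0 < finrank F V := by omega
    have : Nontrivial V := Module.finrank_pos_iff.1 hpos
    have hex : ∃ v, ω v (J v) ≠ 0 := by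
      by_contra hcon
      push Not at hcon
      have hpol : ∀ u v, ω u (J v) = 0 := by
        intro u v
        have h1 := hcon (u + v)
        simp only [map_add, LinearMap.add_apply] at h1
        rw [hcon u, hcon v] at h1
        have h3 : ω v (J u) = ω u (J v) := by rw [hanti, hJ.adj, neg_neg]
        rw [h3] at h1
        have h4 : 2 * ω u (J v) = 0 := by linear_combination h1
        exact (mul_eq_zero.1 h4).resolve_left h2
      obtain ⟨v, hv⟩ := exists_ne (0 : V)
      have hJv : J v = 0 := hnd.2 (J v) (fun u => hpol u v)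
      have h5 : Δ • v = 0 := by rw [← hJ.sq, hJv, map_zero]
      exact hv ((smul_eq_zero.1 h5).resolve_left hΔ0)
    obtain ⟨v, hv⟩ := hex
    obtain ⟨a, b, hab⟩ := exists_norm_eq hcard Δ (ω v (J v))⁻¹ hΔ0
    obtain ⟨e₀, he₀⟩ : ∃ e₀ : V, e₀ = a • v + b • J v := ⟨_, rfl⟩
    have hJe₀ : J e₀ = a • J v + (b * Δ) • v := by
      rw [he₀, map_add, map_smul, map_smul, hJ.sq, smul_smul]
    have h01 : ω e₀ (J e₀) = 1 := by
      have hvv : ω v v = 0 := halt v
      have hJJ : ω (J v) (J v) = 0 := halt _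
      have hJv : ω (J v) v = - ω v (J v) := hanti _ _
      have hc : (a * a - Δ * (b * b)) * ω v (J v) = 1 := by rw [hab, inv_mul_cancel₀ hv]
      rw [hJe₀, he₀]
      simp only [map_add, map_smul, LinearMap.add_apply, LinearMap.smul_apply, smul_eq_mul]
      rw [hvv, hJJ, hJv]
      linear_combination hc
    have h10 : ω (J e₀) e₀ = -1 := by rw [hanti, h01]
    have h00 : ω e₀ e₀ = 0 := halt e₀
    have h11 : ω (J e₀) (J e₀) = 0 := halt _
    let L : V →ₗ[F] F × F := (ω e₀).prod (ω (J e₀))
    let U : Submodule F V := LinearMap.ker L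
    have hU : ∀ u : V, u ∈ U ↔ ω e₀ u = 0 ∧ ω (J e₀) u = 0 := by
      intro u
      show L u = 0 ↔ _
      change ((ω e₀ u, ω (J e₀) u) : F × F) = 0 ↔ _
      exact Prod.mk_eq_zero
    have hLsurj : Function.Surjective L := by
      rintro ⟨x, y⟩
      refine ⟨x • J e₀ - y • e₀, ?_⟩
      change ((ω e₀ (x • J e₀ - y • e₀), ω (J e₀) (x • J e₀ - y • e₀)) : F × F) = (x, y)
      simp only [map_sub, map_smul, smul_eq_mul, h01, h10, h00, h11]
      ext <;> simp
    have hfrU : finrank F U = 2 * m := by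
      have h1 := LinearMap.finrank_range_add_finrank_ker L
      rw [LinearMap.range_eq_top.2 hLsurj, finrank_top, Module.finrank_prod, Module.finrank_self]
        at h1
      show finrank F (LinearMap.ker L) = 2 * m
      omega
    have hUJ : ∀ u ∈ U, J u ∈ U := by
      intro u hu
      rw [hU] at hu ⊢
      refine ⟨?_, ?_⟩
      · rw [hJ.adj', hu.2, neg_zero]
      · rw [hJ.JJ, hu.1, mul_zero, neg_zero]
    have hdec : ∀ v : V, v + (ω (J e₀) v) • e₀ - (ω e₀ v) • J e₀ ∈ U := by
      intro v
      rw [hU]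
      constructor
      · simp only [map_add, map_sub, map_smul, smul_eq_mul, h00, h01]
        ring
      · simp only [map_add, map_sub, map_smul, smul_eq_mul, h10, h11]
        ring
    have haltU : (ω.restrict U).IsAlt := fun u => halt u
    have hndU : (ω.restrict U).Nondegenerate := by
      have hleft : (ω.restrict U).SeparatingLeft := by
        intro u hu
        apply Subtype.ext
        apply hnd.1
        intro v
        have h1 := hu ⟨_, hdec v⟩
        simp only [LinearMap.BilinForm.restrict_apply, LinearMap.domRestrict_apply] at h1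
        have hu' := (hU u).1 u.2
        have e1 : ω u e₀ = 0 := by rw [hanti, hu'.1, neg_zero]
        have e2 : ω u (J e₀) = 0 := by rw [hanti, hu'.2, neg_zero]
        simp only [map_add, map_sub, map_smul, smul_eq_mul, e1, e2, mul_zero, sub_zero,
          add_zero] at h1
        simpa using h1
      refine ⟨hleft, ?_⟩
      intro u hu
      apply hleft u
      intro w
      have := hu w
      simp only [LinearMap.BilinForm.restrict_apply, LinearMap.domRestrict_apply] at this ⊢
      rw [hanti, this, neg_zero]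
    have hJU : IsJ (ω.restrict U) Δ (J.restrict hUJ) := by
      refine ⟨fun u => ?_, fun u w => ?_⟩
      · apply Subtype.ext
        show J (J (u : V)) = Δ • (u : V)
        exact hJ.sq _
      · show ω (J (u : V)) (w : V) = - ω (u : V) (J (w : V))
        exact hJ.adj _ _
    obtain ⟨e', hee, heJ⟩ := ih U (ω.restrict U) (J.restrict hUJ) haltU hndU hJU hfrU
    have hee' : ∀ i k, ω (e' i : V) (e' k : V) = 0 := hee
    have heJ' : ∀ i k, ω (e' i : V) (J (e' k : V)) = if i = k then 1 else 0 := heJ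
    have hUe : ∀ u : U, ω e₀ u = 0 ∧ ω (J e₀) u = 0 := fun u => (hU u).1 u.2
    refine ⟨Fin.cons e₀ (fun i => (e' i : V)), ?_, ?_⟩
    · intro i k
      refine Fin.cases ?_ (fun i => ?_) i <;> refine Fin.cases ?_ (fun k => ?_) k
      · simp only [Fin.cons_zero]; exact h00
      · simp only [Fin.cons_zero, Fin.cons_succ]; exact (hUe _).1
      · simp only [Fin.cons_zero, Fin.cons_succ]; rw [hanti, (hUe _).1, neg_zero]
      · simp only [Fin.cons_succ]; exact hee' i k
    · intro i k
      refine Fin.cases ?_ (fun i => ?_) i <;> refine Fin.cases ?_ (fun k => ?_) k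
      · simp only [Fin.cons_zero, if_true]; exact h01
      · simp only [Fin.cons_zero, Fin.cons_succ]
        rw [if_neg (Fin.succ_ne_zero k).symm, hJ.adj', (hUe _).2, neg_zero]
      · simp only [Fin.cons_zero, Fin.cons_succ]
        rw [if_neg (Fin.succ_ne_zero i), hanti, (hUe _).2, neg_zero]
      · simp only [Fin.cons_succ, Fin.succ_inj]; exact heJ' i k

end frames

section families

variable {F : Type v} [Field F] {V : Type u} [AddCommGroup V] [Module F V]

/-- a symplectic family of full size is a basis -/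
theorem exists_basis_of_family [FiniteDimensional F V] (ω : LinearMap.BilinForm F V) (N : ℕ)
    (hfr : finrank F V = 2 * N) (e f : Fin N → V) (hee : ∀ i k, ω (e i) (e k) = 0)
    (hff : ∀ i k, ω (f i) (f k) = 0) (hef : ∀ i k, ω (e i) (f k) = if i = k then 1 else 0)
    (hfe : ∀ i k, ω (f i) (e k) = if i = k then -1 else 0) :
    ∃ b : Basis (Fin N ⊕ Fin N) F V, ∀ x, b x = Sum.elim e f x := by
  classical
  have hli : LinearIndependent F (Sum.elim e f) := by
    rw [Fintype.linearIndependent_iff]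
    intro g hg x
    rw [Fintype.sum_sum_type] at hg
    simp only [Sum.elim_inl, Sum.elim_inr] at hg
    rcases x with k | k
    · have := congrArg (fun v => ω v (f k)) hg
      simp only [map_add, map_sum, map_smul, LinearMap.add_apply, LinearMap.sum_apply,
        LinearMap.smul_apply, smul_eq_mul, hef, hff, map_zero, LinearMap.zero_apply, mul_zero,
        Finset.sum_const_zero, add_zero, mul_ite, mul_one, Finset.sum_ite_eq',
        Finset.mem_univ, if_true] at this
      exact this
    · have := congrArg (fun v => ω v (e k)) hg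
      simp only [map_add, map_sum, map_smul, LinearMap.add_apply, LinearMap.sum_apply,
        LinearMap.smul_apply, smul_eq_mul, hee, hfe, map_zero, LinearMap.zero_apply, mul_zero,
        Finset.sum_const_zero, zero_add, mul_ite, mul_neg, mul_one, Finset.sum_ite_eq',
        Finset.mem_univ, if_true, neg_eq_zero] at this
      exact this
  have hspan : Submodule.span F (Set.range (Sum.elim e f)) = ⊤ :=
    hli.span_eq_top_of_card_eq_finrank' (by simp [hfr]; ring)
  refine ⟨Basis.mk hli (by rw [hspan]), fun x => ?_⟩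
  rw [Basis.mk_apply]

/-- the structure attached to a symplectic family -/
theorem exists_J_of_family [FiniteDimensional F V] (ω : LinearMap.BilinForm F V) (halt : ω.IsAlt)
    (Δ : F) (N : ℕ) (hfr : finrank F V = 2 * N) (e f : Fin N → V)
    (hee : ∀ i k, ω (e i) (e k) = 0) (hff : ∀ i k, ω (f i) (f k) = 0)
    (hef : ∀ i k, ω (e i) (f k) = if i = k then 1 else 0) :
    ∃ J : V →ₗ[F] V, IsJ ω Δ J ∧ (∀ i, J (e i) = f i) ∧ (∀ i, J (f i) = Δ • e i) := by
  classical
  have hfe : ∀ i k, ω (f i) (e k) = if i = k then -1 else 0 := by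
    intro i k
    rw [← halt.neg_eq, hef]
    by_cases h : i = k
    · rw [if_pos h, if_pos h.symm]
    · rw [if_neg h, if_neg (Ne.symm h), neg_zero]
  obtain ⟨b, hb⟩ := exists_basis_of_family ω N hfr e f hee hff hef hfe
  let J : V →ₗ[F] V := b.constr F (Sum.elim f (fun i => Δ • e i))
  have hJe : ∀ i, J (e i) = f i := by
    intro i
    have h1 : b (Sum.inl i) = e i := by rw [hb]; rfl
    rw [← h1]
    show b.constr F _ (b (Sum.inl i)) = _
    rw [Basis.constr_basis]
    rfl
  have hJf : ∀ i, J (f i) = Δ • e i := by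
    intro i
    have h1 : b (Sum.inr i) = f i := by rw [hb]; rfl
    rw [← h1]
    show b.constr F _ (b (Sum.inr i)) = _
    rw [Basis.constr_basis]
    rfl
  have hbl : ∀ i, b (Sum.inl i) = e i := fun i => by rw [hb]; rfl
  have hbr : ∀ i, b (Sum.inr i) = f i := fun i => by rw [hb]; rfl
  refine ⟨J, ⟨?_, ?_⟩, hJe, hJf⟩
  · have h1 : J ∘ₗ J = Δ • LinearMap.id := by
      apply b.ext
      intro x
      rcases x with i | i
      · rw [hbl, LinearMap.comp_apply, hJe, hJf, LinearMap.smul_apply, LinearMap.id_apply]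
      · rw [hbr, LinearMap.comp_apply, hJf, map_smul, hJe, LinearMap.smul_apply,
          LinearMap.id_apply]
    intro v
    have := congrArg (fun T : V →ₗ[F] V => T v) h1
    simpa using this
  · have h1 : ω.compl₁₂ J LinearMap.id = - ω.compl₁₂ LinearMap.id J := by
      apply LinearMap.ext_basis b b
      intro x y
      simp only [LinearMap.compl₁₂_apply, LinearMap.id_apply, LinearMap.neg_apply]
      rcases x with i | i <;> rcases y with k | k
      · rw [hbl, hbl, hJe, hJe, hfe, hef]
        split_ifs <;> simp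
      · rw [hbl, hbr, hJe, hJf, hff, map_smul, hee, smul_zero, neg_zero]
      · rw [hbr, hbl, hJf, hJe, map_smul, LinearMap.smul_apply, hee, smul_zero, hff, neg_zero]
      · rw [hbr, hbr, hJf, hJf, map_smul, LinearMap.smul_apply, hef, map_smul, hfe]
        split_ifs <;> simp
    intro u v
    have := congrArg (fun B : LinearMap.BilinForm F V => B u v) h1
    simpa [LinearMap.compl₁₂_apply] using this

/-- every nondegenerate alternating space carries such a structure -/
theorem exists_J [FiniteDimensional F V] (ω : LinearMap.BilinForm F V) (halt : ω.IsAlt)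
    (hnd : ω.Nondegenerate) (Δ : F) : ∃ J : V →ₗ[F] V, IsJ ω Δ J := by
  obtain ⟨N, hfr, e, f, hee, hff, hef⟩ :=
    Cfsg.Agent.Lib.Helper44.darboux_family_exists V ω halt hnd
  obtain ⟨J, hJ, _, _⟩ := exists_J_of_family ω halt Δ N hfr e f hee hff hef
  exact ⟨J, hJ⟩

end families

section conj

variable {F : Type v} [Field F] {V : Type u} [AddCommGroup V] [Module F V]
  {V' : Type w} [AddCommGroup V'] [Module F V']

/-- the basis attached to a frame -/
theorem exists_basis_of_frame [FiniteDimensional F V] (ω : LinearMap.BilinForm F V)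
    (halt : ω.IsAlt) (Δ : F) (J : V →ₗ[F] V) (hJ : IsJ ω Δ J) (m : ℕ)
    (hfr : finrank F V = 2 * m) (e : Fin m → V) (hee : ∀ i k, ω (e i) (e k) = 0)
    (heJ : ∀ i k, ω (e i) (J (e k)) = if i = k then 1 else 0) :
    ∃ b : Basis (Fin m ⊕ Fin m) F V, (∀ i, b (Sum.inl i) = e i) ∧ (∀ i, b (Sum.inr i) = J (e i)) ∧
      ∀ x y, ω (b x) (b y) = Cfsg.Agent.Lib.Helper44.gramJ m F x y := by
  classical
  have hff : ∀ i k, ω (J (e i)) (J (e k)) = 0 := by
    intro i k
    rw [hJ.JJ, hee, mul_zero, neg_zero]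
  have hfe : ∀ i k, ω (J (e i)) (e k) = if i = k then -1 else 0 := by
    intro i k
    rw [hJ.adj, heJ]
    split_ifs <;> simp
  obtain ⟨b, hb⟩ := exists_basis_of_family ω m hfr e (fun i => J (e i)) hee hff heJ hfe
  have hbl : ∀ i, b (Sum.inl i) = e i := fun i => by rw [hb]; rfl
  have hbr : ∀ i, b (Sum.inr i) = J (e i) := fun i => by rw [hb]; rfl
  refine ⟨b, hbl, hbr, fun x y => ?_⟩
  rcases x with i | i <;> rcases y with k | k
  · rw [hbl, hbl, hee]; simp [Cfsg.Agent.Lib.Helper44.gramJ]
  · rw [hbl, hbr, heJ]; simp [Cfsg.Agent.Lib.Helper44.gramJ, Matrix.one_apply]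
  · rw [hbr, hbl, hfe]
    simp only [Cfsg.Agent.Lib.Helper44.gramJ, Matrix.fromBlocks_apply₂₁, Matrix.neg_apply,
      Matrix.one_apply]
    split_ifs <;> simp
  · rw [hbr, hbr, hff]; simp [Cfsg.Agent.Lib.Helper44.gramJ]

/-- any two structures with the same nonsquare `Δ` are related by an isometry -/
theorem exists_conj [Fintype F] (hcard : Fintype.card F % 2 = 1) (h2 : (2 : F) ≠ 0) (Δ : F)
    (hΔ : ¬ IsSquare Δ) [FiniteDimensional F V] [FiniteDimensional F V']
    (ω : LinearMap.BilinForm F V) (halt : ω.IsAlt) (hnd : ω.Nondegenerate) (J : V →ₗ[F] V)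
    (hJ : IsJ ω Δ J)
    (ω' : LinearMap.BilinForm F V') (halt' : ω'.IsAlt) (hnd' : ω'.Nondegenerate)
    (J' : V' →ₗ[F] V') (hJ' : IsJ ω' Δ J') (hfr : finrank F V = finrank F V') :
    ∃ T : V ≃ₗ[F] V', (∀ u v, ω' (T u) (T v) = ω u v) ∧ ∀ v, T (J v) = J' (T v) := by
  classical
  obtain ⟨m, hm⟩ : ∃ m, finrank F V = 2 * m := by
    have h := even_finrank_of_sq J Δ hΔ hJ.sq ⊤ (fun u _ => Submodule.mem_top)
    rw [finrank_top] at h
    obtain ⟨m, hm⟩ := h
    exact ⟨m, by omega⟩
  have hm' : finrank F V' = 2 * m := by rw [← hfr, hm]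
  obtain ⟨e, hee, heJ⟩ := exists_frame hcard h2 Δ hΔ m V ω J halt hnd hJ hm
  obtain ⟨e', hee', heJ'⟩ := exists_frame hcard h2 Δ hΔ m V' ω' J' halt' hnd' hJ' hm'
  obtain ⟨b, hbl, hbr, hbg⟩ := exists_basis_of_frame ω halt Δ J hJ m hm e hee heJ
  obtain ⟨b', hbl', hbr', hbg'⟩ := exists_basis_of_frame ω' halt' Δ J' hJ' m hm' e' hee' heJ'
  let T : V ≃ₗ[F] V' := b.equiv b' (Equiv.refl _)
  have hT : ∀ x, T (b x) = b' x := by
    intro x
    show b.equiv b' (Equiv.refl _) (b x) = b' x
    rw [Basis.equiv_apply]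
    rfl
  refine ⟨T, ?_, ?_⟩
  · have h1 : ω'.compl₁₂ (T : V →ₗ[F] V') (T : V →ₗ[F] V') = ω := by
      apply LinearMap.ext_basis b b
      intro x y
      rw [LinearMap.compl₁₂_apply]
      show ω' (T (b x)) (T (b y)) = _
      rw [hT, hT, hbg, hbg']
    intro u v
    have := congrArg (fun B : LinearMap.BilinForm F V => B u v) h1
    simpa [LinearMap.compl₁₂_apply] using this
  · have h1 : (T : V →ₗ[F] V') ∘ₗ J = J' ∘ₗ (T : V →ₗ[F] V') := by
      apply b.ext
      intro x
      simp only [LinearMap.comp_apply, LinearEquiv.coe_coe]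
      rcases x with i | i
      · rw [hbl, ← hbr, hT, hbr', ← hbl i, hT, hbl']
      · rw [hT (Sum.inr i), hbr', hJ'.sq, hbr, hJ.sq, map_smul, ← hbl i, hT, hbl']
    intro v
    have := congrArg (fun S : V →ₗ[F] V' => S v) h1
    simpa using this

end conj

section glue

variable {F : Type v} [Field F] {V : Type u} [AddCommGroup V] [Module F V]

/-- gluing structures along an orthogonal decomposition -/
theorem exists_J_glue [FiniteDimensional F V] (ω : LinearMap.BilinForm F V) (halt : ω.IsAlt)
    (hnd : ω.Nondegenerate) (Δ : F) (A B : Submodule F V) (hAB : IsCompl A B)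
    (horth : ∀ a ∈ A, ∀ b ∈ B, ω a b = 0) :
    ∃ J : V →ₗ[F] V, IsJ ω Δ J ∧ (∀ a ∈ A, J a ∈ A) ∧ (∀ b ∈ B, J b ∈ B) := by
  have hanti : ∀ x y, ω x y = - ω y x := fun x y => by rw [halt.neg_eq]
  have horth' : ∀ b ∈ B, ∀ a ∈ A, ω b a = 0 := by
    intro b hb a ha
    rw [hanti, horth a ha b hb, neg_zero]
  -- decomposition
  have hdec : ∀ v : V, ∃ a ∈ A, ∃ b ∈ B, v = a + b := by
    intro v
    have hv : v ∈ A ⊔ B := by rw [hAB.sup_eq_top]; exact Submodule.mem_top
    obtain ⟨a, ha, b, hb, hab⟩ := Submodule.mem_sup.1 hv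
    exact ⟨a, ha, b, hb, hab.symm⟩
  have hndA : (ω.restrict A).Nondegenerate := by
    have hleft : (ω.restrict A).SeparatingLeft := by
      intro a ha
      apply Subtype.ext
      apply hnd.1
      intro v
      obtain ⟨a', ha', b', hb', rfl⟩ := hdec v
      have h1 := ha ⟨a', ha'⟩
      simp only [LinearMap.BilinForm.restrict_apply, LinearMap.domRestrict_apply] at h1
      rw [map_add, h1, horth a a.2 b' hb', add_zero]
    refine ⟨hleft, ?_⟩
    intro u hu
    apply hleft u
    intro w
    have := hu w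
    simp only [LinearMap.BilinForm.restrict_apply, LinearMap.domRestrict_apply] at this ⊢
    rw [hanti, this, neg_zero]
  have hndB : (ω.restrict B).Nondegenerate := by
    have hleft : (ω.restrict B).SeparatingLeft := by
      intro b hb
      apply Subtype.ext
      apply hnd.1
      intro v
      obtain ⟨a', ha', b', hb', rfl⟩ := hdec v
      have h1 := hb ⟨b', hb'⟩
      simp only [LinearMap.BilinForm.restrict_apply, LinearMap.domRestrict_apply] at h1
      rw [map_add, h1, horth' b b.2 a' ha', add_zero]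
    refine ⟨hleft, ?_⟩
    intro u hu
    apply hleft u
    intro w
    have := hu w
    simp only [LinearMap.BilinForm.restrict_apply, LinearMap.domRestrict_apply] at this ⊢
    rw [hanti, this, neg_zero]
  obtain ⟨JA, hJA⟩ := exists_J (ω.restrict A) (fun u => halt u) hndA Δ
  obtain ⟨JB, hJB⟩ := exists_J (ω.restrict B) (fun u => halt u) hndB Δ
  let pA : V →ₗ[F] A := Submodule.linearProjOfIsCompl A B hAB
  let pB : V →ₗ[F] B := Submodule.linearProjOfIsCompl B A hAB.symm
  let J : V →ₗ[F] V := A.subtype ∘ₗ JA ∘ₗ pA + B.subtype ∘ₗ JB ∘ₗ pB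
  have hJa : ∀ a : A, J (a : V) = (JA a : V) := by
    intro a
    show ((JA (pA (a : V)) : A) : V) + ((JB (pB (a : V)) : B) : V) = _
    have h1 : pA (a : V) = a := Submodule.linearProjOfIsCompl_apply_left hAB a
    have h2 : pB (a : V) = 0 :=
      (Submodule.linearProjOfIsCompl_apply_eq_zero_iff hAB.symm).2 a.2
    rw [h1, h2, map_zero, Submodule.coe_zero, add_zero]
  have hJb : ∀ b : B, J (b : V) = (JB b : V) := by
    intro b
    show ((JA (pA (b : V)) : A) : V) + ((JB (pB (b : V)) : B) : V) = _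
    have h1 : pB (b : V) = b := Submodule.linearProjOfIsCompl_apply_left hAB.symm b
    have h2 : pA (b : V) = 0 :=
      (Submodule.linearProjOfIsCompl_apply_eq_zero_iff hAB).2 b.2
    rw [h1, h2, map_zero, Submodule.coe_zero, zero_add]
  have hJA' : ∀ a ∈ A, J a ∈ A := by
    intro a ha
    have := hJa ⟨a, ha⟩
    simp only at this
    rw [this]
    exact (JA ⟨a, ha⟩).2
  have hJB' : ∀ b ∈ B, J b ∈ B := by
    intro b hb
    have := hJb ⟨b, hb⟩
    simp only at this
    rw [this]
    exact (JB ⟨b, hb⟩).2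
  refine ⟨J, ⟨?_, ?_⟩, hJA', hJB'⟩
  · intro v
    obtain ⟨a, ha, b, hb, rfl⟩ := hdec v
    have h1 : J a = (JA ⟨a, ha⟩ : V) := hJa ⟨a, ha⟩
    have h2 : J b = (JB ⟨b, hb⟩ : V) := hJb ⟨b, hb⟩
    rw [map_add, map_add, h1, h2, hJa, hJb, hJA.sq, hJB.sq, smul_add]
    rfl
  · intro u v
    obtain ⟨a, ha, b, hb, rfl⟩ := hdec u
    obtain ⟨a', ha', b', hb', rfl⟩ := hdec v
    have e1 : ω (J a) a' = - ω a (J a') := by
      have := hJA.adj ⟨a, ha⟩ ⟨a', ha'⟩
      simp only [LinearMap.BilinForm.restrict_apply, LinearMap.domRestrict_apply] at this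
      rw [hJa ⟨a, ha⟩, hJa ⟨a', ha'⟩]
      exact this
    have e2 : ω (J b) b' = - ω b (J b') := by
      have := hJB.adj ⟨b, hb⟩ ⟨b', hb'⟩
      simp only [LinearMap.BilinForm.restrict_apply, LinearMap.domRestrict_apply] at this
      rw [hJb ⟨b, hb⟩, hJb ⟨b', hb'⟩]
      exact this
    have e3 : ω (J a) b' = 0 := horth _ (hJA' a ha) _ hb'
    have e4 : ω (J b) a' = 0 := horth' _ (hJB' b hb) _ ha'
    have e5 : ω a (J b') = 0 := horth _ ha _ (hJB' b' hb')
    have e6 : ω b (J a') = 0 := horth' _ hb _ (hJA' a' ha')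
    simp only [map_add, LinearMap.add_apply]
    rw [e1, e2, e3, e4, e5, e6]
    ring

end glue

end Cfsg.Agent.Lib.Helper8.GUSp
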