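import Mathlib
import Cfsg.Agent.Lib.Helper8.GUSpJ
import Cfsg.Agent.Lib.Helper94.SpK3
import Cfsg.Agent.Lib.Helper99.SpMax

/-!
# Subgroups of type `GU_d(q).2` of `Sp_{2d}(q)`: from matrices to linear maps and back
-/

set_option autoImplicit false

namespace Cfsg.Agent.Lib.Helper8.GUSp

open Matrix Module
open Cfsg.Agent.Lib.Helper99 Cfsg.Agent.Lib.Helper94

section bridge

variable {F : Type*} [Field F] (d : ℕ)

local notation "V" => (Fin d ⊕ Fin d → F)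
local notation "Mat" => Matrix (Fin d ⊕ Fin d) (Fin d ⊕ Fin d) F

theorem isJ_of_skewGen {κ : Mat} {D : F} (h : SkewGen d κ D) :
    IsJ (sympB d) D (Matrix.toLin' κ) := by
  refine ⟨fun v => ?_, fun u v => ?_⟩
  · rw [Matrix.toLin'_apply, Matrix.toLin'_apply]
    exact h.sq v
  · rw [Matrix.toLin'_apply, Matrix.toLin'_apply, sympB_apply, sympB_apply]
    exact h.skew u v

theorem not_isSquare_of_skewGen (hd : 1 ≤ d) {κ : Mat} {D : F} (h : SkewGen d κ D) :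
    ¬ IsSquare D := by
  rintro ⟨c, hc⟩
  obtain ⟨x, hx⟩ : ∃ x : V, x ≠ 0 := by
    refine ⟨Pi.single (Sum.inl ⟨0, hd⟩) 1, ?_⟩
    intro h0
    have := congrFun h0 (Sum.inl ⟨0, hd⟩)
    simp at this
  by_cases hy : κ *ᵥ x + c • x = 0
  · exact h.irr x hx (-c) (by rw [neg_smul]; exact eq_neg_of_add_eq_zero_left hy)
  · apply h.irr _ hy c
    rw [Matrix.mulVec_add, Matrix.mulVec_smul, h.sq, hc, smul_add, smul_smul, add_comm]

theorem mul_self_of_skewGen {κ : Mat} {D : F} (h : SkewGen d κ D) : κ * κ = D • (1 : Mat) := by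
  rw [Matrix.ext_iff_mulVec]
  intro v
  rw [← Matrix.mulVec_mulVec, h.sq, Matrix.smul_mulVec, Matrix.one_mulVec]

/-- an element of the normaliser commutes or anticommutes with the generator -/
theorem normalizer_cases (h2 : (2 : F) ≠ 0) (hd : 1 ≤ d) (K : Subalgebra F Mat) (κ : Mat) (D : F)
    (hgen : SkewGen d κ D) (hκK : κ ∈ K) (hκns : ∀ a : F, κ ≠ a • (1 : Mat))
    (hdec : ∀ k ∈ K, ∃ a b : F, k = a • (1 : Mat) + b • κ)
    (y : GL (Fin d ⊕ Fin d) F) (hy : y ∈ Cfsg.Geo.subalgebraNormalizer K) :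
    (y : Mat) * κ = κ * (y : Mat) ∨ (y : Mat) * κ = -(κ * (y : Mat)) := by
  have : Nonempty (Fin d ⊕ Fin d) := ⟨Sum.inl ⟨0, hd⟩⟩
  have hDns := not_isSquare_of_skewGen d hd hgen
  have hD0 : D ≠ 0 := ne_zero_of_not_isSquare hDns
  have hκκ := mul_self_of_skewGen d hgen
  have hmem : (y : Mat) * κ * ((y⁻¹ : GL (Fin d ⊕ Fin d) F) : Mat) ∈ K := (hy κ).1 hκK
  obtain ⟨a, b, hab⟩ := hdec _ hmem
  have hsq : (a • (1 : Mat) + b • κ) * (a • (1 : Mat) + b • κ) = D • (1 : Mat) := by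
    rw [← hab]
    calc (y : Mat) * κ * ((y⁻¹ : GL (Fin d ⊕ Fin d) F) : Mat) *
          ((y : Mat) * κ * ((y⁻¹ : GL (Fin d ⊕ Fin d) F) : Mat))
        = (y : Mat) * κ * (((y⁻¹ : GL (Fin d ⊕ Fin d) F) : Mat) * (y : Mat)) * κ *
            ((y⁻¹ : GL (Fin d ⊕ Fin d) F) : Mat) := by
          simp only [Matrix.mul_assoc]
      _ = (y : Mat) * (κ * κ) * ((y⁻¹ : GL (Fin d ⊕ Fin d) F) : Mat) := by
          rw [GL_inv_mul, Matrix.mul_one, Matrix.mul_assoc (y : Mat)]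
      _ = D • (1 : Mat) := by
          rw [hκκ, Matrix.mul_smul, Matrix.smul_mul, Matrix.mul_one, GL_mul_inv]
  have hexp : (a • (1 : Mat) + b • κ) * (a • (1 : Mat) + b • κ) =
      (a * a + b * b * D) • (1 : Mat) + (2 * a * b) • κ := by
    simp only [Matrix.add_mul, Matrix.mul_add, Matrix.smul_mul, Matrix.mul_smul, Matrix.one_mul,
      Matrix.mul_one, hκκ, smul_smul]
    module
  rw [hexp] at hsq
  have hab0 : 2 * a * b = 0 := by
    by_contra hne
    apply hκns ((D - (a * a + b * b * D)) / (2 * a * b))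
    have h3 : (2 * a * b) • κ = (D - (a * a + b * b * D)) • (1 : Mat) := by
      rw [sub_smul, ← hsq]
      abel
    calc κ = (2 * a * b)⁻¹ • ((2 * a * b) • κ) := by
          rw [smul_smul, inv_mul_cancel₀ hne, one_smul]
      _ = _ := by rw [h3, smul_smul, div_eq_inv_mul]
  rw [hab0, zero_smul, add_zero] at hsq
  have hone : (1 : Mat) ≠ 0 := one_ne_zero
  have h4 : a * a + b * b * D = D := by
    have h5 : (a * a + b * b * D - D) • (1 : Mat) = 0 := by rw [sub_smul, hsq, sub_self]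
    rcases smul_eq_zero.1 h5 with h | h
    · exact sub_eq_zero.1 h
    · exact absurd h hone
  have ha0 : a = 0 := by
    rcases mul_eq_zero.1 hab0 with h | h
    · rcases mul_eq_zero.1 h with h' | h'
      · exact absurd h' h2
      · exact h'
    · exfalso
      apply hDns
      refine ⟨a, ?_⟩
      rw [h] at h4
      rw [← h4]
      ring
  have hb1 : b * b = 1 := by
    rw [ha0] at h4
    have h5 : (b * b - 1) * D = 0 := by linear_combination h4
    rcases mul_eq_zero.1 h5 with h | h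
    · exact sub_eq_zero.1 h
    · exact absurd h hD0
  rw [ha0, zero_smul, zero_add] at hab
  have hyk : (y : Mat) * κ = b • (κ * (y : Mat)) := by
    calc (y : Mat) * κ = (y : Mat) * κ * (((y⁻¹ : GL (Fin d ⊕ Fin d) F) : Mat) * (y : Mat)) := by
          rw [GL_inv_mul, Matrix.mul_one]
      _ = ((y : Mat) * κ * ((y⁻¹ : GL (Fin d ⊕ Fin d) F) : Mat)) * (y : Mat) := by
          simp only [Matrix.mul_assoc]
      _ = b • (κ * (y : Mat)) := by rw [hab, Matrix.smul_mul]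
  rcases mul_self_eq_one_iff.1 hb1 with h | h
  · left
    rw [hyk, h, one_smul]
  · right
    rw [hyk, h, neg_smul, one_smul]

theorem glOfEquiv_inv_mulVec (e : V ≃ₗ[F] V) (x : V) :
    (((glOfEquiv d e)⁻¹ : GL (Fin d ⊕ Fin d) F) : Mat) *ᵥ x = e.symm x := by
  have h := inv_mulVec_mulVec d (glOfEquiv d e) (e.symm x)
  rw [glOfEquiv_mulVec, LinearEquiv.apply_symm_apply] at h
  exact h

theorem glOfEquiv_mem_spGL (e : V ≃ₗ[F] V) (he : ∀ u v, sympB d (e u) (e v) = sympB d u v) :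
    glOfEquiv d e ∈ Cfsg.spGL d F := by
  rw [mem_spGL_iff]
  intro u v
  rw [glOfEquiv_mulVec, glOfEquiv_mulVec, ← sympB_apply, ← sympB_apply]
  exact he u v

/-- an element semicommuting with some structure has a conjugate in the normaliser -/
theorem conj_into_normalizer [Fintype F] (hcard : Fintype.card F % 2 = 1) (h2 : (2 : F) ≠ 0)
    (hd : 1 ≤ d) (K : Subalgebra F Mat) (κ : Mat) (D : F)
    (hgen : SkewGen d κ D) (hκK : κ ∈ K) (hκns : ∀ a : F, κ ≠ a • (1 : Mat))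
    (hdec : ∀ k ∈ K, ∃ a b : F, k = a • (1 : Mat) + b • κ)
    (x : GL (Fin d ⊕ Fin d) F) (J : V →ₗ[F] V) (hJ : IsJ (sympB d) D J) (ε : F)
    (hx : ∀ v, (x : Mat) *ᵥ (J v) = ε • J ((x : Mat) *ᵥ v)) :
    ∃ g ∈ Cfsg.spGL d F, g⁻¹ * x * g ∈ Cfsg.Geo.subalgebraNormalizer K := by
  have hDns := not_isSquare_of_skewGen d hd hgen
  obtain ⟨T, hTω, hTJ⟩ := exists_conj hcard h2 D hDns (sympB d) (sympB_isAlt d)
    (sympB_nondegenerate d) (Matrix.toLin' κ) (isJ_of_skewGen d hgen)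
    (sympB d) (sympB_isAlt d) (sympB_nondegenerate d) J hJ rfl
  refine ⟨glOfEquiv d T, glOfEquiv_mem_spGL d T hTω, ?_⟩
  have hTJ' : ∀ w, T.symm (J w) = κ *ᵥ (T.symm w) := by
    intro w
    apply T.injective
    rw [LinearEquiv.apply_symm_apply, ← Matrix.toLin'_apply, hTJ, LinearEquiv.apply_symm_apply]
  apply mem_normalizer_of_conj K κ hκK hκns hdec _ 0 ε
  rw [zero_smul, zero_add]
  have hsemi : (((glOfEquiv d T)⁻¹ * x * glOfEquiv d T : GL (Fin d ⊕ Fin d) F) : Mat) * κ =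
      ε • (κ * (((glOfEquiv d T)⁻¹ * x * glOfEquiv d T : GL (Fin d ⊕ Fin d) F) : Mat)) := by
    rw [Matrix.ext_iff_mulVec]
    intro v
    rw [Matrix.smul_mulVec, ← Matrix.mulVec_mulVec, ← Matrix.mulVec_mulVec, Units.val_mul,
      Units.val_mul, ← Matrix.mulVec_mulVec, ← Matrix.mulVec_mulVec, ← Matrix.mulVec_mulVec,
      ← Matrix.mulVec_mulVec, glOfEquiv_mulVec, glOfEquiv_mulVec, glOfEquiv_inv_mulVec,
      glOfEquiv_inv_mulVec, ← Matrix.toLin'_apply κ v, hTJ, hx, map_smul, hTJ']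
  set y : GL (Fin d ⊕ Fin d) F := (glOfEquiv d T)⁻¹ * x * glOfEquiv d T with hy
  rw [hsemi, Matrix.smul_mul, Matrix.mul_assoc, GL_mul_inv, Matrix.mul_one]

/-- an element of odd order with a conjugate in the normaliser commutes with some structure -/
theorem exists_J_of_conj_mem (h2 : (2 : F) ≠ 0) (hd : 1 ≤ d) (K : Subalgebra F Mat) (κ : Mat)
    (D : F) (hgen : SkewGen d κ D) (hκK : κ ∈ K) (hκns : ∀ a : F, κ ≠ a • (1 : Mat))
    (hdec : ∀ k ∈ K, ∃ a b : F, k = a • (1 : Mat) + b • κ)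
    (x : GL (Fin d ⊕ Fin d) F) (r : ℕ) (hr : Odd r) (hxr : x ^ r = 1)
    (g : GL (Fin d ⊕ Fin d) F) (hg : g ∈ Cfsg.spGL d F)
    (hy : g⁻¹ * x * g ∈ Cfsg.Geo.subalgebraNormalizer K) :
    ∃ J : V →ₗ[F] V, IsJ (sympB d) D J ∧ ∀ v, (x : Mat) *ᵥ (J v) = J ((x : Mat) *ᵥ v) := by
  have hDns := not_isSquare_of_skewGen d hd hgen
  have hD0 : D ≠ 0 := ne_zero_of_not_isSquare hDns
  have hκκ := mul_self_of_skewGen d hgen
  set y : GL (Fin d ⊕ Fin d) F := g⁻¹ * x * g with hydef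
  have hyr : y ^ r = 1 := by
    have e : y = g⁻¹ * x * (g⁻¹)⁻¹ := by rw [inv_inv]
    rw [e, conj_pow, hxr, mul_one, mul_inv_cancel]
  have hcomm : (y : Mat) * κ = κ * (y : Mat) := by
    rcases normalizer_cases d h2 hd K κ D hgen hκK hκns hdec y hy with h | h
    · exact h
    · exfalso
      have hpow : ∀ n : ℕ, (y : Mat) ^ n * κ = (-1 : F) ^ n • (κ * (y : Mat) ^ n) := by
        intro n
        induction n with
        | zero => simp
        | succ n ih =>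
          rw [pow_succ', Matrix.mul_assoc, ih, Matrix.mul_smul, ← Matrix.mul_assoc, h,
            Matrix.neg_mul, Matrix.mul_assoc, pow_succ' (-1 : F), smul_neg, ← neg_smul]
          congr 1
          ring
      have h3 := hpow r
      have h4 : (y : Mat) ^ r = 1 := by
        rw [← Units.val_pow_eq_pow_val, hyr, Units.val_one]
      rw [h4, Matrix.one_mul, Matrix.mul_one, hr.neg_one_pow, neg_smul, one_smul] at h3
      have h5 : (2 : F) • κ = 0 := by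
        rw [two_smul]
        nth_rewrite 1 [h3]
        exact neg_add_cancel κ
      have h6 : κ = 0 := (smul_eq_zero.1 h5).resolve_left h2
      rw [h6, Matrix.mul_zero] at hκκ
      have : Nonempty (Fin d ⊕ Fin d) := ⟨Sum.inl ⟨0, hd⟩⟩
      have hone : (1 : Mat) ≠ 0 := one_ne_zero
      rcases smul_eq_zero.1 hκκ.symm with h | h
      · exact hD0 h
      · exact hone h
  have hgi : g⁻¹ ∈ Cfsg.spGL d F := Subgroup.inv_mem _ hg
  rw [mem_spGL_iff] at hg hgi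
  refine ⟨Matrix.toLin' ((g : Mat) * κ * ((g⁻¹ : GL (Fin d ⊕ Fin d) F) : Mat)), ⟨?_, ?_⟩, ?_⟩
  · intro v
    rw [Matrix.toLin'_apply, Matrix.toLin'_apply, Matrix.mulVec_mulVec]
    have : (g : Mat) * κ * ((g⁻¹ : GL (Fin d ⊕ Fin d) F) : Mat) *
        ((g : Mat) * κ * ((g⁻¹ : GL (Fin d ⊕ Fin d) F) : Mat)) = D • (1 : Mat) := by
      calc (g : Mat) * κ * ((g⁻¹ : GL (Fin d ⊕ Fin d) F) : Mat) *
            ((g : Mat) * κ * ((g⁻¹ : GL (Fin d ⊕ Fin d) F) : Mat))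
          = (g : Mat) * κ * (((g⁻¹ : GL (Fin d ⊕ Fin d) F) : Mat) * (g : Mat)) * κ *
              ((g⁻¹ : GL (Fin d ⊕ Fin d) F) : Mat) := by
            simp only [Matrix.mul_assoc]
        _ = (g : Mat) * (κ * κ) * ((g⁻¹ : GL (Fin d ⊕ Fin d) F) : Mat) := by
            rw [GL_inv_mul, Matrix.mul_one, Matrix.mul_assoc (g : Mat)]
        _ = D • (1 : Mat) := by
            rw [hκκ, Matrix.mul_smul, Matrix.smul_mul, Matrix.mul_one, GL_mul_inv]
    rw [this, Matrix.smul_mulVec, Matrix.one_mulVec]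
  · intro u v
    rw [Matrix.toLin'_apply, Matrix.toLin'_apply, sympB_apply, sympB_apply,
      ← Matrix.mulVec_mulVec, ← Matrix.mulVec_mulVec, ← Matrix.mulVec_mulVec,
      ← Matrix.mulVec_mulVec]
    have e1 : Cfsg.sympForm d F ((g : Mat) *ᵥ (κ *ᵥ (((g⁻¹ : GL (Fin d ⊕ Fin d) F) : Mat) *ᵥ u))) v
        = Cfsg.sympForm d F (κ *ᵥ (((g⁻¹ : GL (Fin d ⊕ Fin d) F) : Mat) *ᵥ u))
            (((g⁻¹ : GL (Fin d ⊕ Fin d) F) : Mat) *ᵥ v) := by
      rw [← hgi, Cfsg.Agent.Lib.Helper94.inv_mulVec_mulVec]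
    have e2 : Cfsg.sympForm d F u ((g : Mat) *ᵥ (κ *ᵥ (((g⁻¹ : GL (Fin d ⊕ Fin d) F) : Mat) *ᵥ v)))
        = Cfsg.sympForm d F (((g⁻¹ : GL (Fin d ⊕ Fin d) F) : Mat) *ᵥ u)
            (κ *ᵥ (((g⁻¹ : GL (Fin d ⊕ Fin d) F) : Mat) *ᵥ v)) := by
      rw [← hgi, Cfsg.Agent.Lib.Helper94.inv_mulVec_mulVec]
    rw [e1, e2, hgen.skew]
  · intro v
    rw [Matrix.toLin'_apply, Matrix.toLin'_apply, Matrix.mulVec_mulVec, Matrix.mulVec_mulVec]
    congr 1
    -- x = g y g⁻¹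
    have hx : (x : Mat) = (g : Mat) * (y : Mat) * ((g⁻¹ : GL (Fin d ⊕ Fin d) F) : Mat) := by
      rw [← Units.val_mul, ← Units.val_mul, hydef]
      congr 1
      group
    rw [hx]
    calc (g : Mat) * (y : Mat) * ((g⁻¹ : GL (Fin d ⊕ Fin d) F) : Mat) *
          ((g : Mat) * κ * ((g⁻¹ : GL (Fin d ⊕ Fin d) F) : Mat))
        = (g : Mat) * (y : Mat) * (((g⁻¹ : GL (Fin d ⊕ Fin d) F) : Mat) * (g : Mat)) * κ *
            ((g⁻¹ : GL (Fin d ⊕ Fin d) F) : Mat) := by simp only [Matrix.mul_assoc]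
      _ = (g : Mat) * ((y : Mat) * κ) * ((g⁻¹ : GL (Fin d ⊕ Fin d) F) : Mat) := by
          rw [GL_inv_mul, Matrix.mul_one, Matrix.mul_assoc (g : Mat)]
      _ = (g : Mat) * (κ * (y : Mat)) * ((g⁻¹ : GL (Fin d ⊕ Fin d) F) : Mat) := by rw [hcomm]
      _ = (g : Mat) * κ * (((g⁻¹ : GL (Fin d ⊕ Fin d) F) : Mat) * (g : Mat)) * (y : Mat) *
            ((g⁻¹ : GL (Fin d ⊕ Fin d) F) : Mat) := by
          rw [GL_inv_mul, Matrix.mul_one]
          simp only [Matrix.mul_assoc]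
      _ = (g : Mat) * κ * ((g⁻¹ : GL (Fin d ⊕ Fin d) F) : Mat) *
            ((g : Mat) * (y : Mat) * ((g⁻¹ : GL (Fin d ⊕ Fin d) F) : Mat)) := by
          simp only [Matrix.mul_assoc]

/-- transport of an isometry of a model space to the standard symplectic space -/
theorem exists_elt_of_model {M : Type*} [AddCommGroup M] [Module F M]
    (ωM : LinearMap.BilinForm F M) (Θ : M ≃ₗ[F] V)
    (hΘ : ∀ a b, Cfsg.sympForm d F (Θ a) (Θ b) = ωM a b)
    (X : M ≃ₗ[F] M) (hX : ∀ a b, ωM (X a) (X b) = ωM a b) (r : ℕ)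
    (hXr : ∀ a, (⇑X)^[r] a = a) (hXns : ∀ z : F, ∃ a, X a ≠ z • a) (D : F)
    (hno : ¬ ∃ J : M →ₗ[F] M, IsJ ωM D J ∧ ∀ a, X (J a) = J (X a)) :
    ∃ x : GL (Fin d ⊕ Fin d) F, x ∈ Cfsg.spGL d F ∧ x ^ r = 1 ∧
      (∀ z : F, (x : Mat) ≠ z • (1 : Mat)) ∧
      ¬ ∃ J : V →ₗ[F] V, IsJ (sympB d) D J ∧ ∀ v, (x : Mat) *ᵥ (J v) = J ((x : Mat) *ᵥ v) := by
  set x : GL (Fin d ⊕ Fin d) F := glOfEquiv d (Θ.symm.trans (X.trans Θ)) with hxdef
  have hxv : ∀ v, (x : Mat) *ᵥ v = Θ (X (Θ.symm v)) := by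
    intro v
    rw [hxdef, glOfEquiv_mulVec]
    rfl
  have hxΘ : ∀ a, (x : Mat) *ᵥ (Θ a) = Θ (X a) := by
    intro a
    rw [hxv, LinearEquiv.symm_apply_apply]
  have hxn : ∀ n v, ((x : Mat) ^ n) *ᵥ v = Θ ((⇑X)^[n] (Θ.symm v)) := by
    intro n
    induction n with
    | zero => intro v; simp
    | succ n ih =>
      intro v
      rw [pow_succ', ← Matrix.mulVec_mulVec, ih, hxΘ, Function.iterate_succ_apply']
  refine ⟨x, ?_, ?_, ?_, ?_⟩
  · rw [mem_spGL_iff]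
    intro u v
    rw [hxv, hxv, hΘ, hX, ← hΘ, LinearEquiv.apply_symm_apply, LinearEquiv.apply_symm_apply]
  · apply Units.ext
    rw [Units.val_pow_eq_pow_val, Units.val_one, Matrix.ext_iff_mulVec]
    intro v
    rw [hxn, hXr, LinearEquiv.apply_symm_apply, Matrix.one_mulVec]
  · intro z hz
    obtain ⟨a, ha⟩ := hXns z
    apply ha
    apply Θ.injective
    rw [← hxΘ, hz, Matrix.smul_mulVec, Matrix.one_mulVec, map_smul]
  · rintro ⟨J, hJ, hJx⟩
    apply hno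
    refine ⟨(Θ.symm : V →ₗ[F] M) ∘ₗ J ∘ₗ (Θ : M →ₗ[F] V), ⟨?_, ?_⟩, ?_⟩
    · intro a
      simp only [LinearMap.comp_apply, LinearEquiv.coe_coe, LinearEquiv.apply_symm_apply]
      rw [hJ.sq, map_smul, LinearEquiv.symm_apply_apply]
    · intro a b
      simp only [LinearMap.comp_apply, LinearEquiv.coe_coe]
      rw [← hΘ, ← hΘ, LinearEquiv.apply_symm_apply, LinearEquiv.apply_symm_apply,
        ← sympB_apply, ← sympB_apply]
      exact hJ.adj _ _
    · intro a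
      simp only [LinearMap.comp_apply, LinearEquiv.coe_coe]
      apply Θ.injective
      rw [← hxΘ, LinearEquiv.apply_symm_apply, LinearEquiv.apply_symm_apply, hJx, hxΘ]

end bridge

end Cfsg.Agent.Lib.Helper8.GUSp
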