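import Mathlib
import Cfsg.Agent.Lib.Helper8.GUSpBridge
import Cfsg.Agent.Lib.Helper8.SpIrredElt

/-!
# Elements of odd prime order of `Sp_{2d}(q)` in no subgroup of type `GU_d(q).2`, part 1:
transvections and elements with an irreducible constituent of odd dimension
-/

set_option autoImplicit false

namespace Cfsg.Agent.Lib.Helper8.GUSp

open Matrix Module
open Cfsg.Agent.Lib.Helper99 Cfsg.Agent.Lib.Helper94

section transv

variable {F : Type*} [Field F] (d : ℕ)

local notation "V" => (Fin d ⊕ Fin d → F)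
local notation "Mat" => Matrix (Fin d ⊕ Fin d) (Fin d ⊕ Fin d) F

/-- a transvection commutes with no skew square root of a nonsquare -/
theorem exists_transv_noJ (hd : 1 ≤ d) (p : ℕ) [Fact p.Prime] [CharP F p] (D : F)
    (hD : ¬ IsSquare D) :
    ∃ x : GL (Fin d ⊕ Fin d) F, x ∈ Cfsg.spGL d F ∧ x ^ p = 1 ∧
      (∀ z : F, (x : Mat) ≠ z • (1 : Mat)) ∧
      ¬ ∃ J : V →ₗ[F] V, IsJ (sympB d) D J ∧ ∀ v, (x : Mat) *ᵥ (J v) = J ((x : Mat) *ᵥ v) := by
  classical
  obtain ⟨a, ha⟩ : ∃ a : V, a = Pi.single (Sum.inl ⟨0, hd⟩) 1 := ⟨_, rfl⟩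
  have ha0 : a ≠ 0 := by
    intro h0
    have := congrFun h0 (Sum.inl ⟨0, hd⟩)
    rw [ha] at this
    simp at this
  have haa : Cfsg.sympForm d F a a = 0 := Helper13.sympForm_self d a
  set x : GL (Fin d ⊕ Fin d) F := stv d a 1 with hxdef
  have hxv : ∀ u, (x : Mat) *ᵥ u = u + Cfsg.sympForm d F u a • a := by
    intro u
    rw [hxdef, stv_mulVec, one_mul]
  have hxn : ∀ (n : ℕ) u, ((x : Mat) ^ n) *ᵥ u = u + ((n : F) * Cfsg.sympForm d F u a) • a := by
    intro n
    induction n with
    | zero => intro u; simp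
    | succ n ih =>
      intro u
      rw [pow_succ', ← Matrix.mulVec_mulVec, ih, hxv, Helper13.sympForm_add_left,
        Helper13.sympForm_smul_left, haa, mul_zero, add_zero]
      push_cast
      module
  obtain ⟨u₀, hu₀⟩ : ∃ u₀ : V, Cfsg.sympForm d F u₀ a ≠ 0 := by
    by_contra hcon
    push Not at hcon
    apply ha0
    apply (sympB_nondegenerate d).2 a
    intro u
    rw [sympB_apply]
    exact hcon u
  refine ⟨x, stv_mem_spGL d a 1, ?_, ?_, ?_⟩
  · apply Units.ext
    rw [Units.val_pow_eq_pow_val, Units.val_one, Matrix.ext_iff_mulVec]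
    intro v
    rw [hxn, CharP.cast_eq_zero F p, zero_mul, zero_smul, add_zero, Matrix.one_mulVec]
  · intro z hz
    have h1 := hxv a
    rw [hz, Matrix.smul_mulVec, Matrix.one_mulVec, haa, zero_smul, add_zero] at h1
    have hz1 : z = 1 := by
      have h3 : (z - 1) • a = 0 := by rw [sub_smul, h1, one_smul, sub_self]
      rcases smul_eq_zero.1 h3 with h | h
      · exact sub_eq_zero.1 h
      · exact absurd h ha0
    have h4 := hxv u₀
    rw [hz, hz1, one_smul, Matrix.one_mulVec] at h4
    have h5 : Cfsg.sympForm d F u₀ a • a = 0 := by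
      have := h4.symm
      rwa [add_eq_left] at this
    rcases smul_eq_zero.1 h5 with h | h
    · exact hu₀ h
    · exact ha0 h
  · rintro ⟨J, hJ, hJx⟩
    let φ : V →ₗ[F] F := (sympB (F := F) d).flip a
    have hφ : ∀ u, φ u = Cfsg.sympForm d F u a := by
      intro u
      show sympB d u a = _
      rw [sympB_apply]
    have hinv : ∀ u ∈ LinearMap.ker φ, J u ∈ LinearMap.ker φ := by
      intro u hu
      rw [LinearMap.mem_ker, hφ] at hu ⊢
      have h1 := hJx u
      rw [hxv, hxv, hu, zero_smul, add_zero] at h1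
      have h3 : Cfsg.sympForm d F (J u) a • a = 0 := by rwa [add_eq_left] at h1
      exact (smul_eq_zero.1 h3).resolve_right ha0
    have heven := even_finrank_of_sq J D hD hJ.sq (LinearMap.ker φ) hinv
    have hsurj : Function.Surjective φ := by
      intro t
      refine ⟨(t / Cfsg.sympForm d F u₀ a) • u₀, ?_⟩
      rw [map_smul, hφ, smul_eq_mul, div_mul_cancel₀ _ hu₀]
    have h1 := LinearMap.finrank_range_add_finrank_ker φ
    rw [LinearMap.range_eq_top.2 hsurj, finrank_top, Module.finrank_self,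
      Module.finrank_fintype_fun_eq_card, Fintype.card_sum, Fintype.card_fin] at h1
    obtain ⟨t, ht⟩ := heven
    omega

end transv

section split

variable {F : Type*} [Field F] [Fintype F] (d : ℕ)

local notation "V" => (Fin d ⊕ Fin d → F)
local notation "Mat" => Matrix (Fin d ⊕ Fin d) (Fin d ⊕ Fin d) F

/-- the hyperbolic form on `L × L` -/
noncomputable def hypB (L : Type*) [Field L] [Algebra F L] : LinearMap.BilinForm F (L × L) :=
  (Algebra.traceForm F L).compl₁₂ (LinearMap.fst F L L) (LinearMap.snd F L L)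
    - (Algebra.traceForm F L).compl₁₂ (LinearMap.snd F L L) (LinearMap.fst F L L)

theorem hypB_apply (L : Type*) [Field L] [Algebra F L] (a b : L × L) :
    hypB (F := F) L a b = Algebra.trace F L (a.1 * b.2) - Algebra.trace F L (a.2 * b.1) := by
  simp [hypB, Algebra.traceForm_apply]

/-- an element of odd prime order `r ∣ q^i - 1`, `i` odd, commuting with no skew square root of
a nonsquare -/
theorem exists_split_noJ (p : ℕ) [Fact p.Prime] [CharP F p] (i : ℕ) (hi1 : 1 ≤ i) (hid : i ≤ d)
    (hiodd : Odd i) (r : ℕ) [Fact r.Prime] (hr2 : r ≠ 2) (hri : r ∣ Fintype.card F ^ i - 1)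
    (D : F) (hD : ¬ IsSquare D) :
    ∃ x : GL (Fin d ⊕ Fin d) F, x ∈ Cfsg.spGL d F ∧ x ^ r = 1 ∧
      (∀ z : F, (x : Mat) ≠ z • (1 : Mat)) ∧
      ¬ ∃ J : V →ₗ[F] V, IsJ (sympB d) D J ∧ ∀ v, (x : Mat) *ᵥ (J v) = J ((x : Mat) *ᵥ v) := by
  classical
  have hrp : r.Prime := Fact.out
  have : NeZero i := ⟨by omega⟩
  let L := FiniteField.Extension F p i
  have : Finite L := inferInstance
  let _ : Fintype L := Fintype.ofFinite L
  have hdimL : Module.finrank F L = i := FiniteField.finrank_extension F p i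
  have hcardL : Nat.card L = Fintype.card F ^ i := by
    rw [FiniteField.natCard_extension, Nat.card_eq_fintype_card]
  have hrU : r ∣ Nat.card Lˣ := by
    rw [Nat.card_units, hcardL]
    exact hri
  obtain ⟨ζ, hζ⟩ := exists_prime_orderOf_dvd_card' r hrU
  have hζ1 : ζ ≠ 1 := by
    rintro rfl
    rw [orderOf_one] at hζ
    exact hrp.one_lt.ne hζ
  have hζ1' : (ζ : L) ≠ 1 := fun h => hζ1 (Units.ext h)
  have hζinv : ((ζ⁻¹ : Lˣ) : L) = (ζ : L)⁻¹ := Units.val_inv_eq_inv_val ζ
  have hζne : (ζ : L) ≠ (ζ : L)⁻¹ := by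
    intro h
    have h1 : ζ ^ 2 = 1 := by
      apply Units.ext
      rw [Units.val_pow_eq_pow_val, pow_two, Units.val_one]
      nth_rewrite 2 [h]
      exact mul_inv_cancel₀ (Units.ne_zero ζ)
    have h3 := orderOf_dvd_of_pow_eq_one h1
    rw [hζ] at h3
    exact hr2 ((Nat.prime_dvd_prime_iff_eq hrp Nat.prime_two).1 h3)
  -- the model space
  set k := d - i with hk
  let W := (Fin k ⊕ Fin k → F)
  let ω : LinearMap.BilinForm F ((L × L) × W) :=
    (hypB (F := F) L).compl₁₂ (LinearMap.fst F (L × L) W) (LinearMap.fst F (L × L) W)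
      + (sympB k).compl₁₂ (LinearMap.snd F (L × L) W) (LinearMap.snd F (L × L) W)
  have hω : ∀ a b : (L × L) × W, ω a b =
      Algebra.trace F L (a.1.1 * b.1.2) - Algebra.trace F L (a.1.2 * b.1.1)
        + Cfsg.sympForm k F a.2 b.2 := by
    intro a b
    simp [ω, hypB_apply, sympB_apply]
  have halt : ω.IsAlt := by
    intro a
    rw [hω, mul_comm a.1.1 a.1.2, sub_self, ← sympB_apply, sympB_self, add_zero]
  have htr := traceForm_nondegenerate F L
  have hleft : ∀ a, (∀ b, ω a b = 0) → a = 0 := by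
    intro a ha
    apply Prod.ext
    · apply Prod.ext
      · apply htr.1 a.1.1
        intro y
        have := ha (((0 : L), y), (0 : W))
        rw [hω] at this
        simp only [mul_zero, map_zero, sub_zero] at this
        rw [← sympB_apply, map_zero, add_zero] at this
        rw [Algebra.traceForm_apply]
        exact this
      · apply htr.1 a.1.2
        intro y
        have := ha ((y, (0 : L)), (0 : W))
        rw [hω] at this
        simp only [mul_zero, map_zero, zero_sub] at this
        rw [← sympB_apply, map_zero, add_zero, neg_eq_zero] at this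
        rw [Algebra.traceForm_apply]
        exact this
    · apply sympB_nd_left k
      intro v
      have := ha (((0 : L), (0 : L)), v)
      rw [hω] at this
      simp only [mul_zero, map_zero, sub_zero, zero_add] at this
      rw [sympB_apply]
      exact this
  have hnd : ω.Nondegenerate := by
    refine ⟨hleft, fun b hb => hleft b (fun a => ?_)⟩
    have := hb a
    rw [← LinearMap.IsAlt.neg halt, this, neg_zero]
  have hfr : finrank F ((L × L) × W) = 2 * d := by
    rw [Module.finrank_prod, Module.finrank_prod, hdimL, Module.finrank_fintype_fun_eq_card,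
      Fintype.card_sum, Fintype.card_fin, hk]
    omega
  obtain ⟨Θ, hΘ⟩ := exists_symp_coords_gen ω halt hnd d hfr
  let X : ((L × L) × W) ≃ₗ[F] ((L × L) × W) :=
    ((unitMul F L ζ).prodCongr (unitMul F L ζ⁻¹)).prodCongr (LinearEquiv.refl F W)
  have hX : ∀ a, X a = (((ζ : L) * a.1.1, (ζ : L)⁻¹ * a.1.2), a.2) := by
    intro a
    rw [← hζinv]
    rfl
  have hXω : ∀ a b, ω (X a) (X b) = ω a b := by
    intro a b
    rw [hω, hω, hX, hX]
    simp only
    have hz : (ζ : L) ≠ 0 := Units.ne_zero ζ
    have e1 : (ζ : L) * a.1.1 * ((ζ : L)⁻¹ * b.1.2) = a.1.1 * b.1.2 := by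
      calc (ζ : L) * a.1.1 * ((ζ : L)⁻¹ * b.1.2) = ((ζ : L) * (ζ : L)⁻¹) * (a.1.1 * b.1.2) := by
            ring
        _ = a.1.1 * b.1.2 := by rw [mul_inv_cancel₀ hz, one_mul]
    have e2 : (ζ : L)⁻¹ * a.1.2 * ((ζ : L) * b.1.1) = a.1.2 * b.1.1 := by
      calc (ζ : L)⁻¹ * a.1.2 * ((ζ : L) * b.1.1) = ((ζ : L) * (ζ : L)⁻¹) * (a.1.2 * b.1.1) := by
            ring
        _ = a.1.2 * b.1.1 := by rw [mul_inv_cancel₀ hz, one_mul]
    rw [e1, e2]
  have hXn : ∀ n a, (⇑X)^[n] a = (((ζ : L) ^ n * a.1.1, ((ζ : L)⁻¹) ^ n * a.1.2), a.2) := by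
    intro n
    induction n with
    | zero => intro a; simp
    | succ n ih =>
      intro a
      rw [Function.iterate_succ_apply', ih, hX]
      simp only
      rw [pow_succ', pow_succ', mul_assoc, mul_assoc]
  have hζr : (ζ : L) ^ r = 1 := by
    rw [← Units.val_pow_eq_pow_val, ← hζ, pow_orderOf_eq_one, Units.val_one]
  have hXr : ∀ a, (⇑X)^[r] a = a := by
    intro a
    rw [hXn, inv_pow, hζr, inv_one, one_mul, one_mul]
  have hXns : ∀ z : F, ∃ a, X a ≠ z • a := by
    intro z
    by_contra hcon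
    push Not at hcon
    have h1 := hcon (((1 : L), (0 : L)), (0 : W))
    have h3 := hcon (((0 : L), (1 : L)), (0 : W))
    rw [hX] at h1 h3
    have e1 : (ζ : L) = z • (1 : L) := by
      have := congrArg (fun m : (L × L) × W => m.1.1) h1
      simpa using this
    have e2 : (ζ : L)⁻¹ = z • (1 : L) := by
      have := congrArg (fun m : (L × L) × W => m.1.2) h3
      simpa using this
    exact hζne (e1.trans e2.symm)
  refine exists_elt_of_model d ω Θ hΘ X hXω r hXr hXns D ?_
  rintro ⟨J, hJ, hJX⟩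
  -- polynomial action
  let act : Polynomial F → ((L × L) × W) → ((L × L) × W) := fun Q m =>
    ((Polynomial.aeval (ζ : L) Q * m.1.1, Polynomial.aeval ((ζ : L)⁻¹) Q * m.1.2),
      Polynomial.eval 1 Q • m.2)
  have hact : ∀ Q : Polynomial F, ∀ m, J (act Q m) = act Q (J m) := by
    intro Q
    induction Q using Polynomial.induction_on with
    | C a =>
      intro m
      have e : ∀ m' : (L × L) × W, act (Polynomial.C a) m' = a • m' := by
        intro m'
        show ((Polynomial.aeval (ζ : L) (Polynomial.C a) * m'.1.1,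
          Polynomial.aeval ((ζ : L)⁻¹) (Polynomial.C a) * m'.1.2),
            Polynomial.eval 1 (Polynomial.C a) • m'.2) = a • m'
        rw [Polynomial.aeval_C, Polynomial.aeval_C, Polynomial.eval_C, ← Algebra.smul_def,
          ← Algebra.smul_def]
        rfl
      rw [e, e, map_smul]
    | add P Q hP hQ =>
      intro m
      have e : ∀ m' : (L × L) × W, act (P + Q) m' = act P m' + act Q m' := by
        intro m'
        show ((Polynomial.aeval (ζ : L) (P + Q) * m'.1.1,
          Polynomial.aeval ((ζ : L)⁻¹) (P + Q) * m'.1.2),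
            Polynomial.eval 1 (P + Q) • m'.2) = _
        rw [map_add, map_add, Polynomial.eval_add, add_mul, add_mul, add_smul]
        rfl
      rw [e, e, map_add, hP, hQ]
    | monomial n a hn =>
      intro m
      have e : ∀ m' : (L × L) × W,
          act (Polynomial.C a * Polynomial.X ^ (n + 1)) m' =
            act (Polynomial.C a * Polynomial.X ^ n) (X m') := by
        intro m'
        rw [hX]
        show ((Polynomial.aeval (ζ : L) (Polynomial.C a * Polynomial.X ^ (n + 1)) * m'.1.1,
          Polynomial.aeval ((ζ : L)⁻¹) (Polynomial.C a * Polynomial.X ^ (n + 1)) * m'.1.2),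
            Polynomial.eval 1 (Polynomial.C a * Polynomial.X ^ (n + 1)) • m'.2) =
          ((Polynomial.aeval (ζ : L) (Polynomial.C a * Polynomial.X ^ n) * ((ζ : L) * m'.1.1),
          Polynomial.aeval ((ζ : L)⁻¹) (Polynomial.C a * Polynomial.X ^ n) *
            ((ζ : L)⁻¹ * m'.1.2)),
            Polynomial.eval 1 (Polynomial.C a * Polynomial.X ^ n) • m'.2)
        simp only [map_mul, map_pow, Polynomial.aeval_C, Polynomial.aeval_X, Polynomial.eval_mul,
          Polynomial.eval_C, Polynomial.eval_pow, Polynomial.eval_X, one_pow, mul_one]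
        refine Prod.ext (Prod.ext ?_ ?_) rfl
        · simp only; ring
        · simp only; ring
      rw [e, e, hn, hJX]
  set P : Polynomial F := minpoly F (ζ : L) with hPdef
  have halg : IsAlgebraic F (ζ : L) := Algebra.IsAlgebraic.isAlgebraic _
  have hP0 : Polynomial.aeval (ζ : L) P = 0 := minpoly.aeval F (ζ : L)
  have hβ : Polynomial.aeval ((ζ : L)⁻¹) P ≠ 0 := by
    intro h0
    obtain ⟨τ, hτ⟩ := minpoly.exists_algEquiv_of_root' halg h0
    have hτinv : τ ((ζ : L)⁻¹) = (ζ : L) := by rw [map_inv₀, hτ, inv_inv]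
    have h2k : ∀ n : ℕ, (τ ^ (2 * n)) (ζ : L) = (ζ : L) := by
      intro n
      induction n with
      | zero => simp
      | succ n ih =>
        have e : 2 * (n + 1) = 2 * n + 1 + 1 := by ring
        rw [e, pow_succ, pow_succ, AlgEquiv.mul_apply, AlgEquiv.mul_apply, hτ, hτinv, ih]
    have hord : orderOf τ ∣ i := by
      have h1 := orderOf_dvd_natCard τ
      rwa [FiniteField.natCard_algEquiv_extension F p i] at h1
    have hoo : Odd (orderOf τ) := by
      rcases Nat.even_or_odd (orderOf τ) with he | ho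
      · exfalso
        have : Even i := he.trans_dvd hord
        exact (Nat.not_even_iff_odd.2 hiodd) this
      · exact ho
    obtain ⟨n, hn⟩ := hoo
    have h5 : (τ ^ orderOf τ) (ζ : L) = (ζ : L)⁻¹ := by
      rw [hn, pow_succ, AlgEquiv.mul_apply, hτ, map_inv₀, h2k]
    rw [pow_orderOf_eq_one, AlgEquiv.one_apply] at h5
    exact hζne h5
  have hγ : Polynomial.eval 1 P ≠ 0 := by
    intro h0
    have h1 : Polynomial.aeval (1 : L) P = 0 := by
      have := Polynomial.aeval_algebraMap_apply_eq_algebraMap_eval (A := L) (1 : F) P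
      rw [map_one] at this
      rw [this, h0, map_zero]
    obtain ⟨τ, hτ⟩ := minpoly.exists_algEquiv_of_root' halg h1
    apply hζ1'
    apply τ.injective
    rw [hτ, map_one]
  let ι : L →ₗ[F] ((L × L) × W) :=
    (LinearMap.inl F (L × L) W) ∘ₗ (LinearMap.inl F L L)
  have hι : ∀ a, ι a = ((a, (0 : L)), (0 : W)) := fun a => rfl
  have hιinj : Function.Injective ι := by
    intro a b hab
    rw [hι, hι] at hab
    exact congrArg (fun m : (L × L) × W => m.1.1) hab
  have hmemU : ∀ m : (L × L) × W, m ∈ LinearMap.range ι ↔ m.1.2 = 0 ∧ m.2 = 0 := by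
    intro m
    constructor
    · rintro ⟨a, rfl⟩
      exact ⟨rfl, rfl⟩
    · rintro ⟨h1, h3⟩
      refine ⟨m.1.1, ?_⟩
      rw [hι]
      exact Prod.ext (Prod.ext rfl h1.symm) h3.symm
  have hinv : ∀ m ∈ LinearMap.range ι, J m ∈ LinearMap.range ι := by
    intro m hm
    rw [hmemU] at hm ⊢
    have h1 : act P m = 0 := by
      show ((Polynomial.aeval (ζ : L) P * m.1.1, Polynomial.aeval ((ζ : L)⁻¹) P * m.1.2),
        Polynomial.eval 1 P • m.2) = 0
      rw [hP0, zero_mul, hm.1, mul_zero, hm.2, smul_zero]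
      rfl
    have h3 : act P (J m) = 0 := by rw [← hact, h1, map_zero]
    have h4 : Polynomial.aeval ((ζ : L)⁻¹) P * (J m).1.2 = 0 :=
      congrArg (fun m' : (L × L) × W => m'.1.2) h3
    have h5 : Polynomial.eval 1 P • (J m).2 = 0 :=
      congrArg (fun m' : (L × L) × W => m'.2) h3
    exact ⟨(mul_eq_zero.1 h4).resolve_left hβ, (smul_eq_zero.1 h5).resolve_left hγ⟩
  have heven := even_finrank_of_sq J D hD hJ.sq (LinearMap.range ι) hinv
  rw [LinearMap.finrank_range_of_inj hιinj, hdimL] at heven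
  exact (Nat.not_even_iff_odd.2 hiodd) heven

end split

end Cfsg.Agent.Lib.Helper8.GUSp
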