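import Mathlib
import Cfsg.Agent.Lib.Helper13.SPD
import Cfsg.Agent.Lib.Helper44.CharTwoSym

/-!
# Extension field structures on a symplectic space: obstructions

A vector space `V` over `F` which is also a vector space over an extension field `𝕂`, an
`F`-bilinear form for which the scalars of `𝕂` are self-adjoint and alternating, and an
`F`-linear map normalizing the scalars of `𝕂`.
-/

set_option autoImplicit false

namespace Cfsg.Agent.Lib.Helper8.SpExt

open Module

section abstract

variable {F 𝕂 V : Type*} [Field F] [Field 𝕂] [Algebra F 𝕂] [AddCommGroup V] [Module F V]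
  [Module 𝕂 V] [IsScalarTower F 𝕂 V]

/-- `X` normalizes the scalar action of `𝕂` -/
def Normalizes (𝕂 : Type*) [Field 𝕂] [Module 𝕂 V] (X : V →ₗ[F] V) : Prop :=
  ∀ c : 𝕂, ∃ c' : 𝕂, ∀ v, X (c • v) = c' • X v

/-- `X` commutes with the scalar action of `𝕂` -/
def Commutes (𝕂 : Type*) [Field 𝕂] [Module 𝕂 V] (X : V →ₗ[F] V) : Prop :=
  ∀ (c : 𝕂) (v : V), X (c • v) = c • X v

/-- a normalizing map with a large fixed space commutes with the scalars -/
theorem commutes_of_rank [FiniteDimensional F V] (X : V →ₗ[F] V) (hX : Normalizes 𝕂 X)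
    (U : Submodule F V) (hU : ∀ u ∈ U, X u = u) (hdim : finrank F V < 2 * finrank F U) :
    Commutes 𝕂 X := by
  intro c v
  obtain ⟨c', hc'⟩ := hX c
  suffices h : c = c' by
    rw [hc' v, ← h]
  by_contra hne
  have hb0 : c - c' ≠ 0 := sub_ne_zero.2 hne
  have hmem : ∀ u ∈ U, (c - c') • u ∈ LinearMap.range (X - 1) := by
    intro u hu
    refine ⟨-(c • u), ?_⟩
    rw [map_neg, LinearMap.sub_apply, Module.End.one_apply, hc' u, hU u hu, sub_smul]
    abel
  let φ : U →ₗ[F] LinearMap.range (X - 1) :=
    { toFun := fun u => ⟨(c - c') • u.1, hmem u.1 u.2⟩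
      map_add' := by
        intro u u'
        apply Subtype.ext
        simp only [Submodule.coe_add, smul_add]
      map_smul' := by
        intro a u
        apply Subtype.ext
        simp only [Submodule.coe_smul, RingHom.id_apply]
        rw [smul_comm] }
  have hφ : Function.Injective φ := by
    intro u u' huu
    have h1 : (c - c') • u.1 = (c - c') • u'.1 := congrArg Subtype.val huu
    apply Subtype.ext
    have h3 : (c - c')⁻¹ • ((c - c') • u.1) = (c - c')⁻¹ • ((c - c') • u'.1) := by rw [h1]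
    rwa [smul_smul, smul_smul, inv_mul_cancel₀ hb0, one_smul, one_smul] at h3
  have h1 : finrank F U ≤ finrank F (LinearMap.range (X - 1)) :=
    LinearMap.finrank_le_finrank_of_injective hφ
  have h2 := LinearMap.finrank_range_add_finrank_ker (X - 1)
  have h3 : finrank F U ≤ finrank F (LinearMap.ker (X - 1)) := by
    apply Submodule.finrank_mono
    intro u hu
    rw [LinearMap.mem_ker, LinearMap.sub_apply, Module.End.one_apply, hU u hu, sub_self]
  omega

/-- a normalizing map of prime order different from the degree commutes with the scalars -/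
theorem commutes_of_order [Finite 𝕂] [Nontrivial V] (X : V ≃ₗ[F] V)
    (hX : Normalizes 𝕂 (X : V →ₗ[F] V)) (r : ℕ) (hr : r.Prime) (hk : (finrank F 𝕂).Prime)
    (hrk : r ≠ finrank F 𝕂) (hXr : ∀ v, (⇑X)^[r] v = v) :
    Commutes 𝕂 (X : V →ₗ[F] V) := by
  classical
  have hfaith : ∀ c c' : 𝕂, (∀ v : V, c • v = c' • v) → c = c' := by
    intro c c' h
    obtain ⟨v, hv⟩ := exists_ne (0 : V)
    have h1 : (c - c') • v = 0 := by rw [sub_smul, h v, sub_self]
    rcases smul_eq_zero.1 h1 with h3 | h3
    · exact sub_eq_zero.1 h3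
    · exact absurd h3 hv
  choose σ hσ using hX
  have hσ' : ∀ c v, X (c • v) = σ c • X v := fun c v => hσ c v
  have huniq : ∀ c c' : 𝕂, (∀ v, X (c • v) = c' • X v) → c' = σ c := by
    intro c c' h
    apply hfaith
    intro v
    obtain ⟨w, rfl⟩ := X.surjective v
    rw [← h w, hσ' c w]
  have hadd : ∀ c d, σ (c + d) = σ c + σ d := by
    intro c d
    symm
    apply huniq
    intro v
    rw [add_smul, map_add, hσ', hσ', add_smul]
  have hmul : ∀ c d, σ (c * d) = σ c * σ d := by
    intro c d
    symm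
    apply huniq
    intro v
    rw [mul_smul, hσ', hσ', mul_smul]
  have hone : σ 1 = 1 := by
    symm
    apply huniq
    intro v
    rw [one_smul, one_smul]
  have hzero : σ 0 = 0 := by
    symm
    apply huniq
    intro v
    rw [zero_smul, zero_smul, map_zero]
  have halg : ∀ a : F, σ (algebraMap F 𝕂 a) = algebraMap F 𝕂 a := by
    intro a
    symm
    apply huniq
    intro v
    rw [algebraMap_smul, algebraMap_smul, map_smul]
  let τ : 𝕂 →ₐ[F] 𝕂 :=
    { toFun := σ
      map_one' := hone
      map_mul' := hmul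
      map_zero' := hzero
      map_add' := hadd
      commutes' := halg }
  have hτ : ∀ c, τ c = σ c := fun c => rfl
  have hτinj : Function.Injective τ := τ.toRingHom.injective
  have hτbij : Function.Bijective τ := ⟨hτinj, Finite.injective_iff_surjective.1 hτinj⟩
  let e : 𝕂 ≃ₐ[F] 𝕂 := AlgEquiv.ofBijective τ hτbij
  have he : ∀ c, e c = σ c := fun c => rfl
  have hiter : ∀ (n : ℕ) (c : 𝕂) (v : V), (⇑X)^[n] (c • v) = ((e ^ n) c) • (⇑X)^[n] v := by
    intro n
    induction n with
    | zero => intro c v; simp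
    | succ n ih =>
      intro c v
      rw [Function.iterate_succ_apply', Function.iterate_succ_apply', ih, hσ', pow_succ',
        AlgEquiv.mul_apply, he]
  have her : e ^ r = 1 := by
    apply AlgEquiv.ext
    intro c
    rw [AlgEquiv.one_apply]
    apply hfaith
    intro v
    have := hiter r c v
    rw [hXr, hXr] at this
    exact this.symm
  have hfd : FiniteDimensional F 𝕂 := Module.Finite.of_finite
  have h1 : orderOf e ∣ r := orderOf_dvd_of_pow_eq_one her
  have h2 : orderOf e ∣ finrank F 𝕂 := by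
    rw [← IsGalois.card_aut_eq_finrank F 𝕂]
    exact orderOf_dvd_natCard e
  have h3 : orderOf e = 1 := by
    rcases (Nat.dvd_prime hr).1 h1 with h | h
    · exact h
    · exfalso
      rw [h] at h2
      exact hrk ((Nat.prime_dvd_prime_iff_eq hr hk).1 h2)
  have he1 : e = 1 := orderOf_eq_one_iff.1 h3
  intro c v
  have h4 : σ c = c := by
    rw [← he, he1, AlgEquiv.one_apply]
  have := hσ' c v
  rw [h4] at this
  exact this

/-- an invariant subspace has dimension divisible by the degree -/
theorem finrank_dvd_of_invariant [Module.Finite F 𝕂] [Module.Finite 𝕂 V] (W : Submodule F V)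
    (hW : ∀ (c : 𝕂), ∀ w ∈ W, c • w ∈ W) : finrank F 𝕂 ∣ finrank F W := by
  let W' : Submodule 𝕂 V :=
    { carrier := W
      add_mem' := W.add_mem
      zero_mem' := W.zero_mem
      smul_mem' := fun c w hw => hW c w hw }
  let ε : W ≃ₗ[F] W' :=
    { toFun := fun w => ⟨w.1, w.2⟩
      invFun := fun w => ⟨w.1, w.2⟩
      map_add' := fun _ _ => rfl
      map_smul' := fun _ _ => rfl
      left_inv := fun _ => rfl
      right_inv := fun _ => rfl }
  rw [ε.finrank_eq, ← Module.finrank_mul_finrank F 𝕂 W']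
  exact dvd_mul_right _ _

/-- a nondegenerate invariant subspace has dimension divisible by twice the degree -/
theorem two_finrank_dvd_of_nondeg [Module.Finite F 𝕂] [Module.Finite 𝕂 V]
    (f : V →ₗ[F] V →ₗ[F] F)
    (hsa : ∀ (c : 𝕂) (u v : V), f (c • u) v = f u (c • v))
    (halt : ∀ (c : 𝕂) (v : V), f (c • v) v = 0)
    (W : Submodule F V) (hW : ∀ (c : 𝕂), ∀ w ∈ W, c • w ∈ W)
    (hnd : ∀ u ∈ W, (∀ v ∈ W, f u v = 0) → u = 0) :
    2 * finrank F 𝕂 ∣ finrank F W := by
  let W' : Submodule 𝕂 V :=
    { carrier := W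
      add_mem' := W.add_mem
      zero_mem' := W.zero_mem
      smul_mem' := fun c w hw => hW c w hw }
  let ε : W ≃ₗ[F] W' :=
    { toFun := fun w => ⟨w.1, w.2⟩
      invFun := fun w => ⟨w.1, w.2⟩
      map_add' := fun _ _ => rfl
      map_smul' := fun _ _ => rfl
      left_inv := fun _ => rfl
      right_inv := fun _ => rfl }
  obtain ⟨tr, htr1⟩ := Cfsg.Agent.Lib.Helper13.CF.exists_coord (F := F) (b := (1 : 𝕂)) one_ne_zero
  have htr : tr ≠ 0 := by
    rintro rfl
    simp at htr1
  let j : W' →ₗ[F] V := (W'.subtype).restrictScalars F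
  have hj : ∀ w : W', j w = w.1 := fun w => rfl
  let fW : W' →ₗ[F] W' →ₗ[F] F := f.compl₁₂ j j
  have hfW : ∀ u v : W', fW u v = f u.1 v.1 := fun u v => rfl
  obtain ⟨B, D, hB⟩ := Cfsg.Agent.Lib.Helper13.SP.exists_B (K := 𝕂) (V := W') tr htr fW
    (by
      intro c u v
      rw [hfW, hfW]
      exact hsa c u.1 v.1)
    (by
      intro c v
      rw [hfW]
      exact halt c v.1)
    (by
      intro u hu
      apply Subtype.ext
      apply hnd u.1 u.2
      intro v hv
      have := hu ⟨v, hv⟩
      rwa [hfW] at this)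
  have hBalt : LinearMap.BilinForm.IsAlt (B : LinearMap.BilinForm 𝕂 W') := fun v => D.alt v
  have hBnd : (B : LinearMap.BilinForm 𝕂 W').Nondegenerate := by
    refine ⟨fun u hu => D.nd u hu, fun v hv => D.nd v (fun u => ?_)⟩
    rw [D.skew, hv u, neg_zero]
  obtain ⟨N, hN⟩ := Cfsg.Agent.Lib.Helper44.alt_finrank_even (finrank 𝕂 W') W'
    (B : LinearMap.BilinForm 𝕂 W') hBalt hBnd rfl
  rw [ε.finrank_eq, ← Module.finrank_mul_finrank F 𝕂 W', hN]
  exact ⟨N, by ring⟩

end abstract

end Cfsg.Agent.Lib.Helper8.SpExt
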