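import Mathlib
import Cfsg.Agent.Lib.Helper8.SpExtObs
import Cfsg.Agent.Lib.Helper13.SPF
import Cfsg.Agent.Lib.Helper99.SpMax

/-!
# Extension field subgroups of `Sp_{2d}(q)`: elements outside all conjugates
-/

set_option autoImplicit false
set_option linter.style.haveILetI false
set_option linter.unusedSectionVars false

namespace Cfsg.Agent.Lib.Helper8.SpExt

open Matrix Module
open Cfsg.Agent.Lib.Helper99

section fixdata

variable {F : Type*} [Field F] (d : ℕ)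

local notation "V" => (Fin d ⊕ Fin d → F)
local notation "Mat" => Matrix (Fin d ⊕ Fin d) (Fin d ⊕ Fin d) F

/-- an element acting fixed point freely on a nondegenerate subspace `W` of dimension `2j` and
trivially on its orthogonal complement `U` -/
structure FixData (j : ℕ) (x : GL (Fin d ⊕ Fin d) F) (W U : Submodule F V) : Prop where
  span : ∀ v : V, ∃ w ∈ W, ∃ u ∈ U, v = w + u
  fixU : ∀ u ∈ U, (x : Mat) *ᵥ u = u
  orth : ∀ w ∈ W, ∀ u ∈ U, Cfsg.sympForm d F w u = 0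
  stab : ∀ w ∈ W, (x : Mat) *ᵥ w ∈ W
  surj : ∀ w ∈ W, ∃ w' ∈ W, w = (x : Mat) *ᵥ w' - w'
  dimW : finrank F W = 2 * j
  dimU : 2 * d ≤ finrank F U + 2 * j

variable {d}

/-- conjugating the data by a symplectic matrix -/
theorem FixData.conj {j : ℕ} {x : GL (Fin d ⊕ Fin d) F} {W U : Submodule F V}
    (h : FixData d j x W U) (g : GL (Fin d ⊕ Fin d) F) (hg : g ∈ Cfsg.spGL d F) :
    FixData d j (g⁻¹ * x * g)
      (W.map (Matrix.toLin' ((g⁻¹ : GL (Fin d ⊕ Fin d) F) : Mat)))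
      (U.map (Matrix.toLin' ((g⁻¹ : GL (Fin d ⊕ Fin d) F) : Mat))) := by
  have hgp := (mem_spGL_iff d g).1 hg
  have hginv : g⁻¹ ∈ Cfsg.spGL d F := Subgroup.inv_mem _ hg
  have hgip := (mem_spGL_iff d g⁻¹).1 hginv
  have hmemW : ∀ v : V, v ∈ W.map (Matrix.toLin' ((g⁻¹ : GL (Fin d ⊕ Fin d) F) : Mat)) ↔
      (g : Mat) *ᵥ v ∈ W := by
    intro v
    rw [Submodule.mem_map]
    constructor
    · rintro ⟨w, hw, rfl⟩
      rw [Matrix.toLin'_apply, mulVec_inv_mulVec]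
      exact hw
    · intro hv
      exact ⟨(g : Mat) *ᵥ v, hv, by rw [Matrix.toLin'_apply, inv_mulVec_mulVec]⟩
  have hmemU : ∀ v : V, v ∈ U.map (Matrix.toLin' ((g⁻¹ : GL (Fin d ⊕ Fin d) F) : Mat)) ↔
      (g : Mat) *ᵥ v ∈ U := by
    intro v
    rw [Submodule.mem_map]
    constructor
    · rintro ⟨w, hw, rfl⟩
      rw [Matrix.toLin'_apply, mulVec_inv_mulVec]
      exact hw
    · intro hv
      exact ⟨(g : Mat) *ᵥ v, hv, by rw [Matrix.toLin'_apply, inv_mulVec_mulVec]⟩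
  have hconj : ∀ v : V, ((g⁻¹ * x * g : GL (Fin d ⊕ Fin d) F) : Mat) *ᵥ v =
      ((g⁻¹ : GL (Fin d ⊕ Fin d) F) : Mat) *ᵥ ((x : Mat) *ᵥ ((g : Mat) *ᵥ v)) := by
    intro v
    rw [Units.val_mul, Units.val_mul, ← Matrix.mulVec_mulVec, ← Matrix.mulVec_mulVec]
  let e : V ≃ₗ[F] V := Cfsg.Agent.Lib.Helper13.SP.ΘI (g⁻¹ : GL (Fin d ⊕ Fin d) F)
  have he : ∀ v, e v = ((g⁻¹ : GL (Fin d ⊕ Fin d) F) : Mat) *ᵥ v := fun v => rfl
  have hmapW : W.map (Matrix.toLin' ((g⁻¹ : GL (Fin d ⊕ Fin d) F) : Mat)) =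
      W.map (e : V →ₗ[F] V) := by
    congr 1
  have hmapU : U.map (Matrix.toLin' ((g⁻¹ : GL (Fin d ⊕ Fin d) F) : Mat)) =
      U.map (e : V →ₗ[F] V) := by
    congr 1
  refine ⟨?_, ?_, ?_, ?_, ?_, ?_, ?_⟩
  · intro v
    obtain ⟨w, hw, u, hu, hv⟩ := h.span ((g : Mat) *ᵥ v)
    refine ⟨((g⁻¹ : GL (Fin d ⊕ Fin d) F) : Mat) *ᵥ w, ?_,
      ((g⁻¹ : GL (Fin d ⊕ Fin d) F) : Mat) *ᵥ u, ?_, ?_⟩
    · rw [hmemW, mulVec_inv_mulVec]
      exact hw
    · rw [hmemU, mulVec_inv_mulVec]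
      exact hu
    · rw [← Matrix.mulVec_add, ← hv, inv_mulVec_mulVec]
  · intro u hu
    rw [hmemU] at hu
    rw [hconj, h.fixU _ hu, inv_mulVec_mulVec]
  · intro w hw u hu
    rw [hmemW] at hw
    rw [hmemU] at hu
    rw [← hgp w u]
    exact h.orth _ hw _ hu
  · intro w hw
    rw [hmemW] at hw ⊢
    rw [hconj, mulVec_inv_mulVec]
    exact h.stab _ hw
  · intro w hw
    rw [hmemW] at hw
    obtain ⟨w', hw', hww⟩ := h.surj _ hw
    refine ⟨((g⁻¹ : GL (Fin d ⊕ Fin d) F) : Mat) *ᵥ w', ?_, ?_⟩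
    · rw [hmemW, mulVec_inv_mulVec]
      exact hw'
    · rw [hconj, mulVec_inv_mulVec, ← Matrix.mulVec_sub, ← hww, inv_mulVec_mulVec]
  · rw [hmapW, LinearEquiv.finrank_map_eq]
    exact h.dimW
  · rw [hmapU, LinearEquiv.finrank_map_eq]
    exact h.dimU

end fixdata

section embedded

variable {F : Type*} [Field F] [Fintype F] (d : ℕ) {𝕂 : Type*} [Field 𝕂] [Algebra F 𝕂]
  [Finite 𝕂] (ι : 𝕂 →ₐ[F] Matrix (Fin d ⊕ Fin d) (Fin d ⊕ Fin d) F)
  (hι : Function.Injective ι)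

local notation "V" => (Fin d ⊕ Fin d → F)
local notation "Mat" => Matrix (Fin d ⊕ Fin d) (Fin d ⊕ Fin d) F

include hι

/-- an element of the normalizer normalizes the scalars -/
theorem normalizes_of_mem (y : GL (Fin d ⊕ Fin d) F)
    (hy : y ∈ Cfsg.Geo.subalgebraNormalizer ι.range) :
    letI := Cfsg.Agent.Lib.Helper13.SP.modOfI ι
    Normalizes 𝕂 ((Cfsg.Agent.Lib.Helper13.SP.ΘI y : V ≃ₗ[F] V) : V →ₗ[F] V) := by
  letI := Cfsg.Agent.Lib.Helper13.SP.modOfI ι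
  have hs := (Cfsg.Agent.Lib.Helper13.SP.mem_normalizer_iffI ι hι y).1 hy
  intro c
  obtain ⟨c', hc'⟩ := hs c
  refine ⟨c', fun v => ?_⟩
  show (y : Mat) *ᵥ (ι c *ᵥ v) = ι c' *ᵥ ((y : Mat) *ᵥ v)
  rw [Matrix.mulVec_mulVec, Matrix.mulVec_mulVec, hc']

/-- the main obstruction: the dimension of the moved subspace -/
theorem dvd_of_fixData (hd : 1 ≤ d) (hk : (finrank F 𝕂).Prime)
    (hsa : ∀ (k : 𝕂) (u v : V), Cfsg.sympForm d F (ι k *ᵥ u) v = Cfsg.sympForm d F u (ι k *ᵥ v))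
    (halt : ∀ (k : 𝕂) (v : V), Cfsg.sympForm d F (ι k *ᵥ v) v = 0)
    (y : GL (Fin d ⊕ Fin d) F) (hy : y ∈ Cfsg.Geo.subalgebraNormalizer ι.range)
    (j : ℕ) (W U : Submodule F V) (hdata : FixData d j y W U)
    (hcomm : 4 * j < 2 * d ∨ ∃ r : ℕ, r.Prime ∧ r ≠ finrank F 𝕂 ∧ y ^ r = 1) :
    finrank F 𝕂 ∣ j := by
  classical
  letI := Cfsg.Agent.Lib.Helper13.SP.modOfI ι
  haveI := Cfsg.Agent.Lib.Helper13.SP.modOfI_tower ι
  haveI : Module.Finite F 𝕂 := Module.Finite.of_finite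
  haveI : Module.Finite 𝕂 V := Module.Finite.of_finite
  have hsmul : ∀ (c : 𝕂) (v : V), c • v = ι c *ᵥ v := fun c v => rfl
  set X : V ≃ₗ[F] V := Cfsg.Agent.Lib.Helper13.SP.ΘI y with hXdef
  have hXv : ∀ v, X v = (y : Mat) *ᵥ v := fun v => rfl
  have hN := normalizes_of_mem d ι hι y hy
  have hdimV : finrank F V = 2 * d := by
    rw [Module.finrank_fintype_fun_eq_card, Fintype.card_sum, Fintype.card_fin]
    ring
  have hC : Commutes 𝕂 (X : V →ₗ[F] V) := by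
    rcases hcomm with h | ⟨r, hr, hrk, hyr⟩
    · apply commutes_of_rank (X : V →ₗ[F] V) hN U
      · intro u hu
        exact hdata.fixU u hu
      · rw [hdimV]
        have := hdata.dimU
        omega
    · have : Nonempty (Fin d ⊕ Fin d) := ⟨Sum.inl ⟨0, hd⟩⟩
      have : Nontrivial V := inferInstance
      apply commutes_of_order X hN r hr hk hrk
      intro v
      have hpow : ∀ n : ℕ, ∀ v, (⇑X)^[n] v = ((y ^ n : GL (Fin d ⊕ Fin d) F) : Mat) *ᵥ v := by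
        intro n
        induction n with
        | zero => intro v; simp
        | succ n ih =>
          intro v
          rw [Function.iterate_succ_apply', ih, hXv, pow_succ', Units.val_mul,
            ← Matrix.mulVec_mulVec]
      rw [hpow, hyr, Units.val_one, Matrix.one_mulVec]
  have hmove : ∀ v : V, (y : Mat) *ᵥ v - v ∈ W := by
    intro v
    obtain ⟨w, hw, u, hu, rfl⟩ := hdata.span v
    rw [Matrix.mulVec_add, hdata.fixU u hu]
    have : (y : Mat) *ᵥ w + u - (w + u) = (y : Mat) *ᵥ w - w := by abel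
    rw [this]
    exact W.sub_mem (hdata.stab w hw) hw
  have hWinv : ∀ (c : 𝕂), ∀ w ∈ W, c • w ∈ W := by
    intro c w hw
    obtain ⟨w', _, hww⟩ := hdata.surj w hw
    have h1 : c • w = (y : Mat) *ᵥ (c • w') - c • w' := by
      rw [hww, smul_sub]
      congr 1
      have := hC c w'
      rw [LinearEquiv.coe_coe, hXv, hXv] at this
      exact this.symm
    rw [h1]
    exact hmove _
  have hnd : ∀ u ∈ W, (∀ v ∈ W, sympB d u v = 0) → u = 0 := by
    intro u hu h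
    apply (sympB_nondegenerate (F := F) d).1
    intro v
    obtain ⟨w, hw, u', hu', rfl⟩ := hdata.span v
    rw [map_add, h w hw, zero_add, sympB_apply]
    exact hdata.orth u hu u' hu'
  have h2 := two_finrank_dvd_of_nondeg (𝕂 := 𝕂) (sympB (F := F) d)
    (by
      intro c u v
      rw [sympB_apply, sympB_apply, hsmul, hsmul]
      exact hsa c u v)
    (by
      intro c v
      rw [sympB_apply, hsmul]
      exact halt c v)
    W hWinv hnd
  rw [hdata.dimW] at h2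
  exact (Nat.mul_dvd_mul_iff_left (by norm_num : 0 < 2)).1 h2

end embedded

end Cfsg.Agent.Lib.Helper8.SpExt
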