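import Mathlib
import Cfsg.Agent.Lib.Helper8.SpExtBridge
import Cfsg.Agent.Lib.Helper8.SpIrredElt
import Cfsg.Agent.Lib.Helper8.GUSpDer1

/-!
# Elements of `Sp_{2d}(q)` moving a small nondegenerate subspace
-/

set_option autoImplicit false
set_option linter.style.haveILetI false
set_option linter.unusedSectionVars false

namespace Cfsg.Agent.Lib.Helper8.SpExt

open Matrix Module
open Cfsg.Agent.Lib.Helper99 Cfsg.Agent.Lib.Helper8 Cfsg.Agent.Lib.Helper8.GUSp

section model

variable {F : Type*} [Field F] (d : ℕ)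

local notation "V" => (Fin d ⊕ Fin d → F)
local notation "Mat" => Matrix (Fin d ⊕ Fin d) (Fin d ⊕ Fin d) F

/-- transport of a block isometry of a model space to the standard symplectic space -/
theorem exists_of_model {A B : Type*} [AddCommGroup A] [Module F A] [AddCommGroup B]
    [Module F B] [FiniteDimensional F A] [FiniteDimensional F B]
    (ω : LinearMap.BilinForm F (A × B)) (horth : ∀ (a : A) (b : B), ω (a, 0) (0, b) = 0)
    (Θ : (A × B) ≃ₗ[F] V) (hΘ : ∀ m m', Cfsg.sympForm d F (Θ m) (Θ m') = ω m m')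
    (XA : A ≃ₗ[F] A) (hX : ∀ m m' : A × B, ω (XA m.1, m.2) (XA m'.1, m'.2) = ω m m')
    (hsurj : ∀ a : A, ∃ a' : A, a = XA a' - a')
    (j : ℕ) (hA : finrank F A = 2 * j) (hAB : finrank F (A × B) = 2 * d) :
    ∃ x : GL (Fin d ⊕ Fin d) F, x ∈ Cfsg.spGL d F ∧
      (∀ (n : ℕ) (v : V), ((x ^ n : GL (Fin d ⊕ Fin d) F) : Mat) *ᵥ v =
        Θ ((⇑XA)^[n] (Θ.symm v).1, (Θ.symm v).2)) ∧
      ∃ W U : Submodule F V, FixData d j x W U := by
  classical
  set Xm : (A × B) ≃ₗ[F] (A × B) := XA.prodCongr (LinearEquiv.refl F B) with hXm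
  have hXmv : ∀ m, Xm m = (XA m.1, m.2) := fun m => rfl
  set x : GL (Fin d ⊕ Fin d) F := glOfEquiv d (Θ.symm.trans (Xm.trans Θ)) with hxdef
  have hxv : ∀ v, (x : Mat) *ᵥ v = Θ (XA (Θ.symm v).1, (Θ.symm v).2) := by
    intro v
    rw [hxdef, glOfEquiv_mulVec]
    rfl
  have hxΘ : ∀ m, (x : Mat) *ᵥ (Θ m) = Θ (XA m.1, m.2) := by
    intro m
    rw [hxv, LinearEquiv.symm_apply_apply]
  have hxn : ∀ (n : ℕ) (v : V), ((x ^ n : GL (Fin d ⊕ Fin d) F) : Mat) *ᵥ v =
      Θ ((⇑XA)^[n] (Θ.symm v).1, (Θ.symm v).2) := by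
    intro n
    induction n with
    | zero =>
      intro v
      rw [pow_zero, Units.val_one, Matrix.one_mulVec, Function.iterate_zero, id_eq]
      exact (LinearEquiv.apply_symm_apply Θ v).symm
    | succ n ih =>
      intro v
      rw [pow_succ', Units.val_mul, ← Matrix.mulVec_mulVec, ih, hxΘ,
        Function.iterate_succ_apply']
  refine ⟨x, ?_, hxn, ?_⟩
  · rw [mem_spGL_iff]
    intro u v
    rw [hxv, hxv, hΘ, hX, ← hΘ, LinearEquiv.apply_symm_apply, LinearEquiv.apply_symm_apply]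
  let W : Submodule F V := (LinearMap.ker (LinearMap.snd F A B)).map (Θ : (A × B) →ₗ[F] V)
  let U : Submodule F V := (LinearMap.ker (LinearMap.fst F A B)).map (Θ : (A × B) →ₗ[F] V)
  have hmemW : ∀ v : V, v ∈ W ↔ ∃ a : A, v = Θ (a, 0) := by
    intro v
    constructor
    · rintro ⟨m, hm, rfl⟩
      have hm' : m.2 = 0 := hm
      refine ⟨m.1, ?_⟩
      rw [LinearEquiv.coe_coe]
      congr 1
      exact Prod.ext rfl hm'
    · rintro ⟨a, rfl⟩
      exact ⟨(a, 0), rfl, rfl⟩
  have hmemU : ∀ v : V, v ∈ U ↔ ∃ b : B, v = Θ (0, b) := by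
    intro v
    constructor
    · rintro ⟨m, hm, rfl⟩
      have hm' : m.1 = 0 := hm
      refine ⟨m.2, ?_⟩
      rw [LinearEquiv.coe_coe]
      congr 1
      exact Prod.ext hm' rfl
    · rintro ⟨b, rfl⟩
      exact ⟨(0, b), rfl, rfl⟩
  have hdimW : finrank F W = finrank F A := by
    show finrank F ((LinearMap.ker (LinearMap.snd F A B)).map (Θ : (A × B) →ₗ[F] V)) = _
    rw [LinearEquiv.finrank_map_eq, LinearMap.ker_snd,
      LinearMap.finrank_range_of_inj LinearMap.inl_injective]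
  have hdimU : finrank F U = finrank F B := by
    show finrank F ((LinearMap.ker (LinearMap.fst F A B)).map (Θ : (A × B) →ₗ[F] V)) = _
    rw [LinearEquiv.finrank_map_eq, LinearMap.ker_fst,
      LinearMap.finrank_range_of_inj LinearMap.inr_injective]
  refine ⟨W, U, ?_, ?_, ?_, ?_, ?_, ?_, ?_⟩
  · intro v
    refine ⟨Θ ((Θ.symm v).1, 0), (hmemW _).2 ⟨_, rfl⟩, Θ (0, (Θ.symm v).2),
      (hmemU _).2 ⟨_, rfl⟩, ?_⟩
    rw [← map_add, Prod.mk_add_mk, add_zero, zero_add, Prod.mk.eta,
      LinearEquiv.apply_symm_apply]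
  · intro u hu
    obtain ⟨b, rfl⟩ := (hmemU u).1 hu
    rw [hxΘ]
    simp only [map_zero]
  · intro w hw u hu
    obtain ⟨a, rfl⟩ := (hmemW w).1 hw
    obtain ⟨b, rfl⟩ := (hmemU u).1 hu
    rw [hΘ]
    exact horth a b
  · intro w hw
    obtain ⟨a, rfl⟩ := (hmemW w).1 hw
    rw [hxΘ]
    exact (hmemW _).2 ⟨XA a, rfl⟩
  · intro w hw
    obtain ⟨a, rfl⟩ := (hmemW w).1 hw
    obtain ⟨a', ha'⟩ := hsurj a
    refine ⟨Θ (a', 0), (hmemW _).2 ⟨a', rfl⟩, ?_⟩
    rw [hxΘ, ← map_sub, Prod.mk_sub_mk, sub_zero, ← ha']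
  · rw [hdimW, hA]
  · rw [hdimU]
    have := Module.finrank_prod (R := F) (M := A) (M' := B)
    omega

end model

section invol

variable {F : Type*} [Field F] [Fintype F] (d : ℕ)

local notation "V" => (Fin d ⊕ Fin d → F)
local notation "Mat" => Matrix (Fin d ⊕ Fin d) (Fin d ⊕ Fin d) F

/-- an involution negating a hyperbolic plane -/
theorem exists_involution (h2 : (2 : F) ≠ 0) (hd : 2 ≤ d) :
    ∃ x : GL (Fin d ⊕ Fin d) F, x ∈ Cfsg.spGL d F ∧ x ^ 2 = 1 ∧
      (∀ z : F, (x : Mat) ≠ z • (1 : Mat)) ∧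
      ∃ W U : Submodule F V, FixData d 1 x W U := by
  classical
  set k := d - 1 with hk
  let A := (Fin 1 ⊕ Fin 1 → F)
  let B := (Fin k ⊕ Fin k → F)
  let ω : LinearMap.BilinForm F (A × B) :=
    (sympB 1).compl₁₂ (LinearMap.fst F A B) (LinearMap.fst F A B)
      + (sympB k).compl₁₂ (LinearMap.snd F A B) (LinearMap.snd F A B)
  have hω : ∀ a b : A × B, ω a b = Cfsg.sympForm 1 F a.1 b.1 + Cfsg.sympForm k F a.2 b.2 := by
    intro a b
    simp [ω, sympB_apply]
  have halt : ω.IsAlt := by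
    intro a
    rw [hω, ← sympB_apply, ← sympB_apply, sympB_self, sympB_self, add_zero]
  have hleft : ∀ a, (∀ b, ω a b = 0) → a = 0 := by
    intro a ha
    apply Prod.ext
    · apply sympB_nd_left 1
      intro v
      have := ha (v, 0)
      rw [hω] at this
      simp only at this
      rw [← sympB_apply (F := F) k, map_zero, add_zero] at this
      rw [sympB_apply]
      exact this
    · apply sympB_nd_left k
      intro v
      have := ha (0, v)
      rw [hω] at this
      simp only at this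
      rw [← sympB_apply (F := F) 1, map_zero, zero_add] at this
      rw [sympB_apply]
      exact this
  have hnd : ω.Nondegenerate := by
    refine ⟨hleft, fun b hb => hleft b (fun a => ?_)⟩
    have := hb a
    rw [← LinearMap.IsAlt.neg halt, this, neg_zero]
  have hfrA : finrank F A = 2 * 1 := by
    rw [Module.finrank_fintype_fun_eq_card, Fintype.card_sum, Fintype.card_fin]
  have hfr : finrank F (A × B) = 2 * d := by
    rw [Module.finrank_prod, hfrA, Module.finrank_fintype_fun_eq_card, Fintype.card_sum,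
      Fintype.card_fin, hk]
    omega
  obtain ⟨Θ, hΘ⟩ := exists_symp_coords_gen ω halt hnd d hfr
  let XA : A ≃ₗ[F] A := LinearEquiv.neg F
  have hXA : ∀ a, XA a = -a := fun a => rfl
  obtain ⟨x, hx, hxn, W, U, hdata⟩ := exists_of_model d ω
    (by
      intro a b
      rw [hω]
      show Cfsg.sympForm 1 F a 0 + Cfsg.sympForm k F 0 b = 0
      rw [← sympB_apply (F := F) 1, ← sympB_apply (F := F) k, map_zero, map_zero,
        LinearMap.zero_apply, add_zero])
    Θ hΘ XA
    (by
      intro m m'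
      rw [hω, hω, hXA, hXA]
      simp only
      rw [← sympB_apply (F := F) 1, ← sympB_apply (F := F) 1, map_neg, map_neg,
        LinearMap.neg_apply, neg_neg])
    (by
      intro a
      refine ⟨(-(2 : F)⁻¹) • a, ?_⟩
      rw [hXA, ← neg_smul, neg_neg, ← sub_smul]
      have : (2 : F)⁻¹ - -(2 : F)⁻¹ = 1 := by
        field_simp
        norm_num
      rw [this, one_smul])
    1 hfrA hfr
  refine ⟨x, hx, ?_, ?_, W, U, hdata⟩
  · apply Units.ext
    rw [Units.val_one, Matrix.ext_iff_mulVec]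
    intro v
    rw [hxn, Matrix.one_mulVec]
    have : (⇑XA)^[2] (Θ.symm v).1 = (Θ.symm v).1 := by
      rw [Function.iterate_succ_apply', Function.iterate_one, hXA, hXA, neg_neg]
    rw [this, Prod.mk.eta, LinearEquiv.apply_symm_apply]
  · intro z hz
    have h1 : ∀ v : V, (x : Mat) *ᵥ v = z • v := by
      intro v
      rw [hz, Matrix.smul_mulVec, Matrix.one_mulVec]
    have hx1 : ∀ v : V, (x : Mat) *ᵥ v = Θ (XA (Θ.symm v).1, (Θ.symm v).2) := by
      intro v
      have := hxn 1 v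
      rwa [pow_one, Function.iterate_one] at this
    -- a vector of `B`
    have hk1 : 1 ≤ k := by omega
    let b₀ : B := Pi.single (Sum.inl ⟨0, hk1⟩) 1
    have hb₀ : b₀ ≠ 0 := by
      intro h0
      have := congrFun h0 (Sum.inl ⟨0, hk1⟩)
      rw [show b₀ = Pi.single (Sum.inl ⟨0, hk1⟩) 1 from rfl, Pi.single_eq_same,
        Pi.zero_apply] at this
      exact one_ne_zero this
    let a₀ : A := Pi.single (Sum.inl ⟨0, le_refl 1⟩) 1
    have ha₀ : a₀ ≠ 0 := by
      intro h0
      have := congrFun h0 (Sum.inl ⟨0, le_refl 1⟩)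
      rw [show a₀ = Pi.single (Sum.inl ⟨0, le_refl 1⟩) 1 from rfl, Pi.single_eq_same,
        Pi.zero_apply] at this
      exact one_ne_zero this
    have e1 := h1 (Θ (0, b₀))
    rw [hx1, LinearEquiv.symm_apply_apply, ← map_smul] at e1
    have e1' := Θ.injective e1
    simp only [map_zero, Prod.smul_mk, smul_zero, Prod.mk.injEq, true_and] at e1'
    have hz1 : z = 1 := by
      by_contra hne
      have : (1 - z) • b₀ = 0 := by rw [sub_smul, one_smul, ← e1', sub_self]
      rcases smul_eq_zero.1 this with h | h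
      · exact hne (sub_eq_zero.1 h).symm
      · exact hb₀ h
    have e2 := h1 (Θ (a₀, 0))
    rw [hx1, LinearEquiv.symm_apply_apply, ← map_smul, hz1, one_smul] at e2
    have e2' := Θ.injective e2
    simp only [Prod.mk.injEq, and_true] at e2'
    rw [hXA] at e2'
    have : (2 : F) • a₀ = 0 := by
      rw [two_smul]
      nth_rewrite 1 [← e2']
      exact neg_add_cancel a₀
    rcases smul_eq_zero.1 this with h | h
    · exact h2 h
    · exact ha₀ h

end invol

section semisimple

variable {F : Type*} [Field F] [Fintype F] (d : ℕ)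

local notation "V" => (Fin d ⊕ Fin d → F)
local notation "Mat" => Matrix (Fin d ⊕ Fin d) (Fin d ⊕ Fin d) F

/-- the twisted trace form is alternating in every characteristic -/
theorem sigBil_self_sub {L : Type*} [Field L] [Algebra F L] (σ : L ≃ₐ[F] L)
    (hσ : ∀ x, σ (σ x) = x) (c₀ x : L) : sigBil F L σ (c₀ - σ c₀) x x = 0 := by
  rw [sigBil_apply]
  have h1 : Algebra.trace F L (σ c₀ * x * σ x) = Algebra.trace F L (c₀ * x * σ x) := by
    have h3 : σ c₀ * x * σ x = σ (c₀ * x * σ x) := by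
      rw [map_mul, map_mul, hσ]
      ring
    rw [h3, Algebra.trace_eq_of_algEquiv]
  have h4 : (c₀ - σ c₀) * x * σ x = c₀ * x * σ x - σ c₀ * x * σ x := by ring
  rw [h4, map_sub, h1, sub_self]

/-- an element of odd prime order `r ∣ q^j - 1` moving a hyperbolic subspace of dimension `2j` -/
theorem exists_split (p : ℕ) [Fact p.Prime] [CharP F p] (j : ℕ) (hj1 : 1 ≤ j) (hjd : j ≤ d)
    (r : ℕ) [Fact r.Prime] (hr2 : r ≠ 2) (hri : r ∣ Fintype.card F ^ j - 1) :
    ∃ x : GL (Fin d ⊕ Fin d) F, x ∈ Cfsg.spGL d F ∧ x ^ r = 1 ∧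
      (∀ z : F, (x : Mat) ≠ z • (1 : Mat)) ∧
      ∃ W U : Submodule F V, FixData d j x W U := by
  classical
  have hrp : r.Prime := Fact.out
  have : NeZero j := ⟨by omega⟩
  let L := FiniteField.Extension F p j
  have : Finite L := inferInstance
  let _ : Fintype L := Fintype.ofFinite L
  have hdimL : Module.finrank F L = j := FiniteField.finrank_extension F p j
  have hcardL : Nat.card L = Fintype.card F ^ j := by
    rw [FiniteField.natCard_extension, Nat.card_eq_fintype_card]
  have hrU : r ∣ Nat.card Lˣ := by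
    rw [Nat.card_units, hcardL]
    exact hri
  obtain ⟨ζ, hζ⟩ := exists_prime_orderOf_dvd_card' r hrU
  have hζ1 : ζ ≠ 1 := by
    rintro rfl
    rw [orderOf_one] at hζ
    exact hrp.one_lt.ne hζ
  have hζ1' : (ζ : L) ≠ 1 := fun h => hζ1 (Units.ext h)
  have hζinv : ((ζ⁻¹ : Lˣ) : L) = (ζ : L)⁻¹ := Units.val_inv_eq_inv_val ζ
  have hζne : (ζ : L) ≠ (ζ : L)⁻¹ := by
    intro h
    have h1 : ζ ^ 2 = 1 := by
      apply Units.ext
      rw [Units.val_pow_eq_pow_val, pow_two, Units.val_one]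
      nth_rewrite 2 [h]
      exact mul_inv_cancel₀ (Units.ne_zero ζ)
    have h3 := orderOf_dvd_of_pow_eq_one h1
    rw [hζ] at h3
    exact hr2 ((Nat.prime_dvd_prime_iff_eq hrp Nat.prime_two).1 h3)
  have hζinv1 : (ζ : L)⁻¹ ≠ 1 := by
    intro h
    apply hζ1'
    rw [← inv_inv (ζ : L), h, inv_one]
  set k := d - j with hk
  let W₀ := (Fin k ⊕ Fin k → F)
  let ω : LinearMap.BilinForm F ((L × L) × W₀) :=
    (hypB (F := F) L).compl₁₂ (LinearMap.fst F (L × L) W₀) (LinearMap.fst F (L × L) W₀)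
      + (sympB k).compl₁₂ (LinearMap.snd F (L × L) W₀) (LinearMap.snd F (L × L) W₀)
  have hω : ∀ a b : (L × L) × W₀, ω a b =
      Algebra.trace F L (a.1.1 * b.1.2) - Algebra.trace F L (a.1.2 * b.1.1)
        + Cfsg.sympForm k F a.2 b.2 := by
    intro a b
    simp [ω, hypB_apply, sympB_apply]
  have halt : ω.IsAlt := by
    intro a
    rw [hω, mul_comm a.1.1 a.1.2, sub_self, ← sympB_apply, sympB_self, add_zero]
  have htr := traceForm_nondegenerate F L
  have hleft : ∀ a, (∀ b, ω a b = 0) → a = 0 := by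
    intro a ha
    apply Prod.ext
    · apply Prod.ext
      · apply htr.1 a.1.1
        intro y
        have := ha (((0 : L), y), (0 : W₀))
        rw [hω] at this
        simp only [mul_zero, map_zero, sub_zero] at this
        rw [← sympB_apply, map_zero, add_zero] at this
        rw [Algebra.traceForm_apply]
        exact this
      · apply htr.1 a.1.2
        intro y
        have := ha ((y, (0 : L)), (0 : W₀))
        rw [hω] at this
        simp only [mul_zero, map_zero, zero_sub] at this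
        rw [← sympB_apply, map_zero, add_zero, neg_eq_zero] at this
        rw [Algebra.traceForm_apply]
        exact this
    · apply sympB_nd_left k
      intro v
      have := ha (((0 : L), (0 : L)), v)
      rw [hω] at this
      simp only [mul_zero, map_zero, sub_zero, zero_add] at this
      rw [sympB_apply]
      exact this
  have hnd : ω.Nondegenerate := by
    refine ⟨hleft, fun b hb => hleft b (fun a => ?_)⟩
    have := hb a
    rw [← LinearMap.IsAlt.neg halt, this, neg_zero]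
  have hfrA : finrank F (L × L) = 2 * j := by
    rw [Module.finrank_prod, hdimL]
    ring
  have hfr : finrank F ((L × L) × W₀) = 2 * d := by
    rw [Module.finrank_prod, hfrA, Module.finrank_fintype_fun_eq_card,
      Fintype.card_sum, Fintype.card_fin, hk]
    omega
  obtain ⟨Θ, hΘ⟩ := exists_symp_coords_gen ω halt hnd d hfr
  let XA : (L × L) ≃ₗ[F] (L × L) := (unitMul F L ζ).prodCongr (unitMul F L ζ⁻¹)
  have hXA : ∀ a : L × L, XA a = ((ζ : L) * a.1, (ζ : L)⁻¹ * a.2) := by
    intro a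
    rw [← hζinv]
    rfl
  have hz : (ζ : L) ≠ 0 := Units.ne_zero ζ
  have hXAn : ∀ n (a : L × L), (⇑XA)^[n] a = ((ζ : L) ^ n * a.1, ((ζ : L)⁻¹) ^ n * a.2) := by
    intro n
    induction n with
    | zero => intro a; simp
    | succ n ih =>
      intro a
      rw [Function.iterate_succ_apply', ih, hXA]
      simp only
      rw [pow_succ', pow_succ', mul_assoc, mul_assoc]
  have hζr : (ζ : L) ^ r = 1 := by
    rw [← Units.val_pow_eq_pow_val, ← hζ, pow_orderOf_eq_one, Units.val_one]
  obtain ⟨x, hx, hxn, W, U, hdata⟩ := exists_of_model d ω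
    (by
      intro a b
      rw [hω]
      show Algebra.trace F L (a.1 * 0) - Algebra.trace F L (a.2 * 0) +
        Cfsg.sympForm k F 0 b = 0
      rw [mul_zero, mul_zero, map_zero, sub_zero, ← sympB_apply (F := F) k, map_zero,
        LinearMap.zero_apply, add_zero])
    Θ hΘ XA
    (by
      intro m m'
      rw [hω, hω, hXA, hXA]
      simp only
      have e1 : (ζ : L) * m.1.1 * ((ζ : L)⁻¹ * m'.1.2) = m.1.1 * m'.1.2 := by
        calc (ζ : L) * m.1.1 * ((ζ : L)⁻¹ * m'.1.2)
            = ((ζ : L) * (ζ : L)⁻¹) * (m.1.1 * m'.1.2) := by ring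
          _ = m.1.1 * m'.1.2 := by rw [mul_inv_cancel₀ hz, one_mul]
      have e2 : (ζ : L)⁻¹ * m.1.2 * ((ζ : L) * m'.1.1) = m.1.2 * m'.1.1 := by
        calc (ζ : L)⁻¹ * m.1.2 * ((ζ : L) * m'.1.1)
            = ((ζ : L) * (ζ : L)⁻¹) * (m.1.2 * m'.1.1) := by ring
          _ = m.1.2 * m'.1.1 := by rw [mul_inv_cancel₀ hz, one_mul]
      rw [e1, e2])
    (by
      intro a
      have h1 : (ζ : L) - 1 ≠ 0 := sub_ne_zero.2 hζ1'
      have h3 : (ζ : L)⁻¹ - 1 ≠ 0 := sub_ne_zero.2 hζinv1
      refine ⟨(((ζ : L) - 1)⁻¹ * a.1, ((ζ : L)⁻¹ - 1)⁻¹ * a.2), ?_⟩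
      rw [hXA]
      apply Prod.ext
      · simp only [Prod.fst_sub]
        have e : (ζ : L) * (((ζ : L) - 1)⁻¹ * a.1) - ((ζ : L) - 1)⁻¹ * a.1 =
            (((ζ : L) - 1) * ((ζ : L) - 1)⁻¹) * a.1 := by ring
        rw [e, mul_inv_cancel₀ h1, one_mul]
      · simp only [Prod.snd_sub]
        have e : (ζ : L)⁻¹ * (((ζ : L)⁻¹ - 1)⁻¹ * a.2) - ((ζ : L)⁻¹ - 1)⁻¹ * a.2 =
            (((ζ : L)⁻¹ - 1) * ((ζ : L)⁻¹ - 1)⁻¹) * a.2 := by ring
        rw [e, mul_inv_cancel₀ h3, one_mul])
    j hfrA hfr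
  have hx1 : ∀ v : V, (x : Mat) *ᵥ v = Θ (XA (Θ.symm v).1, (Θ.symm v).2) := by
    intro v
    have := hxn 1 v
    rwa [pow_one, Function.iterate_one] at this
  refine ⟨x, hx, ?_, ?_, W, U, hdata⟩
  · apply Units.ext
    rw [Units.val_one, Matrix.ext_iff_mulVec]
    intro v
    rw [hxn, Matrix.one_mulVec, hXAn, inv_pow, hζr, inv_one, one_mul, one_mul]
    exact LinearEquiv.apply_symm_apply Θ v
  · intro z hzz
    have h1 : ∀ v : V, (x : Mat) *ᵥ v = z • v := by
      intro v
      rw [hzz, Matrix.smul_mulVec, Matrix.one_mulVec]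
    have e1 := h1 (Θ (((1 : L), (0 : L)), (0 : W₀)))
    rw [hx1, LinearEquiv.symm_apply_apply, ← map_smul, hXA] at e1
    have e1' := congrArg (fun m : (L × L) × W₀ => m.1.1) (Θ.injective e1)
    simp only [mul_one, Prod.smul_mk, Prod.smul_fst] at e1'
    have e2 := h1 (Θ (((0 : L), (1 : L)), (0 : W₀)))
    rw [hx1, LinearEquiv.symm_apply_apply, ← map_smul, hXA] at e2
    have e2' := congrArg (fun m : (L × L) × W₀ => m.1.2) (Θ.injective e2)
    simp only [mul_one, Prod.smul_mk, Prod.smul_snd] at e2'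
    exact hζne (e1'.trans e2'.symm)

/-- an element of odd prime order `r ∣ q^j + 1` moving a nondegenerate subspace of dimension
`2j` -/
theorem exists_nonsplit (p : ℕ) [Fact p.Prime] [CharP F p] (j : ℕ) (hj1 : 1 ≤ j) (hjd : j ≤ d)
    (r : ℕ) [Fact r.Prime] (hr2 : r ≠ 2) (hrj : r ∣ Fintype.card F ^ j + 1) :
    ∃ x : GL (Fin d ⊕ Fin d) F, x ∈ Cfsg.spGL d F ∧ x ^ r = 1 ∧
      (∀ z : F, (x : Mat) ≠ z • (1 : Mat)) ∧
      ∃ W U : Submodule F V, FixData d j x W U := by
  classical
  obtain ⟨j', rfl⟩ : ∃ j', j = j' + 1 := ⟨j - 1, by omega⟩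
  have hrp : r.Prime := Fact.out
  have hq1 : 1 ≤ Fintype.card F := Fintype.card_pos
  let L := FiniteField.Extension F p (2 * j' + 1 + 1)
  have : Finite L := inferInstance
  let _ : Fintype L := Fintype.ofFinite L
  have hdimL : Module.finrank F L = 2 * j' + 2 :=
    FiniteField.finrank_extension F p (2 * j' + 1 + 1)
  have hcardL : Fintype.card L = Fintype.card F ^ (2 * j' + 2) := by
    rw [← Nat.card_eq_fintype_card, FiniteField.natCard_extension, Nat.card_eq_fintype_card]
  set A := Fintype.card F ^ (j' + 1) with hA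
  have hA1 : 1 ≤ A := Nat.one_le_pow _ _ hq1
  have hAA : Fintype.card F ^ (2 * j' + 2) = A * A := by rw [hA, ← pow_add]; congr 1; ring
  have hcardU : Nat.card Lˣ = A * A - 1 := by
    rw [Nat.card_units, Nat.card_eq_fintype_card, hcardL, hAA]
  have hrU : r ∣ Nat.card Lˣ := by
    rw [hcardU]
    have : A * A - 1 = (A - 1) * (A + 1) := by
      zify [hA1, Nat.one_le_iff_ne_zero.2 (Nat.mul_ne_zero (by omega : A ≠ 0) (by omega : A ≠ 0))]
      ring
    rw [this]
    exact Dvd.dvd.mul_left hrj _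
  obtain ⟨ζ, hζ⟩ := exists_prime_orderOf_dvd_card' r hrU
  have hζ1 : ζ ≠ 1 := by
    rintro rfl
    rw [orderOf_one] at hζ
    exact hrp.one_lt.ne hζ
  let σ : L ≃ₐ[F] L := (FiniteField.Extension.frob F p (2 * j' + 1 + 1)) ^ (j' + 1)
  have hσn : ∀ x : L, σ x = x ^ A := by
    intro x
    show ((FiniteField.Extension.frob F p (2 * j' + 1 + 1)) ^ (j' + 1)) x = x ^ A
    rw [FiniteField.Extension.frob_iterate_apply, Nat.card_eq_fintype_card]
  have hσ : ∀ x, σ (σ x) = x := by
    intro x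
    rw [hσn, hσn, ← pow_mul, ← hAA, ← hcardL]
    exact FiniteField.pow_card x
  have hζσ : (ζ : L) * σ ζ = 1 := by
    rw [hσn, ← pow_succ']
    have h1 : ζ ^ (A + 1) = 1 := by
      rw [← orderOf_dvd_iff_pow_eq_one, hζ]
      exact hrj
    have := congrArg (fun u : Lˣ => (u : L)) h1
    simpa using this
  have hσζ : σ (ζ : L) ≠ ζ := by
    intro h
    rw [h] at hζσ
    have h1 : ζ ^ 2 = 1 := by
      apply Units.ext
      rw [Units.val_pow_eq_pow_val, pow_two]
      exact hζσ
    have h3 := orderOf_dvd_of_pow_eq_one h1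
    rw [hζ] at h3
    exact hr2 ((Nat.prime_dvd_prime_iff_eq hrp Nat.prime_two).1 h3)
  set c : L := (ζ : L) - σ ζ with hcdef
  have hc0 : c ≠ 0 := sub_ne_zero.2 (fun h => hσζ h.symm)
  set k := d - (j' + 1) with hk
  let W₀ := (Fin k ⊕ Fin k → F)
  let ω := prodForm σ c k
  have hω : ∀ a b : L × W₀,
      ω a b = sigBil F L σ c a.1 b.1 + Cfsg.sympForm k F a.2 b.2 := prodForm_apply σ c k
  have halt : ω.IsAlt := by
    intro a
    rw [hω, hcdef, sigBil_self_sub σ hσ, ← sympB_apply, sympB_self, add_zero]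
  have hleft : ∀ a, (∀ b, ω a b = 0) → a = 0 := by
    intro a ha
    apply Prod.ext
    · apply sigBil_sepLeft σ c hσ hc0
      intro y
      have := ha (y, 0)
      rw [hω] at this
      simp only at this
      rw [← sympB_apply, map_zero, add_zero] at this
      exact this
    · apply sympB_nd_left k
      intro v
      have := ha (0, v)
      rw [hω] at this
      simp only at this
      rw [map_zero, zero_add] at this
      rw [sympB_apply]
      exact this
  have hnd : ω.Nondegenerate := by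
    refine ⟨hleft, fun b hb => hleft b (fun a => ?_)⟩
    have := hb a
    rw [← LinearMap.IsAlt.neg halt, this, neg_zero]
  have hfrA : finrank F L = 2 * (j' + 1) := by rw [hdimL]; ring
  have hfr : finrank F (L × W₀) = 2 * d := by
    rw [Module.finrank_prod, hdimL, Module.finrank_fintype_fun_eq_card, Fintype.card_sum,
      Fintype.card_fin, hk]
    omega
  obtain ⟨Θ, hΘ⟩ := exists_symp_coords_gen ω halt hnd d hfr
  let XA : L ≃ₗ[F] L := unitMul F L ζ
  have hXA : ∀ a : L, XA a = (ζ : L) * a := fun a => rfl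
  have hXAn : ∀ n (a : L), (⇑XA)^[n] a = (ζ : L) ^ n * a := by
    intro n
    induction n with
    | zero => intro a; simp
    | succ n ih =>
      intro a
      rw [Function.iterate_succ_apply', ih, hXA, pow_succ', mul_assoc]
  have hζr : (ζ : L) ^ r = 1 := by
    rw [← Units.val_pow_eq_pow_val, ← hζ, pow_orderOf_eq_one, Units.val_one]
  have hζ1' : (ζ : L) - 1 ≠ 0 := by
    intro h
    apply hζ1
    exact Units.ext (sub_eq_zero.1 h)
  obtain ⟨x, hx, hxn, W, U, hdata⟩ := exists_of_model d ω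
    (by
      intro a b
      rw [hω]
      show sigBil F L σ c a 0 + Cfsg.sympForm k F 0 b = 0
      rw [map_zero, ← sympB_apply (F := F) k, map_zero, LinearMap.zero_apply, add_zero])
    Θ hΘ XA
    (by
      intro m m'
      rw [hω, hω]
      simp only
      rw [hXA, hXA, ← unitMul_apply F L ζ m.1, ← unitMul_apply F L ζ m'.1,
        sigBil_unitMul σ c ζ hζσ])
    (by
      intro a
      refine ⟨((ζ : L) - 1)⁻¹ * a, ?_⟩
      rw [hXA]
      have e : (ζ : L) * (((ζ : L) - 1)⁻¹ * a) - ((ζ : L) - 1)⁻¹ * a =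
          (((ζ : L) - 1) * ((ζ : L) - 1)⁻¹) * a := by ring
      rw [e, mul_inv_cancel₀ hζ1', one_mul])
    (j' + 1) hfrA hfr
  have hx1 : ∀ v : V, (x : Mat) *ᵥ v = Θ (XA (Θ.symm v).1, (Θ.symm v).2) := by
    intro v
    have := hxn 1 v
    rwa [pow_one, Function.iterate_one] at this
  refine ⟨x, hx, ?_, ?_, W, U, hdata⟩
  · apply Units.ext
    rw [Units.val_one, Matrix.ext_iff_mulVec]
    intro v
    rw [hxn, Matrix.one_mulVec, hXAn, hζr, one_mul]
    exact LinearEquiv.apply_symm_apply Θ v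
  · intro z hzz
    have h1 : ∀ v : V, (x : Mat) *ᵥ v = z • v := by
      intro v
      rw [hzz, Matrix.smul_mulVec, Matrix.one_mulVec]
    have e1 := h1 (Θ ((1 : L), (0 : W₀)))
    rw [hx1, LinearEquiv.symm_apply_apply, ← map_smul, hXA] at e1
    have e1' := congrArg (fun m : L × W₀ => m.1) (Θ.injective e1)
    simp only [mul_one, Prod.smul_mk, Prod.smul_fst] at e1'
    apply hσζ
    rw [e1', Algebra.smul_def, mul_one, AlgEquiv.commutes]

/-- an element of odd prime order `r ∣ q^(2j) - 1` moving a nondegenerate subspace of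
dimension `2j` -/
theorem exists_semisimple (p : ℕ) [Fact p.Prime] [CharP F p] (j : ℕ) (hj1 : 1 ≤ j)
    (hjd : j ≤ d) (r : ℕ) [Fact r.Prime] (hr2 : r ≠ 2)
    (hrj : r ∣ Fintype.card F ^ (2 * j) - 1) :
    ∃ x : GL (Fin d ⊕ Fin d) F, x ∈ Cfsg.spGL d F ∧ x ^ r = 1 ∧
      (∀ z : F, (x : Mat) ≠ z • (1 : Mat)) ∧
      ∃ W U : Submodule F V, FixData d j x W U := by
  have hrp : r.Prime := Fact.out
  have hq1 : 1 ≤ Fintype.card F := Fintype.card_pos
  set A := Fintype.card F ^ j with hA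
  have hA1 : 1 ≤ A := Nat.one_le_pow _ _ hq1
  have e : Fintype.card F ^ (2 * j) - 1 = (A - 1) * (A + 1) := by
    have : Fintype.card F ^ (2 * j) = A * A := by rw [hA, ← pow_add]; congr 1; ring
    rw [this]
    zify [hA1, Nat.one_le_iff_ne_zero.2 (Nat.mul_ne_zero (by omega : A ≠ 0) (by omega : A ≠ 0))]
    ring
  rw [e] at hrj
  rcases (Nat.Prime.dvd_mul hrp).1 hrj with h | h
  · exact exists_split d p j hj1 hjd r hr2 h
  · exact exists_nonsplit d p j hj1 hjd r hr2 h

end semisimple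

end Cfsg.Agent.Lib.Helper8.SpExt
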