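import Mathlib

set_option linter.unusedVariables false

/-! Leaf lemma (CZ) for S4409 (requested by helper29). -/

namespace Cfsg.Agent.Lib.Helper8.SmallTwoCZ

open scoped commutatorElement

section
variable {P : Type*} [Group P]

private theorem comm_sq_eq_one
    (hcomm : ∀ x y : P, ⁅x, y⁆ ∈ Subgroup.center P)
    (hsq : ∀ x : P, x ^ 2 ∈ Subgroup.center P) (y x : P) :
    ⁅y, x⁆ * ⁅y, x⁆ = 1 := by
  have hc : ∀ g : P, g * ⁅y, x⁆ = ⁅y, x⁆ * g := fun g =>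
    Subgroup.mem_center_iff.mp (hcomm y x) g
  have hy : ∀ g : P, g * y ^ 2 = y ^ 2 * g := fun g =>
    Subgroup.mem_center_iff.mp (hsq y) g
  have h1 : ⁅y, x⁆ * ⁅y, x⁆ = y * ⁅y, x⁆ * x * y⁻¹ * x⁻¹ := by
    have := hc y
    calc ⁅y, x⁆ * ⁅y, x⁆ = ⁅y, x⁆ * (y * x * y⁻¹ * x⁻¹) := by
            rw [commutatorElement_def]
      _ = (⁅y, x⁆ * y) * x * y⁻¹ * x⁻¹ := by simp only [mul_assoc]
      _ = (y * ⁅y, x⁆) * x * y⁻¹ * x⁻¹ := by rw [← this]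
  rw [h1, commutatorElement_def]
  have h2 : y * (y * x * y⁻¹ * x⁻¹) * x * y⁻¹ * x⁻¹ = (y ^ 2 * x) * (y ^ 2)⁻¹ * x⁻¹ := by
    rw [pow_two, mul_inv_rev]
    simp only [mul_assoc, inv_mul_cancel_left]
  rw [h2, ← hy x]
  group

private theorem mul_pow_four
    (hcomm : ∀ x y : P, ⁅x, y⁆ ∈ Subgroup.center P)
    (hsq : ∀ x : P, x ^ 2 ∈ Subgroup.center P) (x y : P) :
    (x * y) ^ 4 = x ^ 4 * y ^ 4 := by
  have hc : ∀ g : P, g * ⁅y, x⁆ = ⁅y, x⁆ * g := fun g =>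
    Subgroup.mem_center_iff.mp (hcomm y x) g
  have hx : ∀ g : P, g * x ^ 2 = x ^ 2 * g := fun g =>
    Subgroup.mem_center_iff.mp (hsq x) g
  have hy : ∀ g : P, g * y ^ 2 = y ^ 2 * g := fun g =>
    Subgroup.mem_center_iff.mp (hsq y) g
  have hcc := comm_sq_eq_one hcomm hsq y x
  -- (x*y)^2 = c * x^2 * y^2
  have hyx : y * x = ⁅y, x⁆ * x * y := by
    rw [commutatorElement_def]; group
  have h2 : (x * y) ^ 2 = ⁅y, x⁆ * x ^ 2 * y ^ 2 := by
    calc (x * y) ^ 2 = x * (y * x) * y := by rw [pow_two]; simp only [mul_assoc]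
      _ = x * (⁅y, x⁆ * x * y) * y := by rw [← hyx]
      _ = (x * ⁅y, x⁆) * x * y * y := by simp only [mul_assoc]
      _ = (⁅y, x⁆ * x) * x * y * y := by rw [hc x]
      _ = ⁅y, x⁆ * x ^ 2 * y ^ 2 := by rw [pow_two, pow_two]; simp only [mul_assoc]
  have h4 : (x * y) ^ 4 = ((x * y) ^ 2) ^ 2 := by rw [← pow_mul]
  rw [h4, h2]
  -- (c * x^2 * y^2)^2 = c*c * x^4 * y^4
  calc (⁅y, x⁆ * x ^ 2 * y ^ 2) ^ 2
      = ⁅y, x⁆ * x ^ 2 * y ^ 2 * (⁅y, x⁆ * x ^ 2 * y ^ 2) := by rw [pow_two]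
    _ = ⁅y, x⁆ * x ^ 2 * (y ^ 2 * ⁅y, x⁆) * x ^ 2 * y ^ 2 := by simp only [mul_assoc]
    _ = ⁅y, x⁆ * x ^ 2 * (⁅y, x⁆ * y ^ 2) * x ^ 2 * y ^ 2 := by rw [hc (y ^ 2)]
    _ = ⁅y, x⁆ * (x ^ 2 * ⁅y, x⁆) * (y ^ 2 * x ^ 2) * y ^ 2 := by simp only [mul_assoc]
    _ = ⁅y, x⁆ * (⁅y, x⁆ * x ^ 2) * (x ^ 2 * y ^ 2) * y ^ 2 := by rw [hc (x ^ 2), hx (y ^ 2)]
    _ = (⁅y, x⁆ * ⁅y, x⁆) * (x ^ 2 * x ^ 2) * (y ^ 2 * y ^ 2) := by simp only [mul_assoc]
    _ = x ^ 4 * y ^ 4 := by rw [hcc, one_mul, ← pow_add, ← pow_add]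

/-- (CZ) A group in which commutators and squares are central, the centre is cyclic and every
element with `v ^ 4 = 1` is central, is abelian. (No `2`-group hypothesis is needed.) -/
theorem comm_of_cyclic_center' 
    (hcomm : ∀ x y : P, ⁅x, y⁆ ∈ Subgroup.center P)
    (hsq : ∀ x : P, x ^ 2 ∈ Subgroup.center P) (hZ : IsCyclic (Subgroup.center P))
    (h4 : ∀ v : P, v ^ 4 = 1 → v ∈ Subgroup.center P) : ∀ x y : P, x * y = y * x := by
  have hmem : ∀ x : P, x ^ 4 ∈ Subgroup.center P := by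
    intro x
    have : x ^ 4 = x ^ 2 * x ^ 2 := by rw [← pow_add]
    rw [this]
    exact Subgroup.mul_mem _ (hsq x) (hsq x)
  let f : P →* Subgroup.center P :=
    { toFun := fun x => ⟨x ^ 4, hmem x⟩
      map_one' := by ext; simp
      map_mul' := by
        intro x y
        ext
        simpa using mul_pow_four hcomm hsq x y }
  have hker : f.ker ≤ Subgroup.center P := by
    intro v hv
    rw [MonoidHom.mem_ker] at hv
    apply h4
    have := congrArg Subtype.val hv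
    simpa [f] using this
  intro x y
  have := MonoidHom.isMulCommutative_of_isCyclic_of_ker_le_center f hker
  exact mul_comm' x y

end

/-- (CZ) in the exact form requested by helper29. -/
theorem comm_of_cyclic_center {P : Type*} [Group P] [Finite P] (hP : IsPGroup 2 P)
    (hcomm : ∀ x y : P, ⁅x, y⁆ ∈ Subgroup.center P)
    (hsq : ∀ x : P, x ^ 2 ∈ Subgroup.center P) (hZ : IsCyclic (Subgroup.center P))
    (h4 : ∀ v : P, v ^ 4 = 1 → v ∈ Subgroup.center P) : ∀ x y : P, x * y = y * x :=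
  comm_of_cyclic_center' hcomm hsq hZ h4

end Cfsg.Agent.Lib.Helper8.SmallTwoCZ
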