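import Mathlib
import Cfsg.Prelude.Def_ClassicalGeometry
import Cfsg.Agent.Lib.Helper13.SympTrans

set_option autoImplicit false

namespace Cfsg.Agent.Lib.Helper8

open Matrix Cfsg.Agent.Lib.Helper13

variable {F : Type*} [Field F] (m : ℕ)

theorem sympTransvection_sub_one_mulVec (a : Fin m ⊕ Fin m → F) (c : F) (x : Fin m ⊕ Fin m → F) :
    (Cfsg.sympTransvection m a c - 1) *ᵥ x = (c * Cfsg.sympForm m F x a) • a := by
  rw [sub_mulVec, sympTransvection_mulVec, one_mulVec, add_sub_cancel_left]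

/-- a nontrivial symplectic transvection differs from the identity by a matrix of rank one -/
theorem rank_sympTransvection_sub_one (a : Fin m ⊕ Fin m → F) (c : F) (ha : a ≠ 0) (hc : c ≠ 0) :
    (Cfsg.sympTransvection m a c - 1).rank = 1 := by
  apply le_antisymm
  · have : Cfsg.sympTransvection m a c - 1 = Matrix.vecMulVec (c • a) (Matrix.J (Fin m) F *ᵥ a) := by
      unfold Cfsg.sympTransvection
      rw [add_sub_cancel_left, Matrix.smul_vecMulVec]
    rw [this]
    exact Matrix.rank_vecMulVec_le _ _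
  · obtain ⟨b, hb⟩ := exists_sympForm_ne_zero m a ha
    have hb' : Cfsg.sympForm m F b a ≠ 0 := by
      rw [sympForm_swap]; exact neg_ne_zero.2 hb
    unfold Matrix.rank
    rw [Nat.succ_le_iff, Module.finrank_pos_iff_exists_ne_zero]
    refine ⟨⟨(Cfsg.sympTransvection m a c - 1) *ᵥ b, ⟨b, rfl⟩⟩, ?_⟩
    intro h
    have h2 := congrArg Subtype.val h
    simp only [sympTransvection_sub_one_mulVec, ZeroMemClass.coe_zero] at h2
    rw [smul_eq_zero] at h2
    rcases h2 with h2 | h2
    · exact mul_ne_zero hc hb' h2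
    · exact ha h2

/-- a symplectic matrix differing from the identity by a matrix of rank one is a transvection -/
theorem exists_sympTransvection_of_rank_one (G : Matrix (Fin m ⊕ Fin m) (Fin m ⊕ Fin m) F)
    (hG : G ∈ Matrix.symplecticGroup (Fin m) F) (hr : (G - 1).rank = 1) :
    ∃ (a : Fin m ⊕ Fin m → F) (c : F), a ≠ 0 ∧ c ≠ 0 ∧ G = Cfsg.sympTransvection m a c := by
  have hiso : ∀ u v, Cfsg.sympForm m F (G *ᵥ u) (G *ᵥ v) = Cfsg.sympForm m F u v :=
    preserves_of_mem_symplectic m G hG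
  unfold Matrix.rank at hr
  obtain ⟨⟨a, ⟨y0, hy0⟩⟩, ha0, hspan⟩ := finrank_eq_one_iff'.1 hr
  have ha : a ≠ 0 := by
    intro h; apply ha0; exact Subtype.ext h
  have hy0' : G *ᵥ y0 = y0 + a := by
    have : (G - 1) *ᵥ y0 = a := hy0
    rw [sub_mulVec, one_mulVec, sub_eq_iff_eq_add] at this
    rw [this, add_comm]
  have hx : ∀ x, ∃ c : F, G *ᵥ x = x + c • a := by
    intro x
    obtain ⟨c, hc⟩ := hspan ⟨(G - 1) *ᵥ x, ⟨x, rfl⟩⟩
    have h2 := congrArg Subtype.val hc
    simp only [Submodule.coe_smul] at h2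
    refine ⟨c, ?_⟩
    rw [sub_mulVec, one_mulVec] at h2
    rw [h2]; abel
  set κ := Cfsg.sympForm m F y0 a with hκ
  have hrel : ∀ x c, G *ᵥ x = x + c • a → Cfsg.sympForm m F x a = c * κ := by
    intro x c hc
    have h := hiso x y0
    rw [hc, hy0', sympForm_add_left, sympForm_add_right, sympForm_add_right, sympForm_smul_left,
      sympForm_smul_left, sympForm_self, mul_zero, add_zero, sympForm_swap m a y0] at h
    have : Cfsg.sympForm m F x a + c * -Cfsg.sympForm m F y0 a = 0 := by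
      have h' : Cfsg.sympForm m F x y0 + Cfsg.sympForm m F x a + c * -Cfsg.sympForm m F y0 a
          = Cfsg.sympForm m F x y0 := h
      have : Cfsg.sympForm m F x y0 + (Cfsg.sympForm m F x a + c * -Cfsg.sympForm m F y0 a)
          = Cfsg.sympForm m F x y0 + 0 := by rw [add_zero, ← add_assoc]; exact h'
      exact add_left_cancel this
    rw [hκ]
    have h3 := eq_neg_of_add_eq_zero_left this
    rw [h3]; ring
  have hκ0 : κ ≠ 0 := by
    intro h0
    obtain ⟨b, hb⟩ := exists_sympForm_ne_zero m a ha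
    obtain ⟨c, hc⟩ := hx b
    have := hrel b c hc
    rw [h0, mul_zero] at this
    apply hb
    rw [sympForm_swap, this, neg_zero]
  refine ⟨a, κ⁻¹, ha, inv_ne_zero hκ0, ?_⟩
  rw [Matrix.ext_iff_mulVec]
  intro x
  obtain ⟨c, hc⟩ := hx x
  rw [sympTransvection_mulVec, hc, hrel x c hc]
  congr 2
  field_simp

/-- conjugating a transvection by a symplectic matrix -/
theorem symp_mul_sympTransvection (G : Matrix (Fin m ⊕ Fin m) (Fin m ⊕ Fin m) F)
    (hG : G ∈ Matrix.symplecticGroup (Fin m) F) (w : Fin m ⊕ Fin m → F) (c : F) :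
    G * Cfsg.sympTransvection m w c = Cfsg.sympTransvection m (G *ᵥ w) c * G := by
  rw [Matrix.ext_iff_mulVec]
  intro x
  rw [← mulVec_mulVec, ← mulVec_mulVec, sympTransvection_mulVec, sympTransvection_mulVec,
    preserves_of_mem_symplectic m G hG, mulVec_add, mulVec_smul]

theorem conj_sympTransvElt (g : Matrix.symplecticGroup (Fin m) F) (w : Fin m ⊕ Fin m → F) (c : F) :
    g * sympTransvElt m w c * g⁻¹ =
      sympTransvElt m ((g : Matrix (Fin m ⊕ Fin m) (Fin m ⊕ Fin m) F) *ᵥ w) c := by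
  rw [mul_inv_eq_iff_eq_mul]
  apply Subtype.ext
  rw [Submonoid.coe_mul, Submonoid.coe_mul, coe_sympTransvElt, coe_sympTransvElt]
  exact symp_mul_sympTransvection m _ g.2 w c

theorem sympTransvElt_mul (w : Fin m ⊕ Fin m → F) (c d : F) :
    sympTransvElt m w c * sympTransvElt m w d = sympTransvElt m w (c + d) := by
  apply Subtype.ext
  rw [Submonoid.coe_mul, coe_sympTransvElt, coe_sympTransvElt, coe_sympTransvElt]
  exact sympTransvection_mul m w c d

theorem sympTransvElt_zero (w : Fin m ⊕ Fin m → F) : sympTransvElt m w 0 = 1 := by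
  apply Subtype.ext
  rw [coe_sympTransvElt]
  exact sympTransvection_zero m w

theorem sympTransvElt_zero_vec (c : F) : sympTransvElt m (0 : Fin m ⊕ Fin m → F) c = 1 := by
  apply Subtype.ext
  rw [coe_sympTransvElt]
  simp [Cfsg.sympTransvection]

theorem mulVec_ne_zero_of_symp (g : Matrix.symplecticGroup (Fin m) F) (w : Fin m ⊕ Fin m → F)
    (hw : w ≠ 0) : (g : Matrix (Fin m ⊕ Fin m) (Fin m ⊕ Fin m) F) *ᵥ w ≠ 0 := by
  obtain ⟨b, hb⟩ := exists_sympForm_ne_zero m w hw
  intro h
  apply hb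
  rw [← preserves_of_mem_symplectic m _ g.2, h, sympForm_zero_left]

end Cfsg.Agent.Lib.Helper8
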