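import Mathlib
import Cfsg.Prelude.Def_ClassicalGeometry
import Cfsg.Agent.Lib.Helper13.SympTrans

set_option autoImplicit false

namespace Cfsg.Agent.Lib.Helper8

open Matrix Cfsg.Agent.Lib.Helper13

variable {F : Type*} [Field F] (m : ℕ)

/-- the transvection with direction `p - q` and suitable scalar moves `p` to `q` -/
theorem transv_move (p q : Fin m ⊕ Fin m → F) (h : Cfsg.sympForm m F p q ≠ 0) :
    Cfsg.sympTransvection m (p - q) (Cfsg.sympForm m F p q)⁻¹ *ᵥ p = q := by
  rw [sympTransvection_mulVec, sympForm_sub_right, sympForm_self, zero_sub,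
    mul_neg, inv_mul_cancel₀ h, neg_smul, one_smul]
  abel

/-- a transvection fixes the vectors orthogonal to its direction -/
theorem transv_fix (a : Fin m ⊕ Fin m → F) (c : F) (w : Fin m ⊕ Fin m → F)
    (h : Cfsg.sympForm m F w a = 0) : Cfsg.sympTransvection m a c *ᵥ w = w := by
  rw [sympTransvection_mulVec, h, mul_zero, zero_smul, add_zero]

/-- the key step: multiply by transvections to enlarge the fixed space -/
theorem exists_transv_step (g : Matrix.symplecticGroup (Fin m) F)
    (hg : ∃ v : Fin m ⊕ Fin m → F, (g : Matrix (Fin m ⊕ Fin m) (Fin m ⊕ Fin m) F) *ᵥ v ≠ v) :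
    ∃ t ∈ sympTransvSubgroup F m, ∃ v' : Fin m ⊕ Fin m → F,
      (g : Matrix (Fin m ⊕ Fin m) (Fin m ⊕ Fin m) F) *ᵥ v' ≠ v' ∧
      ((t * g : Matrix.symplecticGroup (Fin m) F) : Matrix (Fin m ⊕ Fin m) (Fin m ⊕ Fin m) F) *ᵥ v' = v' ∧
      ∀ w : Fin m ⊕ Fin m → F, (g : Matrix (Fin m ⊕ Fin m) (Fin m ⊕ Fin m) F) *ᵥ w = w →
        ((t * g : Matrix.symplecticGroup (Fin m) F) : Matrix (Fin m ⊕ Fin m) (Fin m ⊕ Fin m) F) *ᵥ w = w := by
  set G : Matrix (Fin m ⊕ Fin m) (Fin m ⊕ Fin m) F := (g : Matrix (Fin m ⊕ Fin m) (Fin m ⊕ Fin m) F) with hG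
  have hiso : ∀ u v, Cfsg.sympForm m F (G *ᵥ u) (G *ᵥ v) = Cfsg.sympForm m F u v :=
    preserves_of_mem_symplectic m G g.2
  -- orthogonality of fixed vectors with images of g - 1
  have hperp : ∀ w y : Fin m ⊕ Fin m → F, G *ᵥ w = w →
      Cfsg.sympForm m F w (G *ᵥ y - y) = 0 := by
    intro w y hw
    rw [sympForm_sub_right]
    nth_rewrite 1 [← hw]
    rw [hiso, sub_self]
  by_cases H : ∃ x, Cfsg.sympForm m F (G *ᵥ x) x ≠ 0
  · obtain ⟨x, hx⟩ := H
    refine ⟨sympTransvElt m (G *ᵥ x - x) (Cfsg.sympForm m F (G *ᵥ x) x)⁻¹, sympTransvElt_mem m _ _,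
      x, ?_, ?_, ?_⟩
    · intro h
      rw [h, sympForm_self] at hx
      exact hx rfl
    · rw [Submonoid.coe_mul, coe_sympTransvElt, ← mulVec_mulVec]
      exact transv_move m _ _ hx
    · intro w hw
      rw [Submonoid.coe_mul, coe_sympTransvElt, ← mulVec_mulVec, hw]
      exact transv_fix m _ _ _ (hperp w x hw)
  · push Not at H
    have polar : ∀ x y, Cfsg.sympForm m F (G *ᵥ x) y = - Cfsg.sympForm m F (G *ᵥ y) x := by
      intro x y
      have h := H (x + y)
      rw [mulVec_add, sympForm_add_left, sympForm_add_right, sympForm_add_right, H x, H y] at h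
      have : Cfsg.sympForm m F (G *ᵥ x) y + Cfsg.sympForm m F (G *ᵥ y) x = 0 := by
        simpa using h
      exact eq_neg_of_add_eq_zero_left this
    obtain ⟨v, hv⟩ := hg
    have ha : G *ᵥ v - v ≠ 0 := sub_ne_zero.2 hv
    obtain ⟨y, hy⟩ := exists_sympForm_ne_zero m _ ha
    set u := v + (G *ᵥ y - y) with hu
    have key : Cfsg.sympForm m F (G *ᵥ v) y - Cfsg.sympForm m F v y ≠ 0 := by
      rw [← sympForm_sub_left]; exact hy
    have h1 : Cfsg.sympForm m F (G *ᵥ v) u ≠ 0 := by
      rw [hu, sympForm_add_right, sympForm_sub_right, H v, hiso, zero_add]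
      intro h
      apply key
      rw [← neg_eq_zero, neg_sub]; exact h
    have h2 : Cfsg.sympForm m F u v ≠ 0 := by
      rw [hu, sympForm_add_left, sympForm_sub_left, sympForm_self, zero_add, polar y v,
        sympForm_swap m y v]
      intro h
      apply key
      rw [← neg_eq_zero, neg_sub]
      rw [← h]; ring
    refine ⟨sympTransvElt m (u - v) (Cfsg.sympForm m F u v)⁻¹ *
        sympTransvElt m (G *ᵥ v - u) (Cfsg.sympForm m F (G *ᵥ v) u)⁻¹,
      Subgroup.mul_mem _ (sympTransvElt_mem m _ _) (sympTransvElt_mem m _ _), v, hv, ?_, ?_⟩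
    · rw [Submonoid.coe_mul, Submonoid.coe_mul, coe_sympTransvElt, coe_sympTransvElt,
        ← mulVec_mulVec, ← mulVec_mulVec, transv_move m _ _ h1, transv_move m _ _ h2]
    · intro w hw
      rw [Submonoid.coe_mul, Submonoid.coe_mul, coe_sympTransvElt, coe_sympTransvElt,
        ← mulVec_mulVec, ← mulVec_mulVec, hw]
      have e1 : Cfsg.sympForm m F w (G *ᵥ v - u) = 0 := by
        have : G *ᵥ v - u = (G *ᵥ v - v) - (G *ᵥ y - y) := by rw [hu]; abel
        rw [this, sympForm_sub_right, hperp w v hw, hperp w y hw, sub_zero]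
      have e2 : Cfsg.sympForm m F w (u - v) = 0 := by
        have : u - v = G *ᵥ y - y := by rw [hu]; abel
        rw [this, hperp w y hw]
      rw [transv_fix m _ _ _ e1, transv_fix m _ _ _ e2]

/-- the fixed space of a matrix -/
def spFixSub (A : Matrix (Fin m ⊕ Fin m) (Fin m ⊕ Fin m) F) : Submodule F (Fin m ⊕ Fin m → F) :=
  LinearMap.ker (Matrix.mulVecLin A - LinearMap.id)

theorem mem_spFixSub (A : Matrix (Fin m ⊕ Fin m) (Fin m ⊕ Fin m) F) (x : Fin m ⊕ Fin m → F) :
    x ∈ spFixSub m A ↔ A *ᵥ x = x := by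
  simp [spFixSub, LinearMap.mem_ker, sub_eq_zero]

theorem mem_transvSubgroup_aux (n : ℕ) : ∀ g : Matrix.symplecticGroup (Fin m) F,
    Module.finrank F (Fin m ⊕ Fin m → F) -
      Module.finrank F (spFixSub m (g : Matrix (Fin m ⊕ Fin m) (Fin m ⊕ Fin m) F)) = n →
    g ∈ sympTransvSubgroup F m := by
  induction n using Nat.strong_induction_on with
  | _ n ih =>
    intro g hn
    by_cases hg : ∃ v : Fin m ⊕ Fin m → F, (g : Matrix (Fin m ⊕ Fin m) (Fin m ⊕ Fin m) F) *ᵥ v ≠ v
    · obtain ⟨t, ht, v', hv1, hv2, hfix⟩ := exists_transv_step m g hg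
      have hlt : spFixSub m (g : Matrix (Fin m ⊕ Fin m) (Fin m ⊕ Fin m) F) <
          spFixSub m ((t * g : Matrix.symplecticGroup (Fin m) F) : Matrix (Fin m ⊕ Fin m) (Fin m ⊕ Fin m) F) := by
        rw [SetLike.lt_iff_le_and_exists]
        refine ⟨fun w hw => ?_, v', ?_, ?_⟩
        · rw [mem_spFixSub] at hw ⊢
          exact hfix w hw
        · rw [mem_spFixSub]; exact hv2
        · rw [mem_spFixSub]; exact hv1
      have h1 := Submodule.finrank_lt_finrank_of_lt hlt
      have h2 := Submodule.finrank_le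
        (spFixSub m ((t * g : Matrix.symplecticGroup (Fin m) F) : Matrix (Fin m ⊕ Fin m) (Fin m ⊕ Fin m) F))
      have h3 : t * g ∈ sympTransvSubgroup F m := ih _ (by omega) (t * g) rfl
      have : g = t⁻¹ * (t * g) := by group
      rw [this]
      exact Subgroup.mul_mem _ (Subgroup.inv_mem _ ht) h3
    · push Not at hg
      have : g = 1 := by
        apply Subtype.ext
        rw [Matrix.ext_iff_mulVec]
        intro v
        rw [hg v]
        simp
      rw [this]
      exact Subgroup.one_mem _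

/-- the symplectic group is generated by the symplectic transvections -/
theorem sympTransvSubgroup_eq_top : sympTransvSubgroup F m = ⊤ := by
  rw [eq_top_iff]
  intro g _
  exact mem_transvSubgroup_aux m _ g rfl

end Cfsg.Agent.Lib.Helper8
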