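import Mathlib
import Cfsg.Prelude.Def_ClassicalGeometry
import Cfsg.Agent.Lib.Helper13.SympTrans
import Cfsg.Agent.Lib.Helper8.SpGen
import Cfsg.Agent.Lib.Helper8.SpTransv

set_option autoImplicit false

namespace Cfsg.Agent.Lib.Helper8

open Matrix Cfsg.Agent.Lib.Helper13

variable {F : Type*} [Field F] (m : ℕ)

/-- rescaling the direction of a transvection -/
theorem sympTransvElt_smul (a : F) (w : Fin m ⊕ Fin m → F) (c : F) :
    sympTransvElt m (a • w) c = sympTransvElt m w (a ^ 2 * c) := by
  apply Subtype.ext
  rw [coe_sympTransvElt, coe_sympTransvElt, Matrix.ext_iff_mulVec]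
  intro x
  rw [sympTransvection_mulVec, sympTransvection_mulVec, sympForm_smul_right, smul_smul]
  congr 1
  congr 1
  ring

/-- composition of transvections along orthogonal directions -/
theorem sympTransv_mul_orth_mulVec (u v : Fin m ⊕ Fin m → F) (c d : F)
    (h : Cfsg.sympForm m F v u = 0) (x : Fin m ⊕ Fin m → F) :
    ((sympTransvElt m u c * sympTransvElt m v d : Matrix.symplecticGroup (Fin m) F) :
      Matrix (Fin m ⊕ Fin m) (Fin m ⊕ Fin m) F) *ᵥ x =
      x + (c * Cfsg.sympForm m F x u) • u + (d * Cfsg.sympForm m F x v) • v := by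
  rw [Submonoid.coe_mul, coe_sympTransvElt, coe_sympTransvElt, ← mulVec_mulVec,
    sympTransvection_mulVec, sympTransvection_mulVec, sympForm_add_left, sympForm_smul_left, h,
    mul_zero, add_zero]
  abel

section abel

variable {m}
variable {A : Type*} [CommGroup A] (φ : Matrix.symplecticGroup (Fin m) F →* A)

include φ in
theorem map_conj_eq (g t : Matrix.symplecticGroup (Fin m) F) : φ (g * t * g⁻¹) = φ t := by
  rw [map_mul, map_mul, map_inv, mul_comm (φ g), mul_assoc, mul_inv_cancel, mul_one]

/-- all transvections with the same parameter have the same image in an abelian group -/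
theorem map_transv_eq (w w' : Fin m ⊕ Fin m → F) (hw : w ≠ 0) (hw' : w' ≠ 0) (c : F) :
    φ (sympTransvElt m w c) = φ (sympTransvElt m w' c) := by
  obtain ⟨g, -, hg⟩ := exists_transv_of_ne_zero m w w' hw hw'
  rw [← hg, ← conj_sympTransvElt, map_conj_eq]

theorem map_transv_add (w : Fin m ⊕ Fin m → F) (c d : F) :
    φ (sympTransvElt m w (c + d)) = φ (sympTransvElt m w c) * φ (sympTransvElt m w d) := by
  rw [← map_mul, sympTransvElt_mul]

theorem map_transv_zero (w : Fin m ⊕ Fin m → F) : φ (sympTransvElt m w 0) = 1 := by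
  rw [sympTransvElt_zero, map_one]

/-- if the images of all transvections are trivial then the hom is trivial -/
theorem map_eq_one_of_transv (h : ∀ (w : Fin m ⊕ Fin m → F) (c : F), φ (sympTransvElt m w c) = 1)
    (g : Matrix.symplecticGroup (Fin m) F) : φ g = 1 := by
  have hle : sympTransvSubgroup F m ≤ φ.ker := by
    unfold sympTransvSubgroup
    rw [Subgroup.closure_le]
    rintro B ⟨w, c, hB⟩
    have : B = sympTransvElt m w c := Subtype.ext hB
    rw [this]
    exact h w c
  have : g ∈ sympTransvSubgroup F m := by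
    rw [sympTransvSubgroup_eq_top]; exact Subgroup.mem_top g
  exact hle this

/-- case (a): a field element `a ≠ 0` with `a ^ 2 ≠ 1` -/
theorem map_eq_one_of_sq_ne_one (a : F) (ha : a ≠ 0) (ha2 : a ^ 2 ≠ 1)
    (g : Matrix.symplecticGroup (Fin m) F) : φ g = 1 := by
  apply map_eq_one_of_transv φ
  intro w c
  by_cases hw : w = 0
  · rw [hw, sympTransvElt_zero_vec, map_one]
  have h1 : ∀ d : F, φ (sympTransvElt m w (a ^ 2 * d)) = φ (sympTransvElt m w d) := by
    intro d
    rw [← sympTransvElt_smul]
    exact map_transv_eq φ _ _ (smul_ne_zero ha hw) hw d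
  have h2 : ∀ d : F, φ (sympTransvElt m w ((a ^ 2 - 1) * d)) = 1 := by
    intro d
    have : a ^ 2 * d = (a ^ 2 - 1) * d + d := by ring
    have h3 := h1 d
    rw [this, map_transv_add] at h3
    exact mul_eq_right.mp h3
  have hne : a ^ 2 - 1 ≠ 0 := sub_ne_zero.2 ha2
  have := h2 ((a ^ 2 - 1)⁻¹ * c)
  rwa [← mul_assoc, mul_inv_cancel₀ hne, one_mul] at this

end abel

end Cfsg.Agent.Lib.Helper8

namespace Cfsg.Agent.Lib.Helper8

open Matrix Cfsg.Agent.Lib.Helper13

variable {F : Type*} [Field F] (m : ℕ)

/-- the standard Lagrangian subspace spanned by the first half of the basis -/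
def lagr : Submodule F (Fin m ⊕ Fin m → F) where
  carrier := {v | ∀ i : Fin m, v (Sum.inr i) = 0}
  add_mem' := by
    intro a b ha hb i
    have ha : ∀ i : Fin m, a (Sum.inr i) = 0 := ha
    have hb : ∀ i : Fin m, b (Sum.inr i) = 0 := hb
    simp [ha i, hb i]
  zero_mem' := by intro i; simp
  smul_mem' := by
    intro c a ha i
    have ha : ∀ i : Fin m, a (Sum.inr i) = 0 := ha
    simp [ha i]

theorem mem_lagr (v : Fin m ⊕ Fin m → F) : v ∈ lagr (F := F) m ↔ ∀ i : Fin m, v (Sum.inr i) = 0 :=
  Iff.rfl

theorem sympForm_lagr (u v : Fin m ⊕ Fin m → F) (hu : u ∈ lagr m) (hv : v ∈ lagr m) :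
    Cfsg.sympForm m F u v = 0 := by
  rw [sympForm_expand]
  apply Finset.sum_eq_zero
  intro i _
  rw [(mem_lagr m u).1 hu i, (mem_lagr m v).1 hv i]
  ring

/-- basis vectors of the Lagrangian -/
def evec (i : Fin m) : Fin m ⊕ Fin m → F := Pi.single (Sum.inl i) 1

theorem evec_mem (i : Fin m) : evec (F := F) m i ∈ lagr m := by
  intro j
  simp [evec]

theorem evec_apply_self (i : Fin m) : evec (F := F) m i (Sum.inl i) = 1 := by
  simp [evec]

theorem evec_apply_ne (i j : Fin m) (h : i ≠ j) : evec (F := F) m i (Sum.inl j) = 0 := by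
  simp [evec, h.symm]

/-- product of transvections along vectors of a totally isotropic subspace -/
theorem list_prod_mulVec (W : Submodule F (Fin m ⊕ Fin m → F))
    (hW : ∀ a ∈ W, ∀ b ∈ W, Cfsg.sympForm m F a b = 0) (c : F) :
    ∀ (L : List (Fin m ⊕ Fin m → F)), (∀ y ∈ L, y ∈ W) → ∀ x : Fin m ⊕ Fin m → F,
    (((L.map (fun y => sympTransvElt m y c)).prod : Matrix.symplecticGroup (Fin m) F) :
      Matrix (Fin m ⊕ Fin m) (Fin m ⊕ Fin m) F) *ᵥ x
      = x + (L.map (fun y => (c * Cfsg.sympForm m F x y) • y)).sum := by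
  intro L
  induction L with
  | nil =>
    intro _ x
    simp
  | cons y L ih =>
    intro hL x
    have hy : y ∈ W := hL y (List.mem_cons_self)
    have hL' : ∀ y' ∈ L, y' ∈ W := fun y' hy' => hL y' (List.mem_cons_of_mem _ hy')
    have hS : (L.map (fun y => (c * Cfsg.sympForm m F x y) • y)).sum ∈ W := by
      apply list_sum_mem
      intro z hz
      rw [List.mem_map] at hz
      obtain ⟨y', hy', rfl⟩ := hz
      exact W.smul_mem _ (hL' y' hy')
    rw [List.map_cons, List.prod_cons, Submonoid.coe_mul, ← mulVec_mulVec, ih hL' x,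
      coe_sympTransvElt, sympTransvection_mulVec, sympForm_add_left, hW _ hS y hy, add_zero,
      List.map_cons, List.sum_cons]
    abel

section abel

variable {m}
variable {A : Type*} [CommGroup A] (φ : Matrix.symplecticGroup (Fin m) F →* A)

/-- case (b): characteristic not two and `m ≥ 2` -/
theorem map_eq_one_of_two_ne_zero (h2 : (2 : F) ≠ 0) (hm : 2 ≤ m)
    (g : Matrix.symplecticGroup (Fin m) F) : φ g = 1 := by
  apply map_eq_one_of_transv φ
  intro w c
  by_cases hw : w = 0
  · rw [hw, sympTransvElt_zero_vec, map_one]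
  let i0 : Fin m := ⟨0, by omega⟩
  let i1 : Fin m := ⟨1, by omega⟩
  have h01 : i0 ≠ i1 := by
    intro h; have := congrArg Fin.val h; simp [i0, i1] at this
  set u : Fin m ⊕ Fin m → F := evec m i0 with hu
  set v : Fin m ⊕ Fin m → F := evec m i1 with hv
  have huv : Cfsg.sympForm m F u v = 0 := sympForm_lagr m u v (evec_mem m i0) (evec_mem m i1)
  have hvu : Cfsg.sympForm m F v u = 0 := sympForm_lagr m v u (evec_mem m i1) (evec_mem m i0)
  have hu0 : u ≠ 0 := by
    intro h; have := congrFun h (Sum.inl i0); rw [hu, evec_apply_self] at this; simp at this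
  have hv0 : v ≠ 0 := by
    intro h; have := congrFun h (Sum.inl i1); rw [hv, evec_apply_self] at this; simp at this
  have hp0 : u + v ≠ 0 := by
    intro h; have := congrFun h (Sum.inl i0)
    rw [Pi.add_apply, hu, hv, evec_apply_self, evec_apply_ne m i1 i0 h01.symm] at this
    simp at this
  have hm0 : u - v ≠ 0 := by
    intro h; have := congrFun h (Sum.inl i0)
    rw [Pi.sub_apply, hu, hv, evec_apply_self, evec_apply_ne m i1 i0 h01.symm] at this
    simp at this
  -- the identity
  have hid : ∀ d : F, sympTransvElt m (u + v) d * sympTransvElt m (u - v) d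
      = sympTransvElt m u (2 * d) * sympTransvElt m v (2 * d) := by
    intro d
    apply Subtype.ext
    rw [Matrix.ext_iff_mulVec]
    intro x
    have horth : Cfsg.sympForm m F (u - v) (u + v) = 0 := by
      rw [sympForm_sub_left, sympForm_add_right, sympForm_add_right, sympForm_self, sympForm_self,
        huv, hvu]
      ring
    rw [sympTransv_mul_orth_mulVec m _ _ _ _ horth, sympTransv_mul_orth_mulVec m _ _ _ _ hvu,
      sympForm_add_right, sympForm_sub_right]
    module
  -- the common value
  have hτ : ∀ (w' : Fin m ⊕ Fin m → F), w' ≠ 0 → ∀ d, φ (sympTransvElt m w' d) = φ (sympTransvElt m u d) :=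
    fun w' hw' d => map_transv_eq φ w' u hw' hu0 d
  have hdouble : ∀ d, φ (sympTransvElt m u (2 * d)) = φ (sympTransvElt m u d) ^ 2 := by
    intro d
    rw [two_mul, map_transv_add, sq]
  have hkey : ∀ d, φ (sympTransvElt m u (2 * d)) = 1 := by
    intro d
    have h := congrArg φ (hid d)
    rw [map_mul, map_mul, hτ _ hp0, hτ _ hm0, hτ v hv0, hdouble] at h
    -- τ(d)^2 = (τ(d)^2)^2
    set t := φ (sympTransvElt m u d) with ht
    have : t ^ 2 = 1 := by
      have h' : t * t = t ^ 2 * t ^ 2 := h
      rw [← sq] at h'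
      exact (mul_eq_left.mp h'.symm)
    rw [hdouble]; exact this
  rw [hτ w hw]
  have := hkey (2⁻¹ * c)
  rwa [← mul_assoc, mul_inv_cancel₀ h2, one_mul] at this

/-- case (c): characteristic two and `m ≥ 3` -/
theorem map_eq_one_of_two_eq_zero (h2 : (2 : F) = 0) (hm : 3 ≤ m)
    (g : Matrix.symplecticGroup (Fin m) F) : φ g = 1 := by
  apply map_eq_one_of_transv φ
  intro w c
  by_cases hw : w = 0
  · rw [hw, sympTransvElt_zero_vec, map_one]
  let i0 : Fin m := ⟨0, by omega⟩
  let i1 : Fin m := ⟨1, by omega⟩
  let i2 : Fin m := ⟨2, by omega⟩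
  have h01 : i0 ≠ i1 := by
    intro h; have := congrArg Fin.val h; simp [i0, i1] at this
  have h02 : i0 ≠ i2 := by
    intro h; have := congrArg Fin.val h; simp [i0, i2] at this
  have h12 : i1 ≠ i2 := by
    intro h; have := congrArg Fin.val h; simp [i1, i2] at this
  set e0 : Fin m ⊕ Fin m → F := evec m i0 with he0
  set e1 : Fin m ⊕ Fin m → F := evec m i1 with he1
  set e2 : Fin m ⊕ Fin m → F := evec m i2 with he2
  have m0 : e0 ∈ lagr (F := F) m := evec_mem m i0
  have m1 : e1 ∈ lagr (F := F) m := evec_mem m i1
  have m2 : e2 ∈ lagr (F := F) m := evec_mem m i2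
  let L : List (Fin m ⊕ Fin m → F) := [e0, e1, e2, e0 + e1, e0 + e2, e1 + e2, e0 + e1 + e2]
  have hLW : ∀ y ∈ L, y ∈ lagr (F := F) m := by
    intro y hy
    simp only [L, List.mem_cons, List.not_mem_nil, or_false] at hy
    rcases hy with rfl | rfl | rfl | rfl | rfl | rfl | rfl
    · exact m0
    · exact m1
    · exact m2
    · exact Submodule.add_mem _ m0 m1
    · exact Submodule.add_mem _ m0 m2
    · exact Submodule.add_mem _ m1 m2
    · exact Submodule.add_mem _ (Submodule.add_mem _ m0 m1) m2
  have hLne : ∀ y ∈ L, y ≠ 0 := by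
    intro y hy
    simp only [L, List.mem_cons, List.not_mem_nil, or_false] at hy
    rcases hy with rfl | rfl | rfl | rfl | rfl | rfl | rfl
    · intro h; have := congrFun h (Sum.inl i0); rw [he0, evec_apply_self] at this; simp at this
    · intro h; have := congrFun h (Sum.inl i1); rw [he1, evec_apply_self] at this; simp at this
    · intro h; have := congrFun h (Sum.inl i2); rw [he2, evec_apply_self] at this; simp at this
    · intro h; have := congrFun h (Sum.inl i0)
      rw [Pi.add_apply, he0, he1, evec_apply_self, evec_apply_ne m i1 i0 h01.symm] at this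
      simp at this
    · intro h; have := congrFun h (Sum.inl i0)
      rw [Pi.add_apply, he0, he2, evec_apply_self, evec_apply_ne m i2 i0 h02.symm] at this
      simp at this
    · intro h; have := congrFun h (Sum.inl i1)
      rw [Pi.add_apply, he1, he2, evec_apply_self, evec_apply_ne m i2 i1 h12.symm] at this
      simp at this
    · intro h; have := congrFun h (Sum.inl i0)
      rw [Pi.add_apply, Pi.add_apply, he0, he1, he2, evec_apply_self,
        evec_apply_ne m i1 i0 h01.symm, evec_apply_ne m i2 i0 h02.symm] at this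
      simp at this
  -- the product of the seven transvections is the identity
  have hprod : ∀ d : F, (L.map (fun y => sympTransvElt m y d)).prod = 1 := by
    intro d
    apply Subtype.ext
    rw [Matrix.ext_iff_mulVec]
    intro x
    rw [list_prod_mulVec m (lagr m) (fun a ha b hb => sympForm_lagr m a b ha hb) d L hLW x]
    simp only [L, List.map_cons, List.map_nil, List.sum_cons, List.sum_nil, sympForm_add_right]
    have : ∀ a b c' : F, (d * a) • e0 + ((d * b) • e1 + ((d * c') • e2 + ((d * (a + b)) • (e0 + e1) +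
        ((d * (a + c')) • (e0 + e2) + ((d * (b + c')) • (e1 + e2) +
        ((d * (a + b + c')) • (e0 + e1 + e2) + 0))))))
        = (2 : F) • ((d * (2 * a + b + c')) • e0 + (d * (a + 2 * b + c')) • e1
          + (d * (a + b + 2 * c')) • e2) := by
      intro a b c'
      module
    rw [this, h2, zero_smul, add_zero]
    simp
  have hτ : ∀ (w' : Fin m ⊕ Fin m → F), w' ≠ 0 → ∀ d, φ (sympTransvElt m w' d) = φ (sympTransvElt m w d) :=
    fun w' hw' d => map_transv_eq φ w' w hw' hw d
  have h7 : φ (sympTransvElt m w c) ^ 7 = 1 := by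
    have h := congrArg φ (hprod c)
    rw [map_one, map_list_prod, List.map_map] at h
    have : (L.map (φ ∘ fun y => sympTransvElt m y c)) = List.replicate 7 (φ (sympTransvElt m w c)) := by
      rw [List.eq_replicate_iff]
      refine ⟨by simp [L], ?_⟩
      intro b hb
      rw [List.mem_map] at hb
      obtain ⟨y, hy, rfl⟩ := hb
      exact hτ y (hLne y hy) c
    rw [this, List.prod_replicate] at h
    exact h
  have hsq : φ (sympTransvElt m w c) ^ 2 = 1 := by
    rw [sq, ← map_transv_add, ← two_mul, h2, zero_mul, map_transv_zero]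
  have : φ (sympTransvElt m w c) = φ (sympTransvElt m w c) ^ 7 * (φ (sympTransvElt m w c) ^ 2)⁻¹ ^ 3 := by
    group
  rw [this, h7, hsq]
  simp

end abel

/-- the symplectic group is perfect, except for small cases -/
theorem commutator_symplectic_eq_top [Fintype F]
    (h : 3 ≤ m ∨ (m = 2 ∧ 3 ≤ Fintype.card F) ∨ 4 ≤ Fintype.card F) :
    commutator (Matrix.symplecticGroup (Fin m) F) = ⊤ := by
  rw [← Abelianization.ker_of, eq_top_iff]
  intro g _
  rw [MonoidHom.mem_ker]
  by_cases h4 : 4 ≤ Fintype.card F
  · -- an element with square different from 0 and 1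
    obtain ⟨a, ha, ha2⟩ : ∃ a : F, a ≠ 0 ∧ a ^ 2 ≠ 1 := by
      by_contra hcon
      push Not at hcon
      classical
      have hsub : (Finset.univ : Finset F) ⊆ {0, 1, -1} := by
        intro a _
        by_cases ha : a = 0
        · simp [ha]
        · have := hcon a ha
          have h' : (a - 1) * (a + 1) = 0 := by ring_nf; rw [this]; ring
          rcases mul_eq_zero.1 h' with h'' | h''
          · simp [sub_eq_zero.1 h'']
          · simp [eq_neg_of_add_eq_zero_left h'']
      have := Finset.card_le_card hsub
      have h3 : ({0, 1, -1} : Finset F).card ≤ 3 := Finset.card_le_three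
      rw [Finset.card_univ] at this
      omega
    exact map_eq_one_of_sq_ne_one _ a ha ha2 g
  · by_cases h2 : (2 : F) = 0
    · have hm : 3 ≤ m := by
        rcases h with h | h | h
        · exact h
        · exfalso
          -- card F = 3 contradicts 2 = 0
          have hc : Fintype.card F = 3 := by omega
          have h3 : ((Fintype.card F : ℕ) : F) = 0 := Nat.cast_card_eq_zero F
          rw [hc] at h3
          have : (1 : F) = 0 := by
            have : (3 : F) = 2 + 1 := by norm_num
            have h3' : (3 : F) = 0 := by exact_mod_cast h3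
            rw [this, h2, zero_add] at h3'
            exact h3'
          exact one_ne_zero this
        · omega
      exact map_eq_one_of_two_eq_zero _ h2 hm g
    · have hm : 2 ≤ m := by
        rcases h with h | h | h
        · omega
        · omega
        · omega
      exact map_eq_one_of_two_ne_zero _ h2 hm g

end Cfsg.Agent.Lib.Helper8
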