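import Mathlib
import Cfsg.Prelude.Def_Classical
import Cfsg.Agent.Lib.Helper8.Eichler
import Cfsg.Agent.Lib.Helper8.OrthTransp
import Cfsg.Agent.Lib.Helper8.OrthForms

set_option autoImplicit false

namespace Cfsg.Agent.Lib.Helper8

open Matrix Module QuadraticMap
open Cfsg.Agent.Lib.Helper13
open scoped Pointwise

section General

variable {ι : Type} [Fintype ι] [DecidableEq ι] {F : Type*} [Field F]

/-- pointwise stabiliser of a family of vectors in the isometry group -/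
def ptStab (Q : QuadraticForm F (ι → F)) {κ : Type*} (w : κ → ι → F) :
    Subgroup ↥(Cfsg.isometryGroup F (⇑Q)) where
  carrier := {g | ∀ k, ((g : Matrix.GeneralLinearGroup ι F) : Matrix ι ι F) *ᵥ w k = w k}
  one_mem' := by
    intro k
    simp
  mul_mem' := by
    intro a b ha hb k
    rw [coe_mul_mulVec, hb k, ha k]
  inv_mem' := by
    intro a ha k
    have := coe_inv_mulVec' Q a (w k)
    rw [ha k] at this
    exact this

theorem mem_ptStab (Q : QuadraticForm F (ι → F)) {κ : Type*} (w : κ → ι → F)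
    (g : ↥(Cfsg.isometryGroup F (⇑Q))) :
    g ∈ ptStab Q w ↔
      ∀ k, ((g : Matrix.GeneralLinearGroup ι F) : Matrix ι ι F) *ᵥ w k = w k := Iff.rfl

theorem mem_conj_smul_ptStab (Q : QuadraticForm F (ι → F)) {κ : Type*} (w : κ → ι → F)
    (y t : ↥(Cfsg.isometryGroup F (⇑Q)))
    (h : ∀ k, ((t : Matrix.GeneralLinearGroup ι F) : Matrix ι ι F) *ᵥ
      (((y : Matrix.GeneralLinearGroup ι F) : Matrix ι ι F) *ᵥ w k)
        = ((y : Matrix.GeneralLinearGroup ι F) : Matrix ι ι F) *ᵥ w k) :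
    t ∈ MulAut.conj y • ptStab Q w := by
  rw [Subgroup.mem_pointwise_smul_iff_inv_smul_mem]
  have e1 : (MulAut.conj y)⁻¹ • t = y⁻¹ * t * y := by
    simp [MulAut.smul_def]
  rw [e1, mem_ptStab]
  intro k
  rw [coe_mul_mulVec, coe_mul_mulVec, h k, coe_inv_mulVec']

/-- a non-trivial isometry fixing a small family of vectors -/
theorem exists_fixing (Q : QuadraticForm F (ι → F))
    (hQ : (QuadraticMap.polarBilin Q).Nondegenerate) {κ : Type*} [Fintype κ]
    (w : κ → ι → F) (hκ : Fintype.card κ + 2 ≤ Fintype.card ι) :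
    ∃ t : ↥(Cfsg.isometryGroup F (⇑Q)), t ≠ 1 ∧
      ∀ k, ((t : Matrix.GeneralLinearGroup ι F) : Matrix ι ι F) *ᵥ w k = w k := by
  classical
  let φ : (ι → F) →ₗ[F] (κ → F) := LinearMap.pi (fun k => QuadraticMap.polarBilin Q (w k))
  have hφ : ∀ x, x ∈ LinearMap.ker φ ↔ ∀ k, polar (⇑Q) (w k) x = 0 := by
    intro x
    rw [LinearMap.mem_ker]
    constructor
    · intro h k
      have := congrFun h k
      simpa [φ] using this
    · intro h
      funext k
      simpa [φ] using h k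
  have hker : 2 ≤ finrank F ↥(LinearMap.ker φ) := by
    have h1 := LinearMap.finrank_range_add_finrank_ker φ
    have h2 : finrank F ↥(LinearMap.range φ) ≤ finrank F (κ → F) := Submodule.finrank_le _
    rw [Module.finrank_fintype_fun_eq_card] at h1 h2
    omega
  obtain ⟨a, ha⟩ : ∃ a : ↥(LinearMap.ker φ), a ≠ 0 := by
    have : 0 < finrank F ↥(LinearMap.ker φ) := by omega
    exact Module.finrank_pos_iff_exists_ne_zero.1 this
  have h1lt : 1 < finrank F ↥(LinearMap.ker φ) := by omega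
  obtain ⟨b, hab⟩ := exists_linearIndependent_pair_of_one_lt_finrank h1lt ha
  rw [LinearIndependent.pair_iff] at hab
  have ha0 : (a : ι → F) ≠ 0 := fun h => ha (Subtype.ext h)
  have haw := (hφ a).1 a.2
  have hbw := (hφ b).1 b.2
  have hind : ∀ s t : F, s • (a : ι → F) + t • (b : ι → F) = 0 → s = 0 ∧ t = 0 := by
    intro s t h
    apply hab s t
    apply Subtype.ext
    simpa using h
  by_cases hex : ∃ v ∈ LinearMap.ker φ, Q v ≠ 0
  · obtain ⟨v, hv, hQv⟩ := hex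
    refine ⟨reflElt Q v hQv, reflElt_ne_one Q hQ v hQv, ?_⟩
    intro k
    rw [coe_reflElt]
    apply reflectionMatrix_mulVec_of_polar_eq_zero
    rw [polar_comm]
    exact (hφ v).1 hv k
  · push Not at hex
    have hQa : Q (a : ι → F) = 0 := hex _ a.2
    have hQb : Q (b : ι → F) = 0 := hex _ b.2
    have hQab : Q ((a : ι → F) + b) = 0 := hex _ (add_mem a.2 b.2)
    have hpol : polar (⇑Q) (a : ι → F) b = 0 := by
      unfold polar
      rw [hQab, hQa, hQb]; simp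
    refine ⟨eichlerElt Q hQ a b hQa hpol, ?_, ?_⟩
    · intro h1
      obtain ⟨x, hx⟩ := exists_polar_ne_zero Q hQ a ha0
      have h2 := eichlerElt_mulVec Q hQ a b hQa hpol x
      rw [h1] at h2
      simp only [OneMemClass.coe_one, Units.val_one, one_mulVec] at h2
      rw [hQb, zero_mul, zero_smul, sub_zero] at h2
      have h3 : (-(polar (⇑Q) (b : ι → F) x)) • (a : ι → F)
          + (polar (⇑Q) (a : ι → F) x) • (b : ι → F) = 0 := by
        have h4 : x + polar (⇑Q) (a : ι → F) x • (b : ι → F)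
            - polar (⇑Q) (b : ι → F) x • (a : ι → F) - x = 0 := by
          rw [← h2]; exact sub_self x
        rw [← h4, neg_smul]; abel
      exact hx (hind _ _ h3).2
    · intro k
      rw [eichlerElt_mulVec, polar_comm (⇑Q) a, haw k, polar_comm (⇑Q) b, hbw k]
      simp

end General

section Two

variable (m : ℕ) (F : Type*) [Field F]

/-- the basis vector `e_i` -/
def eVec (i : Fin m) : Fin m ⊕ Fin m → F := Pi.single (Sum.inl i) 1

/-- the basis vector `f_i` -/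
def fVec (i : Fin m) : Fin m ⊕ Fin m → F := Pi.single (Sum.inr i) 1

theorem polar_eVec (x : Fin m ⊕ Fin m → F) (i : Fin m) :
    polar (⇑(plusForm m F)) x (eVec m F i) = x (Sum.inr i) := by
  rw [polar_plusForm]
  simp [eVec, Pi.single_apply]

theorem polar_fVec (x : Fin m ⊕ Fin m → F) (i : Fin m) :
    polar (⇑(plusForm m F)) x (fVec m F i) = x (Sum.inl i) := by
  rw [polar_plusForm]
  simp [fVec, Pi.single_apply]

theorem plusForm_apply (z : Fin m ⊕ Fin m → F) :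
    plusForm m F z = ∑ i : Fin m, z (Sum.inl i) * z (Sum.inr i) := by
  rw [← plusForm_coe]; rfl

theorem plusForm_of_Z (l : Fin m) (z : Fin m ⊕ Fin m → F)
    (hz : ∀ i, i ≠ l → z (Sum.inr i) = 0) :
    plusForm m F z = z (Sum.inl l) * z (Sum.inr l) := by
  rw [plusForm_apply]
  apply Finset.sum_eq_single l
  · intro i _ hi
    rw [hz i hi, mul_zero]
  · intro h; exact absurd (Finset.mem_univ _) h

theorem polar_of_Z (l : Fin m) (z z' : Fin m ⊕ Fin m → F)
    (hz : ∀ i, i ≠ l → z (Sum.inr i) = 0) (hz' : ∀ i, i ≠ l → z' (Sum.inr i) = 0) :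
    polar (⇑(plusForm m F)) z z'
      = z (Sum.inl l) * z' (Sum.inr l) + z' (Sum.inl l) * z (Sum.inr l) := by
  rw [polar_plusForm]
  apply Finset.sum_eq_single l
  · intro i _ hi
    rw [hz i hi, hz' i hi, mul_zero, mul_zero, add_zero]
  · intro h; exact absurd (Finset.mem_univ _) h

/-- the standard family `e_i`, `i ≠ l` -/
def wStd (l : Fin m) : {i : Fin m // i ≠ l} → (Fin m ⊕ Fin m → F) := fun i => eVec m F i

variable {m F}

theorem ptStab_inr {l : Fin m} {g : ↥(Cfsg.isometryGroup F (⇑(plusForm m F)))}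
    (hg : g ∈ ptStab (plusForm m F) (wStd m F l)) (x : Fin m ⊕ Fin m → F) (i : Fin m)
    (hi : i ≠ l) :
    (((g : Matrix.GeneralLinearGroup (Fin m ⊕ Fin m) F) : Matrix (Fin m ⊕ Fin m) (Fin m ⊕ Fin m) F) *ᵥ x) (Sum.inr i)
      = x (Sum.inr i) := by
  have h := iso_polar (plusForm m F) g x (eVec m F i)
  have hgi : ((g : Matrix.GeneralLinearGroup (Fin m ⊕ Fin m) F) : Matrix (Fin m ⊕ Fin m) (Fin m ⊕ Fin m) F) *ᵥ eVec m F i
      = eVec m F i := hg ⟨i, hi⟩
  rw [hgi, polar_eVec, polar_eVec] at h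
  exact h

theorem ptStab_type [Fintype F] (hF : Fintype.card F = 2) {l : Fin m}
    {g : ↥(Cfsg.isometryGroup F (⇑(plusForm m F)))}
    (hg : g ∈ ptStab (plusForm m F) (wStd m F l)) :
    (∀ z : Fin m ⊕ Fin m → F, (∀ i, i ≠ l → z (Sum.inr i) = 0) →
      (((g : Matrix.GeneralLinearGroup (Fin m ⊕ Fin m) F) : Matrix (Fin m ⊕ Fin m) (Fin m ⊕ Fin m) F) *ᵥ z) (Sum.inl l)
        = z (Sum.inl l) ∧
      (((g : Matrix.GeneralLinearGroup (Fin m ⊕ Fin m) F) : Matrix (Fin m ⊕ Fin m) (Fin m ⊕ Fin m) F) *ᵥ z) (Sum.inr l)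
        = z (Sum.inr l)) ∨
    (∀ z : Fin m ⊕ Fin m → F, (∀ i, i ≠ l → z (Sum.inr i) = 0) →
      (((g : Matrix.GeneralLinearGroup (Fin m ⊕ Fin m) F) : Matrix (Fin m ⊕ Fin m) (Fin m ⊕ Fin m) F) *ᵥ z) (Sum.inl l)
        = z (Sum.inr l) ∧
      (((g : Matrix.GeneralLinearGroup (Fin m ⊕ Fin m) F) : Matrix (Fin m ⊕ Fin m) (Fin m ⊕ Fin m) F) *ᵥ z) (Sum.inr l)
        = z (Sum.inl l)) := by
  have h01 : ∀ a : F, a = 0 ∨ a = 1 := by
    intro a
    by_contra hcon
    push Not at hcon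
    have : 2 < Fintype.card F :=
      Fintype.two_lt_card_iff.2 ⟨a, 0, 1, hcon.1, hcon.2, zero_ne_one⟩
    omega
  have hg' : g⁻¹ ∈ ptStab (plusForm m F) (wStd m F l) := Subgroup.inv_mem _ hg
  set A := ((g : Matrix.GeneralLinearGroup (Fin m ⊕ Fin m) F) : Matrix (Fin m ⊕ Fin m) (Fin m ⊕ Fin m) F) with hA
  set A' := (((g⁻¹ : ↥(Cfsg.isometryGroup F (⇑(plusForm m F)))) :
    Matrix.GeneralLinearGroup (Fin m ⊕ Fin m) F) : Matrix (Fin m ⊕ Fin m) (Fin m ⊕ Fin m) F) with hA'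
  set ζ := A' *ᵥ eVec m F l with hζ
  set ζ' := A' *ᵥ fVec m F l with hζ'
  have hζZ : ∀ i, i ≠ l → ζ (Sum.inr i) = 0 := by
    intro i hi
    rw [hζ, ptStab_inr hg' _ i hi]
    simp [eVec]
  have hζ'Z : ∀ i, i ≠ l → ζ' (Sum.inr i) = 0 := by
    intro i hi
    rw [hζ', ptStab_inr hg' _ i hi]
    simp [fVec, hi]
  have c1 : ζ (Sum.inl l) * ζ (Sum.inr l) = 0 := by
    rw [← plusForm_of_Z m F l ζ hζZ, hζ, isoElt_preserves (plusForm m F) g⁻¹,
      plusForm_of_Z m F l (eVec m F l) (by intro i hi; simp [eVec])]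
    simp [eVec]
  have c2 : ζ' (Sum.inl l) * ζ' (Sum.inr l) = 0 := by
    rw [← plusForm_of_Z m F l ζ' hζ'Z, hζ', isoElt_preserves (plusForm m F) g⁻¹,
      plusForm_of_Z m F l (fVec m F l) (by intro i hi; simp [fVec, hi])]
    simp [fVec]
  have c3 : ζ (Sum.inl l) * ζ' (Sum.inr l) + ζ' (Sum.inl l) * ζ (Sum.inr l) = 1 := by
    rw [← polar_of_Z m F l ζ ζ' hζZ hζ'Z, hζ, hζ', iso_polar (plusForm m F) g⁻¹, polar_fVec]
    simp [eVec]
  have ha : ∀ z : Fin m ⊕ Fin m → F, (∀ i, i ≠ l → z (Sum.inr i) = 0) →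
      (A *ᵥ z) (Sum.inl l) = z (Sum.inl l) * ζ' (Sum.inr l) + ζ' (Sum.inl l) * z (Sum.inr l) := by
    intro z hz
    rw [← polar_of_Z m F l z ζ' hz hζ'Z, ← polar_fVec m F (A *ᵥ z) l,
      ← iso_polar (plusForm m F) g z ζ', hζ', hA', coe_inv_mulVec]
  have hb : ∀ z : Fin m ⊕ Fin m → F, (∀ i, i ≠ l → z (Sum.inr i) = 0) →
      (A *ᵥ z) (Sum.inr l) = z (Sum.inl l) * ζ (Sum.inr l) + ζ (Sum.inl l) * z (Sum.inr l) := by
    intro z hz
    rw [← polar_of_Z m F l z ζ hz hζZ, ← polar_eVec m F (A *ᵥ z) l,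
      ← iso_polar (plusForm m F) g z ζ, hζ, hA', coe_inv_mulVec]
  rcases h01 (ζ (Sum.inl l)) with hp | hp
  · -- p = 0
    rw [hp, zero_mul, zero_add] at c3
    have hr : ζ' (Sum.inl l) = 1 := by
      rcases h01 (ζ' (Sum.inl l)) with h | h
      · rw [h, zero_mul] at c3; exact absurd c3 zero_ne_one
      · exact h
    have hq : ζ (Sum.inr l) = 1 := by
      rcases h01 (ζ (Sum.inr l)) with h | h
      · rw [h, mul_zero] at c3; exact absurd c3 zero_ne_one
      · exact h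
    have hs : ζ' (Sum.inr l) = 0 := by
      rw [hr, one_mul] at c2; exact c2
    right
    intro z hz
    rw [ha z hz, hb z hz, hp, hq, hr, hs]
    constructor <;> ring
  · -- p = 1
    rw [hp, one_mul] at c1
    rw [c1, mul_zero, add_zero, hp, one_mul] at c3
    rw [c3, mul_one] at c2
    left
    intro z hz
    rw [ha z hz, hb z hz, hp, c1, c2, c3]
    constructor <;> ring

theorem ptStab_pow_eight [Fintype F] (hF : Fintype.card F = 2) {l : Fin m}
    {g : ↥(Cfsg.isometryGroup F (⇑(plusForm m F)))}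
    (hg : g ∈ ptStab (plusForm m F) (wStd m F l)) : g ^ 8 = 1 := by
  have h01 : ∀ a : F, a = 0 ∨ a = 1 := by
    intro a
    by_contra hcon
    push Not at hcon
    have : 2 < Fintype.card F :=
      Fintype.two_lt_card_iff.2 ⟨a, 0, 1, hcon.1, hcon.2, zero_ne_one⟩
    omega
  have h2 : (2 : F) = 0 := by
    rcases h01 2 with h | h
    · exact h
    · exfalso
      have : (1 : F) = 0 := by linear_combination h
      exact one_ne_zero this
  have hh : g * g ∈ ptStab (plusForm m F) (wStd m F l) := Subgroup.mul_mem _ hg hg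
  have hh' : (g * g)⁻¹ ∈ ptStab (plusForm m F) (wStd m F l) := Subgroup.inv_mem _ hh
  set H := (((g * g : ↥(Cfsg.isometryGroup F (⇑(plusForm m F)))) :
    Matrix.GeneralLinearGroup (Fin m ⊕ Fin m) F) : Matrix (Fin m ⊕ Fin m) (Fin m ⊕ Fin m) F)
    with hH
  set H' := ((((g * g)⁻¹ : ↥(Cfsg.isometryGroup F (⇑(plusForm m F)))) :
    Matrix.GeneralLinearGroup (Fin m ⊕ Fin m) F) : Matrix (Fin m ⊕ Fin m) (Fin m ⊕ Fin m) F)
    with hH'
  -- (H1)
  have H1 : ∀ x i, i ≠ l → (H *ᵥ x) (Sum.inr i) = x (Sum.inr i) := fun x i hi =>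
    ptStab_inr hh x i hi
  have H1' : ∀ x i, i ≠ l → (H' *ᵥ x) (Sum.inr i) = x (Sum.inr i) := fun x i hi =>
    ptStab_inr hh' x i hi
  -- (H2)
  have H2 : ∀ z : Fin m ⊕ Fin m → F, (∀ i, i ≠ l → z (Sum.inr i) = 0) →
      (H *ᵥ z) (Sum.inl l) = z (Sum.inl l) ∧ (H *ᵥ z) (Sum.inr l) = z (Sum.inr l) := by
    intro z hz
    have hAz : ∀ i, i ≠ l → ((((g : Matrix.GeneralLinearGroup (Fin m ⊕ Fin m) F) :
        Matrix (Fin m ⊕ Fin m) (Fin m ⊕ Fin m) F)) *ᵥ z) (Sum.inr i) = 0 := by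
      intro i hi
      rw [ptStab_inr hg z i hi, hz i hi]
    rw [hH, coe_mul_mulVec]
    rcases ptStab_type hF hg with ht | ht
    · obtain ⟨e1, e2⟩ := ht _ hAz
      obtain ⟨e3, e4⟩ := ht z hz
      rw [e1, e2, e3, e4]
      exact ⟨rfl, rfl⟩
    · obtain ⟨e1, e2⟩ := ht _ hAz
      obtain ⟨e3, e4⟩ := ht z hz
      rw [e1, e2, e3, e4]
      exact ⟨rfl, rfl⟩
  -- (H3)
  have H3 : ∀ w : Fin m ⊕ Fin m → F, (∀ i, w (Sum.inr i) = 0) → w (Sum.inl l) = 0 →
      H *ᵥ w = w := by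
    intro w hw hwl
    rw [← sub_eq_zero]
    apply (plusForm_nondegenerate m F).1
    intro y
    rw [QuadraticMap.polarBilin_apply_apply, polar_sub_left]
    have e1 : polar (⇑(plusForm m F)) (H *ᵥ w) y = polar (⇑(plusForm m F)) w (H' *ᵥ y) := by
      rw [← iso_polar (plusForm m F) (g * g) w (H' *ᵥ y), hH', coe_inv_mulVec]
    rw [e1, ← polar_sub_right]
    rw [polar_of_Z m F l w (H' *ᵥ y - y) (fun i _ => hw i)
      (by intro i hi; rw [Pi.sub_apply, H1' y i hi, sub_self])]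
    rw [hwl, hw l, zero_mul, mul_zero, add_zero]
  -- the nilpotent part
  set N := H - 1 with hN
  have hNv : ∀ x, N *ᵥ x = H *ᵥ x - x := by
    intro x; rw [hN, sub_mulVec, one_mulVec]
  have N1 : ∀ x i, i ≠ l → (N *ᵥ x) (Sum.inr i) = 0 := by
    intro x i hi
    rw [hNv, Pi.sub_apply, H1 x i hi, sub_self]
  have N3 : ∀ x, N *ᵥ (N *ᵥ (N *ᵥ x)) = 0 := by
    intro x
    have hz1 := N1 x
    obtain ⟨e1, e2⟩ := H2 (N *ᵥ x) hz1
    have hw : ∀ i, (N *ᵥ (N *ᵥ x)) (Sum.inr i) = 0 := by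
      intro i
      by_cases hi : i = l
      · subst hi
        rw [hNv (N *ᵥ x), Pi.sub_apply, e2, sub_self]
      · exact N1 _ i hi
    have hwl : (N *ᵥ (N *ᵥ x)) (Sum.inl l) = 0 := by
      rw [hNv (N *ᵥ x), Pi.sub_apply, e1, sub_self]
    rw [hNv (N *ᵥ (N *ᵥ x)), H3 _ hw hwl, sub_self]
  have hNNN : N * N * N = 0 := by
    rw [Matrix.ext_iff_mulVec]
    intro x
    rw [← mulVec_mulVec, ← mulVec_mulVec, N3, zero_mulVec]
  have hNN : N + N = 0 := by
    rw [← two_smul F N, h2, zero_smul]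
  have hHN : H = 1 + N := by rw [hN]; abel
  have hHH : H * H = 1 + N * N := by
    rw [hHN, mul_add, add_mul, add_mul, one_mul, mul_one, one_mul]
    calc (1 : Matrix (Fin m ⊕ Fin m) (Fin m ⊕ Fin m) F) + N + (N + N * N)
        = 1 + (N + N) + N * N := by abel
      _ = 1 + N * N := by rw [hNN, add_zero]
  have hH4 : H * H * (H * H) = 1 := by
    rw [hHH, mul_add, add_mul, add_mul, one_mul, mul_one, one_mul]
    have e1 : N * N * (N * N) = 0 := by
      rw [← mul_assoc, hNNN, zero_mul]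
    rw [e1, add_zero]
    calc (1 : Matrix (Fin m ⊕ Fin m) (Fin m ⊕ Fin m) F) + N * N + N * N
        = 1 + (N * N + N * N) := by abel
      _ = 1 := by rw [← two_smul F (N * N), h2, zero_smul, add_zero]
  have e8 : g ^ 8 = (g * g) * (g * g) * ((g * g) * (g * g)) := by
    simp only [pow_succ, pow_zero, one_mul, mul_assoc]
  rw [e8]
  apply Subtype.ext
  apply Units.ext
  rw [Subgroup.coe_mul, Units.val_mul, Subgroup.coe_mul, Units.val_mul]
  exact hH4

theorem isPGroup_ptStab [Fintype F] (hF : Fintype.card F = 2) (l : Fin m) :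
    IsPGroup 2 ↥(ptStab (plusForm m F) (wStd m F l)) := by
  intro g
  refine ⟨3, ?_⟩
  apply Subtype.ext
  rw [SubgroupClass.coe_pow]
  exact ptStab_pow_eight hF g.2

/-- any two Sylow 2-subgroups of `O⁺_{2m}(2)` meet non-trivially -/
theorem sylow_meet_aux [Fintype F] (hF : Fintype.card F = 2) (hm : 1 ≤ m)
    (f : (Fin m ⊕ Fin m → F) → F) (hf : f = ⇑(plusForm m F))
    (H : Sylow 2 ↥(Cfsg.isometryGroup F f)) (x : ↥(Cfsg.isometryGroup F f)) :
    (H : Subgroup ↥(Cfsg.isometryGroup F f)) ⊓ MulAut.conj x • (H : Subgroup _) ≠ ⊥ := by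
  subst hf
  classical
  let l : Fin m := ⟨0, hm⟩
  have hS : IsPGroup 2 ↥(ptStab (plusForm m F) (wStd m F l)) := isPGroup_ptStab hF l
  obtain ⟨P, hP⟩ := hS.exists_le_sylow
  obtain ⟨g₀, hg₀⟩ := MulAction.exists_smul_eq ↥(Cfsg.isometryGroup F ⇑(plusForm m F)) P H
  let w' : {i : Fin m // i ≠ l} ⊕ {i : Fin m // i ≠ l} → (Fin m ⊕ Fin m → F) :=
    Sum.elim
      (fun i => ((g₀ : Matrix.GeneralLinearGroup (Fin m ⊕ Fin m) F) :
        Matrix (Fin m ⊕ Fin m) (Fin m ⊕ Fin m) F) *ᵥ wStd m F l i)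
      (fun i => (((x * g₀ : ↥(Cfsg.isometryGroup F ⇑(plusForm m F))) :
        Matrix.GeneralLinearGroup (Fin m ⊕ Fin m) F) :
        Matrix (Fin m ⊕ Fin m) (Fin m ⊕ Fin m) F) *ᵥ wStd m F l i)
  have hcard : Fintype.card ({i : Fin m // i ≠ l} ⊕ {i : Fin m // i ≠ l}) + 2
      ≤ Fintype.card (Fin m ⊕ Fin m) := by
    have h1 : Fintype.card {i : Fin m // i ≠ l} = m - 1 := by
      rw [Fintype.card_subtype_compl, Fintype.card_subtype_eq, Fintype.card_fin]
    rw [Fintype.card_sum, Fintype.card_sum, h1, Fintype.card_fin]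
    omega
  obtain ⟨t, ht1, htw⟩ := exists_fixing (plusForm m F) (plusForm_nondegenerate m F) w' hcard
  have ht_g₀ : t ∈ MulAut.conj g₀ • ptStab (plusForm m F) (wStd m F l) :=
    mem_conj_smul_ptStab _ _ g₀ t (fun k => htw (Sum.inl k))
  have ht_xg₀ : t ∈ MulAut.conj (x * g₀) • ptStab (plusForm m F) (wStd m F l) :=
    mem_conj_smul_ptStab _ _ (x * g₀) t (fun k => htw (Sum.inr k))
  have hH : (H : Subgroup ↥(Cfsg.isometryGroup F ⇑(plusForm m F)))
      = MulAut.conj g₀ • (P : Subgroup ↥(Cfsg.isometryGroup F ⇑(plusForm m F))) := by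
    rw [← hg₀]; rfl
  intro hbot
  apply ht1
  have hmem : t ∈ (H : Subgroup ↥(Cfsg.isometryGroup F ⇑(plusForm m F)))
      ⊓ MulAut.conj x • (H : Subgroup ↥(Cfsg.isometryGroup F ⇑(plusForm m F))) := by
    refine ⟨?_, ?_⟩
    · rw [hH]
      exact (Subgroup.pointwise_smul_le_pointwise_smul_iff.2 hP) ht_g₀
    · rw [hH, ← mul_smul, ← map_mul]
      exact (Subgroup.pointwise_smul_le_pointwise_smul_iff.2 hP) ht_xg₀
  rw [hbot] at hmem
  exact Subgroup.mem_bot.1 hmem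

end Two

end Cfsg.Agent.Lib.Helper8
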