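import Mathlib
import Cfsg.Agent.Lib.Helper38.RhDefs
import Cfsg.Agent.Lib.Helper70.RhAR0

/-! # Rh hive (helper38), Part B: leaves RH-AR6 `gg_eq` and RH-AR7 `q_add_one` (Mathlib + RhDefs + helper70's RhAR0). -/

set_option autoImplicit false

namespace Cfsg.Agent.Lib.Helper38.Rh

/-- RH-AR6.  `|G| = q³ (q - 1)(q + 1) N` and `N` is prime to `q³ (q - 1)(q + 1)`. -/
theorem gg_eq (m : ℕ) (hm : 1 ≤ m) :
    gg m = qq m ^ 3 * (qq m - 1) * (qq m + 1) * NN m ∧ (NN m).Coprime (qq m ^ 3 * (qq m - 1) * (qq m + 1)) := by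
  refine ⟨ar2_gg_val m, ?_⟩
  apply Nat.coprime_of_dvd
  intro p hp hpN
  exact ar2_not_dvd m hm hp hpN

theorem ar7_mod_eight (m : ℕ) : qq m % 8 = 3 := by
  unfold qq
  induction m with
  | zero => norm_num
  | succ k ih =>
    have : 2 * (k + 1) + 1 = (2 * k + 1) + 2 := by ring
    rw [this, pow_add, Nat.mul_mod, ih]
    norm_num

/-- RH-AR7.  `q + 1 = 4 k₁` with `k₁` odd and `> 1`; so `q + 1` has an odd prime divisor. -/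
theorem q_add_one (m : ℕ) (hm : 1 ≤ m) :
    (∃ k₁ : ℕ, qq m + 1 = 4 * k₁ ∧ Odd k₁ ∧ 1 < k₁) ∧ (∃ ℓ : ℕ, ℓ.Prime ∧ ℓ ≠ 2 ∧ ℓ ∣ qq m + 1) := by
  have h8 := ar7_mod_eight m
  have h27 := ar0_qq_ge m hm
  have hk : ∃ k₁ : ℕ, qq m + 1 = 4 * k₁ ∧ Odd k₁ ∧ 1 < k₁ := by
    refine ⟨(qq m + 1) / 4, by omega, ?_, by omega⟩
    rw [Nat.odd_iff]
    omega
  refine ⟨hk, ?_⟩
  obtain ⟨k₁, hk1, hodd, hlt⟩ := hk
  obtain ⟨ℓ, hℓ, hdvd⟩ := Nat.exists_prime_and_dvd (show k₁ ≠ 1 by omega)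
  refine ⟨ℓ, hℓ, ?_, ?_⟩
  · rintro rfl
    rw [Nat.odd_iff] at hodd
    omega
  · rw [hk1]
    exact Dvd.dvd.mul_left hdvd 4

end Cfsg.Agent.Lib.Helper38.Rh
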