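import Mathlib
import Cfsg.Agent.Lib.Helper38.RhDefs

/-! # Rh hive (helper38): leaf RH-AR3 `arith_main`. -/

set_option autoImplicit false

namespace Cfsg.Agent.Lib.Helper38.Rh

theorem ar3_rr_sq (m : ℕ) : rr m ^ 2 = 3 * qq m := by
  unfold rr qq
  ring

theorem ar3_qq_ge (m : ℕ) (hm : 1 ≤ m) : 27 ≤ qq m := by
  unfold qq
  calc 27 = 3 ^ 3 := by norm_num
    _ ≤ 3 ^ (2 * m + 1) := Nat.pow_le_pow_right (by norm_num) (by omega)

theorem ar3_rr_lt (m : ℕ) (hm : 1 ≤ m) : rr m < qq m := by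
  unfold rr qq
  exact Nat.pow_lt_pow_right (by norm_num) (by omega)

theorem ar3_NN_cast (m : ℕ) : (NN m : ℚ) = (qq m : ℚ) ^ 2 - (qq m : ℚ) + 1 := by
  unfold NN
  have h : qq m ≤ qq m ^ 2 := by
    have : 1 ≤ qq m := Nat.one_le_pow _ _ (by norm_num)
    nlinarith
  push_cast [Nat.cast_sub h]
  ring

/-- each term is at least `1/7`, and at least `2/7` when `w ≠ 6`. -/
theorem ar3_term_ge (t w : ℕ) (ht : 7 ≤ t) (hw : w ∣ 6) :
    (1 : ℚ) / 7 ≤ ((t : ℚ) - 1) / ((w : ℚ) * (t : ℚ)) ∧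
      (w ≠ 6 → (2 : ℚ) / 7 ≤ ((t : ℚ) - 1) / ((w : ℚ) * (t : ℚ))) := by
  have ht' : (7 : ℚ) ≤ (t : ℚ) := by exact_mod_cast ht
  have hw6 : w ≤ 6 := Nat.le_of_dvd (by norm_num) hw
  have hw0 : w ≠ 0 := by
    rintro rfl
    simp at hw
  interval_cases w
  · exact absurd rfl hw0
  · constructor
    · rw [div_le_div_iff₀ (by norm_num) (by positivity)]
      push_cast
      nlinarith
    · intro _
      rw [div_le_div_iff₀ (by norm_num) (by positivity)]
      push_cast
      nlinarith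
  · constructor
    · rw [div_le_div_iff₀ (by norm_num) (by positivity)]
      push_cast
      nlinarith
    · intro _
      rw [div_le_div_iff₀ (by norm_num) (by positivity)]
      push_cast
      nlinarith
  · constructor
    · rw [div_le_div_iff₀ (by norm_num) (by positivity)]
      push_cast
      nlinarith
    · intro _
      rw [div_le_div_iff₀ (by norm_num) (by positivity)]
      push_cast
      nlinarith
  · exfalso; revert hw; decide
  · exfalso; revert hw; decide
  · constructor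
    · rw [div_le_div_iff₀ (by norm_num) (by positivity)]
      push_cast
      nlinarith
    · intro h
      exact absurd rfl h

/-- the two-element case: sum and product determine `{t₁, t₂}`. -/
theorem ar3_two (m : ℕ) (hm : 1 ≤ m) (a b : ℕ) (ha : 7 ≤ a) (hb : 7 ≤ b) (hprod : a * b = NN m)
    (hsum : ((a : ℚ) - 1) / (6 * (a : ℚ)) + ((b : ℚ) - 1) / (6 * (b : ℚ)) =
      ((qq m : ℚ) ^ 2 - 2 * (qq m : ℚ)) / (3 * (NN m : ℚ))) :
    (a = qq m + rr m + 1 ∧ b = qq m - rr m + 1) ∨ (b = qq m + rr m + 1 ∧ a = qq m - rr m + 1) := by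
  have hq := ar3_qq_ge m hm
  have hrq := ar3_rr_lt m hm
  have hr2 := ar3_rr_sq m
  have hN := ar3_NN_cast m
  have hq' : (27 : ℚ) ≤ (qq m : ℚ) := by exact_mod_cast hq
  have hr2' : (rr m : ℚ) ^ 2 = 3 * (qq m : ℚ) := by exact_mod_cast hr2
  have ha' : (7 : ℚ) ≤ (a : ℚ) := by exact_mod_cast ha
  have hb' : (7 : ℚ) ≤ (b : ℚ) := by exact_mod_cast hb
  have hprod' : (a : ℚ) * (b : ℚ) = (NN m : ℚ) := by exact_mod_cast hprod
  have hNpos : (0 : ℚ) < (NN m : ℚ) := by rw [← hprod']; positivity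
  have ha0 : (a : ℚ) ≠ 0 := by positivity
  have hb0 : (b : ℚ) ≠ 0 := by positivity
  -- a + b = 2 q + 2
  have hab : (a : ℚ) + (b : ℚ) = 2 * (qq m : ℚ) + 2 := by
    rw [← hprod'] at hsum
    field_simp at hsum
    rw [hN] at hprod'
    nlinarith
  have hsq : ((a : ℚ) - (b : ℚ)) ^ 2 = (2 * (rr m : ℚ)) ^ 2 := by
    rw [hN] at hprod'
    nlinarith
  rcases sq_eq_sq_iff_eq_or_eq_neg.mp hsq with h | h
  · left
    constructor
    · have : (a : ℚ) = ((qq m + rr m + 1 : ℕ) : ℚ) := by push_cast; linarith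
      exact_mod_cast this
    · have : (b : ℚ) = ((qq m - rr m + 1 : ℕ) : ℚ) := by
        push_cast [Nat.cast_sub hrq.le]; linarith
      exact_mod_cast this
  · right
    constructor
    · have : (b : ℚ) = ((qq m + rr m + 1 : ℕ) : ℚ) := by push_cast; linarith
      exact_mod_cast this
    · have : (a : ℚ) = ((qq m - rr m + 1 : ℕ) : ℚ) := by
        push_cast [Nat.cast_sub hrq.le]; linarith
      exact_mod_cast this

/-- RH-AR3. -/
theorem arith_main (m : ℕ) (hm : 1 ≤ m) {ι : Type*} (R : Finset ι) (t w : ι → ℕ)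
    (ht : ∀ i ∈ R, 7 ≤ t i) (hw : ∀ i ∈ R, w i ∣ 6) (hprod : ∏ i ∈ R, t i = NN m)
    (hsum : ∑ i ∈ R, ((t i : ℚ) - 1) / ((w i : ℚ) * (t i : ℚ)) = ((qq m : ℚ) ^ 2 - 2 * (qq m : ℚ)) / (3 * (NN m : ℚ))) :
    ∃ i ∈ R, ∃ j ∈ R, t i = qq m + rr m + 1 ∧ w i = 6 ∧ t j = qq m - rr m + 1 ∧ w j = 6 := by
  classical
  have hq := ar3_qq_ge m hm
  have hN := ar3_NN_cast m
  have hq' : (27 : ℚ) ≤ (qq m : ℚ) := by exact_mod_cast hq
  have hNpos : (0 : ℚ) < (NN m : ℚ) := by rw [hN]; nlinarith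
  set S : ℚ := ((qq m : ℚ) ^ 2 - 2 * (qq m : ℚ)) / (3 * (NN m : ℚ)) with hS
  have hSlt : S < 1 / 3 := by
    rw [hS, div_lt_div_iff₀ (by positivity) (by norm_num), hN]
    nlinarith
  have hSpos : 0 < S := by
    rw [hS]
    apply div_pos
    · nlinarith
    · positivity
  -- card R ≤ 2
  have hcard : (R.card : ℚ) * (1 / 7) ≤ S := by
    rw [← hsum, ← nsmul_eq_mul]
    exact Finset.card_nsmul_le_sum R _ _ (fun i hi => (ar3_term_ge (t i) (w i) (ht i hi) (hw i hi)).1)
  have hcard2 : R.card ≤ 2 := by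
    by_contra hlt
    rw [not_le] at hlt
    have : (3 : ℚ) ≤ (R.card : ℚ) := by exact_mod_cast hlt
    linarith
  interval_cases hc : R.card
  · -- empty
    rw [Finset.card_eq_zero] at hc
    rw [hc, Finset.sum_empty] at hsum
    linarith
  · -- singleton
    exfalso
    obtain ⟨i, rfl⟩ := Finset.card_eq_one.mp hc
    rw [Finset.prod_singleton] at hprod
    rw [Finset.sum_singleton] at hsum
    have hti := ht i (Finset.mem_singleton_self i)
    have hwi := hw i (Finset.mem_singleton_self i)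
    have hprod' : (t i : ℚ) = (NN m : ℚ) := by exact_mod_cast hprod
    have hw6 : w i ≤ 6 := Nat.le_of_dvd (by norm_num) hwi
    have hw0 : w i ≠ 0 := by
      intro h0
      rw [h0] at hwi
      simp at hwi
    have hw0' : (w i : ℚ) ≠ 0 := by exact_mod_cast hw0
    rw [hprod'] at hsum
    rw [div_eq_div_iff (by positivity) (by positivity)] at hsum
    have hkey : 3 * ((NN m : ℚ) - 1) = (w i : ℚ) * ((qq m : ℚ) ^ 2 - 2 * (qq m : ℚ)) := by
      have hne : (NN m : ℚ) ≠ 0 := hNpos.ne'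
      apply mul_right_cancel₀ hne
      linarith
    rw [hN] at hkey
    interval_cases hwv : w i
    · exact hw0 rfl
    · push_cast at hkey; nlinarith
    · push_cast at hkey; nlinarith
    · push_cast at hkey; nlinarith
    · revert hwi; decide
    · revert hwi; decide
    · push_cast at hkey; nlinarith
  · -- two elements
    obtain ⟨i, j, hij, rfl⟩ := Finset.card_eq_two.mp hc
    have hi : i ∈ ({i, j} : Finset ι) := by simp
    have hj : j ∈ ({i, j} : Finset ι) := by simp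
    rw [Finset.prod_pair hij] at hprod
    rw [Finset.sum_pair hij] at hsum
    have hgi := ar3_term_ge (t i) (w i) (ht i hi) (hw i hi)
    have hgj := ar3_term_ge (t j) (w j) (ht j hj) (hw j hj)
    have hwi : w i = 6 := by
      by_contra hne
      have := hgi.2 hne
      linarith [hgj.1]
    have hwj : w j = 6 := by
      by_contra hne
      have := hgj.2 hne
      linarith [hgi.1]
    rw [hwi, hwj] at hsum
    push_cast at hsum
    rcases ar3_two m hm (t i) (t j) (ht i hi) (ht j hj) hprod hsum with ⟨h1, h2⟩ | ⟨h1, h2⟩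
    · exact ⟨i, hi, j, hj, h1, hwi, h2, hwj⟩
    · exact ⟨j, hj, i, hi, h1, hwj, h2, hwi⟩

end Cfsg.Agent.Lib.Helper38.Rh
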