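import Mathlib
import Cfsg.Agent.Lib.Helper8.SpBlkDec
import Cfsg.Agent.Lib.Helper25.EqD_FO1
import Cfsg.Agent.Lib.Helper44.Darboux

/-!
# Orthogonal decompositions of an alternating space: counting

The isometry group is transitive on the ordered orthogonal decompositions into nondegenerate
subspaces of a given dimension, and the symmetric group acts freely on them.
-/

set_option autoImplicit false

namespace Cfsg.Agent.Lib.Helper8.SpBlk

open Module Cfsg.Agent.Lib.Helper2.BG Cfsg.Agent.Lib.Helper6.EqD

universe u v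

section general

variable {F : Type v} [Field F] {V : Type u} [AddCommGroup V] [Module F V]
  [FiniteDimensional F V]

/-- an ordered orthogonal decomposition into nondegenerate subspaces of dimension `a` -/
structure IsODecomp (ω : LinearMap.BilinForm F V) (a : ℕ) {t : ℕ} (D : Fin t → Submodule F V) :
    Prop where
  finrank_eq : ∀ i, finrank F (D i) = a
  indep : iSupIndep D
  iSup_eq_top : iSup D = ⊤
  nondeg : ∀ j, NonDeg ω (D j)
  orth : ∀ j j', j ≠ j' → ∀ u ∈ D j, ∀ v ∈ D j', ω u v = 0

/-- the isometry group is transitive on ordered orthogonal decompositions -/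
theorem exists_isometry {ω : LinearMap.BilinForm F V} (halt : ω.IsAlt) {t a m : ℕ}
    (ham : a = 2 * m) {D D' : Fin t → Submodule F V} (hD : IsODecomp ω a D)
    (hD' : IsODecomp ω a D') :
    ∃ g : V ≃ₗ[F] V, (∀ u v, ω (g u) (g v) = ω u v) ∧
      ∀ i, (D i).map (g : V →ₗ[F] V) = D' i := by
  classical
  have I := DirectSum.isInternal_submodule_of_iSupIndep_of_iSup_eq_top hD.indep hD.iSup_eq_top
  have I' := DirectSum.isInternal_submodule_of_iSupIndep_of_iSup_eq_top hD'.indep hD'.iSup_eq_top
  have hex : ∀ (E : Fin t → Submodule F V), IsODecomp ω a E → ∀ i,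
      ∃ b : Basis (Fin m ⊕ Fin m) F (E i),
        LinearMap.BilinForm.toMatrix b (ω.restrict (E i)) = Cfsg.Agent.Lib.Helper44.gramJ m F := by
    intro E hE i
    exact Cfsg.Agent.Lib.Helper44.darboux_basis m (E i) (ω.restrict (E i)) (fun u => halt u)
      (nonDeg_restrict halt (hE.nondeg i)) (by rw [hE.finrank_eq i, ham])
  choose b hb using hex D hD
  choose b' hb' using hex D' hD'
  let B := I.collectedBasis b
  let B' := I'.collectedBasis b'
  have hB : ∀ i x, B ⟨i, x⟩ = ((b i x : D i) : V) := by
    intro i x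
    simp [B, DirectSum.IsInternal.collectedBasis_coe]
  have hB' : ∀ i x, B' ⟨i, x⟩ = ((b' i x : D' i) : V) := by
    intro i x
    simp [B', DirectSum.IsInternal.collectedBasis_coe]
  have hgram : ∀ (E : Fin t → Submodule F V) (_ : IsODecomp ω a E)
      (c : ∀ i, Basis (Fin m ⊕ Fin m) F (E i))
      (_ : ∀ i, LinearMap.BilinForm.toMatrix (c i) (ω.restrict (E i)) =
        Cfsg.Agent.Lib.Helper44.gramJ m F) (i i' : Fin t) (x x' : Fin m ⊕ Fin m),
      ω ((c i x : E i) : V) ((c i' x' : E i') : V) =
        if i = i' then Cfsg.Agent.Lib.Helper44.gramJ m F x x' else 0 := by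
    intro E hE c hc i i' x x'
    by_cases h : i = i'
    · subst h
      rw [if_pos rfl, ← hc i, LinearMap.BilinForm.toMatrix_apply]
      rfl
    · rw [if_neg h]
      exact hE.orth i i' h _ (c i x).2 _ (c i' x').2
  let g := B.equiv B' (Equiv.refl _)
  have key : ∀ X, g (B X) = B' X := by
    intro X
    rw [Basis.equiv_apply]
    rfl
  have key' : ∀ i x, g ((b i x : D i) : V) = ((b' i x : D' i) : V) := by
    intro i x
    rw [← hB, ← hB', key]
  refine ⟨g, ?_, ?_⟩
  · have h1 : ω.comp (g : V →ₗ[F] V) (g : V →ₗ[F] V) = ω := by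
      apply LinearMap.BilinForm.ext_basis B
      rintro ⟨i, x⟩ ⟨i', x'⟩
      rw [LinearMap.BilinForm.comp_apply, LinearEquiv.coe_coe, key, key, hB, hB, hB', hB',
        hgram D hD b hb, hgram D' hD' b' hb']
    intro u v
    have h2 := congrArg (fun β : LinearMap.BilinForm F V => β u v) h1
    exact h2
  · intro i
    conv_lhs => rw [fo1_eq_span (D i) (b i)]
    conv_rhs => rw [fo1_eq_span (D' i) (b' i)]
    rw [Submodule.map_span, ← Set.range_comp]
    congr 1
    ext v
    simp only [Set.mem_range, Function.comp_apply]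
    constructor
    · rintro ⟨j, rfl⟩
      exact ⟨j, (key' i j).symm⟩
    · rintro ⟨j, rfl⟩
      exact ⟨j, key' i j⟩

/-- the isometry group of a bilinear form -/
def isoGroup (ω : LinearMap.BilinForm F V) : Subgroup (V ≃ₗ[F] V) where
  carrier := {g | ∀ u v, ω (g u) (g v) = ω u v}
  mul_mem' := by
    intro g h hg hh u v
    rw [LinearEquiv.mul_apply, LinearEquiv.mul_apply, hg, hh]
  one_mem' := by
    intro u v
    rfl
  inv_mem' := by
    intro g hg u v
    have h1 : ∀ w, g (g⁻¹ w) = w := fun w => g.apply_symm_apply w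
    rw [← hg (g⁻¹ u) (g⁻¹ v), h1, h1]

theorem mem_isoGroup {ω : LinearMap.BilinForm F V} {g : V ≃ₗ[F] V} :
    g ∈ isoGroup ω ↔ ∀ u v, ω (g u) (g v) = ω u v := Iff.rfl

/-- the action of the isometry group on ordered orthogonal decompositions -/
@[reducible] noncomputable def odAct (ω : LinearMap.BilinForm F V) (a t : ℕ) :
    MulAction ↥(isoGroup ω) {D : Fin t → Submodule F V // IsODecomp ω a D} where
  smul g D := ⟨fun i => (D.1 i).map ((g : V ≃ₗ[F] V) : V →ₗ[F] V),
    ⟨fun i => by rw [LinearEquiv.finrank_map_eq]; exact D.2.finrank_eq i,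
      fo1_indep_map (g : V ≃ₗ[F] V) D.2.indep, fo1_iSup_map (g : V ≃ₗ[F] V) D.2.iSup_eq_top,
      by
        intro j u hu hu0
        obtain ⟨u', hu', rfl⟩ := Submodule.mem_map.1 hu
        have h1 : u' = 0 := by
          apply D.2.nondeg j u' hu'
          intro v' hv'
          have h3 := hu0 _ (Submodule.mem_map_of_mem hv')
          rw [LinearEquiv.coe_coe] at h3
          rw [← g.2 u' v']
          exact h3
        rw [h1, map_zero],
      by
        intro j j' hjj' u hu v hv
        obtain ⟨u', hu', rfl⟩ := Submodule.mem_map.1 hu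
        obtain ⟨v', hv', rfl⟩ := Submodule.mem_map.1 hv
        rw [LinearEquiv.coe_coe, g.2 u' v']
        exact D.2.orth j j' hjj' u' hu' v' hv'⟩⟩
  one_smul D := by
    apply Subtype.ext
    funext i
    change (D.1 i).map (((1 : ↥(isoGroup ω)) : V ≃ₗ[F] V) : V →ₗ[F] V) = D.1 i
    exact Submodule.map_id _
  mul_smul g h D := by
    apply Subtype.ext
    funext i
    change (D.1 i).map (((g * h : ↥(isoGroup ω)) : V ≃ₗ[F] V) : V →ₗ[F] V) =
      ((D.1 i).map ((h : V ≃ₗ[F] V) : V →ₗ[F] V)).map ((g : V ≃ₗ[F] V) : V →ₗ[F] V)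
    rw [← Submodule.map_comp]
    rfl

theorem od_card_dvd {ω : LinearMap.BilinForm F V} (halt : ω.IsAlt) {a t m : ℕ} (ham : a = 2 * m)
    (D₀ : {D : Fin t → Submodule F V // IsODecomp ω a D}) :
    Nat.card {D : Fin t → Submodule F V // IsODecomp ω a D} ∣ Nat.card ↥(isoGroup ω) := by
  let _ := odAct ω a t
  have htrans : MulAction.orbit ↥(isoGroup ω) D₀ = Set.univ := by
    ext D
    simp only [Set.mem_univ, iff_true]
    obtain ⟨g, hg1, hg⟩ := exists_isometry halt ham D₀.2 D.2
    refine ⟨⟨g, hg1⟩, ?_⟩
    apply Subtype.ext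
    funext i
    exact hg i
  have e := MulAction.orbitEquivQuotientStabilizer ↥(isoGroup ω) D₀
  have h1 : Nat.card {D : Fin t → Submodule F V // IsODecomp ω a D} =
      Nat.card (MulAction.orbit ↥(isoGroup ω) D₀) := by
    rw [htrans]
    exact (Nat.card_congr (Equiv.Set.univ _)).symm
  rw [h1, Nat.card_congr e]
  exact Subgroup.card_quotient_dvd_card _

/-- the free action of the symmetric group on ordered orthogonal decompositions -/
@[reducible] noncomputable def odPermAct (ω : LinearMap.BilinForm F V) (a t : ℕ) :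
    MulAction (Equiv.Perm (Fin t)) {D : Fin t → Submodule F V // IsODecomp ω a D} where
  smul σ D := ⟨fun i => D.1 (σ.symm i),
    ⟨fun i => D.2.finrank_eq _, D.2.indep.comp σ.symm.injective, by
        have := Equiv.iSup_comp (g := D.1) σ.symm
        rw [this]; exact D.2.iSup_eq_top,
      fun j => D.2.nondeg _,
      fun j j' hjj' => D.2.orth _ _ (fun e => hjj' (σ.symm.injective e))⟩⟩
  one_smul D := by
    apply Subtype.ext
    funext i
    rfl
  mul_smul g h D := by
    apply Subtype.ext
    funext i
    rfl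

theorem od_factorial_dvd (ω : LinearMap.BilinForm F V) {a t : ℕ} (ha : 0 < a) :
    Nat.factorial t ∣ Nat.card {D : Fin t → Submodule F V // IsODecomp ω a D} := by
  let _ := odPermAct ω a t
  have hfree : ∀ D : {D : Fin t → Submodule F V // IsODecomp ω a D},
      MulAction.stabilizer (Equiv.Perm (Fin t)) D = ⊥ := by
    intro D
    rw [eq_bot_iff]
    intro σ hσ
    rw [MulAction.mem_stabilizer_iff] at hσ
    rw [Subgroup.mem_bot]
    have hinj : Function.Injective D.1 := by
      apply D.2.indep.injective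
      intro i hi
      have := D.2.finrank_eq i
      rw [hi, finrank_bot] at this
      omega
    have h1 : ∀ i, D.1 (σ.symm i) = D.1 i := by
      intro i
      have := congrArg (fun E => E.1 i) hσ
      exact this
    ext i
    have h2 : σ.symm (σ i) = σ i := hinj (h1 (σ i))
    rw [Equiv.symm_apply_apply] at h2
    simp [← h2]
  have e := MulAction.selfEquivOrbitsQuotientProd hfree
  rw [Nat.card_congr e, Nat.card_prod, Nat.card_perm, Nat.card_fin]
  exact Dvd.intro_left _ rfl

/-- orthogonal decompositions exist -/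
theorem exists_odec_one {ω : LinearMap.BilinForm F V} (halt : ω.IsAlt) (a : ℕ) (hae : Even a) :
    ∀ (t' : ℕ) (M : Submodule F V), NonDeg ω M → finrank F M = a * t' →
      ∃ D : Fin t' → Submodule F V, ODec ω (1 : Module.End F V) a M D := by
  obtain ⟨k, hk⟩ := hae
  intro t'
  induction t' with
  | zero =>
    intro M _ hMd
    rw [mul_zero, Submodule.finrank_eq_zero] at hMd
    subst hMd
    exact ⟨fun i => i.elim0, ⟨Dec.empty a _ _, fun i => i.elim0, fun i => i.elim0⟩⟩
  | succ t' ih =>
    intro M hMnd hMd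
    have hale : 2 * k ≤ finrank F M := by
      rw [hMd, hk, Nat.mul_succ]
      omega
    obtain ⟨W, hWM, hWnd, hWd⟩ := exists_nonDeg_le halt k M hMnd hale
    have hWd' : finrank F W = a := by rw [hWd, hk]; ring
    obtain ⟨hT'nd, hdisj, hsup, hfr⟩ := orth_in halt hWnd hMnd hWM
    have hT'd : finrank F ↥(M ⊓ ω.orthogonal W) = a * t' := by
      rw [hMd, hWd', Nat.mul_succ] at hfr
      omega
    obtain ⟨D', hD'⟩ := ih _ hT'nd hT'd
    have hmapW : W.map (1 : Module.End F V) = W := Submodule.map_id W
    have hsingle : Dec (1 : Module.End F V) a W (fun _ : Unit => W) 1 := hWd' ▸ Dec.single hmapW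
    have hglue := hsingle.glue hD'.dec hdisj
    rw [hsup] at hglue
    have hcard : Fintype.card (Unit ⊕ Fin t') = t' + 1 := by
      simp; omega
    let e : Unit ⊕ Fin t' ≃ Fin (t' + 1) := Fintype.equivFinOfCardEq hcard
    have hre := hglue.reindex e
    have hperm : e.permCongr (Equiv.sumCongr (1 : Equiv.Perm Unit) (1 : Equiv.Perm (Fin t'))) = 1 := by
      ext k
      simp [Equiv.permCongr_apply]
    rw [hperm] at hre
    have hnd : ∀ x : Unit ⊕ Fin t', NonDeg ω (Sum.elim (fun _ : Unit => W) D' x) := by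
      rintro (x | x)
      · exact hWnd
      · exact hD'.nondeg x
    have hD'le : ∀ k, D' k ≤ ω.orthogonal W := fun k => (hD'.dec.le k).trans inf_le_right
    have horth : ∀ x x' : Unit ⊕ Fin t', x ≠ x' →
        Sum.elim (fun _ : Unit => W) D' x' ≤ ω.orthogonal (Sum.elim (fun _ : Unit => W) D' x) := by
      rintro (x | x) (x' | x') hne
      · exact absurd rfl hne
      · exact hD'le x'
      · intro w hw
        refine mem_orth.2 (fun n hn => ?_)
        exact orth_left halt (hD'le x hn) hw
      · exact hD'.orth x x' (fun h => hne (by rw [h]))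
    refine ⟨_, ⟨hre, fun k => hnd (e.symm k), fun k k' hkk' => ?_⟩⟩
    exact horth (e.symm k) (e.symm k') (fun h => hkk' (e.symm.injective h))

/-- from `ODec` to `IsODecomp` -/
theorem isODecomp_of_odec {ω : LinearMap.BilinForm F V} {y : Module.End F V} {a t : ℕ}
    {D : Fin t → Submodule F V} (h : ODec ω y a ⊤ D) : IsODecomp ω a D where
  finrank_eq := h.dec.finrank_eq
  indep := h.dec.indep
  iSup_eq_top := h.dec.iSup_eq
  nondeg := h.nondeg
  orth := by
    intro j j' hjj' u hu v hv
    exact mem_orth.1 (h.orth j j' hjj' hv) u hu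

end general

end Cfsg.Agent.Lib.Helper8.SpBlk
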