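import Mathlib
import Cfsg.Prelude.Def_GeometricClasses
import Cfsg.Prelude.Def_ClassicalGeometry
import Cfsg.Agent.Lib.Helper8.SpBlkCount
import Cfsg.Agent.Lib.Helper8.SpExtElts
import Cfsg.Agent.Lib.Helper80.EqD_FO3
import Cfsg.Agent.Lib.Helper80.EqD_FO8
import Cfsg.Agent.Lib.Helper5.SympCard
import Cfsg.Agent.Lib.Helper99.SpMax
import Cfsg.Agent.Lib.Helper13.Symp

/-!
# Elements of odd prime order of `Sp_{2d}(q)` and orthogonal decompositions
-/

set_option autoImplicit false

namespace Cfsg.Agent.Lib.Helper8.SpBlk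

open Module Cfsg.Agent.Lib.Helper2.BG Cfsg.Agent.Lib.Helper6.EqD Cfsg.Agent.Lib.Helper99

universe u v

section cases

variable {F : Type v} [Field F] [Fintype F] {V : Type u} [AddCommGroup V] [Module F V]
  [FiniteDimensional F V] {p : ℕ} [Fact p.Prime] [CharP F p] {r : ℕ} [Fact r.Prime]
  {ω : LinearMap.BilinForm F V}

/-- the two ways an isometry of order `r` can permute an orthogonal decomposition -/
theorem sp_dec_cases (halt : ω.IsAlt) (hr2 : r ≠ 2) (hrp : r ≠ p) (X : Module.End F V)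
    (hiso : ∀ a b, ω (X a) (X b) = ω a b) (hX : X ^ r = 1) {t a : ℕ} (ha : 1 ≤ a)
    {D : Fin t → Submodule F V} {σ : Equiv.Perm (Fin t)} (hD : Dec X a ⊤ D σ)
    (hnd : ∀ j, NonDeg ω (D j)) :
    (a ≤ finrank F (LinearMap.ker (X - 1)) ∧
      (r - 1) * a + finrank F (LinearMap.ker (X - 1)) ≤ finrank F V) ∨
    (∃ f s : Fin t → ℕ, (∀ j, a = f j + s j * blk F r) ∧
      ∑ j, f j ≤ finrank F (LinearMap.ker (X - 1))) := by
  have hr := (Fact.out : r.Prime)
  by_cases h : ∃ j, σ j ≠ j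
  · left
    obtain ⟨j, hj⟩ := h
    obtain ⟨h1, h2⟩ := finrank_bounds_of_moved X hr hX ha hD j hj
    refine ⟨h1, ?_⟩
    have := LinearMap.finrank_range_add_finrank_ker (X - 1)
    omega
  · right
    push Not at h
    have hinv : ∀ j, Inv X (D j) := by
      intro j
      apply inv_of_map_eq
      rw [hD.map_eq, h j]
    choose s hs using fun j =>
      finrank_nondeg_inv (p := p) halt hiso hr2 hrp hX (hinv j) (hnd j)
    refine ⟨fun j => finrank F ↥(D j ⊓ LinearMap.ker (X - 1)), s, ?_, ?_⟩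
    · intro j
      rw [← hs j, hD.finrank_eq]
    · exact sum_finrank_inf_le hD.indep _

end cases

section arith

variable {F : Type v} [Field F] [Fintype F] {p : ℕ} [Fact p.Prime] [CharP F p] {r : ℕ}
  [Fact r.Prime]

theorem ord_dvd_blk : orderOf ((Fintype.card F : ℕ) : ZMod r) ∣ blk F r := by
  unfold blk
  split_ifs
  · exact dvd_rfl
  · exact Dvd.intro_left 2 rfl

theorem dvd_pow_blk_sub_one (s : ℕ) : r ∣ Fintype.card F ^ (blk F r * s) - 1 := by
  rw [← fo1_orderOf_dvd (r := r) (Fintype.card F) Fintype.card_pos]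
  exact Dvd.dvd.mul_right ord_dvd_blk s

theorem card_ne_zero_zmod' (hrp : r ≠ p) : ((Fintype.card F : ℕ) : ZMod r) ≠ 0 := by
  have hr := (Fact.out : r.Prime)
  have hp := (Fact.out : p.Prime)
  intro h0
  rw [ZMod.natCast_eq_zero_iff] at h0
  obtain ⟨k, _, hk⟩ := FiniteField.card F p
  rw [hk] at h0
  have := hr.dvd_of_dvd_pow h0
  exact hrp ((Nat.prime_dvd_prime_iff_eq hr hp).mp this)

theorem blk_le_pred (hr2 : r ≠ 2) (hrp : r ≠ p) : blk F r ≤ r - 1 := by
  have hr := (Fact.out : r.Prime)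
  have h1 : orderOf ((Fintype.card F : ℕ) : ZMod r) ∣ r - 1 :=
    orderOf_dvd_of_pow_eq_one (ZMod.pow_card_sub_one_eq_one (card_ne_zero_zmod' (F := F) (p := p) hrp))
  have hpos : 0 < r - 1 := by have := hr.two_le; omega
  unfold blk
  split_ifs with hev
  · exact Nat.le_of_dvd hpos h1
  · have hodd : Odd (orderOf ((Fintype.card F : ℕ) : ZMod r)) := Nat.not_even_iff_odd.1 hev
    have hrodd : Odd r := hr.odd_of_ne_two hr2
    have h2 : 2 ∣ r - 1 := by
      obtain ⟨k, hk⟩ := hrodd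
      exact ⟨k, by omega⟩
    have hcop : Nat.Coprime 2 (orderOf ((Fintype.card F : ℕ) : ZMod r)) :=
      Nat.coprime_two_left.2 hodd
    exact Nat.le_of_dvd hpos (hcop.mul_dvd_of_dvd_of_dvd h2 h1)

theorem blk_le_of_dvd_card_sp (d : ℕ) (hrp : r ≠ p)
    (h : r ∣ Fintype.card F ^ (d ^ 2) *
      ∏ i ∈ Finset.range d, (Fintype.card F ^ (2 * (i + 1)) - 1)) :
    blk F r ≤ 2 * d := by
  have hr : r.Prime := Fact.out
  have hp : p.Prime := Fact.out
  obtain ⟨k, -, hk⟩ := FiniteField.card F p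
  have hq : 0 < Fintype.card F := Fintype.card_pos
  have hnotq : ∀ n, ¬ r ∣ Fintype.card F ^ n := by
    intro n h
    have h1 := hr.dvd_of_dvd_pow h
    rw [hk] at h1
    have h2 := hr.dvd_of_dvd_pow h1
    exact hrp ((Nat.prime_dvd_prime_iff_eq hr hp).mp h2)
  have h1 := (hr.dvd_mul.mp h).resolve_left (hnotq _)
  obtain ⟨i, hi, hdvd⟩ := (Prime.dvd_finsetProd_iff (Nat.prime_iff.mp hr) _).mp h1
  rw [Finset.mem_range] at hi
  have h7 := (fo1_orderOf_dvd (r := r) (Fintype.card F) hq (2 * (i + 1))).mpr hdvd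
  unfold blk
  split_ifs with hev
  · have := Nat.le_of_dvd (by omega) h7
    omega
  · have hodd : Odd (orderOf ((Fintype.card F : ℕ) : ZMod r)) := Nat.not_even_iff_odd.1 hev
    have hcop : Nat.Coprime (orderOf ((Fintype.card F : ℕ) : ZMod r)) 2 :=
      Nat.coprime_two_right.2 hodd
    have h8 : orderOf ((Fintype.card F : ℕ) : ZMod r) ∣ i + 1 := hcop.dvd_of_dvd_mul_left h7
    have := Nat.le_of_dvd (by omega) h8
    omega

end arith

section concrete

variable {F : Type*} [Field F] [Fintype F] {p : ℕ} [Fact p.Prime] [CharP F p]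

/-- the statement's form of an orthogonal decomposition -/
theorem isODecomp_iff {d a t : ℕ} (ha : 0 < a) (ht : 2 ≤ t)
    (D : Fin t → Submodule F (Fin d ⊕ Fin d → F)) :
    (Cfsg.Geo.IsMDecomposition a D ∧
        (∀ j, ∀ u ∈ D j, u ≠ 0 → ∃ v ∈ D j, Cfsg.sympForm d F u v ≠ 0) ∧
        (∀ j j', j ≠ j' → ∀ u ∈ D j, ∀ v ∈ D j', Cfsg.sympForm d F u v = 0)) ↔
      IsODecomp (sympB (F := F) d) a D := by
  constructor
  · rintro ⟨hm, hnd, horth⟩
    refine ⟨hm.finrank_eq, hm.indep, hm.iSup_eq_top, ?_, ?_⟩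
    · intro j u hu hu0
      by_contra hne
      obtain ⟨v, hv, hv0⟩ := hnd j u hu hne
      apply hv0
      rw [← sympB_apply]
      exact hu0 v hv
    · intro j j' h u hu v hv
      rw [sympB_apply]
      exact horth j j' h u hu v hv
  · intro h
    refine ⟨⟨ht, ha, h.finrank_eq, h.indep, h.iSup_eq_top⟩, ?_, ?_⟩
    · intro j u hu hne
      by_contra hcon
      push Not at hcon
      apply hne
      apply h.nondeg j u hu
      intro v hv
      rw [sympB_apply]
      exact hcon v hv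
    · intro j j' hjj' u hu v hv
      rw [← sympB_apply]
      exact h.orth j j' hjj' u hu v hv

theorem finrank_sympSpace (d : ℕ) : finrank F (Fin d ⊕ Fin d → F) = 2 * d := by
  rw [Module.finrank_fintype_fun_eq_card, Fintype.card_sum, Fintype.card_fin]
  ring

/-- a prime dividing the number of orthogonal decompositions divides the order of the group -/
theorem blk_le_of_dvd_card {d a t : ℕ} (hat : 2 * d = a * t) (ha : 2 ≤ a) (hae : Even a)
    {r : ℕ} [Fact r.Prime] (hrp : r ≠ p)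
    (hΩ : r ∣ Nat.card {D : Fin t → Submodule F (Fin d ⊕ Fin d → F) //
      IsODecomp (sympB (F := F) d) a D} / Nat.factorial t) :
    blk F r ≤ 2 * d := by
  have hdim := finrank_sympSpace (F := F) d
  obtain ⟨D₀, hD₀⟩ := exists_odec_one (sympB_isAlt (F := F) d) a hae t ⊤
    (nonDeg_top (sympB_nondegenerate (F := F) d)) (by rw [finrank_top, hdim, hat])
  obtain ⟨m, hm⟩ := hae
  have ham : a = 2 * m := by omega
  have h1 := od_card_dvd (sympB_isAlt (F := F) d) ham ⟨D₀, isODecomp_of_odec hD₀⟩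
  have h2 := od_factorial_dvd (sympB (F := F) d) (a := a) (t := t) (by omega)
  have h3 : r ∣ Nat.card {D : Fin t → Submodule F (Fin d ⊕ Fin d → F) //
      IsODecomp (sympB (F := F) d) a D} := by
    obtain ⟨m', hm'⟩ := h2
    rw [hm', Nat.mul_div_cancel_left _ (Nat.factorial_pos t)] at hΩ
    rw [hm']
    exact Dvd.dvd.mul_left hΩ _
  let ρ : ↥(isoGroup (sympB (F := F) d)) →* Module.End F (Fin d ⊕ Fin d → F) :=
    (LinearEquiv.automorphismGroup.toLinearMapMonoidHom).comp (isoGroup (sympB (F := F) d)).subtype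
  have hρ : ∀ (g : ↥(isoGroup (sympB (F := F) d))) (u w : Fin d ⊕ Fin d → F),
      sympB (F := F) d (ρ g u) (ρ g w) = sympB (F := F) d u w := fun g u w => g.2 u w
  have hinj : Function.Injective ρ := by
    intro g h hgh
    apply Subtype.ext
    apply LinearEquiv.toLinearMap_injective
    exact hgh
  obtain ⟨φ, hφ⟩ := Cfsg.Agent.Lib.Helper44.exists_hom_to_Sp (sympB (F := F) d)
    (sympB_isAlt (F := F) d) (sympB_nondegenerate (F := F) d) d hdim ρ hρ hinj
  have h4 := Subgroup.card_dvd_of_injective φ hφ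
  rw [Cfsg.Agent.Lib.Helper5.card_symplecticGroup_fin] at h4
  exact blk_le_of_dvd_card_sp (p := p) d hrp ((h3.trans h1).trans h4)

end concrete

end Cfsg.Agent.Lib.Helper8.SpBlk
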