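import Mathlib
import Cfsg.Agent.Lib.Helper8.SpBlkMain

/-!
# Elements of odd prime order of `Sp_{2d}(q)` and orthogonal decompositions: the two directions
-/

set_option autoImplicit false

namespace Cfsg.Agent.Lib.Helper8.SpBlk

open Module Cfsg.Agent.Lib.Helper2.BG Cfsg.Agent.Lib.Helper6.EqD Cfsg.Agent.Lib.Helper99

section concrete

variable {F : Type*} [Field F] [Fintype F] {p : ℕ} [Fact p.Prime] [CharP F p]

/-- the dimension of the fixed space -/
theorem finrank_ker_of_fixData {d j : ℕ} {x : GL (Fin d ⊕ Fin d) F}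
    {W U : Submodule F (Fin d ⊕ Fin d → F)}
    (h : Cfsg.Agent.Lib.Helper8.SpExt.FixData d j x W U) :
    finrank F (LinearMap.ker (Matrix.toLin'
      (x : Matrix (Fin d ⊕ Fin d) (Fin d ⊕ Fin d) F) - 1)) + 2 * j = 2 * d := by
  set X := Matrix.toLin' (x : Matrix (Fin d ⊕ Fin d) (Fin d ⊕ Fin d) F) with hX
  have hXv : ∀ v, X v = (x : Matrix (Fin d ⊕ Fin d) (Fin d ⊕ Fin d) F).mulVec v :=
    fun v => Matrix.toLin'_apply _ v
  have hdim := finrank_sympSpace (F := F) d
  have hU : U ≤ LinearMap.ker (X - 1) := by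
    intro u hu
    rw [LinearMap.mem_ker, LinearMap.sub_apply, Module.End.one_apply, hXv, h.fixU u hu, sub_self]
  have hstab : ∀ w ∈ W, (X - 1) w ∈ W := by
    intro w hw
    rw [LinearMap.sub_apply, Module.End.one_apply, hXv]
    exact W.sub_mem (h.stab w hw) hw
  have hsurj : Function.Surjective ((X - 1).restrict hstab) := by
    rintro ⟨w, hw⟩
    obtain ⟨w', hw', hww⟩ := h.surj w hw
    refine ⟨⟨w', hw'⟩, ?_⟩
    apply Subtype.ext
    rw [LinearMap.restrict_apply]
    show (X - 1) w' = w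
    rw [LinearMap.sub_apply, Module.End.one_apply, hXv, hww]
  have hinj : Function.Injective ((X - 1).restrict hstab) :=
    LinearMap.injective_iff_surjective.2 hsurj
  have hdisj : W ⊓ LinearMap.ker (X - 1) = ⊥ := by
    rw [eq_bot_iff]
    intro w hw
    have h1 : (X - 1).restrict hstab ⟨w, hw.1⟩ = 0 := by
      apply Subtype.ext
      rw [LinearMap.restrict_apply]
      exact LinearMap.mem_ker.1 hw.2
    have h2 := hinj (h1.trans (map_zero _).symm)
    have h3 := congrArg Subtype.val h2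
    exact h3
  have h1 := Submodule.finrank_sup_add_finrank_inf_eq W (LinearMap.ker (X - 1))
  rw [hdisj, finrank_bot, add_zero, h.dimW] at h1
  have h2 : finrank F ↥(W ⊔ LinearMap.ker (X - 1)) ≤ 2 * d := by
    rw [← hdim]
    exact Submodule.finrank_le _
  have h3 := Submodule.finrank_mono hU
  have h4 := h.dimU
  omega

/-- powers of the linear map of a matrix -/
theorem toLin'_pow' {n : Type*} [Fintype n] [DecidableEq n] (A : Matrix n n F) (k : ℕ) :
    (Matrix.toLin' A) ^ k = Matrix.toLin' (A ^ k) := by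
  have h1 : Matrix.toLinAlgEquiv' (A ^ k) = (Matrix.toLinAlgEquiv' A) ^ k := map_pow _ A k
  exact h1.symm

/-- (⇒): derangements -/
theorem sp_exists_derangement (d a t : ℕ) (hat : 2 * d = a * t) (ha : 2 ≤ a) (ht : 2 ≤ t) (r : ℕ)
    [Fact r.Prime] (hr2 : r ≠ 2) (hrp : r ≠ p) (hcn : blk F r ≤ 2 * d)
    (hcond : ¬ (blk F r ≤ a ∧ (2 * d) % blk F r = t * (a % blk F r))) :
    ∃ x : GL (Fin d ⊕ Fin d) F, x ∈ Cfsg.spGL d F ∧ x ^ r = 1 ∧
      (∀ z : F, (x : Matrix (Fin d ⊕ Fin d) (Fin d ⊕ Fin d) F) ≠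
        z • (1 : Matrix (Fin d ⊕ Fin d) (Fin d ⊕ Fin d) F)) ∧
      ∀ (D : Fin t → Submodule F (Fin d ⊕ Fin d → F)) (σ : Equiv.Perm (Fin t)),
        (∀ j, NonDeg (sympB (F := F) d) (D j)) →
        ¬ Dec (Matrix.toLin' (x : Matrix (Fin d ⊕ Fin d) (Fin d ⊕ Fin d) F)) a ⊤ D σ := by
  have hr := (Fact.out : r.Prime)
  have hcpos : 0 < blk F r := blk_pos (F := F) (p := p) hrp
  have hcr := blk_le_pred (F := F) (p := p) hr2 hrp
  obtain ⟨c', hc'⟩ := blk_even (F := F) (r := r)
  have hdim := finrank_sympSpace (F := F) d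
  set c := blk F r with hcdef
  have hpow : ∀ x : GL (Fin d ⊕ Fin d) F, x ^ r = 1 →
      (Matrix.toLin' (x : Matrix (Fin d ⊕ Fin d) (Fin d ⊕ Fin d) F)) ^ r = 1 := by
    intro x hx
    rw [toLin'_pow', ← Units.val_pow_eq_pow_val, hx, Units.val_one, Matrix.toLin'_one]
    rfl
  have hisoX : ∀ x : GL (Fin d ⊕ Fin d) F, x ∈ Cfsg.spGL d F → ∀ u v,
      sympB (F := F) d (Matrix.toLin' (x : Matrix (Fin d ⊕ Fin d) (Fin d ⊕ Fin d) F) u)
        (Matrix.toLin' (x : Matrix (Fin d ⊕ Fin d) (Fin d ⊕ Fin d) F) v) =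
      sympB (F := F) d u v := by
    intro x hx u v
    rw [sympB_apply, sympB_apply, Matrix.toLin'_apply, Matrix.toLin'_apply]
    exact (mem_spGL_iff d x).1 hx u v
  by_cases hac : a < c
  · -- one block
    have hj1 : 1 ≤ c' := by omega
    have hjd : c' ≤ d := by omega
    have hrj : r ∣ Fintype.card F ^ (2 * c') - 1 := by
      have := dvd_pow_blk_sub_one (F := F) (r := r) 1
      rw [mul_one, ← hcdef, hc'] at this
      rw [two_mul]
      exact this
    obtain ⟨x, hx, hxr, hns, W, U, hfix⟩ :=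
      Cfsg.Agent.Lib.Helper8.SpExt.exists_semisimple (F := F) d p c' hj1 hjd r hr2 hrj
    have hker := finrank_ker_of_fixData hfix
    refine ⟨x, hx, hxr, hns, ?_⟩
    intro D σ hnd hD
    rcases sp_dec_cases (p := p) (sympB_isAlt (F := F) d) hr2 hrp _ (hisoX x hx) (hpow x hxr)
      (by omega : 1 ≤ a) hD hnd with ⟨_, h2⟩ | ⟨f, s, hfs, hsum⟩
    · rw [hdim] at h2
      have h3 : (r - 1) * a ≤ r - 1 := by omega
      have h5 : (r - 1) * 2 ≤ (r - 1) * a := Nat.mul_le_mul_left _ ha
      have := hr.two_le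
      omega
    · replace hfs : ∀ j, a = f j + s j * c := hfs
      have hf : ∀ j, f j = a := by
        intro j
        have hs0 : s j = 0 := by
          by_contra h
          have h6 : 1 ≤ s j := Nat.one_le_iff_ne_zero.mpr h
          have h7 : c ≤ s j * c := Nat.le_mul_of_pos_left c h6
          have := hfs j
          omega
        have := hfs j
        rw [hs0, zero_mul, add_zero] at this
        exact this.symm
      have hsum' : ∑ j : Fin t, f j = 2 * d := by
        rw [Finset.sum_congr rfl (fun j _ => hf j), Finset.sum_const, Finset.card_univ,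
          Fintype.card_fin, smul_eq_mul, hat, mul_comm]
      rw [hsum'] at hsum
      omega
  · -- as many blocks as possible
    have hca : c ≤ a := by omega
    have hk : (2 * d) % c ≠ t * (a % c) := fun h => hcond ⟨hca, h⟩
    have hkc : (2 * d) % c < c := Nat.mod_lt _ hcpos
    have hdm := Nat.div_add_mod (2 * d) c
    have hq1 : 1 ≤ 2 * d / c := (Nat.one_le_div_iff hcpos).2 hcn
    have hcq : c * (2 * d / c) = 2 * (c' * (2 * d / c)) := by
      rw [hc']
      ring
    have hj1 : 1 ≤ c' * (2 * d / c) := by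
      have : 1 ≤ c' := by omega
      exact Nat.mul_le_mul this hq1
    have hjd : c' * (2 * d / c) ≤ d := by omega
    have hrj : r ∣ Fintype.card F ^ (2 * (c' * (2 * d / c))) - 1 := by
      have := dvd_pow_blk_sub_one (F := F) (r := r) (2 * d / c)
      rw [← hcdef, hcq] at this
      exact this
    obtain ⟨x, hx, hxr, hns, W, U, hfix⟩ :=
      Cfsg.Agent.Lib.Helper8.SpExt.exists_semisimple (F := F) d p (c' * (2 * d / c)) hj1 hjd r
        hr2 hrj
    have hker := finrank_ker_of_fixData hfix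
    have hker' : finrank F (LinearMap.ker (Matrix.toLin'
        (x : Matrix (Fin d ⊕ Fin d) (Fin d ⊕ Fin d) F) - 1)) = (2 * d) % c := by omega
    refine ⟨x, hx, hxr, hns, ?_⟩
    intro D σ hnd hD
    rcases sp_dec_cases (p := p) (sympB_isAlt (F := F) d) hr2 hrp _ (hisoX x hx) (hpow x hxr)
      (by omega : 1 ≤ a) hD hnd with ⟨h1, _⟩ | ⟨f, s, hfs, hsum⟩
    · rw [hker'] at h1
      omega
    · replace hfs : ∀ j, a = f j + s j * c := hfs
      have hf : ∀ j, a % c ≤ f j := by
        intro j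
        have h1 : a % c = f j % c := by
          conv_lhs => rw [hfs j, Nat.add_mul_mod_self_right]
        rw [h1]
        exact Nat.mod_le _ _
      have hsum' : t * (a % c) ≤ ∑ j : Fin t, f j := by
        calc t * (a % c) = ∑ _j : Fin t, a % c := by
              rw [Finset.sum_const, Finset.card_univ, Fintype.card_fin, smul_eq_mul]
          _ ≤ ∑ j : Fin t, f j := Finset.sum_le_sum fun j _ => hf j
      rw [hker'] at hsum
      apply hk
      have h1 : (2 * d) % c = ((a % c) * t) % c := by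
        rw [hat]
        exact ((Nat.mod_modEq a c).mul_right t).symm
      rw [h1, Nat.mod_eq_of_lt, mul_comm]
      rw [mul_comm]
      omega

/-- (⇐): every element of order `r` stabilizes an orthogonal decomposition -/
theorem sp_stabilizes_of_cond (d a t : ℕ) (hd : 1 ≤ d) (hat : 2 * d = a * t) (hae : Even a)
    (r : ℕ) [Fact r.Prime] (hr2 : r ≠ 2) (hrp : r ≠ p)
    (hcond : (2 * d) % blk F r = t * (a % blk F r))
    (x : Matrix (Fin d ⊕ Fin d) (Fin d ⊕ Fin d) F)
    (hx : ∀ u v, Cfsg.sympForm d F (x.mulVec u) (x.mulVec v) = Cfsg.sympForm d F u v) (z : F)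
    (hxr : x ^ r = z • (1 : Matrix (Fin d ⊕ Fin d) (Fin d ⊕ Fin d) F)) :
    ∃ D : Fin t → Submodule F (Fin d ⊕ Fin d → F), IsODecomp (sympB (F := F) d) a D ∧
      ∀ j, (D j).map (Matrix.toLin' x) = D j := by
  have hr := (Fact.out : r.Prime)
  have hdim := finrank_sympSpace (F := F) d
  set X := Matrix.toLin' x with hXdef
  have hXv : ∀ v, X v = x.mulVec v := fun v => Matrix.toLin'_apply _ v
  have hisoX : ∀ u v, sympB (F := F) d (X u) (X v) = sympB (F := F) d u v := by
    intro u v
    rw [sympB_apply, sympB_apply, hXv, hXv]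
    exact hx u v
  have hXr : X ^ r = z • (1 : Module.End F (Fin d ⊕ Fin d → F)) := by
    rw [hXdef, toLin'_pow', hxr, map_smul, Matrix.toLin'_one]
    rfl
  -- z ^ 2 = 1
  have hz2 : z * z = 1 := by
    have hu0 : (Pi.single (Sum.inl ⟨0, hd⟩) 1 : Fin d ⊕ Fin d → F) ≠ 0 := by
      intro h
      have := congrFun h (Sum.inl ⟨0, hd⟩)
      simp at this
    have hex : ∃ v, sympB (F := F) d (Pi.single (Sum.inl ⟨0, hd⟩) 1) v ≠ 0 := by
      by_contra hcon
      push Not at hcon
      exact hu0 ((sympB_nondegenerate (F := F) d).1 _ hcon)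
    obtain ⟨v, hv⟩ := hex
    have h1 := iso_pow hisoX r (Pi.single (Sum.inl ⟨0, hd⟩) 1) v
    rw [hXr] at h1
    simp only [LinearMap.smul_apply, Module.End.one_apply, map_smul, smul_eq_mul] at h1
    have h2 : (z * z - 1) * sympB (F := F) d (Pi.single (Sum.inl ⟨0, hd⟩) 1) v = 0 := by
      linear_combination h1
    rcases mul_eq_zero.1 h2 with h | h
    · exact sub_eq_zero.1 h
    · exact absurd h hv
  have hz0 : z ≠ 0 := by
    rintro rfl
    rw [mul_zero] at hz2
    exact zero_ne_one hz2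
  have hzr : z ^ (r + 1) = 1 := by
    obtain ⟨k, hk⟩ := hr.odd_of_ne_two hr2
    have : r + 1 = 2 * (k + 1) := by omega
    rw [this, pow_mul, pow_two, hz2, one_pow]
  set y : Module.End F (Fin d ⊕ Fin d → F) := z • X with hy
  have hyr : y ^ r = 1 := by
    rw [hy, smul_pow, hXr, smul_smul, ← pow_succ, hzr, one_smul]
  have hXy : X = z • y := by
    rw [hy, smul_smul, hz2, one_smul]
  have hisoy : ∀ u v, sympB (F := F) d (y u) (y v) = sympB (F := F) d u v := by
    intro u v
    have h1 : y u = z • X u := rfl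
    have h2 : y v = z • X v := rfl
    rw [h1, h2]
    simp only [map_smul, LinearMap.smul_apply, smul_eq_mul]
    rw [hisoX, ← mul_assoc, hz2, one_mul]
  obtain ⟨D, hD⟩ := exists_odec (p := p) (sympB_isAlt (F := F) d) hisoy hr2 hrp hyr a hae t ⊤
    (inv_top y) (nonDeg_top (sympB_nondegenerate (F := F) d))
    (by rw [finrank_top, hdim, hat]) (by rw [← hat]; exact hcond)
  refine ⟨D, isODecomp_of_odec hD, fun j => ?_⟩
  rw [hXy, Submodule.map_smul y (D j) z hz0, hD.dec.map_eq]
  rfl

end concrete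

end Cfsg.Agent.Lib.Helper8.SpBlk
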