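import Mathlib
import Cfsg.Prelude.Def_ClassicalGeometry
import Cfsg.Agent.Lib.Helper4.NdDefs
import Cfsg.Agent.Lib.Helper8.SpBlkFinal

/-!
# Backups of the semisimple leaves of the S5956 hive, from the block theory `SpBlk`

Same statements as `tools/helper4/NdSkel.lean.txt` (ND-D1, ND-D2, ND-D4, ND-D6, ND-D7), in the namespace
`Cfsg.Agent.Lib.Helper8.NdBak`.
-/

set_option autoImplicit false

namespace Cfsg.Agent.Lib.Helper8.NdBak

open Matrix Module
open Cfsg.Agent.Lib.Helper99 (Nd dker sympB)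
open Cfsg.Agent.Lib.Helper4.NdH
open Cfsg.Agent.Lib.Helper8.SpBlk

universe u v

variable {F : Type u} [Field F] {V : Type v} [AddCommGroup V] [Module F V]

theorem blk_eq_cOf [Fintype F] (r : ℕ) :
    blk F r = cOf (orderOf ((Fintype.card F : ℕ) : ZMod r)) := rfl

theorem fpf_of_fix {y : V →ₗ[F] V} {X : Submodule F V} (hfix : ∀ v ∈ X, y v = v → v = 0) :
    X ⊓ LinearMap.ker ((y : Module.End F V) - 1) = ⊥ := by
  rw [eq_bot_iff]
  intro v hv
  rw [Submodule.mem_bot]
  apply hfix v hv.1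
  have := LinearMap.mem_ker.1 hv.2
  rwa [LinearMap.sub_apply, Module.End.one_apply, sub_eq_zero] at this

/-- ND-D1 -/
theorem exists_piece_ss [Fintype F] [FiniteDimensional F V] (p : ℕ) [Fact p.Prime] [CharP F p]
    (B : V →ₗ[F] V →ₗ[F] F) (hB : Alt B) (y : V →ₗ[F] V) (hy : Isom B y) (r : ℕ) [Fact r.Prime]
    (hr2 : r ≠ 2) (hrp : r ≠ p) (hyr : (y : Module.End F V) ^ r = 1) (X : Submodule F V)
    (hX : Inv y X) (hXnd : Nd B X) (hXne : X ≠ ⊥) (hfix : ∀ v ∈ X, y v = v → v = 0) :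
    ∃ U : Submodule F V, U ≤ X ∧ Inv y U ∧ Nd B U ∧
      Module.finrank F U = cOf (orderOf ((Fintype.card F : ℕ) : ZMod r)) := by
  have halt : LinearMap.IsAlt B := fun v => hB v
  have hfpf := fpf_of_fix hfix
  obtain ⟨W, hWX, hW, hWnd, hWne, hmin⟩ :=
    exists_min_nondeg (ω := B) (y := y) (finrank F X) X rfl hX hXnd hXne
  have hWd := finrank_min (p := p) halt hy hr2 hrp hyr hW hWnd hWne (fpf_mono hWX hfpf) hmin
  exact ⟨W, hWX, hW, hWnd, hWd⟩

/-- ND-D2 -/
theorem exists_pieces_ss [Fintype F] [FiniteDimensional F V] (p : ℕ) [Fact p.Prime] [CharP F p]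
    (B : V →ₗ[F] V →ₗ[F] F) (hB : Alt B) (y : V →ₗ[F] V) (hy : Isom B y) (r : ℕ) [Fact r.Prime]
    (hr2 : r ≠ 2) (hrp : r ≠ p) (hyr : (y : Module.End F V) ^ r = 1) (X : Submodule F V)
    (hX : Inv y X) (hXnd : Nd B X) (hfix : ∀ v ∈ X, y v = v → v = 0) :
    ∃ s : ℕ, Module.finrank F X = cOf (orderOf ((Fintype.card F : ℕ) : ZMod r)) * s ∧
      ∀ s' ≤ s, ∃ U : Submodule F V, U ≤ X ∧ Inv y U ∧ Nd B U ∧
        Module.finrank F U = cOf (orderOf ((Fintype.card F : ℕ) : ZMod r)) * s' := by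
  have halt : LinearMap.IsAlt B := fun v => hB v
  have hfpf := fpf_of_fix hfix
  obtain ⟨s, hs, h⟩ := exists_blocks (p := p) halt hy hr2 hrp hyr (finrank F X) X rfl hX hXnd hfpf
  refine ⟨s, ?_, ?_⟩
  · rw [hs, mul_comm]
    rfl
  · intro s' hs'
    obtain ⟨U, hUX, hU, hUnd, hUd⟩ := h s' hs'
    refine ⟨U, hUX, hU, hUnd, ?_⟩
    rw [hUd, mul_comm]
    rfl

/-- ND-D4 (the hypothesis `hcm` is not needed) -/
theorem good_of_ss [Fintype F] [FiniteDimensional F V] (p : ℕ) [Fact p.Prime] [CharP F p]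
    (B : V →ₗ[F] V →ₗ[F] F) (hB : Alt B) (hV : Nd B ⊤) (y : V →ₗ[F] V) (hy : Isom B y) (r : ℕ)
    [Fact r.Prime] (hr2 : r ≠ 2) (hrp : r ≠ p) (hyr : (y : Module.End F V) ^ r = 1) (m : ℕ)
    (hme : Even m) (hm : m ≤ Module.finrank F V)
    (hmod : m % cOf (orderOf ((Fintype.card F : ℕ) : ZMod r)) ≤
      Module.finrank F V % cOf (orderOf ((Fintype.card F : ℕ) : ZMod r))) : Good B y m := by
  have halt : LinearMap.IsAlt B := fun v => hB v
  have htop : finrank F (⊤ : Submodule F V) = finrank F V := finrank_top F V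
  obtain ⟨W, _, hW, hWnd, hWd⟩ := exists_nondeg_inv_le (p := p) halt hy hr2 hrp hyr
    (Cfsg.Agent.Lib.Helper2.BG.inv_top y) hV m hme (by rw [htop]; exact hm)
    (by rw [htop]; exact hmod)
  exact ⟨W, hWd, hWnd, hW⟩

theorem toLin'_pow_loc {n : Type*} [Fintype n] [DecidableEq n] (A : Matrix n n F) (k : ℕ) :
    (Matrix.toLin' A) ^ k = Matrix.toLin' (A ^ k) := by
  have h1 : Matrix.toLinAlgEquiv' (A ^ k) = (Matrix.toLinAlgEquiv' A) ^ k := map_pow _ A k
  exact h1.symm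

/-- transport of a matrix to an abstract alternating space -/
theorem exists_transport [FiniteDimensional F V] (B : V →ₗ[F] V →ₗ[F] F) (hB : Alt B)
    (hV : Nd B ⊤) (d : ℕ) (hdim : finrank F V = 2 * d)
    (x : Matrix (Fin d ⊕ Fin d) (Fin d ⊕ Fin d) F)
    (hx : ∀ u v, Cfsg.sympForm d F (x.mulVec u) (x.mulVec v) = Cfsg.sympForm d F u v) :
    ∃ y : V →ₗ[F] V, Isom B y ∧ (∀ k : ℕ, x ^ k = 1 → (y : Module.End F V) ^ k = 1) ∧
      finrank F (LinearMap.ker ((y : Module.End F V) - 1)) =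
        finrank F (LinearMap.ker (Matrix.toLin' x - 1)) := by
  classical
  have halt : LinearMap.IsAlt B := fun v => hB v
  have hnd : LinearMap.BilinForm.Nondegenerate B := by
    refine ⟨fun u hu => hV u Submodule.mem_top (fun v _ => hu v), fun v hv => ?_⟩
    apply hV v Submodule.mem_top
    intro u _
    rw [alt_swap halt, hv u, neg_zero]
  obtain ⟨b, hb⟩ := Cfsg.Agent.Lib.Helper44.darboux_basis d V B halt hnd hdim
  -- the basis of the standard space
  let b₀ : Basis (Fin d ⊕ Fin d) F (Fin d ⊕ Fin d → F) := Pi.basisFun F (Fin d ⊕ Fin d)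
  let e : (Fin d ⊕ Fin d → F) ≃ₗ[F] V := b₀.equiv b (Equiv.refl _)
  have he : ∀ i, e (b₀ i) = b i := fun i => by
    rw [Basis.equiv_apply]
    rfl
  have hform : ∀ u v, B (e u) (e v) = - sympB (F := F) d u v := by
    have h1 : LinearMap.BilinForm.comp B (e : (Fin d ⊕ Fin d → F) →ₗ[F] V)
        (e : (Fin d ⊕ Fin d → F) →ₗ[F] V) = - sympB (F := F) d := by
      apply LinearMap.BilinForm.ext_basis b₀
      intro i j
      rw [LinearMap.BilinForm.comp_apply, LinearEquiv.coe_coe, he, he,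
        LinearMap.neg_apply, LinearMap.neg_apply]
      have h2 := congrFun (congrFun hb i) j
      rw [LinearMap.BilinForm.toMatrix_apply] at h2
      rw [h2, Cfsg.Agent.Lib.Helper44.gramJ_eq]
      show (- Matrix.J (Fin d) F) i j = - sympB (F := F) d (b₀ i) (b₀ j)
      unfold Cfsg.Agent.Lib.Helper99.sympB
      rw [Matrix.toBilin'_apply']
      simp [b₀, Matrix.neg_apply]
    intro u v
    have h2 := congrArg (fun β : LinearMap.BilinForm F (Fin d ⊕ Fin d → F) => β u v) h1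
    exact h2
  set X : Module.End F (Fin d ⊕ Fin d → F) := Matrix.toLin' x with hXdef
  have hXiso : ∀ u v, sympB (F := F) d (X u) (X v) = sympB (F := F) d u v := by
    intro u v
    rw [Cfsg.Agent.Lib.Helper99.sympB_apply, Cfsg.Agent.Lib.Helper99.sympB_apply, hXdef,
      Matrix.toLin'_apply, Matrix.toLin'_apply]
    exact hx u v
  let y : V →ₗ[F] V := (e : (Fin d ⊕ Fin d → F) →ₗ[F] V) ∘ₗ X ∘ₗ (e.symm : V →ₗ[F] (Fin d ⊕ Fin d → F))
  have hyv : ∀ v, y v = e (X (e.symm v)) := fun v => rfl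
  have hpow : ∀ (k : ℕ) (v : V), ((y : Module.End F V) ^ k) v = e ((X ^ k) (e.symm v)) := by
    intro k
    induction k with
    | zero => intro v; simp
    | succ k ih =>
      intro v
      rw [pow_succ, Module.End.mul_apply, ih, hyv, LinearEquiv.symm_apply_apply, pow_succ,
        Module.End.mul_apply]
  refine ⟨y, ?_, ?_, ?_⟩
  · intro u v
    rw [hyv, hyv, hform, hXiso, ← hform, LinearEquiv.apply_symm_apply, LinearEquiv.apply_symm_apply]
  · intro k hk
    apply LinearMap.ext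
    intro v
    rw [hpow, hXdef, toLin'_pow_loc, hk, Matrix.toLin'_one]
    simp
  · have hker : LinearMap.ker ((y : Module.End F V) - 1) =
        (LinearMap.ker (X - 1)).map (e : (Fin d ⊕ Fin d → F) →ₗ[F] V) := by
      ext v
      rw [Submodule.mem_map, LinearMap.mem_ker, LinearMap.sub_apply, Module.End.one_apply, hyv]
      constructor
      · intro h
        refine ⟨e.symm v, ?_, e.apply_symm_apply v⟩
        rw [LinearMap.mem_ker, LinearMap.sub_apply, Module.End.one_apply]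
        apply e.injective
        rw [map_sub, e.apply_symm_apply, map_zero]
        exact h
      · rintro ⟨w, hw, rfl⟩
        rw [LinearMap.mem_ker, LinearMap.sub_apply, Module.End.one_apply, sub_eq_zero] at hw
        rw [LinearEquiv.coe_coe, e.symm_apply_apply, hw, sub_self]
    rw [hker, LinearEquiv.finrank_map_eq]

/-- ND-D7 -/
theorem exists_isom_ss [Fintype F] [FiniteDimensional F V] (p : ℕ) [Fact p.Prime] [CharP F p]
    (B : V →ₗ[F] V →ₗ[F] F) (hB : Alt B) (hV : Nd B ⊤) (r : ℕ) [Fact r.Prime] (hr2 : r ≠ 2)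
    (hrp : r ≠ p)
    (hdim : cOf (orderOf ((Fintype.card F : ℕ) : ZMod r)) ≤ Module.finrank F V) :
    ∃ y : V →ₗ[F] V, Isom B y ∧ (y : Module.End F V) ^ r = 1 ∧ y ≠ 1 ∧
      Module.finrank F (LinearMap.ker (y - 1)) =
        Module.finrank F V % cOf (orderOf ((Fintype.card F : ℕ) : ZMod r)) := by
  have halt : LinearMap.IsAlt B := fun v => hB v
  rw [← blk_eq_cOf] at hdim ⊢
  have hcpos : 0 < blk F r := blk_pos (F := F) (p := p) hrp
  obtain ⟨c', hc'⟩ := blk_even (F := F) (r := r)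
  obtain ⟨d, hd⟩ := nonDeg_even halt hV
  have hd' : finrank F V = 2 * d := by
    rw [← finrank_top F V, hd]
    ring
  set c := blk F r with hcdef
  rw [hd'] at hdim ⊢
  have hkc : (2 * d) % c < c := Nat.mod_lt _ hcpos
  have hdm := Nat.div_add_mod (2 * d) c
  have hq1 : 1 ≤ 2 * d / c := (Nat.one_le_div_iff hcpos).2 hdim
  have hcq : c * (2 * d / c) = 2 * (c' * (2 * d / c)) := by
    rw [hc']
    ring
  have hj1 : 1 ≤ c' * (2 * d / c) := by
    have : 1 ≤ c' := by omega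
    exact Nat.mul_le_mul this hq1
  have hjd : c' * (2 * d / c) ≤ d := by omega
  have hrj : r ∣ Fintype.card F ^ (2 * (c' * (2 * d / c))) - 1 := by
    have := dvd_pow_blk_sub_one (F := F) (r := r) (2 * d / c)
    rw [← hcdef, hcq] at this
    exact this
  obtain ⟨x, hx, hxr, _, W, U, hfix⟩ :=
    Cfsg.Agent.Lib.Helper8.SpExt.exists_semisimple (F := F) d p (c' * (2 * d / c)) hj1 hjd r
      hr2 hrj
  have hker := finrank_ker_of_fixData hfix
  have hker' : finrank F (LinearMap.ker (Matrix.toLin'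
      (x : Matrix (Fin d ⊕ Fin d) (Fin d ⊕ Fin d) F) - 1)) = (2 * d) % c := by omega
  obtain ⟨y, hy, hypow, hyker⟩ := exists_transport B hB hV d hd'
    (x : Matrix (Fin d ⊕ Fin d) (Fin d ⊕ Fin d) F)
    ((Cfsg.Agent.Lib.Helper99.mem_spGL_iff d x).1 hx)
  refine ⟨y, hy, hypow r ?_, ?_, ?_⟩
  · rw [← Units.val_pow_eq_pow_val, hxr, Units.val_one]
  · intro h1
    rw [h1] at hyker
    have h2 : LinearMap.ker ((1 : V →ₗ[F] V) - 1 : Module.End F V) = ⊤ := by
      have : ((1 : V →ₗ[F] V) - 1 : Module.End F V) = 0 := sub_self _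
      rw [this, LinearMap.ker_zero]
    rw [h2, finrank_top, hd', hker'] at hyker
    omega
  · rw [hyker, hker']

/-- ND-D6 -/
theorem exists_fpf_isom [Fintype F] [FiniteDimensional F V] (p : ℕ) [Fact p.Prime] [CharP F p]
    (B : V →ₗ[F] V →ₗ[F] F) (hB : Alt B) (hV : Nd B ⊤) (r : ℕ) [Fact r.Prime] (hr2 : r ≠ 2)
    (hrp : r ≠ p)
    (hdim : Module.finrank F V = cOf (orderOf ((Fintype.card F : ℕ) : ZMod r))) :
    ∃ y : V →ₗ[F] V, Isom B y ∧ (y : Module.End F V) ^ r = 1 ∧ ∀ v, y v = v → v = 0 := by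
  obtain ⟨y, hy, hyr, _, hker⟩ := exists_isom_ss p B hB hV r hr2 hrp (le_of_eq hdim.symm)
  refine ⟨y, hy, hyr, ?_⟩
  rw [hdim, Nat.mod_self, Submodule.finrank_eq_zero] at hker
  intro v hv
  have h1 : v ∈ LinearMap.ker ((y : Module.End F V) - 1) := by
    rw [LinearMap.mem_ker, LinearMap.sub_apply, Module.End.one_apply, hv, sub_self]
  rw [hker] at h1
  exact h1

end Cfsg.Agent.Lib.Helper8.NdBak
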