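import Cfsg.Agent.Lib.Helper38.StnBruDefs
import Cfsg.Agent.Lib.Helper95.Stn_WWW
import Cfsg.Agent.Lib.Helper13.Stn_WINV
import Cfsg.Agent.Lib.Helper97.Stn_WHHcore

/-! # Stn hive (S2401, helper41), sub-hive BRU (helper38): leaf BRU-NH (`NN_conj_HH`). -/

set_option autoImplicit false

namespace Cfsg.Agent.Lib.Helper41.Stn

open Matrix

variable {K : Type*} [Field K] {n : ℕ}

theorem brunh_mu_ne_zero (i j : Fin n) {t : K} (ht : t ≠ 0) (a : Fin n) : mu i j t a ≠ 0 := by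
  unfold mu
  split_ifs
  · exact neg_ne_zero.mpr (inv_ne_zero ht)
  · exact ht
  · exact one_ne_zero

/-- local copy of the statement of STN-W-HH (from `whh_core`, `ww_inv`, `ww_conj_ww`). -/
theorem brunh_ww_conj_hh (hn : 3 ≤ n) {i j : Fin n} (hij : i ≠ j) {t : K} (ht : t ≠ 0) {k l : Fin n}
    (hkl : k ≠ l) {u : K} (hu : u ≠ 0) :
    ww i j t * hh k l u * (ww i j t)⁻¹ =
      hh (Equiv.swap i j k) (Equiv.swap i j l) (mu i j t k / mu i j t l * u) *
        (hh (Equiv.swap i j k) (Equiv.swap i j l) (mu i j t k / mu i j t l))⁻¹ := by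
  refine whh_core (K := K) (n := n) (fun a b c => ww_inv a b c) ?_ hij ht hkl hu
  intro i' j' hij' t' ht' k' l' hkl' u' hu'
  exact ww_conj_ww hn hij' ht' hkl' hu'

/-- a generator `w_ij(t)` of `N` normalises `H`. -/
theorem brunh_gen (hn : 3 ≤ n) {i j : Fin n} (hij : i ≠ j) {t : K} (ht : t ≠ 0) {h : St K n}
    (hh' : h ∈ HH K n) : ww i j t * h * (ww i j t)⁻¹ ∈ HH K n := by
  unfold HH at hh'
  induction hh' using Subgroup.closure_induction with
  | mem x hx =>
    obtain ⟨k, l, u, hkl, hu, rfl⟩ := hx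
    rw [brunh_ww_conj_hh hn hij ht hkl hu]
    have hkl' : Equiv.swap i j k ≠ Equiv.swap i j l := fun h => hkl ((Equiv.swap i j).injective h)
    have hc : mu i j t k / mu i j t l ≠ 0 :=
      div_ne_zero (brunh_mu_ne_zero i j ht k) (brunh_mu_ne_zero i j ht l)
    refine mul_mem ?_ (inv_mem ?_)
    · exact Subgroup.subset_closure ⟨_, _, _, hkl', mul_ne_zero hc hu, rfl⟩
    · exact Subgroup.subset_closure ⟨_, _, _, hkl', hc, rfl⟩
  | one =>
    rw [mul_one, mul_inv_cancel]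
    exact one_mem _
  | mul a b _ _ iha ihb =>
    have : ww i j t * (a * b) * (ww i j t)⁻¹ =
        (ww i j t * a * (ww i j t)⁻¹) * (ww i j t * b * (ww i j t)⁻¹) := by group
    rw [this]
    exact mul_mem iha ihb
  | inv a _ iha =>
    have : ww i j t * a⁻¹ * (ww i j t)⁻¹ = (ww i j t * a * (ww i j t)⁻¹)⁻¹ := by group
    rw [this]
    exact inv_mem iha

theorem brunh_both (hn : 3 ≤ n) {ν : St K n} (hν : ν ∈ NN K n) :
    (∀ h ∈ HH K n, ν * h * ν⁻¹ ∈ HH K n) ∧ (∀ h ∈ HH K n, ν⁻¹ * h * ν ∈ HH K n) := by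
  unfold NN at hν
  induction hν using Subgroup.closure_induction with
  | mem x hx =>
    obtain ⟨i, j, t, hij, ht, rfl⟩ := hx
    refine ⟨fun h hh' => brunh_gen hn hij ht hh', fun h hh' => ?_⟩
    have h1 := brunh_gen hn hij (neg_ne_zero.mpr ht) hh'
    rw [← ww_inv, inv_inv] at h1
    exact h1
  | one =>
    refine ⟨fun h hh' => ?_, fun h hh' => ?_⟩
    · rw [one_mul, inv_one, mul_one]
      exact hh'
    · rw [inv_one, one_mul, mul_one]
      exact hh'
  | mul a b _ _ iha ihb =>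
    refine ⟨fun h hh' => ?_, fun h hh' => ?_⟩
    · have : a * b * h * (a * b)⁻¹ = a * (b * h * b⁻¹) * a⁻¹ := by group
      rw [this]
      exact iha.1 _ (ihb.1 _ hh')
    · have : (a * b)⁻¹ * h * (a * b) = b⁻¹ * (a⁻¹ * h * a) * b := by group
      rw [this]
      exact ihb.2 _ (iha.2 _ hh')
  | inv a _ iha =>
    refine ⟨fun h hh' => ?_, fun h hh' => ?_⟩
    · rw [inv_inv]
      exact iha.2 h hh'
    · rw [inv_inv]
      exact iha.1 h hh'

theorem NN_conj_HH (hn : 3 ≤ n) {ν h : St K n} (hν : ν ∈ NN K n) (hh : h ∈ HH K n) :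
    ν * h * ν⁻¹ ∈ HH K n :=
  (brunh_both hn hν).1 h hh

end Cfsg.Agent.Lib.Helper41.Stn
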