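import Cfsg.Agent.Lib.Helper6.Ls.Defs
import Cfsg.Agent.Lib.Helper13.UnitaryConfig
import Cfsg.Agent.Lib.Helper13.UnitaryLift
import Cfsg.Prelude.Def_Classical

set_option autoImplicit false

/-!
# `Ls` hive, leaf C-EMAT: the Eichler/Siegel elements `E(w,c)` of the unitary group.
-/

namespace Cfsg.Agent.Lib.Helper6.Ls

open Module Cfsg.Agent.Lib.Helper99

section concrete

variable {F : Type*} [Field F] [Fintype F] {q : ℕ}

theorem emat_dot {n : ℕ} (u x : Fin n → F) :
    (fun j => (u j) ^ q) ⬝ᵥ x = Cfsg.hermForm n F q x u := by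
  unfold Cfsg.hermForm dotProduct
  apply Finset.sum_congr rfl
  intro j _
  ring

theorem Emat_mulVec {n : ℕ} (e w : Fin n → F) (c : F) (x : Fin n → F) :
    Matrix.mulVec (Emat q e w c) x =
      x + Cfsg.hermForm n F q x e • (w + c • e) - Cfsg.hermForm n F q x w • e := by
  unfold Emat
  rw [Matrix.sub_mulVec, Matrix.add_mulVec, Matrix.one_mulVec, Matrix.vecMulVec_mulVec,
    Matrix.vecMulVec_mulVec, emat_dot, emat_dot, op_smul_eq_smul, op_smul_eq_smul]

theorem emat_herm_e (hF : Fintype.card F = q ^ 2) {n : ℕ} (e w : Fin n → F)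
    (hee : Cfsg.hermForm n F q e e = 0) (hwe : Cfsg.hermForm n F q w e = 0) (c : F)
    (x : Fin n → F) :
    Cfsg.hermForm n F q (Matrix.mulVec (Emat q e w c) x) e = Cfsg.hermForm n F q x e := by
  rw [Emat_mulVec, hermForm_sub_left, Helper13.hermForm_add_left, Helper13.hermForm_smul_left,
    Helper13.hermForm_smul_left, Helper13.hermForm_add_left, Helper13.hermForm_smul_left, hee, hwe]
  ring

theorem emat_herm_gen (hF : Fintype.card F = q ^ 2) {n : ℕ} (e w : Fin n → F) (c : F)
    (x y : Fin n → F) :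
    Cfsg.hermForm n F q (Matrix.mulVec (Emat q e w c) x) y =
      Cfsg.hermForm n F q x y + Cfsg.hermForm n F q x e *
        (Cfsg.hermForm n F q w y + c * Cfsg.hermForm n F q e y) -
        Cfsg.hermForm n F q x w * Cfsg.hermForm n F q e y := by
  rw [Emat_mulVec, hermForm_sub_left, Helper13.hermForm_add_left, Helper13.hermForm_smul_left,
    Helper13.hermForm_smul_left, Helper13.hermForm_add_left, Helper13.hermForm_smul_left]

theorem Emat_mul (hF : Fintype.card F = q ^ 2) {n : ℕ} (e w w' : Fin n → F)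
    (hee : Cfsg.hermForm n F q e e = 0) (hwe : Cfsg.hermForm n F q w e = 0)
    (hw'e : Cfsg.hermForm n F q w' e = 0) (c c' : F) :
    Emat q e w c * Emat q e w' c' = Emat q e (w + w') (c + c' - Cfsg.hermForm n F q w' w) := by
  have hew : Cfsg.hermForm n F q e w = 0 := hermForm_eq_zero_comm hF hwe
  rw [Matrix.ext_iff_mulVec]
  intro x
  rw [← Matrix.mulVec_mulVec, Emat_mulVec e w c, emat_herm_e hF e w' hee hw'e,
    emat_herm_gen hF e w' c' x w, hew, Emat_mulVec, Emat_mulVec,
    Helper13.hermForm_add_right hF]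
  simp only [mul_zero, add_zero]
  module

theorem Emat_zero (hF : Fintype.card F = q ^ 2) {n : ℕ} (e : Fin n → F) : Emat q e 0 0 = 1 := by
  rw [Matrix.ext_iff_mulVec]
  intro x
  rw [Emat_mulVec, hermForm_zero_right hF, zero_smul, zero_add, smul_zero, sub_zero,
    Matrix.one_mulVec]
  simp

theorem emat_isUnit (hF : Fintype.card F = q ^ 2) {n : ℕ} (e w : Fin n → F)
    (hee : Cfsg.hermForm n F q e e = 0) (hwe : Cfsg.hermForm n F q w e = 0) (c : F) :
    IsUnit (Emat q e w c) := by
  have hnwe : Cfsg.hermForm n F q (-w) e = 0 := by rw [hermForm_neg_left, hwe, neg_zero]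
  have h1 : Emat q e w c * Emat q e (-w) (-c - Cfsg.hermForm n F q w w) = 1 := by
    rw [Emat_mul hF e w (-w) hee hwe hnwe, hermForm_neg_left]
    have : c + (-c - Cfsg.hermForm n F q w w) - -Cfsg.hermForm n F q w w = 0 := by ring
    rw [this, add_neg_cancel, Emat_zero hF]
  exact (Matrix.isUnit_iff_isUnit_det _).mpr
    (IsUnit.of_mul_eq_one _ (by rw [← Matrix.det_mul, h1, Matrix.det_one]))

theorem coe_Eelt (hF : Fintype.card F = q ^ 2) {n : ℕ} (e w : Fin n → F)
    (hee : Cfsg.hermForm n F q e e = 0) (hwe : Cfsg.hermForm n F q w e = 0) (c : F) :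
    ((Eelt q e w c : GL (Fin n) F) : Matrix (Fin n) (Fin n) F) = Emat q e w c := by
  unfold Eelt
  rw [dif_pos (emat_isUnit hF e w hee hwe c)]
  exact IsUnit.unit_spec _

theorem Eelt_mul (hF : Fintype.card F = q ^ 2) {n : ℕ} (e w w' : Fin n → F)
    (hee : Cfsg.hermForm n F q e e = 0) (hwe : Cfsg.hermForm n F q w e = 0)
    (hw'e : Cfsg.hermForm n F q w' e = 0) (c c' : F) :
    Eelt q e w c * Eelt q e w' c' = Eelt q e (w + w') (c + c' - Cfsg.hermForm n F q w' w) := by
  have hsum : Cfsg.hermForm n F q (w + w') e = 0 := by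
    rw [Helper13.hermForm_add_left, hwe, hw'e, add_zero]
  apply Units.ext
  rw [Units.val_mul, coe_Eelt hF e w hee hwe, coe_Eelt hF e w' hee hw'e,
    coe_Eelt hF e (w + w') hee hsum, Emat_mul hF e w w' hee hwe hw'e]

theorem Eelt_zero_eq_utv (hF : Fintype.card F = q ^ 2) {n : ℕ} (e : Fin n → F)
    (hee : Cfsg.hermForm n F q e e = 0) (c : F) : Eelt q e 0 c = utv q e c := by
  apply Units.ext
  rw [coe_Eelt hF e 0 hee (hermForm_zero_left e), Matrix.ext_iff_mulVec]
  intro x
  rw [Emat_mulVec, utv_mulVec e hee, hermForm_zero_right hF, zero_smul, sub_zero, zero_add,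
    smul_smul, mul_comm]

theorem Eelt_mem_suGL (hF : Fintype.card F = q ^ 2) {n : ℕ} (e w : Fin n → F)
    (hee : Cfsg.hermForm n F q e e = 0) (hwe : Cfsg.hermForm n F q w e = 0) (c : F)
    (hc : c + c ^ q + Cfsg.hermForm n F q w w = 0) : Eelt q e w c ∈ suGL (F := F) n q := by
  have hew : Cfsg.hermForm n F q e w = 0 := hermForm_eq_zero_comm hF hwe
  refine ⟨?_, ?_⟩
  · show Eelt q e w c ∈ Cfsg.GU n F q
    rw [Helper13.mem_GU_iff]
    intro x y
    rw [coe_Eelt hF e w hee hwe, emat_herm_gen hF, Emat_mulVec e w c y]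
    simp only [hermForm_sub_right hF, Helper13.hermForm_add_right hF, Helper13.hermForm_smul_right,
      hee, hew, hwe, Helper13.hermForm_conj hF, mul_zero, add_zero, sub_zero, zero_mul]
    linear_combination (Cfsg.hermForm n F q x e * Cfsg.hermForm n F q e y) * hc
  · show Eelt q e w c ∈ Cfsg.Geo.specialLinear (Fin n) F
    rw [mem_specialLinear_iff, coe_Eelt hF e w hee hwe]
    have hfac : Emat q e w c = rk1 (w + c • e) (fun j => (e j) ^ q) *
        rk1 e (fun j => -(w j) ^ q) := by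
      unfold Emat rk1
      rw [mul_add, add_mul, one_mul, mul_one, add_mul, one_mul, Matrix.vecMulVec_mul_vecMulVec]
      have h0 : (fun j => (e j) ^ q) ⬝ᵥ e = 0 := by rw [emat_dot, hee]
      rw [h0, zero_smul]
      have hneg : Matrix.vecMulVec e (fun j => -(w j) ^ q) =
          -Matrix.vecMulVec e (fun j => (w j) ^ q) := by
        ext i j
        simp [Matrix.vecMulVec_apply]
      rw [hneg]
      simp [sub_eq_add_neg, add_comm, add_left_comm]
    rw [hfac, Matrix.det_mul, det_rk1, det_rk1, emat_dot]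
    have h2 : (fun j => -(w j) ^ q) ⬝ᵥ e = -Cfsg.hermForm n F q e w := by
      have : (fun j => -(w j) ^ q) = -(fun j => (w j) ^ q) := rfl
      rw [this, neg_dotProduct, emat_dot]
    rw [h2, hew, Helper13.hermForm_add_left, Helper13.hermForm_smul_left, hwe, hee]
    ring

/-- conjugating `E(w,c)` by an isometry `g` with `g e = a e`: `g E(w,c) g⁻¹ = E(a^q • g w, c a^(q+1))`. -/
theorem conj_Eelt (hF : Fintype.card F = q ^ 2) {n : ℕ} (e w : Fin n → F)
    (hee : Cfsg.hermForm n F q e e = 0) (hwe : Cfsg.hermForm n F q w e = 0) (c : F)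
    (g : GL (Fin n) F) (hg : g ∈ Cfsg.GU n F q) (a : F)
    (hge : Matrix.mulVec (g : Matrix (Fin n) (Fin n) F) e = a • e) :
    g * Eelt q e w c * g⁻¹ =
      Eelt q e (a ^ q • Matrix.mulVec (g : Matrix (Fin n) (Fin n) F) w) (c * a ^ (q + 1)) := by
  have hw'e : Cfsg.hermForm n F q
      (a ^ q • Matrix.mulVec (g : Matrix (Fin n) (Fin n) F) w) e = 0 := by
    rw [Helper13.hermForm_smul_left, ← Helper13.hermForm_smul_right, ← hge, GU_preserves hg, hwe]
  apply Units.ext
  rw [Units.val_mul, Units.val_mul, coe_Eelt hF e w hee hwe, coe_Eelt hF e _ hee hw'e,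
    Matrix.ext_iff_mulVec]
  intro x
  rw [← Matrix.mulVec_mulVec, ← Matrix.mulVec_mulVec, Emat_mulVec, Emat_mulVec,
    GU_preserves_inv hg, GU_preserves_inv hg, hge, Matrix.mulVec_sub, Matrix.mulVec_add,
    gl_mulVec_inv_mulVec, Matrix.mulVec_smul, Matrix.mulVec_smul, Matrix.mulVec_add,
    Matrix.mulVec_smul, hge, Helper13.hermForm_smul_right, Helper13.hermForm_smul_right,
    Helper13.pow_q_pow_q hF]
  simp only [smul_add, smul_smul, pow_succ]
  module

end concrete

end Cfsg.Agent.Lib.Helper6.Ls
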