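import Mathlib
import Cfsg.Agent.Lib.Helper8.SpBlkMin

/-!
# TI-D2 (S5955 hive), abstract part: powers of an irreducible operator of prime order

The powers `y ^ s` (`r ∤ s`) of an irreducible operator `y` of prime order `r` are irreducible; two of
them either have the same minimal polynomial or the minimal polynomial of one is injective at the
other; each class has at most `dim W` elements, so there are many classes.
-/

set_option autoImplicit false

namespace Cfsg.Agent.Lib.Helper48.Ti

open Polynomial Module Cfsg.Agent.Lib.Helper2.BG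

section d2general

variable {F : Type*} [Field F] {W : Type*} [AddCommGroup W] [Module F W]

/-- intertwining polynomials -/
theorem d2_aeval_intertwine {W' : Type*} [AddCommGroup W'] [Module F W'] (φ : W →ₗ[F] W')
    (T : Module.End F W) (T' : Module.End F W') (h : ∀ w, φ (T w) = T' (φ w)) (P : F[X])
    (w : W) : φ (aeval T P w) = aeval T' P (φ w) := by
  have hpow : ∀ (n : ℕ) (w : W), φ ((T ^ n) w) = (T' ^ n) (φ w) := by
    intro n
    induction n with
    | zero => intro w; simp
    | succ n ih =>
      intro w
      rw [pow_succ, Module.End.mul_apply, ih, h, pow_succ, Module.End.mul_apply]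
  induction P using Polynomial.induction_on' with
  | add p q hp hq =>
    rw [map_add, map_add, LinearMap.add_apply, LinearMap.add_apply, map_add, hp, hq]
  | monomial n c =>
    rw [aeval_monomial, aeval_monomial, Module.End.mul_apply, Module.End.mul_apply,
      Module.algebraMap_end_apply, Module.algebraMap_end_apply, map_smul, hpow]

/-- irreducible operators -/
def d2_Irr (y : Module.End F W) : Prop := ∀ Z : Submodule F W, Inv y Z → Z = ⊥ ∨ Z = ⊤

/-- invariant subspaces of a power prime to the order -/
theorem d2_inv_of_pow {y : Module.End F W} {r : ℕ} (hr : r.Prime) (hy : y ^ r = 1) {s : ℕ}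
    (hs : ¬ r ∣ s) {Z : Submodule F W} (hZ : Inv (y ^ s) Z) : Inv y Z := by
  have hcop : Nat.Coprime s r := (Nat.Prime.coprime_iff_not_dvd hr).2 hs |>.symm
  obtain ⟨m, _, hm⟩ := Nat.exists_mul_mod_eq_one_of_coprime hcop hr.one_lt
  have h1 : (y ^ s) ^ m = y := by
    rw [← pow_mul]
    have h2 := Nat.div_add_mod (s * m) r
    rw [hm] at h2
    rw [← h2, pow_add, pow_mul, hy, one_pow, one_mul, pow_one]
  have h3 := hZ.pow m
  rw [h1] at h3
  exact h3

theorem d2_ker_aeval_inv (y : Module.End F W) (s : ℕ) (P : F[X]) :
    Inv y (LinearMap.ker (aeval (y ^ s) P)) := by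
  intro v hv
  rw [LinearMap.mem_ker] at hv ⊢
  have h1 := d2_aeval_intertwine (y : W →ₗ[F] W) (y ^ s) (y ^ s)
    (fun w => by
      rw [← Module.End.mul_apply, ← Module.End.mul_apply, ← pow_succ', ← pow_succ]) P v
  rw [← h1, hv, map_zero]

theorem d2_zero_or_injective {y : Module.End F W} (hirr : d2_Irr y) (s : ℕ) (P : F[X]) :
    aeval (y ^ s) P = 0 ∨ Function.Injective (aeval (y ^ s) P) := by
  rcases hirr _ (d2_ker_aeval_inv y s P) with h | h
  · right
    exact LinearMap.ker_eq_bot.1 h
  · left
    exact LinearMap.ker_eq_top.1 h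

end d2general

section d2fd

variable {F : Type*} [Field F] {W : Type*} [AddCommGroup W] [Module F W] [FiniteDimensional F W]

/-- the degree of the minimal polynomial of a power of an irreducible operator -/
theorem d2_natDegree_minpoly [Nontrivial W] {y : Module.End F W} (hirr : d2_Irr y) {r : ℕ}
    (hr : r.Prime) (hy : y ^ r = 1) {s : ℕ} (hs : ¬ r ∣ s) :
    (minpoly F (y ^ s)).natDegree = finrank F W := by
  have hint : IsIntegral F (y ^ s) := LinearMap.isIntegral (y ^ s)
  have hmon := minpoly.monic hint
  apply le_antisymm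
  · have h1 := LinearMap.minpoly_dvd_charpoly (y ^ s)
    have h2 := Polynomial.natDegree_le_of_dvd h1 (LinearMap.charpoly_monic (y ^ s)).ne_zero
    rwa [LinearMap.charpoly_natDegree] at h2
  · obtain ⟨v, hv⟩ := exists_ne (0 : W)
    have hZ : Inv (y ^ s) (LinearMap.range (orbitMap (y ^ s) v)) :=
      Cfsg.Agent.Lib.Helper8.SpBlk.inv_range_orbit (y ^ s) v
    have hZ' : Inv y (LinearMap.range (orbitMap (y ^ s) v)) := d2_inv_of_pow hr hy hs hZ
    have hvZ : v ∈ LinearMap.range (orbitMap (y ^ s) v) := ⟨1, by simp [orbitMap]⟩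
    rcases hirr _ hZ' with h | h
    · rw [h, Submodule.mem_bot] at hvZ
      exact absurd hvZ hv
    · have h1 := Cfsg.Agent.Lib.Helper8.SpBlk.finrank_range_orbitMap_le (y ^ s) v
        (minpoly F (y ^ s)) hmon (by rw [minpoly.aeval]; rfl)
      rw [h, finrank_top] at h1
      exact h1

open Classical in
/-- root count in the commutative domain `F[y]` -/
theorem d2_card_roots_le [Nontrivial W] {y : Module.End F W} (hirr : d2_Irr y) {r : ℕ}
    (hr : r.Prime) (hy : y ^ r = 1) (hy1 : y ≠ 1) (g : F[X]) (hg : g ≠ 0) :
    ((Finset.Ico 1 r).filter (fun s => aeval (y ^ s) g = 0)).card ≤ g.natDegree := by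
  classical
  let K := Algebra.adjoin F ({y} : Set (Module.End F W))
  have hcomm : IsMulCommutative K := Algebra.isMulCommutative_adjoin F (by
    intro a ha b hb
    rw [Set.mem_singleton_iff] at ha hb
    rw [ha, hb])
  letI : CommRing K := inferInstance
  have hyK : y ∈ K := Algebra.subset_adjoin (Set.mem_singleton y)
  let yK : K := ⟨y, hyK⟩
  have hcommy : ∀ a : K, (a : Module.End F W) * y = y * (a : Module.End F W) := by
    intro a
    have h1 : a * yK = yK * a := mul_comm a yK
    exact congrArg Subtype.val h1
  have hker : ∀ a : K, Inv y (LinearMap.ker (a : Module.End F W)) := by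
    intro a v hv
    rw [LinearMap.mem_ker] at hv ⊢
    have h1 : ((a : Module.End F W) * y) v = (y * (a : Module.End F W)) v := by rw [hcommy]
    rw [Module.End.mul_apply, Module.End.mul_apply, hv, map_zero] at h1
    exact h1
  haveI : Nontrivial K := by
    refine ⟨⟨0, 1, fun h => ?_⟩⟩
    obtain ⟨v, hv⟩ := exists_ne (0 : W)
    have h1 := congrArg (fun a : K => (a : Module.End F W) v) h
    simp at h1
    exact hv h1.symm
  haveI : NoZeroDivisors K := by
    refine ⟨fun {a b} hab => ?_⟩
    have hab' : (a : Module.End F W) * (b : Module.End F W) = 0 := by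
      have := congrArg Subtype.val hab
      simpa using this
    rcases hirr _ (hker a) with h | h
    · right
      apply Subtype.ext
      apply LinearMap.ext
      intro w
      have h1 : (a : Module.End F W) ((b : Module.End F W) w) = 0 := by
        rw [← Module.End.mul_apply, hab']
        rfl
      have h2 : (b : Module.End F W) w ∈ LinearMap.ker (a : Module.End F W) :=
        LinearMap.mem_ker.2 h1
      rw [h, Submodule.mem_bot] at h2
      rw [h2]
      rfl
    · left
      apply Subtype.ext
      exact LinearMap.ker_eq_top.1 h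
  haveI : IsDomain K := NoZeroDivisors.to_isDomain K
  set g' : K[X] := g.map (algebraMap F K) with hg'
  have hinj : Function.Injective (algebraMap F K) := (algebraMap F K).injective
  have hg'0 : g' ≠ 0 := (Polynomial.map_ne_zero_iff hinj).2 hg
  have hcoe : ∀ s : ℕ, ((aeval (yK ^ s) g : K) : Module.End F W) = aeval (y ^ s) g := by
    intro s
    have h0 := Polynomial.aeval_algHom_apply K.val (yK ^ s) g
    rw [map_pow] at h0
    exact h0.symm
  haveI : Fact r.Prime := ⟨hr⟩
  have hord : orderOf y = r := orderOf_eq_prime hy hy1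
  have h1 : ((Finset.Ico 1 r).filter (fun s => aeval (y ^ s) g = 0)).card ≤
      g'.roots.toFinset.card := by
    apply Finset.card_le_card_of_injOn (fun s => yK ^ s)
    · intro s hs
      rw [Finset.coe_filter] at hs
      have hs2 : aeval (y ^ s) g = 0 := hs.2
      rw [Finset.mem_coe, Multiset.mem_toFinset, Polynomial.mem_roots hg'0, Polynomial.IsRoot.def, hg',
        Polynomial.eval_map_algebraMap]
      apply Subtype.ext
      rw [hcoe, hs2]
      rfl
    · intro s hs s' hs' hss
      rw [Finset.coe_filter] at hs hs'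
      have hs1 := Finset.mem_Ico.1 hs.1
      have hs1' := Finset.mem_Ico.1 hs'.1
      have h2 : y ^ s = y ^ s' := by
        have := congrArg (fun a : K => (a : Module.End F W)) hss
        simpa [yK] using this
      apply pow_injOn_Iio_orderOf (x := y)
      · rw [hord]; exact hs1.2
      · rw [hord]; exact hs1'.2
      · exact h2
  calc ((Finset.Ico 1 r).filter (fun s => aeval (y ^ s) g = 0)).card
      ≤ g'.roots.toFinset.card := h1
    _ ≤ Multiset.card g'.roots := Multiset.toFinset_card_le _
    _ ≤ g'.natDegree := Polynomial.card_roots' g'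
    _ ≤ g.natDegree := Polynomial.natDegree_map_le

/-- exponents with pairwise distinct minimal polynomials -/
theorem d2_exists_exponents [Nontrivial W] {y : Module.End F W} (hirr : d2_Irr y) {r : ℕ}
    (hr : r.Prime) (hy : y ^ r = 1) (hy1 : y ≠ 1) (u : ℕ)
    (hu : finrank F W * u ≤ r - 1) :
    ∃ s : Fin u → ℕ, (∀ l, 1 ≤ s l ∧ s l < r) ∧
      ∀ l l', l ≠ l' → Function.Injective (aeval (y ^ s l) (minpoly F (y ^ s l'))) := by
  classical
  have hipos : 0 < finrank F W := Module.finrank_pos
  have hnd : ∀ s ∈ Finset.Ico 1 r, ¬ r ∣ s := by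
    intro s hs hdvd
    have hs1 := Finset.mem_Ico.1 hs
    have := Nat.le_of_dvd (by omega) hdvd
    omega
  let f : ℕ → F[X] := fun s => minpoly F (y ^ s)
  have hfiber : ∀ b ∈ (Finset.Ico 1 r).image f,
      ((Finset.Ico 1 r).filter (fun a => f a = b)).card ≤ finrank F W := by
    intro b hb
    obtain ⟨s₀, hs₀, rfl⟩ := Finset.mem_image.1 hb
    have hdeg := d2_natDegree_minpoly hirr hr hy (hnd s₀ hs₀)
    have hne : f s₀ ≠ 0 := minpoly.ne_zero (LinearMap.isIntegral (y ^ s₀))
    have h1 := d2_card_roots_le hirr hr hy hy1 (f s₀) hne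
    rw [hdeg] at h1
    refine le_trans (Finset.card_le_card ?_) h1
    intro s hs
    rw [Finset.mem_filter] at hs ⊢
    refine ⟨hs.1, ?_⟩
    rw [← hs.2]
    exact minpoly.aeval F (y ^ s)
  have h1 := Finset.card_le_mul_card_image (f := f) (Finset.Ico 1 r) (finrank F W) hfiber
  rw [Nat.card_Ico] at h1
  have hu' : u ≤ ((Finset.Ico 1 r).image f).card := by
    by_contra hcon
    push Not at hcon
    have h2 : finrank F W * ((Finset.Ico 1 r).image f).card < finrank F W * u :=
      Nat.mul_lt_mul_of_pos_left hcon hipos
    omega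
  obtain ⟨T, hT, hTc⟩ := Finset.exists_subset_card_eq hu'
  let e : Fin u ≃ ↥T := (Finset.equivFinOfCardEq hTc).symm
  have hex : ∀ l : Fin u, ∃ s ∈ Finset.Ico 1 r, f s = (e l : F[X]) := by
    intro l
    have := hT (e l).2
    exact Finset.mem_image.1 this
  choose s hs hfs using hex
  refine ⟨s, fun l => ?_, fun l l' hll' => ?_⟩
  · have := Finset.mem_Ico.1 (hs l)
    exact this
  · rcases d2_zero_or_injective hirr (s l) (minpoly F (y ^ s l')) with h | h
    · exfalso
      have hdvd : minpoly F (y ^ s l) ∣ minpoly F (y ^ s l') := minpoly.dvd F _ h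
      have hd1 := d2_natDegree_minpoly hirr hr hy (hnd _ (hs l))
      have hd2 := d2_natDegree_minpoly hirr hr hy (hnd _ (hs l'))
      have hm1 := minpoly.monic (LinearMap.isIntegral (y ^ s l))
      have hm2 := minpoly.monic (LinearMap.isIntegral (y ^ s l'))
      have heq : minpoly F (y ^ s l) = minpoly F (y ^ s l') :=
        (Polynomial.eq_of_monic_of_dvd_of_natDegree_le hm1 hm2 hdvd (by rw [hd1, hd2])).symm
      have h2 : (e l : F[X]) = (e l' : F[X]) := by
        rw [← hfs l, ← hfs l']
        exact heq
      exact hll' (e.injective (Subtype.ext h2))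
    · exact h

end d2fd

end Cfsg.Agent.Lib.Helper48.Ti
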