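import Mathlib
import Cfsg.Prelude.Def_ClassicalGeometry
import Cfsg.Agent.Lib.Helper8.TiD2a
import Cfsg.Agent.Lib.Helper8.NdBak
import Cfsg.Agent.Lib.Helper13.Symp

/-!
# TI-D2 (S5955 hive): the block and the model space
-/

set_option autoImplicit false

namespace Cfsg.Agent.Lib.Helper48.Ti

open Polynomial Module Matrix
open Cfsg.Agent.Lib.Helper2.BG Cfsg.Agent.Lib.Helper99 Cfsg.Agent.Lib.Helper8.SpBlk

section d2block

variable {F : Type*} [Field F] [Fintype F] {p : ℕ} [Fact p.Prime] [CharP F p]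

/-- the irreducible block -/
theorem d2_exists_block (r : ℕ) [Fact r.Prime] (hr2 : r ≠ 2) (hrp : r ≠ p) (i' : ℕ)
    (hi : 2 * i' = orderOf ((Fintype.card F : ℕ) : ZMod r)) :
    ∃ y : Module.End F (Fin i' ⊕ Fin i' → F),
      (∀ a b, sympB (F := F) i' (y a) (y b) = sympB (F := F) i' a b) ∧
      y ^ r = 1 ∧ (∀ v, y v = v → v = 0) ∧ d2_Irr y := by
  have hdim := finrank_sympSpace (F := F) i'
  have hc : Cfsg.Agent.Lib.Helper4.NdH.cOf (orderOf ((Fintype.card F : ℕ) : ZMod r)) =
      orderOf ((Fintype.card F : ℕ) : ZMod r) := by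
    unfold Cfsg.Agent.Lib.Helper4.NdH.cOf
    rw [if_pos ⟨i', by omega⟩]
  obtain ⟨y, hy, hyr, hfpf⟩ := Cfsg.Agent.Lib.Helper8.NdBak.exists_fpf_isom p
    (sympB (F := F) i') (fun v => sympB_self i' v) (sympB_nd i') r hr2 hrp
    (by rw [hdim, hc, hi])
  refine ⟨y, hy, hyr, hfpf, ?_⟩
  intro Z hZ
  have hZfpf : Z ⊓ LinearMap.ker ((y : Module.End F (Fin i' ⊕ Fin i' → F)) - 1) = ⊥ := by
    rw [eq_bot_iff]
    intro v hv
    rw [Submodule.mem_bot]
    apply hfpf v
    have := LinearMap.mem_ker.1 hv.2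
    rwa [LinearMap.sub_apply, Module.End.one_apply, sub_eq_zero] at this
  have hdvd := ord_dvd_finrank (p := p) hrp hyr hZ hZfpf
  have hle : finrank F Z ≤ 2 * i' := by
    rw [← hdim]
    exact Submodule.finrank_le Z
  rw [← hi] at hdvd
  obtain ⟨c, hc⟩ := hdvd
  rcases Nat.eq_zero_or_pos c with h0 | hpos
  · left
    rw [h0, mul_zero] at hc
    exact Submodule.finrank_eq_zero.1 hc
  · right
    apply Submodule.eq_top_of_finrank_eq
    rw [hdim]
    have : 2 * i' ≤ 2 * i' * c := Nat.le_mul_of_pos_right _ hpos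
    omega

end d2block

section d2model

variable {F : Type*} [Field F] (i' u k : ℕ)

/-- the form on the model space -/
noncomputable def d2_form :
    LinearMap.BilinForm F ((Fin u → (Fin i' ⊕ Fin i' → F)) × (Fin k ⊕ Fin k → F)) :=
  (∑ l : Fin u, (sympB (F := F) i').compl₁₂
      ((LinearMap.proj (R := F) (φ := fun _ : Fin u => (Fin i' ⊕ Fin i' → F)) l).comp
        (LinearMap.fst F (Fin u → (Fin i' ⊕ Fin i' → F)) (Fin k ⊕ Fin k → F)))
      ((LinearMap.proj (R := F) (φ := fun _ : Fin u => (Fin i' ⊕ Fin i' → F)) l).comp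
        (LinearMap.fst F (Fin u → (Fin i' ⊕ Fin i' → F)) (Fin k ⊕ Fin k → F))))
    + (sympB (F := F) k).compl₁₂
      (LinearMap.snd F (Fin u → (Fin i' ⊕ Fin i' → F)) (Fin k ⊕ Fin k → F))
      (LinearMap.snd F (Fin u → (Fin i' ⊕ Fin i' → F)) (Fin k ⊕ Fin k → F))

theorem d2_form_apply (m m' : (Fin u → (Fin i' ⊕ Fin i' → F)) × (Fin k ⊕ Fin k → F)) :
    d2_form i' u k m m' =
      ∑ l : Fin u, sympB (F := F) i' (m.1 l) (m'.1 l) + sympB (F := F) k m.2 m'.2 := by
  simp [d2_form, LinearMap.sum_apply]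

theorem d2_form_isAlt : (d2_form (F := F) i' u k).IsAlt := by
  intro m
  rw [d2_form_apply, sympB_self, add_zero]
  apply Finset.sum_eq_zero
  intro l _
  exact sympB_self i' _

theorem d2_form_nondegenerate : (d2_form (F := F) i' u k).Nondegenerate := by
  classical
  have hleft : ∀ m, (∀ m', d2_form (F := F) i' u k m m' = 0) → m = 0 := by
    intro m hm
    apply Prod.ext
    · funext l
      apply sympB_nd i' (m.1 l) Submodule.mem_top
      intro w _
      have h1 := hm (Pi.single l w, 0)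
      rw [d2_form_apply] at h1
      simp only [map_zero, add_zero] at h1
      rw [Finset.sum_eq_single l] at h1
      · simpa using h1
      · intro l' _ hl'
        rw [Pi.single_eq_of_ne hl', map_zero]
      · intro h
        exact absurd (Finset.mem_univ l) h
    · apply sympB_nd k m.2 Submodule.mem_top
      intro b _
      have h1 := hm (0, b)
      rw [d2_form_apply] at h1
      simpa using h1
  refine ⟨hleft, fun m hm => hleft m (fun m' => ?_)⟩
  rw [alt_swap (d2_form_isAlt i' u k), hm m', neg_zero]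

end d2model

end Cfsg.Agent.Lib.Helper48.Ti
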