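import Mathlib
import Cfsg.Prelude.Def_ClassicalGeometry
import Cfsg.Agent.Lib.Helper8.TiD2b

/-!
# TI-D2 (S5955 hive): an element of order `r` with `u` pairwise non-isomorphic nondegenerate
irreducible blocks
-/

set_option autoImplicit false
set_option maxHeartbeats 800000

namespace Cfsg.Agent.Lib.Helper48.Ti

open Polynomial Module Matrix
open Cfsg.Agent.Lib.Helper2.BG Cfsg.Agent.Lib.Helper99 Cfsg.Agent.Lib.Helper8.SpBlk

section d2aux

variable {F : Type*} [Field F] {W : Type*} [AddCommGroup W] [Module F W]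

theorem d2_injective_prod {ι : Type*} (T : Module.End F W) (f : ι → F[X]) (S : Finset ι)
    (h : ∀ l ∈ S, Function.Injective (aeval T (f l))) :
    Function.Injective (aeval T (∏ l ∈ S, f l)) := by
  classical
  induction S using Finset.induction_on with
  | empty =>
    rw [Finset.prod_empty, map_one]
    exact fun a b hab => hab
  | insert a S ha ih =>
    rw [Finset.prod_insert ha, map_mul]
    have h1 := h a (Finset.mem_insert_self a S)
    have h2 := ih (fun l hl => h l (Finset.mem_insert_of_mem hl))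
    intro v w hvw
    rw [Module.End.mul_apply, Module.End.mul_apply] at hvw
    exact h2 (h1 hvw)

theorem d2_pow_pow_eq {y : Module.End F W} {r : ℕ} (hr : r.Prime) (hy : y ^ r = 1) {s : ℕ}
    (hs : ¬ r ∣ s) : ∃ m : ℕ, (y ^ s) ^ m = y := by
  have hcop : Nat.Coprime s r := (Nat.Prime.coprime_iff_not_dvd hr).2 hs |>.symm
  obtain ⟨m, _, hm⟩ := Nat.exists_mul_mod_eq_one_of_coprime hcop hr.one_lt
  refine ⟨m, ?_⟩
  rw [← pow_mul]
  have h2 := Nat.div_add_mod (s * m) r
  rw [hm] at h2
  rw [← h2, pow_add, pow_mul, hy, one_pow, one_mul, pow_one]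

end d2aux

section concrete

variable {F : Type*} [Field F]

/-- TI-D2: an element of order `r` with `u` pairwise non-isomorphic nondegenerate irreducible
blocks (`i` even) -/
theorem exists_multfree_elt [Fintype F] {p : ℕ} [Fact p.Prime] [CharP F p] (d : ℕ) (r : ℕ)
    [Fact r.Prime] (hr2 : r ≠ 2) (hrp : r ≠ p) (i u : ℕ)
    (hi : i = orderOf ((Fintype.card F : ℕ) : ZMod r)) (hie : Even i) (hu1 : 1 ≤ u)
    (hut : u ≤ (r - 1) / i) (hud : i * u ≤ 2 * d) :
    ∃ x : ↥(Matrix.symplecticGroup (Fin d) F),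
      ((x ^ r : ↥(Matrix.symplecticGroup (Fin d) F)) :
        Matrix (Fin d ⊕ Fin d) (Fin d ⊕ Fin d) F) = 1 ∧
      (∀ z : F, (x : Matrix (Fin d ⊕ Fin d) (Fin d ⊕ Fin d) F) ≠
        z • (1 : Matrix (Fin d ⊕ Fin d) (Fin d ⊕ Fin d) F)) ∧
      ∀ U : Submodule F (Fin d ⊕ Fin d → F),
        U.map (Matrix.toLin' (x : Matrix (Fin d ⊕ Fin d) (Fin d ⊕ Fin d) F)) ≤ U →
        (∀ a ∈ U, ∀ b ∈ U, Cfsg.sympForm d F a b = 0) →
        2 * finrank F U + i * u ≤ 2 * d := by
  classical
  have hr : r.Prime := Fact.out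
  obtain ⟨i', hi'⟩ := hie
  have hipos : 0 < i := by
    rw [hi]
    exact orderOf_pos_of_ne (p := p) hrp
  have hi'1 : 1 ≤ i' := by omega
  have hi2 : 2 * i' = orderOf ((Fintype.card F : ℕ) : ZMod r) := by
    rw [← hi]
    omega
  obtain ⟨y, hyiso, hyr, hyfpf, hyirr⟩ := d2_exists_block (p := p) r hr2 hrp i' hi2
  have hW₀dim : finrank F (Fin i' ⊕ Fin i' → F) = i := by
    rw [finrank_sympSpace]
    omega
  have hpos₀ : 0 < finrank F (Fin i' ⊕ Fin i' → F) := by
    rw [hW₀dim]
    exact hipos
  have : Nontrivial (Fin i' ⊕ Fin i' → F) := Module.nontrivial_of_finrank_pos hpos₀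
  have hy1 : y ≠ 1 := by
    intro h
    obtain ⟨v, hv⟩ := exists_ne (0 : Fin i' ⊕ Fin i' → F)
    exact hv (hyfpf v (by rw [h]; rfl))
  have hle : finrank F (Fin i' ⊕ Fin i' → F) * u ≤ r - 1 := by
    rw [hW₀dim]
    calc i * u ≤ i * ((r - 1) / i) := Nat.mul_le_mul_left _ hut
      _ ≤ r - 1 := Nat.mul_div_le _ _
  obtain ⟨s, hs, hsinj⟩ := d2_exists_exponents hyirr hr hyr hy1 u hle
  have hsnd : ∀ l, ¬ r ∣ s l := by
    intro l h
    have h1 := Nat.le_of_dvd (by have := (hs l).1; omega) h
    have := (hs l).2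
    omega
  have hYiso : ∀ (l : Fin u) (a b : Fin i' ⊕ Fin i' → F),
      sympB (F := F) i' ((y ^ s l) a) ((y ^ s l) b) = sympB (F := F) i' a b :=
    fun l => iso_pow hyiso (s l)
  have hYr : ∀ l : Fin u, (y ^ s l) ^ r = 1 := by
    intro l
    rw [← pow_mul, mul_comm, pow_mul, hyr, one_pow]
  have hYne : ∀ l : Fin u, y ^ s l ≠ 1 := by
    intro l h
    obtain ⟨m, hm⟩ := d2_pow_pow_eq hr hyr (hsnd l)
    rw [h, one_pow] at hm
    exact hy1 hm.symm
  have hYsub : ∀ l : Fin u, Function.Injective (aeval (y ^ s l) (X - 1 : F[X])) := by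
    intro l
    rcases d2_zero_or_injective hyirr (s l) (X - 1 : F[X]) with h | h
    · exfalso
      apply hYne l
      rw [map_sub, aeval_X, map_one] at h
      exact sub_eq_zero.1 h
    · exact h
  have hYfpf : ∀ (l : Fin u) (v : Fin i' ⊕ Fin i' → F), (y ^ s l) v = v → v = 0 := by
    intro l v hv
    apply hYsub l
    rw [map_sub, aeval_X, map_one, LinearMap.sub_apply, Module.End.one_apply, hv, sub_self,
      map_zero]
  -- the model
  let E : Fin u → ((Fin i' ⊕ Fin i' → F) ≃ₗ[F] (Fin i' ⊕ Fin i' → F)) := fun l =>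
    LinearEquiv.ofLinearMap (y ^ s l) ((y ^ s l) ^ (r - 1))
      (LinearMap.ext fun v => pow_pred_apply hr.pos (hYr l) v)
      (LinearMap.ext fun v => pow_pred_apply' hr.pos (hYr l) v)
  have hE : ∀ l v, E l v = (y ^ s l) v := fun l v => rfl
  let XA : (Fin u → (Fin i' ⊕ Fin i' → F)) ≃ₗ[F] (Fin u → (Fin i' ⊕ Fin i' → F)) :=
    LinearEquiv.piCongrRight E
  have hXA : ∀ a l, XA a l = (y ^ s l) (a l) := fun a l => rfl
  set k := d - i' * u with hk
  have hiu : i * u = i' * u + i' * u := by rw [hi', add_mul]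
  have hkd : i' * u + k = d := by omega
  have halt := d2_form_isAlt (F := F) i' u k
  have hnd := d2_form_nondegenerate (F := F) i' u k
  have hfrA : finrank F (Fin u → (Fin i' ⊕ Fin i' → F)) = 2 * (i' * u) := by
    rw [Module.finrank_pi_fintype, Finset.sum_const, Finset.card_univ, Fintype.card_fin,
      smul_eq_mul, finrank_sympSpace]
    ring
  have hfr : finrank F ((Fin u → (Fin i' ⊕ Fin i' → F)) × (Fin k ⊕ Fin k → F)) = 2 * d := by
    rw [Module.finrank_prod, hfrA, finrank_sympSpace]
    omega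
  obtain ⟨Θ, hΘ⟩ := Cfsg.Agent.Lib.Helper8.exists_symp_coords_gen (d2_form (F := F) i' u k)
    halt hnd d hfr
  obtain ⟨x, hx, hxn, _, _, _⟩ := Cfsg.Agent.Lib.Helper8.SpExt.exists_of_model d
    (d2_form (F := F) i' u k)
    (by
      intro a b
      rw [d2_form_apply]
      simp)
    Θ hΘ XA
    (by
      intro m m'
      rw [d2_form_apply, d2_form_apply]
      simp only [hXA, hYiso])
    (by
      intro a
      have hsurj : ∀ l, Function.Surjective (aeval (y ^ s l) (X - 1 : F[X])) :=
        fun l => LinearMap.injective_iff_surjective.1 (hYsub l)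
      choose a' ha' using fun l => hsurj l (a l)
      refine ⟨a', ?_⟩
      funext l
      have := ha' l
      rw [map_sub, aeval_X, map_one, LinearMap.sub_apply, Module.End.one_apply] at this
      rw [Pi.sub_apply, hXA]
      exact this.symm)
    (i' * u) hfrA hfr
  have hxΘ : ∀ m, (x : Matrix (Fin d ⊕ Fin d) (Fin d ⊕ Fin d) F) *ᵥ (Θ m) = Θ (XA m.1, m.2) := by
    intro m
    have := hxn 1 (Θ m)
    rwa [pow_one, Function.iterate_one, LinearEquiv.symm_apply_apply] at this
  have hXAn : ∀ (n : ℕ) (a : Fin u → (Fin i' ⊕ Fin i' → F)) (l : Fin u),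
      ((⇑XA)^[n] a) l = ((y ^ s l) ^ n) (a l) := by
    intro n
    induction n with
    | zero => intro a l; simp
    | succ n ih =>
      intro a l
      rw [Function.iterate_succ_apply', hXA, ih, pow_succ', Module.End.mul_apply]
  have hxm : (x : Matrix (Fin d ⊕ Fin d) (Fin d ⊕ Fin d) F) ∈
      Matrix.symplecticGroup (Fin d) F :=
    Cfsg.Agent.Lib.Helper13.mem_symplectic_of_preserves d _
      ((Cfsg.Agent.Lib.Helper99.mem_spGL_iff d x).1 hx)
  refine ⟨⟨(x : Matrix (Fin d ⊕ Fin d) (Fin d ⊕ Fin d) F), hxm⟩, ?_, ?_, ?_⟩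
  · -- order
    rw [SubmonoidClass.coe_pow]
    show (x : Matrix (Fin d ⊕ Fin d) (Fin d ⊕ Fin d) F) ^ r = 1
    rw [← Units.val_pow_eq_pow_val, Matrix.ext_iff_mulVec]
    intro v
    rw [hxn, Matrix.one_mulVec]
    have h1 : (⇑XA)^[r] (Θ.symm v).1 = (Θ.symm v).1 := by
      funext l
      rw [hXAn, hYr]
      rfl
    rw [h1, Prod.mk.eta, LinearEquiv.apply_symm_apply]
  · -- not scalar
    intro z hz
    have hz' : (x : Matrix (Fin d ⊕ Fin d) (Fin d ⊕ Fin d) F) = z • 1 := hz
    have h1 : ∀ w : Fin i' ⊕ Fin i' → F, (y ^ s ⟨0, hu1⟩) w = z • w := by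
      intro w
      have h2 := hxΘ (Pi.single ⟨0, hu1⟩ w, 0)
      rw [hz', Matrix.smul_mulVec, Matrix.one_mulVec, ← map_smul] at h2
      have h3 := congrArg (fun m : (Fin u → (Fin i' ⊕ Fin i' → F)) × (Fin k ⊕ Fin k → F) =>
        m.1 ⟨0, hu1⟩) (Θ.injective h2)
      simp only [Prod.smul_mk, Pi.smul_apply, Pi.single_eq_same, hXA] at h3
      exact h3.symm
    obtain ⟨w, hw⟩ := exists_ne (0 : Fin i' ⊕ Fin i' → F)
    have hZ : Inv (y ^ s ⟨0, hu1⟩) (Submodule.span F {w}) := by
      intro v hv
      obtain ⟨c, rfl⟩ := Submodule.mem_span_singleton.1 hv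
      rw [h1]
      exact Submodule.smul_mem _ _ (Submodule.smul_mem _ _ (Submodule.mem_span_singleton_self w))
    rcases hyirr _ (d2_inv_of_pow hr hyr (hsnd _) hZ) with h | h
    · have : w ∈ (⊥ : Submodule F (Fin i' ⊕ Fin i' → F)) := by
        rw [← h]
        exact Submodule.mem_span_singleton_self w
      exact hw ((Submodule.mem_bot F).1 this)
    · have h2 := finrank_span_singleton (K := F) hw
      rw [h, finrank_top, hW₀dim] at h2
      omega
  · -- invariant totally isotropic subspaces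
    intro U hUinv hUti
    set ω := d2_form (F := F) i' u k with hω
    let U' : Submodule F ((Fin u → (Fin i' ⊕ Fin i' → F)) × (Fin k ⊕ Fin k → F)) :=
      U.comap (Θ : ((Fin u → (Fin i' ⊕ Fin i' → F)) × (Fin k ⊕ Fin k → F)) →ₗ[F]
        (Fin d ⊕ Fin d → F))
    have hU'mem : ∀ m, m ∈ U' ↔ Θ m ∈ U := fun m => Iff.rfl
    have hU'dim : finrank F U' = finrank F U := by
      have h1 : U' = U.map (Θ.symm : (Fin d ⊕ Fin d → F) →ₗ[F]
          ((Fin u → (Fin i' ⊕ Fin i' → F)) × (Fin k ⊕ Fin k → F))) :=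
        (Submodule.map_equiv_eq_comap_symm Θ.symm U).symm
      rw [h1, LinearEquiv.finrank_map_eq]
    let Tm : Module.End F ((Fin u → (Fin i' ⊕ Fin i' → F)) × (Fin k ⊕ Fin k → F)) :=
      LinearMap.prodMap (XA : (Fin u → (Fin i' ⊕ Fin i' → F)) →ₗ[F] _) LinearMap.id
    have hTm : ∀ m, Tm m = (XA m.1, m.2) := fun m => rfl
    have hU'inv : Inv Tm U' := by
      intro m hm
      rw [hU'mem, hTm, ← hxΘ, ← Matrix.toLin'_apply]
      exact hUinv (Submodule.mem_map_of_mem hm)
    have hU'ti : ∀ m ∈ U', ∀ m' ∈ U', ω m m' = 0 := by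
      intro m hm m' hm'
      rw [← hΘ]
      exact hUti _ hm _ hm'
    -- all components in the blocks vanish
    have hzero : ∀ m ∈ U', ∀ l, m.1 l = 0 := by
      intro m hm l
      set h : F[X] := (X - 1) * ∏ l' ∈ Finset.univ.erase l, minpoly F (y ^ s l') with hh
      have hm₁ : aeval Tm h m ∈ U' := hU'inv.aeval h m hm
      -- components
      have hcomp : ∀ l'', (aeval Tm h m).1 l'' = aeval (y ^ s l'') h (m.1 l'') := by
        intro l''
        exact d2_aeval_intertwine
          ((LinearMap.proj (R := F) (φ := fun _ : Fin u => (Fin i' ⊕ Fin i' → F)) l'').comp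
            (LinearMap.fst F (Fin u → (Fin i' ⊕ Fin i' → F)) (Fin k ⊕ Fin k → F)))
          Tm (y ^ s l'') (fun w => rfl) h m
      have hsnd' : (aeval Tm h m).2 = 0 := by
        have h1 := d2_aeval_intertwine
          (LinearMap.snd F (Fin u → (Fin i' ⊕ Fin i' → F)) (Fin k ⊕ Fin k → F))
          Tm (1 : Module.End F (Fin k ⊕ Fin k → F)) (fun w => rfl) h m
        have h2 : aeval (1 : Module.End F (Fin k ⊕ Fin k → F)) h = 0 := by
          rw [hh, map_mul, map_sub, aeval_X, map_one, sub_self, zero_mul]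
        rw [h2] at h1
        exact h1
      have hother : ∀ l'', l'' ≠ l → (aeval Tm h m).1 l'' = 0 := by
        intro l'' hl''
        rw [hcomp]
        have hdvd : minpoly F (y ^ s l'') ∣ h := by
          rw [hh]
          apply dvd_mul_of_dvd_right
          exact Finset.dvd_prod_of_mem (fun l' => minpoly F (y ^ s l'))
            (Finset.mem_erase.2 ⟨hl'', Finset.mem_univ _⟩)
        obtain ⟨Q, hQ⟩ := hdvd
        rw [hQ, mul_comm, map_mul, minpoly.aeval, mul_zero]
        rfl
      have hinjl : Function.Injective (aeval (y ^ s l) h) := by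
        rw [hh, map_mul]
        have h1 := hYsub l
        have h2 := d2_injective_prod (y ^ s l) (fun l' => minpoly F (y ^ s l'))
          (Finset.univ.erase l)
          (fun l' hl' => hsinj l l' (Finset.mem_erase.1 hl').1.symm)
        intro v w hvw
        rw [Module.End.mul_apply, Module.End.mul_apply] at hvw
        exact h2 (h1 hvw)
      -- the isolated component
      let ι : (Fin i' ⊕ Fin i' → F) →ₗ[F]
          ((Fin u → (Fin i' ⊕ Fin i' → F)) × (Fin k ⊕ Fin k → F)) :=
        (LinearMap.inl F (Fin u → (Fin i' ⊕ Fin i' → F)) (Fin k ⊕ Fin k → F)).comp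
          (LinearMap.single F (fun _ : Fin u => (Fin i' ⊕ Fin i' → F)) l)
      have hι : ∀ w, ι w = (Pi.single l w, 0) := fun w => rfl
      have hm₁eq : aeval Tm h m = ι ((aeval Tm h m).1 l) := by
        rw [hι]
        apply Prod.ext
        · funext l''
          by_cases hl'' : l'' = l
          · subst hl''
            simp
          · rw [hother l'' hl'']
            simp [Pi.single_eq_of_ne hl'']
        · exact hsnd'
      have hZinv : Inv (y ^ s l) (U'.comap ι) := by
        intro w hw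
        rw [Submodule.mem_comap] at hw ⊢
        have h1 : ι ((y ^ s l) w) = Tm (ι w) := by
          rw [hι, hι, hTm]
          apply Prod.ext
          · funext l''
            simp only [hXA]
            by_cases hl'' : l'' = l
            · subst hl''
              simp
            · simp [Pi.single_eq_of_ne hl'']
          · rfl
        rw [h1]
        exact hU'inv _ hw
      have hwZ : (aeval Tm h m).1 l ∈ U'.comap ι := by
        rw [Submodule.mem_comap, ← hm₁eq]
        exact hm₁
      rcases hyirr _ (d2_inv_of_pow hr hyr (hsnd l) hZinv) with hZ | hZ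
      · rw [hZ, Submodule.mem_bot, hcomp] at hwZ
        have := hinjl (hwZ.trans (map_zero _).symm)
        exact this
      · exfalso
        obtain ⟨w₁, hw₁⟩ := exists_ne (0 : Fin i' ⊕ Fin i' → F)
        have hex : ∃ w₂, sympB (F := F) i' w₁ w₂ ≠ 0 := by
          by_contra hcon
          push Not at hcon
          exact hw₁ (sympB_nd i' w₁ Submodule.mem_top (fun v _ => hcon v))
        obtain ⟨w₂, hw₂⟩ := hex
        have h1 : ι w₁ ∈ U' := by
          have : w₁ ∈ U'.comap ι := by rw [hZ]; exact Submodule.mem_top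
          exact this
        have h2 : ι w₂ ∈ U' := by
          have : w₂ ∈ U'.comap ι := by rw [hZ]; exact Submodule.mem_top
          exact this
        have h3 := hU'ti _ h1 _ h2
        rw [hω, d2_form_apply, hι, hι] at h3
        simp only [map_zero, add_zero] at h3
        rw [Finset.sum_eq_single l] at h3
        · apply hw₂
          simpa using h3
        · intro l' _ hl'
          rw [Pi.single_eq_of_ne hl', map_zero, LinearMap.zero_apply]
        · intro hcon
          exact absurd (Finset.mem_univ l) hcon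
    -- the dimension bound
    let A₀ : Submodule F ((Fin u → (Fin i' ⊕ Fin i' → F)) × (Fin k ⊕ Fin k → F)) :=
      LinearMap.range (LinearMap.inl F (Fin u → (Fin i' ⊕ Fin i' → F)) (Fin k ⊕ Fin k → F))
    have hA₀dim : finrank F A₀ = 2 * (i' * u) := by
      rw [LinearMap.finrank_range_of_inj LinearMap.inl_injective, hfrA]
    have hdisj : Disjoint U' A₀ := by
      rw [Submodule.disjoint_def]
      rintro m hm ⟨a, rfl⟩
      have h1 := hzero _ hm
      apply Prod.ext
      · funext l
        exact h1 l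
      · rfl
    have hle' : U' ≤ ω.orthogonal (U' ⊔ A₀) := by
      intro m hm
      refine mem_orth.2 (fun n hn => ?_)
      obtain ⟨n₁, hn₁, n₂, ⟨a, rfl⟩, rfl⟩ := Submodule.mem_sup.1 hn
      rw [map_add, LinearMap.add_apply, hU'ti n₁ hn₁ m hm, zero_add, hω, d2_form_apply]
      have h1 := hzero m hm
      simp only [LinearMap.inl_apply, h1, map_zero, Finset.sum_const_zero, LinearMap.zero_apply,
        add_zero]
    have h1 := Submodule.finrank_mono hle'
    rw [LinearMap.BilinForm.finrank_orthogonal hnd, hfr, finrank_sup_of_disjoint' _ _ hdisj,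
      hA₀dim, hU'dim] at h1
    have h2 : finrank F U + 2 * (i' * u) ≤ 2 * d := by
      have h3 := Submodule.finrank_le (U' ⊔ A₀)
      rw [hfr, finrank_sup_of_disjoint' _ _ hdisj, hA₀dim, hU'dim] at h3
      exact h3
    omega

end concrete

end Cfsg.Agent.Lib.Helper48.Ti
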