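import Mathlib

set_option autoImplicit false

namespace Cfsg.Agent.Lib.Helper8

open Module

variable {F V : Type*} [Field F] [AddCommGroup V] [Module F V]

theorem herm_expand (σ : F →+* F) (B : V →ₛₗ[σ] V →ₗ[F] F) (u v p w : V) (α γ β δ : F) :
    B (u + α • p + γ • w) (v + β • p + δ • w) =
      B u v + β * B u p + δ * B u w + σ α * B p v + σ α * β * B p p + σ α * δ * B p w
        + σ γ * B w v + σ γ * β * B w p + σ γ * δ * B w w := by
  simp only [map_add, map_smulₛₗ, LinearMap.add_apply, LinearMap.smul_apply, smul_eq_mul,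
    RingHom.id_apply]
  ring

/-- an element of trace one -/
theorem exists_trace_one (σ : F →+* F) (hσ : σ ≠ RingHom.id F) (hσ2 : ∀ a : F, σ (σ a) = a) :
    ∃ θ : F, θ + σ θ = 1 := by
  by_cases h2 : (2 : F) = 0
  · have : ∃ a : F, σ a ≠ a := by
      by_contra hcon
      push Not at hcon
      exact hσ (RingHom.ext hcon)
    obtain ⟨a, ha⟩ := this
    have hneg : ∀ b : F, -b = b := by
      intro b
      have : b + b = 0 := by rw [← two_mul, h2, zero_mul]
      exact neg_eq_of_add_eq_zero_left this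
    have ht : a + σ a ≠ 0 := by
      intro h
      apply ha
      have := eq_neg_of_add_eq_zero_right h
      rw [this, hneg]
    refine ⟨a / (a + σ a), ?_⟩
    rw [map_div₀, map_add, hσ2, add_comm (σ a) a, ← add_div, div_self ht]
  · refine ⟨2⁻¹, ?_⟩
    rw [map_inv₀, map_ofNat, ← two_mul, mul_inv_cancel₀ h2]

theorem exists_trace_eq (σ : F →+* F) (hσ : σ ≠ RingHom.id F) (hσ2 : ∀ a : F, σ (σ a) = a)
    (r : F) (hr : σ r = r) : ∃ c : F, c + σ c = r := by
  obtain ⟨θ, hθ⟩ := exists_trace_one σ hσ hσ2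
  refine ⟨r * θ, ?_⟩
  rw [map_mul, hr, ← mul_add, hθ, mul_one]

/-- a linear map preserving `B` nondegenerate is injective -/
theorem injective_of_herm_preserving (σ : F →+* F) (B : V →ₛₗ[σ] V →ₗ[F] F)
    (hB : B.Nondegenerate) (g : V →ₗ[F] V)
    (hg : ∀ u v, B (g u) (g v) = B u v) : Function.Injective g := by
  rw [injective_iff_map_eq_zero]
  intro v hv
  apply hB.1
  intro u
  rw [← hg, hv]
  simp

variable [FiniteDimensional F V]

/-- the equivalence attached to a `B`-preserving linear map -/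
noncomputable def hermEquiv (σ : F →+* F) (B : V →ₛₗ[σ] V →ₗ[F] F)
    (hB : B.Nondegenerate) (g : V →ₗ[F] V)
    (hg : ∀ u v, B (g u) (g v) = B u v) : V ≃ₗ[F] V :=
  LinearEquiv.ofInjectiveEndo g (injective_of_herm_preserving σ B hB g hg)

theorem hermEquiv_apply (σ : F →+* F) (B : V →ₛₗ[σ] V →ₗ[F] F)
    (hB : B.Nondegenerate) (g : V →ₗ[F] V)
    (hg : ∀ u v, B (g u) (g v) = B u v) (v : V) : hermEquiv σ B hB g hg v = g v := by
  simp [hermEquiv]

/-- Riesz representation for a nondegenerate sesquilinear form -/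
theorem herm_riesz (σ : F →+* F) (hσ2 : ∀ a : F, σ (σ a) = a) (B : V →ₛₗ[σ] V →ₗ[F] F)
    (hB : B.Nondegenerate) (l : Module.Dual F V) : ∃ u : V, ∀ v, B u v = l v := by
  classical
  let b := Module.finBasis F V
  have hsum : ∀ c : Fin (finrank F V) → F, ∑ i, c i • B (b i) = B (∑ i, σ (c i) • b i) := by
    intro c
    rw [map_sum]
    refine Finset.sum_congr rfl (fun i _ => ?_)
    rw [map_smulₛₗ, hσ2]
  have hli : LinearIndependent F (fun i => B (b i)) := by
    rw [Fintype.linearIndependent_iff]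
    intro c hc i
    rw [hsum] at hc
    have h0 : ∑ i, σ (c i) • b i = 0 := by
      apply hB.1
      intro v
      rw [hc]; rfl
    have := Fintype.linearIndependent_iff.1 b.linearIndependent _ h0 i
    exact (map_eq_zero σ).1 this
  have hspan := hli.span_eq_top_of_card_eq_finrank' (by
    rw [Fintype.card_fin, Subspace.dual_finrank_eq])
  have hl : l ∈ Submodule.span F (Set.range (fun i => B (b i))) := by
    rw [hspan]; trivial
  obtain ⟨c, hc⟩ := (Submodule.mem_span_range_iff_exists_fun F).1 hl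
  refine ⟨∑ i, σ (c i) • b i, fun v => ?_⟩
  rw [← hsum, hc]

/-- separation: a vector outside a subspace is detected by the orthogonal complement -/
theorem herm_exists_orth_of_notMem (σ : F →+* F) (hσ2 : ∀ a : F, σ (σ a) = a)
    (B : V →ₛₗ[σ] V →ₗ[F] F) (hB : B.Nondegenerate) (X : Submodule F V) (x : V) (hx : x ∉ X) :
    ∃ u : V, (∀ x' ∈ X, B u x' = 0) ∧ B u x ≠ 0 := by
  obtain ⟨l, hlx, hlX⟩ := Submodule.exists_dual_map_eq_bot_of_notMem hx inferInstance
  obtain ⟨u, hu⟩ := herm_riesz σ hσ2 B hB l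
  refine ⟨u, ?_, ?_⟩
  · intro x' hx'
    rw [hu]
    have : l x' ∈ X.map l := ⟨x', hx', rfl⟩
    rw [hlX] at this
    exact (Submodule.mem_bot F).1 this
  · rw [hu]; exact hlx

/-- the quasi-reflection step -/
theorem witt_refl_step_herm (σ : F →+* F)
    (B : V →ₛₗ[σ] V →ₗ[F] F) (hS : B.IsSymm) (hB : B.Nondegenerate)
    (X : Submodule F V) (x y : V) (hxy : ∀ x' ∈ X, B y x' = B x x')
    (hBxy : B y y = B x x) (hne : B (x - y) x ≠ 0) :
    ∃ h : V ≃ₗ[F] V, (∀ u v, B (h u) (h v) = B u v) ∧ (∀ x' ∈ X, h x' = x') ∧ h x = y := by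
  have hsym : ∀ u v, σ (B u v) = B v u := hS.eq
  obtain ⟨p, hp⟩ : ∃ p : V, p = x - y := ⟨_, rfl⟩
  rw [← hp] at hne
  obtain ⟨c, hc⟩ : ∃ c : F, c = B p x := ⟨_, rfl⟩
  rw [← hc] at hne
  have hσc : σ c = B x p := by rw [hc, hsym]
  have hσc0 : σ c ≠ 0 := (map_ne_zero σ).2 hne
  have hpp : B p p = c + σ c := by
    rw [hσc, hc, hp]
    simp only [map_sub, LinearMap.sub_apply, hBxy]
    ring
  let g : V →ₗ[F] V := LinearMap.id + (-c⁻¹) • (B p).smulRight p
  have hg_apply : ∀ v, g v = v + (-c⁻¹ * B p v) • p := by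
    intro v
    simp only [g, LinearMap.add_apply, LinearMap.id_apply, LinearMap.smul_apply,
      LinearMap.smulRight_apply, smul_smul]
  have hg : ∀ u v, B (g u) (g v) = B u v := by
    intro u v
    rw [hg_apply, hg_apply]
    have := herm_expand σ B u v p 0 (-c⁻¹ * B p u) 0 (-c⁻¹ * B p v) 0
    simp only [zero_smul, add_zero, mul_zero, zero_mul, map_zero] at this
    rw [this, hpp, map_mul, hsym, map_neg, map_inv₀]
    field_simp
    ring
  refine ⟨hermEquiv σ B hB g hg, fun u v => by rw [hermEquiv_apply, hermEquiv_apply]; exact hg u v,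
    ?_, ?_⟩
  · intro x' hx'
    rw [hermEquiv_apply, hg_apply]
    have : B p x' = 0 := by
      rw [hp, map_sub, LinearMap.sub_apply, hxy x' hx', sub_self]
    rw [this, mul_zero, zero_smul, add_zero]
  · rw [hermEquiv_apply, hg_apply, ← hc, neg_mul, inv_mul_cancel₀ hne, neg_smul, one_smul, hp]
    abel

/-- the one-step extension lemma for hermitian forms -/
theorem witt_step_herm (σ : F →+* F) (hσ : σ ≠ RingHom.id F) (hσ2 : ∀ a : F, σ (σ a) = a)
    (B : V →ₛₗ[σ] V →ₗ[F] F) (hS : B.IsSymm) (hB : B.Nondegenerate)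
    (X : Submodule F V) (x y : V) (hx : x ∉ X) (hy : y ∉ X)
    (hxy : ∀ x' ∈ X, B y x' = B x x') (hBxy : B y y = B x x) :
    ∃ h : V ≃ₗ[F] V, (∀ u v, B (h u) (h v) = B u v) ∧ (∀ x' ∈ X, h x' = x') ∧ h x = y := by
  have hsym : ∀ u v, σ (B u v) = B v u := hS.eq
  by_cases hne : B (x - y) x = 0
  swap
  · exact witt_refl_step_herm σ B hS hB X x y hxy hBxy hne
  obtain ⟨p, hp⟩ : ∃ p : V, p = x - y := ⟨_, rfl⟩
  rw [← hp] at hne
  have hyp : y = x - p := by rw [hp]; abel
  have hpX : ∀ x' ∈ X, B p x' = 0 := by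
    intro x' hx'
    rw [hp, map_sub, LinearMap.sub_apply, hxy x' hx', sub_self]
  have hXp : ∀ x' ∈ X, B x' p = 0 := by
    intro x' hx'
    rw [← hsym, hpX x' hx', map_zero]
  have hxp : B x p = 0 := by rw [← hsym, hne, map_zero]
  have hpp : B p p = 0 := by
    have : B p p = B p x + B x p := by
      rw [hp]
      simp only [map_sub, LinearMap.sub_apply, hBxy]
      ring
    rw [this, hne, hxp, add_zero]
  by_cases hmem : x ∈ X ⊔ Submodule.span F {p}
  · -- two quasi-reflections
    obtain ⟨x1, hx1, p', hp', hsum⟩ := Submodule.mem_sup.1 hmem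
    obtain ⟨d, rfl⟩ := Submodule.mem_span_singleton.1 hp'
    have hy1 : y = x1 + (d - 1) • p := by
      rw [hyp, ← hsum, sub_smul, one_smul]; abel
    have hd0 : d ≠ 0 := by
      rintro rfl
      apply hx
      rw [← hsum, zero_smul, add_zero]; exact hx1
    have hd1 : d - 1 ≠ 0 := by
      intro h
      apply hy
      rw [hy1, h, zero_smul, add_zero]; exact hx1
    have hpnX : p ∉ X := by
      intro h
      apply hx
      rw [← hsum]
      exact X.add_mem hx1 (X.smul_mem d h)
    obtain ⟨q0, hq0X, hq0p⟩ := herm_exists_orth_of_notMem σ hσ2 B hB X p hpnX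
    -- normalize
    obtain ⟨q1, hq1⟩ : ∃ q1 : V, q1 = σ ((B q0 p)⁻¹) • q0 := ⟨_, rfl⟩
    have hq1p : B q1 p = 1 := by
      rw [hq1, map_smulₛₗ, hσ2, LinearMap.smul_apply, smul_eq_mul, inv_mul_cancel₀ hq0p]
    have hpq1 : B p q1 = 1 := by rw [← hsym, hq1p, map_one]
    have hq1X : ∀ x' ∈ X, B q1 x' = 0 := by
      intro x' hx'
      rw [hq1, map_smulₛₗ, LinearMap.smul_apply, hq0X x' hx', smul_zero]
    obtain ⟨a, ha⟩ := exists_trace_eq σ hσ hσ2 (-(B q1 q1)) (by rw [map_neg, hsym])
    obtain ⟨q, hq⟩ : ∃ q : V, q = q1 + a • p := ⟨_, rfl⟩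
    have hqq : B q q = 0 := by
      have := herm_expand σ B q1 q1 p 0 a 0 a 0
      simp only [zero_smul, add_zero, mul_zero, zero_mul, map_zero] at this
      rw [hq, this, hpp, hq1p, hpq1]
      linear_combination ha
    have hqp : B q p = 1 := by
      rw [hq, map_add, map_smulₛₗ, LinearMap.add_apply, LinearMap.smul_apply, hpp, hq1p]; simp
    have hpq : B p q = 1 := by rw [← hsym, hqp, map_one]
    have hqX : ∀ x' ∈ X, B q x' = 0 := by
      intro x' hx'
      rw [hq, map_add, map_smulₛₗ, LinearMap.add_apply, LinearMap.smul_apply, hq1X x' hx',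
        hpX x' hx']; simp
    have hXq : ∀ x' ∈ X, B x' q = 0 := by
      intro x' hx'
      rw [← hsym, hqX x' hx', map_zero]
    obtain ⟨z, hz⟩ : ∃ z : V, z = x1 + q := ⟨_, rfl⟩
    have hzX : ∀ x' ∈ X, B z x' = B x x' := by
      intro x' hx'
      rw [hz, ← hsum]
      simp only [map_add, map_smulₛₗ, LinearMap.add_apply, LinearMap.smul_apply, hqX x' hx',
        hpX x' hx']
      simp
    have hBx : B x x = B x1 x1 := by
      have := herm_expand σ B x1 x1 p 0 d 0 d 0
      simp only [zero_smul, add_zero, mul_zero, zero_mul, map_zero] at this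
      rw [← hsum, this, hpp, hpX x1 hx1, hXp x1 hx1]; ring
    have hBz : B z z = B x x := by
      have := herm_expand σ B x1 x1 q 0 1 0 1 0
      simp only [zero_smul, add_zero, mul_zero, zero_mul, map_zero, one_smul] at this
      rw [hz, this, hqq, hqX x1 hx1, hXq x1 hx1, hBx]; ring
    have hxz : x - z = 0 + d • p + (-1 : F) • q := by
      rw [hz, ← hsum]; simp only [neg_smul, one_smul]; abel
    have hzy : z - y = 0 + (-(d - 1)) • p + (1 : F) • q := by
      rw [hz, hy1]; simp only [neg_smul, one_smul]; abel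
    have hxe : x = x1 + d • p + (0 : F) • q := by rw [zero_smul, add_zero, hsum]
    have hze : z = x1 + (0 : F) • p + (1 : F) • q := by rw [zero_smul, add_zero, one_smul, hz]
    have hBxz : B (x - z) x ≠ 0 := by
      have e : B (x - z) x = -d := by
        have e1 := herm_expand σ B 0 x1 p q d (-1) d 0
        rw [← hxz, ← hxe] at e1
        rw [e1, hpp, hqp, hpq, hqq, hpX x1 hx1, hqX x1 hx1]
        simp
      rw [e]; exact neg_ne_zero.2 hd0
    have hBzy : B (z - y) z ≠ 0 := by
      have e : B (z - y) z = -σ (d - 1) := by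
        have e1 := herm_expand σ B 0 x1 p q (-(d - 1)) 1 0 1
        rw [← hzy, ← hze] at e1
        rw [e1, hpp, hqp, hpq, hqq, hpX x1 hx1, hqX x1 hx1]
        simp
      rw [e]; exact neg_ne_zero.2 ((map_ne_zero σ).2 hd1)
    obtain ⟨h1, h1Q, h1X, h1x⟩ := witt_refl_step_herm σ B hS hB X x z hzX hBz hBxz
    obtain ⟨h2, h2Q, h2X, h2z⟩ := witt_refl_step_herm σ B hS hB X z y
      (fun x' hx' => by rw [hxy x' hx', hzX x' hx']) (by rw [hBxy, hBz]) hBzy
    refine ⟨h1.trans h2, ?_, ?_, ?_⟩
    · intro u v; rw [LinearEquiv.trans_apply, LinearEquiv.trans_apply, h2Q, h1Q]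
    · intro x' hx'; rw [LinearEquiv.trans_apply, h1X x' hx', h2X x' hx']
    · rw [LinearEquiv.trans_apply, h1x, h2z]
  · -- Siegel transformation
    obtain ⟨w0, hw0X, hw0x⟩ := herm_exists_orth_of_notMem σ hσ2 B hB _ x hmem
    obtain ⟨w, hw⟩ : ∃ w : V, w = σ (-(B w0 x)⁻¹) • w0 := ⟨_, rfl⟩
    have hwx : B w x = -1 := by
      rw [hw, map_smulₛₗ, hσ2, LinearMap.smul_apply, smul_eq_mul, neg_mul, inv_mul_cancel₀ hw0x]
    have hwX : ∀ x' ∈ X, B w x' = 0 := by
      intro x' hx'
      rw [hw, map_smulₛₗ, LinearMap.smul_apply, hw0X x' (Submodule.mem_sup_left hx'), smul_zero]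
    have hwp : B w p = 0 := by
      rw [hw, map_smulₛₗ, LinearMap.smul_apply,
        hw0X p (Submodule.mem_sup_right (Submodule.mem_span_singleton_self p)), smul_zero]
    have hpw : B p w = 0 := by rw [← hsym, hwp, map_zero]
    obtain ⟨c, hc⟩ := exists_trace_eq σ hσ hσ2 (-(B w w)) (by rw [map_neg, hsym])
    let g : V →ₗ[F] V := LinearMap.id + (B w + c • B p).smulRight p
      - (B p).smulRight w
    have hg_apply : ∀ v, g v = v + (B w v + c * B p v) • p + (-(B p v)) • w := by
      intro v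
      simp only [g, LinearMap.sub_apply, LinearMap.add_apply, LinearMap.id_apply,
        LinearMap.smul_apply, LinearMap.smulRight_apply, smul_eq_mul, neg_smul]
      abel
    have hg : ∀ u v, B (g u) (g v) = B u v := by
      intro u v
      rw [hg_apply, hg_apply, herm_expand, hpp, hpw, hwp]
      simp only [map_add, map_mul, map_neg, hsym]
      linear_combination (B u p * B p v) * hc
    refine ⟨hermEquiv σ B hB g hg,
      fun u v => by rw [hermEquiv_apply, hermEquiv_apply]; exact hg u v, ?_, ?_⟩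
    · intro x' hx'
      rw [hermEquiv_apply, hg_apply, hwX x' hx', hpX x' hx']
      simp
    · rw [hermEquiv_apply, hg_apply, hwx, hne, hyp]
      simp only [mul_zero, add_zero, neg_zero, zero_smul, neg_smul, one_smul]
      abel

/-- Witt's lemma for families, hermitian forms -/
theorem witt_family_herm (σ : F →+* F) (hσ : σ ≠ RingHom.id F) (hσ2 : ∀ a : F, σ (σ a) = a)
    (B : V →ₛₗ[σ] V →ₗ[F] F) (hS : B.IsSymm) (hB : B.Nondegenerate) :
    ∀ (n : ℕ) (x y : Fin n → V), LinearIndependent F x → LinearIndependent F y →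
      (∀ i j, B (y i) (y j) = B (x i) (x j)) →
      ∃ g : V ≃ₗ[F] V, (∀ u v, B (g u) (g v) = B u v) ∧ ∀ i, g (x i) = y i := by
  intro n
  induction n with
  | zero =>
    intro x y _ _ _
    exact ⟨LinearEquiv.refl F V, fun _ _ => rfl, fun i => i.elim0⟩
  | succ n ih =>
    intro x y hx hy hxy
    rw [linearIndependent_finSucc'] at hx hy
    obtain ⟨g', hg'iso, hg'⟩ := ih (Fin.init x) (Fin.init y) hx.1 hy.1
      (fun i j => hxy i.castSucc j.castSucc)
    set X : Submodule F V := Submodule.span F (Set.range (Fin.init x)) with hX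
    set y' := g'.symm (y (Fin.last n)) with hy'
    have hg'y' : g' y' = y (Fin.last n) := by rw [hy']; exact g'.apply_symm_apply _
    have hy'X : y' ∉ X := by
      intro hmem
      apply hy.2
      have : g' y' ∈ Submodule.map (g' : V →ₗ[F] V) X := ⟨y', hmem, rfl⟩
      rw [hX, Submodule.map_span] at this
      rw [← hg'y']
      refine Submodule.span_mono ?_ this
      rintro _ ⟨_, ⟨i, rfl⟩, rfl⟩
      exact ⟨i, (hg' i).symm⟩
    have hcond : ∀ x' ∈ X, B y' x' = B (x (Fin.last n)) x' := by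
      intro x' hx'
      induction hx' using Submodule.span_induction with
      | mem z hz =>
        obtain ⟨i, rfl⟩ := hz
        have : B y' (Fin.init x i) = B (g' y') (g' (Fin.init x i)) := (hg'iso _ _).symm
        rw [this, hg'y', hg' i]
        exact hxy (Fin.last n) i.castSucc
      | zero => simp
      | add a b _ _ ha hb => rw [map_add, map_add, ha, hb]
      | smul c a _ ha => rw [map_smul, map_smul, ha]
    have hBy' : B y' y' = B (x (Fin.last n)) (x (Fin.last n)) := by
      rw [← hg'iso y' y', hg'y']; exact hxy _ _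
    obtain ⟨h, hiso, hfix, hmove⟩ :=
      witt_step_herm σ hσ hσ2 B hS hB X (x (Fin.last n)) y' hx.2 hy'X hcond hBy'
    refine ⟨h.trans g', ?_, ?_⟩
    · intro u v
      simp only [LinearEquiv.trans_apply, hg'iso, hiso]
    · intro i
      refine Fin.lastCases ?_ (fun j => ?_) i
      · rw [LinearEquiv.trans_apply, hmove, hg'y']
      · rw [LinearEquiv.trans_apply]
        have : h (x j.castSucc) = x j.castSucc :=
          hfix _ (Submodule.subset_span ⟨j, rfl⟩)
        rw [this]
        exact hg' j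

end Cfsg.Agent.Lib.Helper8
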