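import Mathlib
import Cfsg.Prelude.Def_CaseTheorems
import Cfsg.Agent.Lib.Helper76.PSolvable
import Cfsg.Agent.Lib.Helper30.PPrimeCore
import Cfsg.Agent.Lib.Helper11.Quad

/-!
# FH-A (S4439 hive, helper52): the abelian section `Z(O_p(G/O_{p'}(G)))` of a `p`-solvable group
-/

set_option autoImplicit false

universe u

namespace Cfsg.Agent.Lib.Helper52.Fh

open Cfsg

/-- FH-A (group theory, Hall–Higman). -/
theorem exists_abelian_section {G : Type u} [Group G] [Finite G] {p : ℕ} [Fact p.Prime]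
    (hsolv : IsPSolvable p G) (P : Sylow p G) :
    ∃ A : Subgroup G, A.Normal ∧ pPrimeCore p G ≤ A ∧
      (∃ k : ℕ, (pPrimeCore p G).relIndex A = p ^ k) ∧
      (∀ a ∈ A, ∀ b ∈ A, a * b * a⁻¹ * b⁻¹ ∈ pPrimeCore p G) ∧
      (∀ z ∈ (P : Subgroup G), (∀ w ∈ (P : Subgroup G), z * w = w * z) → z ∈ A) := by
  classical
  have hfs : Function.Surjective (QuotientGroup.mk' (pPrimeCore p G)) :=
    QuotientGroup.mk'_surjective _
  have hQn : (pCore p (G ⧸ pPrimeCore p G)).Normal := Cfsg.Agent.Lib.Helper55.pCore_normal' p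
  have hHH : Subgroup.centralizer (pCore p (G ⧸ pPrimeCore p G) : Set (G ⧸ pPrimeCore p G)) ≤
      pCore p (G ⧸ pPrimeCore p G) :=
    Cfsg.Agent.Lib.Helper76.centralizer_pCore_le_of_isPSolvable
      (Cfsg.Agent.Lib.Helper76.isPSolvable_quotient (pPrimeCore p G) hsolv)
      (Cfsg.Agent.Lib.Helper30.pPrimeCore_quotient_eq_bot p)
  have hZn : (Subgroup.centralizer
      (pCore p (G ⧸ pPrimeCore p G) : Set (G ⧸ pPrimeCore p G))).Normal :=
    Subgroup.normal_centralizer
  have hZp : IsPGroup p (Subgroup.centralizer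
      (pCore p (G ⧸ pPrimeCore p G) : Set (G ⧸ pPrimeCore p G))) :=
    (Cfsg.Agent.Lib.Helper11.pCore_isPGroup p (G ⧸ pPrimeCore p G)).to_le hHH
  refine ⟨(Subgroup.centralizer
      (pCore p (G ⧸ pPrimeCore p G) : Set (G ⧸ pPrimeCore p G))).comap
      (QuotientGroup.mk' (pPrimeCore p G)), hZn.comap _, ?_, ?_, ?_, ?_⟩
  · intro x hx
    rw [Subgroup.mem_comap]
    have : (QuotientGroup.mk' (pPrimeCore p G)) x = 1 := (QuotientGroup.eq_one_iff x).mpr hx
    rw [this]
    exact Subgroup.one_mem _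
  · obtain ⟨k, hk⟩ := hZp.exists_card_eq
    refine ⟨k, ?_⟩
    have h1 := Subgroup.relIndex_ker (QuotientGroup.mk' (pPrimeCore p G))
      (K := (Subgroup.centralizer
        (pCore p (G ⧸ pPrimeCore p G) : Set (G ⧸ pPrimeCore p G))).comap
        (QuotientGroup.mk' (pPrimeCore p G)))
    rw [QuotientGroup.ker_mk', Subgroup.map_comap_eq_self_of_surjective hfs] at h1
    rw [h1, hk]
  · intro a ha b hb
    rw [Subgroup.mem_comap] at ha hb
    have hbQ := hHH hb
    have hcomm := (Subgroup.mem_centralizer_iff.1 ha) _ hbQ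
    apply (QuotientGroup.eq_one_iff _).1
    have : (QuotientGroup.mk' (pPrimeCore p G)) (a * b * a⁻¹ * b⁻¹) = 1 := by
      rw [map_mul, map_mul, map_mul, map_inv, map_inv, ← hcomm]
      group
    exact this
  · intro z hz hzc
    rw [Subgroup.mem_comap, Subgroup.mem_centralizer_iff]
    intro h hh
    have h1 : pCore p (G ⧸ pPrimeCore p G) ≤ (P.mapSurjective hfs : Subgroup (G ⧸ pPrimeCore p G)) :=
      Cfsg.Agent.Lib.Helper11.pCore_le_sylow _
    have h2 := h1 hh
    rw [Sylow.coe_mapSurjective, Subgroup.mem_map] at h2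
    obtain ⟨w, hw, rfl⟩ := h2
    rw [← map_mul, ← map_mul, hzc w hw]

end Cfsg.Agent.Lib.Helper52.Fh
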