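import Mathlib
import Cfsg.Agent.Lib.Helper12.ReeNormAbs

/-! # Rc hive (helper52, S2357), leaf RC-C3I (helper8)

`φ : SL₂(K) → C(a)` (kernel `{±1}`) is injective on elements of order 3. -/

set_option autoImplicit false
set_option linter.unusedSectionVars false

namespace Cfsg.Agent.Lib.Helper52.Rc

open Cfsg.Agent.Lib.Helper12.ReeInv Matrix

section C3
variable {K : Type*} [Field K] [CharP K 3] {G : Type*} [Group G]

theorem rcc3i_negI_sq : negI K * negI K = 1 := by
  apply Subtype.ext
  show (negI K).1 * (negI K).1 = 1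
  rw [negI_val, Matrix.mul_fin_two, Matrix.one_fin_two]
  simp

theorem rcc3i_negI_ne_one : negI K ≠ 1 := by
  intro h
  have h1 : (negI K).1 0 0 = (1 : SpecialLinearGroup (Fin 2) K).1 0 0 := by rw [h]
  have h2 : (negI K).1 0 0 = -1 := by rw [negI_val]; rfl
  rw [h2] at h1
  have h1' : (-1 : K) = 1 := by simpa using h1
  have h3 : (2 : K) = 0 := by linear_combination -h1'
  exact ree_two_ne_zero h3

theorem rcc3i_negI_comm (x : SpecialLinearGroup (Fin 2) K) : negI K * x = x * negI K :=
  (Subgroup.mem_center_iff.1 negI_mem_center x).symm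

theorem rcc3i_negI_cube : negI K ^ 3 = negI K := by
  rw [pow_succ, pow_two, rcc3i_negI_sq, one_mul]

/-- RC-C3I.  `φ` is injective on elements of order 3. -/
theorem phi_inj_orderOf_three (I : InvData K G) (s s' : SpecialLinearGroup (Fin 2) K) (hs : orderOf s = 3)
    (hs' : orderOf s' = 3) (h : I.φ s = I.φ s') : s = s' := by
  rcases I.phi_eq s s' h with h1 | h1
  · exact h1
  · exfalso
    have hs3 : s ^ 3 = 1 := by rw [← hs]; exact pow_orderOf_eq_one s
    have hs'3 : s' ^ 3 = 1 := by rw [← hs']; exact pow_orderOf_eq_one s'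
    rw [h1, (show Commute (negI K) s' from rcc3i_negI_comm s').mul_pow, hs'3, mul_one, rcc3i_negI_cube] at hs3
    exact rcc3i_negI_ne_one hs3

end C3

end Cfsg.Agent.Lib.Helper52.Rc
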