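import Mathlib
import Cfsg.Agent.Lib.Helper12.ReeNormAbs

/-! # Rc hive (helper52, S2357), leaves RC-C3S and RC-C3I (helper8)

`φ : SL₂(K) → C(a)` (kernel `{±1}`) is injective on elements of order 3, and every element of order 3
of `C(a)` is the image of an element of order 3. -/

set_option autoImplicit false
set_option linter.unusedSectionVars false

namespace Cfsg.Agent.Lib.Helper52.Rc

open Cfsg.Agent.Lib.Helper12.ReeInv Matrix

section C3
variable {K : Type*} [Field K] [CharP K 3] {G : Type*} [Group G]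

theorem rcc3s_negI_sq : negI K * negI K = 1 := by
  apply Subtype.ext
  show (negI K).1 * (negI K).1 = 1
  rw [negI_val, Matrix.mul_fin_two, Matrix.one_fin_two]
  simp

theorem rcc3s_negI_ne_one : negI K ≠ 1 := by
  intro h
  have h1 : (negI K).1 0 0 = (1 : SpecialLinearGroup (Fin 2) K).1 0 0 := by rw [h]
  have h2 : (negI K).1 0 0 = -1 := by rw [negI_val]; rfl
  rw [h2] at h1
  have h1' : (-1 : K) = 1 := by simpa using h1
  have h3 : (2 : K) = 0 := by linear_combination -h1'
  exact ree_two_ne_zero h3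

theorem rcc3s_negI_comm (x : SpecialLinearGroup (Fin 2) K) : negI K * x = x * negI K :=
  (Subgroup.mem_center_iff.1 negI_mem_center x).symm

theorem rcc3s_negI_cube : negI K ^ 3 = negI K := by
  rw [pow_succ, pow_two, rcc3s_negI_sq, one_mul]

theorem rcc3s_orderOf_three_of {H : Type*} [Group H] (g : H) (h1 : g ≠ 1) (h3 : g ^ 3 = 1) : orderOf g = 3 := by
  rcases (Nat.dvd_prime Nat.prime_three).1 (orderOf_dvd_of_pow_eq_one h3) with h | h
  · exact absurd (orderOf_eq_one_iff.1 h) h1
  · exact h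

/-- RC-C3S.  Every element of order 3 of `C(a)` is `φ s`, `s` of order 3. -/
theorem phi_surj_orderOf_three (I : InvData K G) (y : G) (hy : orderOf y = 3) (hay : I.a * y = y * I.a) :
    ∃ s : SpecialLinearGroup (Fin 2) K, orderOf s = 3 ∧ I.φ s = y := by
  have hy1 : y ≠ 1 := by
    intro h
    rw [h, orderOf_one] at hy
    exact absurd hy (by norm_num)
  have hyp : y ^ 3 = 1 := by rw [← hy]; exact pow_orderOf_eq_one y
  have key : ∀ g : SpecialLinearGroup (Fin 2) K, I.φ g = y → g ^ 3 = 1 → orderOf g = 3 := by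
    intro g hg hgp
    apply rcc3s_orderOf_three_of g _ hgp
    intro h
    rw [h, map_one] at hg
    exact hy1 hg.symm
  obtain ⟨x, h | h⟩ := I.hcent y hay
  · have h1 : I.φ (x ^ 3) = 1 := by rw [map_pow, ← h, hyp]
    rcases InvData.center_cases _ ((I.hker _).1 h1) with h2 | h2
    · exact ⟨x, key x h.symm h2, h.symm⟩
    · refine ⟨negI K * x, key _ ?_ ?_, ?_⟩
      · rw [I.phi_negI_mul, h]
      · rw [(show Commute (negI K) x from rcc3s_negI_comm x).mul_pow, h2, rcc3s_negI_cube, rcc3s_negI_sq]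
      · rw [I.phi_negI_mul, h]
  · exfalso
    have hc : Commute I.a (I.φ x) := I.hcomm x
    have ha3 : I.a ^ 3 = I.a := by rw [pow_succ, pow_two, I.ha2, one_mul]
    have h1 : I.a * I.φ (x ^ 3) = 1 := by
      rw [map_pow, ← ha3, ← hc.mul_pow, ← h, hyp]
    have h2 : I.a = I.φ ((x ^ 3)⁻¹) := by
      rw [map_inv]
      exact eq_inv_of_mul_eq_one_left h1
    exact I.hne _ h2

end C3

end Cfsg.Agent.Lib.Helper52.Rc
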