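import Cfsg.Agent.Lib.Helper73.SlK5Defs

/-! # Sl hive (S2332, helper76), sub-hive SL-K5 (helper73): leaf SL-K5-IOTA. -/

set_option autoImplicit false

namespace Cfsg.Agent.Lib.Helper76.Sl

open Matrix Cfsg

variable {F : Type*} [Field F] [Fintype F] [DecidableEq F]

set_option linter.unusedSectionVars false

theorem k5iota_zero_zero (m : ℕ) (A : Matrix (Fin (m + 2)) (Fin (m + 2)) F) : k5Mat F m A 0 0 = 1 := rfl

theorem k5iota_zero_succ (m : ℕ) (A : Matrix (Fin (m + 2)) (Fin (m + 2)) F) (j : Fin (m + 2)) :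
    k5Mat F m A 0 j.succ = 0 := rfl

theorem k5iota_succ_zero (m : ℕ) (A : Matrix (Fin (m + 2)) (Fin (m + 2)) F) (i : Fin (m + 2)) :
    k5Mat F m A i.succ 0 = 0 := rfl

theorem k5iota_succ_succ (m : ℕ) (A : Matrix (Fin (m + 2)) (Fin (m + 2)) F) (i j : Fin (m + 2)) :
    k5Mat F m A i.succ j.succ = A i j := rfl

theorem k5iota_one (m : ℕ) : k5Mat F m (1 : Matrix (Fin (m + 2)) (Fin (m + 2)) F) = 1 := by
  ext i j
  refine Fin.cases ?_ (fun i' => ?_) i <;> refine Fin.cases ?_ (fun j' => ?_) j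
  · simp [k5iota_zero_zero]
  · rw [k5iota_zero_succ, Matrix.one_apply_ne (Fin.succ_ne_zero j').symm]
  · rw [k5iota_succ_zero, Matrix.one_apply_ne (Fin.succ_ne_zero i')]
  · rw [k5iota_succ_succ, Matrix.one_apply, Matrix.one_apply]
    simp [Fin.succ_inj]

theorem k5iota_mul (m : ℕ) (A B : Matrix (Fin (m + 2)) (Fin (m + 2)) F) :
    k5Mat F m (A * B) = k5Mat F m A * k5Mat F m B := by
  ext i j
  rw [Matrix.mul_apply, Fin.sum_univ_succ]
  refine Fin.cases ?_ (fun i' => ?_) i <;> refine Fin.cases ?_ (fun j' => ?_) j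
  · simp [k5iota_zero_zero, k5iota_zero_succ]
  · simp [k5iota_zero_zero, k5iota_zero_succ]
  · simp [k5iota_succ_zero, k5iota_zero_zero]
  · simp [k5iota_succ_zero, k5iota_zero_succ, k5iota_succ_succ, Matrix.mul_apply]

theorem k5iota_det (m : ℕ) (A : Matrix (Fin (m + 2)) (Fin (m + 2)) F) :
    (k5Mat F m A).det = A.det := by
  rw [Matrix.det_succ_row_zero, Fin.sum_univ_succ]
  have h0 : (k5Mat F m A).submatrix Fin.succ (Fin.succAbove 0) = A := by
    ext i j
    simp [k5iota_succ_succ]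
  rw [h0]
  simp [k5iota_zero_zero, k5iota_zero_succ]

/-- SL-K5-IOTA (a) -/
theorem k5_exists_iota (m : ℕ) : ∃ ι : Gm F m →* Gm F (m + 1), ∀ l, (ι l).1 = k5Mat F m l.1 := by
  refine ⟨{ toFun := fun l => ⟨k5Mat F m l.1, by rw [k5iota_det]; exact l.2⟩
            map_one' := ?_
            map_mul' := ?_ }, fun l => rfl⟩
  · apply Subtype.ext
    simp [k5iota_one]
  · intro a b
    apply Subtype.ext
    change k5Mat F m (a.1 * b.1) = k5Mat F m a.1 * k5Mat F m b.1
    exact k5iota_mul m _ _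

/-- SL-K5-IOTA (b) -/
theorem k5Mat_tv (m : ℕ) : k5Mat F m (tv F m).1 = (tvS F m).1 := by
  have h1 : (1 : Fin (m + 3)) = Fin.succ (0 : Fin (m + 2)) := rfl
  have h2 : Fin.last (m + 2) = Fin.succ (Fin.last (m + 1)) := (Fin.succ_last (m + 1)).symm
  ext i j
  unfold tv tvS
  rw [Matrix.SpecialLinearGroup.transvection_coe, Matrix.SpecialLinearGroup.transvection_coe, h1, h2]
  refine Fin.cases ?_ (fun i' => ?_) i <;> refine Fin.cases ?_ (fun j' => ?_) j
  · rw [k5iota_zero_zero]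
    simp
  · rw [k5iota_zero_succ]
    simp [(Fin.succ_ne_zero _).symm]
  · rw [k5iota_succ_zero]
    simp [Fin.succ_ne_zero]
  · rw [k5iota_succ_succ]
    have e1 : (1 : Fin (m + 3)) = i'.succ ↔ 0 = i' := by rw [h1, Fin.succ_inj]
    have e2 : Fin.last (m + 1 + 1) = j'.succ ↔ Fin.last (m + 1) = j' := by
      rw [show Fin.last (m + 1 + 1) = (Fin.last (m + 1)).succ from h2, Fin.succ_inj]
    simp [Matrix.single_apply, Matrix.one_apply, Fin.succ_inj, e1, e2]

end Cfsg.Agent.Lib.Helper76.Sl
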