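import Cfsg.Agent.Lib.Helper8.SlK5IOTA

/-! # Sl hive (S2332, helper76), sub-hive SL-K5 (helper73): leaf SL-K5-SMEM. -/

set_option autoImplicit false

namespace Cfsg.Agent.Lib.Helper76.Sl

open Matrix Cfsg

variable {F : Type*} [Field F] [Fintype F] [DecidableEq F]

set_option linter.unusedSectionVars false

/-- elements of `Q` have `(0,0)` entry `1`. -/
theorem k5smem_zero_zero (m : ℕ) {x : Gm F m} (hx : x ∈ Qset F m) : x.1 0 0 = 1 := by
  have hdet := x.2
  rw [Matrix.det_succ_column_zero, Fin.sum_univ_succ] at hdet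
  have h0 : (x.1).submatrix (Fin.succAbove 0) Fin.succ = 1 := by
    ext i j
    simp only [Matrix.submatrix_apply, Fin.succAbove_zero]
    rw [hx i.succ j.succ (Fin.succ_ne_zero i), Matrix.one_apply, Matrix.one_apply]
    simp [Fin.succ_inj]
  have h1 : ∀ i : Fin (m + 1), x.1 i.succ 0 = 0 := by
    intro i
    rw [hx i.succ 0 (Fin.succ_ne_zero i), Matrix.one_apply_ne (Fin.succ_ne_zero i)]
  rw [h0] at hdet
  simpa [h1] using hdet

/-- column `0` of `x * diag(1, A)` is column `0` of `x`. -/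
theorem k5smem_col_zero (m : ℕ) (A : Matrix (Fin (m + 2)) (Fin (m + 2)) F)
    (X : Matrix (Fin (m + 3)) (Fin (m + 3)) F) (i : Fin (m + 3)) :
    (X * k5Mat F m A) i 0 = X i 0 := by
  rw [Matrix.mul_apply, Fin.sum_univ_succ]
  simp [k5iota_zero_zero, k5iota_succ_zero]

/-- SL-K5-SMEM (a) -/
theorem k5_mul_mem_S (m : ℕ) (l : Gm F m) (y x : Gm F (m + 1)) (hy : y.1 = k5Mat F m l.1)
    (hx : x ∈ Qset F (m + 1)) : x * y ∈ Sset F (m + 1) := by
  intro i
  rw [Matrix.SpecialLinearGroup.coe_mul, hy, k5smem_col_zero]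
  by_cases hi : i = 0
  · rw [hi, k5smem_zero_zero (m + 1) hx, Matrix.one_apply_eq]
  · exact hx i 0 hi

/-- SL-K5-SMEM (b) -/
theorem k5_mul_block (m : ℕ) (l : Gm F m) (y x : Gm F (m + 1)) (hy : y.1 = k5Mat F m l.1)
    (hx : x ∈ Qset F (m + 1)) (i j : Fin (m + 2)) : (x * y).1 i.succ j.succ = l.1 i j := by
  rw [Matrix.SpecialLinearGroup.coe_mul, hy, Matrix.mul_apply]
  have h1 : ∀ k : Fin (m + 3), x.1 i.succ k * k5Mat F m l.1 k j.succ =
      if k = i.succ then k5Mat F m l.1 i.succ j.succ else 0 := by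
    intro k
    rw [hx i.succ k (Fin.succ_ne_zero i), Matrix.one_apply]
    by_cases hk : k = i.succ
    · rw [if_pos hk.symm, if_pos hk, one_mul, hk]
    · rw [if_neg (Ne.symm hk), if_neg hk, zero_mul]
  rw [Finset.sum_congr rfl (fun k _ => h1 k), Finset.sum_ite_eq' Finset.univ i.succ]
  simp [k5iota_succ_succ]

end Cfsg.Agent.Lib.Helper76.Sl
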