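import Mathlib
import Cfsg.Agent.Lib.Helper83.FpDefs

/-! # Fp hive (S2276, helper83): leaf FP-EMB `emb_of`. -/

set_option autoImplicit false

namespace Cfsg.Agent.Lib.Helper83.Fp

open Equiv

/-- FP-EMB -/
theorem emb_of : ExtStmt → EmbStmt := by
  intro hExt m n c U hle hsum
  have hmn : m ≤ n := by omega
  obtain ⟨φ, hφ⟩ := hExt m n (Fin.castLEEmb hmn) c U hle hsum
  refine ⟨(Fin.castLEEmb hmn).trans φ⁻¹.toEmbedding, ?_⟩
  intro x
  have h := hφ x
  simp only [Function.Embedding.trans_apply, Equiv.coe_toEmbedding]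
  rw [← h]
  simp [Equiv.Perm.mul_apply]

end Cfsg.Agent.Lib.Helper83.Fp
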