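import Mathlib
import Cfsg.Agent.Lib.Helper83.FpDefs

/-! # Fp hive (S2276, helper83): leaf FP-EXT `ext_conj`. -/

set_option autoImplicit false

namespace Cfsg.Agent.Lib.Helper83.Fp

open Equiv

/-- FP-EXT -/
theorem ext_conj : ExtStmt := by
  intro m n ι d W hle hsum
  classical
  -- the complement of the range
  have hcard : Fintype.card {y : Fin n // y ∉ Set.range ι} = n - m := by
    rw [Fintype.card_subtype_compl, Fintype.card_fin]
    congr 1
    have h1 := Fintype.card_congr (Equiv.ofInjective ι ι.injective)
    rw [Fintype.card_fin] at h1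
    exact h1.symm
  -- a permutation of the complement with the remaining cycle type
  have hex : ∃ e : Perm {y : Fin n // y ∉ Set.range ι}, e.cycleType = W.cycleType - d.cycleType := by
    rw [Equiv.Perm.exists_with_cycleType_iff, hcard]
    constructor
    · omega
    · intro a ha
      exact Equiv.Perm.two_le_of_mem_cycleType (Multiset.mem_of_le (Multiset.sub_le_self _ _) ha)
  obtain ⟨e, he⟩ := hex
  set W' : Perm (Fin n) := d.viaFintypeEmbedding ι * Equiv.Perm.ofSubtype e with hW'
  have hdisj : Equiv.Perm.Disjoint (d.viaFintypeEmbedding ι) (Equiv.Perm.ofSubtype e) := by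
    intro y
    by_cases hy : y ∈ Set.range ι
    · right
      exact Equiv.Perm.ofSubtype_apply_of_not_mem e (not_not.mpr hy)
    · left
      exact Equiv.Perm.viaFintypeEmbedding_apply_notMem_range d ι hy
  have hct : W'.cycleType = W.cycleType := by
    rw [hW', Equiv.Perm.Disjoint.cycleType_mul hdisj, Equiv.Perm.cycleType_ofSubtype, he]
    unfold Equiv.Perm.viaFintypeEmbedding
    rw [Equiv.Perm.cycleType_extendDomain]
    exact add_tsub_cancel_of_le hle
  have hconj : IsConj W W' := Equiv.Perm.isConj_iff_cycleType_eq.mpr hct.symm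
  obtain ⟨φ, hφ⟩ := isConj_iff.mp hconj
  refine ⟨φ, ?_⟩
  intro x
  rw [hφ, hW', Equiv.Perm.mul_apply,
    Equiv.Perm.ofSubtype_apply_of_not_mem e (not_not.mpr (Set.mem_range_self x)),
    Equiv.Perm.viaFintypeEmbedding_apply_image]

end Cfsg.Agent.Lib.Helper83.Fp
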