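import Cfsg.Agent.Lib.Helper43.FwDefs

/-! # Fw hive (S3211, helper43): leaf FW-SQ `sq_out` (helper8) -/

set_option autoImplicit false

namespace Cfsg.Agent.Lib.Helper43.Fw

variable {G : Type*} [Group G] {L₁ L₂ : Subgroup G} {j n : G}

/-- aux: `n b n⁻¹ ∈ L₁` for `b ∈ L₂`. -/
theorem fwsq_phi_L₂ (h : Setup L₁ L₂ j n) (b : G) (hb : b ∈ L₂) : n * b * n⁻¹ ∈ L₁ := by
  have ha' : n⁻¹ * b * n ∈ L₁ := by
    rw [h.swap]
    have : n * (n⁻¹ * b * n) * n⁻¹ = b := by group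
    rw [this]; exact hb
  have hcj : ∀ y ∈ L₁, j * y = y * j := by
    intro y hy
    have hyC : y ∈ Subgroup.centralizer ({j} : Set G) := h.le (Subgroup.mem_sup_left hy)
    have := Subgroup.mem_centralizer_iff.1 hyC j (Set.mem_singleton _)
    exact this
  have hjinv : j⁻¹ = j := by
    rw [inv_eq_iff_mul_eq_one]; exact h.jsq
  have e : n * b * n⁻¹ = j * (n⁻¹ * b * n) * j⁻¹ := by
    rw [← h.nsq]; group
  rw [e, hcj _ ha', mul_assoc, mul_inv_cancel, mul_one]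
  exact ha'

/-- FW-SQ: the square of an element of `Y n`:  `(a b n)² = (a φ(b)) (b φ(a)) j`. -/
theorem sq_out (h : Setup L₁ L₂ j n) (a b : G) (ha : a ∈ L₁) (hb : b ∈ L₂) :
    (a * b * n) * (a * b * n) = (a * (n * b * n⁻¹)) * (b * (n * a * n⁻¹)) * j := by
  have h1 : n * b * n⁻¹ ∈ L₁ := fwsq_phi_L₂ h b hb
  have h2 : n * a * n⁻¹ ∈ L₂ := (h.swap a).1 ha
  have hc : (n * b * n⁻¹) * (b * (n * a * n⁻¹)) = (b * (n * a * n⁻¹)) * (n * b * n⁻¹) :=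
    h.comm _ h1 _ (mul_mem hb h2)
  have e1 : (a * b * n) * (a * b * n) = a * ((b * (n * a * n⁻¹)) * (n * b * n⁻¹)) * (n * n) := by group
  rw [e1, ← hc, h.nsq]
  group

end Cfsg.Agent.Lib.Helper43.Fw
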