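import Mathlib

/-!
# Arithmetic for primes dividing `q^m + 1`, `m` even
-/

set_option autoImplicit false

namespace Cfsg.Agent.Lib.Helper8.GUSp

/-- if an odd prime `r` divides `q^m + 1` with `m` even, then the order of `q` modulo `r` is
`2j` with `j` even, `j ∣ m` and `r ∣ q^j + 1` -/
theorem exists_min_even (q m r : ℕ) [Fact r.Prime] (hr2 : r ≠ 2) (hm : Even m) (hm0 : 0 < m)
    (hrm : r ∣ q ^ m + 1) :
    ∃ j, 1 ≤ j ∧ j ≤ m ∧ Even j ∧ r ∣ q ^ j + 1 ∧ orderOf ((q : ℕ) : ZMod r) = 2 * j := by
  have hrp : r.Prime := Fact.out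
  set a : ZMod r := ((q : ℕ) : ZMod r) with ha
  have h1 : a ^ m = -1 := by
    have := (ZMod.natCast_eq_zero_iff (q ^ m + 1) r).2 hrm
    push_cast at this
    exact eq_neg_of_add_eq_zero_left this
  have hne : (-1 : ZMod r) ≠ 1 := by
    intro h
    have h2 : ((2 : ℕ) : ZMod r) = 0 := by
      push_cast
      have : (2 : ZMod r) = 1 - -1 := by ring
      rw [this, h, sub_self]
    have h3 := (ZMod.natCast_eq_zero_iff 2 r).1 h2
    exact hr2 ((Nat.prime_dvd_prime_iff_eq hrp Nat.prime_two).1 h3)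
  have h2m : a ^ (2 * m) = 1 := by
    rw [mul_comm, pow_mul, h1]
    norm_num
  set e := orderOf a with he
  have hed : e ∣ 2 * m := orderOf_dvd_of_pow_eq_one h2m
  have hend : ¬ e ∣ m := by
    intro h
    have := orderOf_dvd_iff_pow_eq_one.1 h
    rw [h1] at this
    exact hne this
  have hepos : 0 < e := Nat.pos_of_dvd_of_pos hed (by omega)
  have heven : Even e := by
    rcases Nat.even_or_odd e with h | h
    · exact h
    · exfalso
      apply hend
      have hcop : Nat.Coprime e 2 := Nat.Coprime.symm (Nat.coprime_two_left.2 h)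
      exact hcop.dvd_of_dvd_mul_left hed
  obtain ⟨j, hj⟩ := heven
  have hj2 : e = 2 * j := by omega
  have hj1 : 1 ≤ j := by omega
  have hjm : j ∣ m := by
    rw [hj2] at hed
    exact (Nat.mul_dvd_mul_iff_left (by norm_num : 0 < 2)).1 hed
  obtain ⟨t, ht⟩ := hjm
  have htodd : Odd t := by
    rcases Nat.even_or_odd t with h | h
    · exfalso
      apply hend
      obtain ⟨t', ht'⟩ := h
      rw [hj2, ht, ht']
      exact ⟨t', by ring⟩
    · exact h
  have hjeven : Even j := by
    rw [ht] at hm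
    rcases Nat.even_mul.1 hm with h | h
    · exact h
    · exact absurd h (Nat.not_even_iff_odd.2 htodd)
  refine ⟨j, hj1, ?_, hjeven, ?_, hj2⟩
  · exact Nat.le_of_dvd hm0 ⟨t, ht⟩
  · have h3 : a ^ j * a ^ j = 1 := by
      rw [← pow_add, ← two_mul, ← hj2]
      exact pow_orderOf_eq_one a
    rcases mul_self_eq_one_iff.1 h3 with h | h
    · exfalso
      have := orderOf_dvd_of_pow_eq_one h
      rw [← he, hj2] at this
      have := Nat.le_of_dvd (by omega) this
      omega
    · rw [← ZMod.natCast_eq_zero_iff]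
      push_cast
      rw [← ha, h]
      ring

end Cfsg.Agent.Lib.Helper8.GUSp
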