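import Mathlib
import Cfsg.Agent.Lib.Helper8.GUSpBridge
import Cfsg.Agent.Lib.Helper8.SpIrredElt

/-!
# Elements of odd prime order of `Sp_{2d}(q)` in no subgroup of type `GU_d(q).2`, part 2:
elements acting irreducibly on a nondegenerate subspace of dimension `2j`, `j` even
-/

set_option autoImplicit false

namespace Cfsg.Agent.Lib.Helper8.GUSp

open Matrix Module
open Cfsg.Agent.Lib.Helper99 Cfsg.Agent.Lib.Helper94

section nonsplit

variable {F : Type*} [Field F] [Fintype F] (d : ℕ)

local notation "V" => (Fin d ⊕ Fin d → F)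
local notation "Mat" => Matrix (Fin d ⊕ Fin d) (Fin d ⊕ Fin d) F

/-- a square root of an element of the ground field is fixed by even powers of Frobenius -/
theorem pow_card_sq_of_sq {L : Type*} [Field L] [Algebra F L] (hodd : Odd (Fintype.card F))
    (α : L) (D : F) (hD0 : D ≠ 0) (hα : α * α = algebraMap F L D) (t : ℕ) :
    α ^ ((Fintype.card F * Fintype.card F) ^ t) = α := by
  obtain ⟨s, hs⟩ := hodd
  have h1 : α ^ (Fintype.card F * Fintype.card F) = α := by
    have e : Fintype.card F * Fintype.card F = 2 * ((Fintype.card F - 1) * (s + 1)) + 1 := by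
      rw [hs]
      have : 2 * s + 1 - 1 = 2 * s := by omega
      rw [this]
      ring
    rw [e, pow_succ, pow_mul, pow_two, hα, ← map_pow, pow_mul,
      FiniteField.pow_card_sub_one_eq_one D hD0, one_pow, map_one, one_mul]
  induction t with
  | zero => simp
  | succ t ih => rw [pow_succ, pow_mul, ih, h1]

/-- an element of odd prime order `r ∣ q^j + 1`, `j` even, commuting with no skew square root
of a nonsquare -/
theorem exists_nonsplit_noJ (p : ℕ) [Fact p.Prime] [CharP F p] (h2 : (2 : F) ≠ 0)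
    (hodd : Odd (Fintype.card F)) (j : ℕ) (hj1 : 1 ≤ j) (hjd : j ≤ d) (hjeven : Even j) (r : ℕ)
    [Fact r.Prime] (hr2 : r ≠ 2) (hrj : r ∣ Fintype.card F ^ j + 1)
    (he : orderOf ((Fintype.card F : ℕ) : ZMod r) = 2 * j) (D : F) (hD : ¬ IsSquare D) :
    ∃ x : GL (Fin d ⊕ Fin d) F, x ∈ Cfsg.spGL d F ∧ x ^ r = 1 ∧
      (∀ z : F, (x : Mat) ≠ z • (1 : Mat)) ∧
      ¬ ∃ J : V →ₗ[F] V, IsJ (sympB d) D J ∧ ∀ v, (x : Mat) *ᵥ (J v) = J ((x : Mat) *ᵥ v) := by
  classical
  obtain ⟨j', rfl⟩ : ∃ j', j = j' + 1 := ⟨j - 1, by omega⟩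
  have hrp : r.Prime := Fact.out
  have hD0 : D ≠ 0 := ne_zero_of_not_isSquare hD
  have hq1 : 1 ≤ Fintype.card F := Fintype.card_pos
  let L := FiniteField.Extension F p (2 * j' + 1 + 1)
  have : Finite L := inferInstance
  let _ : Fintype L := Fintype.ofFinite L
  have hdimL : Module.finrank F L = 2 * j' + 2 := FiniteField.finrank_extension F p (2 * j' + 1 + 1)
  have hcardL : Fintype.card L = Fintype.card F ^ (2 * j' + 2) := by
    rw [← Nat.card_eq_fintype_card, FiniteField.natCard_extension, Nat.card_eq_fintype_card]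
  set A := Fintype.card F ^ (j' + 1) with hA
  have hA1 : 1 ≤ A := Nat.one_le_pow _ _ hq1
  have hAA : Fintype.card F ^ (2 * j' + 2) = A * A := by rw [hA, ← pow_add]; congr 1; ring
  have hcardU : Nat.card Lˣ = A * A - 1 := by
    rw [Nat.card_units, Nat.card_eq_fintype_card, hcardL, hAA]
  have hrU : r ∣ Nat.card Lˣ := by
    rw [hcardU]
    have : A * A - 1 = (A - 1) * (A + 1) := by
      zify [hA1, Nat.one_le_iff_ne_zero.2 (Nat.mul_ne_zero (by omega : A ≠ 0) (by omega : A ≠ 0))]
      ring
    rw [this]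
    exact Dvd.dvd.mul_left hrj _
  obtain ⟨ζ, hζ⟩ := exists_prime_orderOf_dvd_card' r hrU
  have hζ1 : ζ ≠ 1 := by
    rintro rfl
    rw [orderOf_one] at hζ
    exact hrp.one_lt.ne hζ
  let σ : L ≃ₐ[F] L := (FiniteField.Extension.frob F p (2 * j' + 1 + 1)) ^ (j' + 1)
  have hσn : ∀ x : L, σ x = x ^ A := by
    intro x
    show ((FiniteField.Extension.frob F p (2 * j' + 1 + 1)) ^ (j' + 1)) x = x ^ A
    rw [FiniteField.Extension.frob_iterate_apply, Nat.card_eq_fintype_card]
  have hσ : ∀ x, σ (σ x) = x := by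
    intro x
    rw [hσn, hσn, ← pow_mul, ← hAA, ← hcardL]
    exact FiniteField.pow_card x
  have hζσ : (ζ : L) * σ ζ = 1 := by
    rw [hσn, ← pow_succ']
    have h1 : ζ ^ (A + 1) = 1 := by
      rw [← orderOf_dvd_iff_pow_eq_one, hζ]
      exact hrj
    have := congrArg (fun u : Lˣ => (u : L)) h1
    simpa using this
  have hσζ : σ (ζ : L) ≠ ζ := by
    intro h
    rw [h] at hζσ
    have h1 : ζ ^ 2 = 1 := by
      apply Units.ext
      rw [Units.val_pow_eq_pow_val, pow_two]
      exact hζσ
    have h3 := orderOf_dvd_of_pow_eq_one h1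
    rw [hζ] at h3
    exact hr2 ((Nat.prime_dvd_prime_iff_eq hrp Nat.prime_two).1 h3)
  set c : L := (ζ : L) - σ ζ with hcdef
  have hc0 : c ≠ 0 := sub_ne_zero.2 (fun h => hσζ h.symm)
  have hc : σ c = -c := by
    rw [hcdef, map_sub, hσ]; ring
  -- the model space
  set k := d - (j' + 1) with hk
  let ω := prodForm σ c k
  have hω : ∀ a b : L × (Fin k ⊕ Fin k → F),
      ω a b = sigBil F L σ c a.1 b.1 + Cfsg.sympForm k F a.2 b.2 := prodForm_apply σ c k
  have halt : ω.IsAlt := by
    intro a
    rw [hω, sigBil_self σ c h2 hσ hc, ← sympB_apply, sympB_self, add_zero]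
  have hleft : ∀ a, (∀ b, ω a b = 0) → a = 0 := by
    intro a ha
    apply Prod.ext
    · apply sigBil_sepLeft σ c hσ hc0
      intro y
      have := ha (y, 0)
      rw [hω] at this
      simp only at this
      rw [← sympB_apply, map_zero, add_zero] at this
      exact this
    · apply sympB_nd_left k
      intro v
      have := ha (0, v)
      rw [hω] at this
      simp only at this
      rw [map_zero, zero_add] at this
      rw [sympB_apply]
      exact this
  have hnd : ω.Nondegenerate := by
    refine ⟨hleft, fun b hb => hleft b (fun a => ?_)⟩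
    have := hb a
    rw [← LinearMap.IsAlt.neg halt, this, neg_zero]
  have hfr : finrank F (L × (Fin k ⊕ Fin k → F)) = 2 * d := by
    rw [Module.finrank_prod, hdimL, Module.finrank_fintype_fun_eq_card, Fintype.card_sum,
      Fintype.card_fin, hk]
    omega
  obtain ⟨Θ, hΘ⟩ := exists_symp_coords_gen ω halt hnd d hfr
  let g : (L × (Fin k ⊕ Fin k → F)) ≃ₗ[F] (L × (Fin k ⊕ Fin k → F)) :=
    (unitMul F L ζ).prodCongr (LinearEquiv.refl F (Fin k ⊕ Fin k → F))
  have hg : ∀ a, g a = ((ζ : L) * a.1, a.2) := fun a => rfl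
  have hgω : ∀ a b, ω (g a) (g b) = ω a b := by
    intro a b
    rw [hω, hω, hg, hg]
    simp only
    rw [← unitMul_apply F L ζ a.1, ← unitMul_apply F L ζ b.1, sigBil_unitMul σ c ζ hζσ]
  have hgn : ∀ n a, (⇑g)^[n] a = ((ζ : L) ^ n * a.1, a.2) := by
    intro n
    induction n with
    | zero => intro a; simp
    | succ n ih =>
      intro a
      rw [Function.iterate_succ_apply', ih, hg]
      simp only
      rw [pow_succ]
      apply Prod.ext
      · simp only; ring
      · rfl
  have hgr : ∀ a, (⇑g)^[r] a = a := by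
    intro a
    rw [hgn, ← Units.val_pow_eq_pow_val, ← hζ, pow_orderOf_eq_one, Units.val_one, one_mul]
  have hgns : ∀ z : F, ∃ a, g a ≠ z • a := by
    intro z
    refine ⟨((1 : L), 0), ?_⟩
    rw [hg]
    intro h
    have h3 := congrArg Prod.fst h
    simp only [Prod.smul_fst, mul_one] at h3
    apply hσζ
    rw [h3, Algebra.smul_def, mul_one, AlgEquiv.commutes]
  refine exists_elt_of_model d ω Θ hΘ g hgω r hgr hgns D ?_
  rintro ⟨J, hJ, hJg⟩
  let W := (Fin k ⊕ Fin k → F)
  have hζ1' : (ζ : L) - 1 ≠ 0 := by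
    intro h
    apply hζ1
    exact Units.ext (sub_eq_zero.1 h)
  -- `J` preserves `L × 0`
  have hsnd : ∀ a : L, (J (a, (0 : W))).2 = 0 := by
    intro a
    have h1 : ∀ a' : L, (J (((ζ : L) - 1) * a', (0 : W))).2 = 0 := by
      intro a'
      have h3 : ((((ζ : L) - 1) * a', (0 : W)) : L × W) = g (a', 0) - (a', 0) := by
        rw [hg]
        apply Prod.ext
        · simp only [Prod.fst_sub]; ring
        · simp
      rw [h3, map_sub, ← hJg, hg]
      simp
    have := h1 (((ζ : L) - 1)⁻¹ * a)
    rwa [← mul_assoc, mul_inv_cancel₀ hζ1', one_mul] at this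
  let α : L →ₗ[F] L :=
    (LinearMap.fst F L W) ∘ₗ J ∘ₗ (LinearMap.inl F L W)
  have hα : ∀ a, α a = (J (a, (0 : W))).1 := fun a => rfl
  have hJα : ∀ a, J (a, (0 : W)) = (α a, (0 : W)) := by
    intro a
    exact Prod.ext (hα a).symm (hsnd a)
  have hαζ : ∀ a, α ((ζ : L) * a) = (ζ : L) * α a := by
    intro a
    have h1 := hJg (a, (0 : W))
    rw [hg, hg] at h1
    simp only at h1
    have := congrArg Prod.fst h1
    simp only at this
    rw [hα, hα]
    exact this.symm
  -- `α` is `L`-linear
  let S : Submodule F L :=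
    { carrier := {y | ∀ a, α (y * a) = y * α a}
      add_mem' := by
        intro y y' hy hy' a
        rw [add_mul, map_add, hy, hy', add_mul]
      zero_mem' := by
        intro a
        rw [zero_mul, map_zero, zero_mul]
      smul_mem' := by
        intro t y hy a
        rw [smul_mul_assoc, map_smul, hy, smul_mul_assoc] }
  have hSmem : ∀ y, y ∈ S ↔ ∀ a, α (y * a) = y * α a := fun y => Iff.rfl
  have hSinv : ∀ u ∈ S, (ζ : L) * u ∈ S := by
    intro u hu
    rw [hSmem] at hu ⊢
    intro a
    rw [mul_assoc, hαζ, hu, mul_assoc]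
  have he' : orderOf ((Fintype.card F : ℕ) : ZMod r) = finrank F L := by
    rw [he, hdimL]; ring
  have hStop : S = ⊤ := by
    rcases unit_irreducible ζ r hζ he' S hSinv with hb | ht
    · exfalso
      have h1 : (1 : L) ∈ S := by
        rw [hSmem]
        intro a
        rw [one_mul, one_mul]
      rw [hb, Submodule.mem_bot] at h1
      exact one_ne_zero h1
    · exact ht
  have hαlin : ∀ y : L, α y = y * α 1 := by
    intro y
    have hy : y ∈ S := by rw [hStop]; exact Submodule.mem_top
    have := (hSmem y).1 hy 1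
    rwa [mul_one] at this
  set α₀ : L := α 1 with hα₀
  -- square
  have hsq : α₀ * α₀ = algebraMap F L D := by
    have h1 := hJ.sq ((1 : L), (0 : W))
    rw [hJα, hJα, hαlin (α 1)] at h1
    have := congrArg Prod.fst h1
    simp only [Prod.smul_fst] at this
    rw [this, Algebra.smul_def, mul_one]
  -- adjoint
  have hadj : σ α₀ = -α₀ := by
    have h1 : ∀ y : L, Algebra.trace F L (c * (α₀ + σ α₀) * y) = 0 := by
      intro y
      have h3 := hJ.adj ((1 : L), (0 : W)) (σ y, (0 : W))
      rw [hJα, hJα, hω, hω, hαlin (σ y)] at h3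
      simp only at h3
      have e0 : Cfsg.sympForm k F (0 : W) (0 : W) = 0 := by
        rw [← sympB_apply, map_zero]
      rw [e0, add_zero, add_zero, sigBil_apply, sigBil_apply, map_mul σ, hσ] at h3
      have h4 : Algebra.trace F L (c * α₀ * y) + Algebra.trace F L (c * 1 * (y * σ α₀)) = 0 := by
        rw [h3]
        exact neg_add_cancel _
      rw [← map_add] at h4
      have e : c * (α₀ + σ α₀) * y = c * α₀ * y + c * 1 * (y * σ α₀) := by ring
      rw [e]
      exact h4
    have htr := traceForm_nondegenerate F L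
    have h5 : c * (α₀ + σ α₀) = 0 := by
      apply htr.1
      intro y
      rw [Algebra.traceForm_apply]
      exact h1 y
    have h6 : α₀ + σ α₀ = 0 := (mul_eq_zero.1 h5).resolve_left hc0
    exact eq_neg_of_add_eq_zero_right h6
  -- but `σ α₀ = α₀`
  obtain ⟨t, ht⟩ := hjeven
  have hfix : σ α₀ = α₀ := by
    rw [hσn, hA]
    have e : Fintype.card F ^ (j' + 1) = (Fintype.card F * Fintype.card F) ^ t := by
      rw [ht, ← two_mul, pow_mul, pow_two]
    rw [e]
    exact pow_card_sq_of_sq hodd α₀ D hD0 hsq t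
  rw [hfix] at hadj
  have h7 : (2 : L) * α₀ = 0 := by linear_combination hadj
  have h2L : (2 : L) ≠ 0 := by
    intro h
    apply h2
    apply (algebraMap F L).injective
    rw [map_ofNat, map_zero]
    exact h
  have h8 : α₀ = 0 := (mul_eq_zero.1 h7).resolve_left h2L
  rw [h8, mul_zero] at hsq
  apply hD0
  apply (algebraMap F L).injective
  rw [← hsq, map_zero]

end nonsplit

end Cfsg.Agent.Lib.Helper8.GUSp
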