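import Mathlib
import Cfsg.Agent.Lib.Helper8.GUSpBridge
import Cfsg.Agent.Lib.Helper8.LagPairs

/-!
# Elements with scalar square of `Sp_{2d}(q)` lie in a subgroup of type `GU_d(q).2`
-/

set_option autoImplicit false

namespace Cfsg.Agent.Lib.Helper8.GUSp

open Matrix Module
open Cfsg.Agent.Lib.Helper99 Cfsg.Agent.Lib.Helper94

section eigen

variable {F : Type*} [Field F] {V : Type*} [AddCommGroup V] [Module F V]

/-- eigenspaces of a linear map -/
def eigS (X : V →ₗ[F] V) (c : F) : Submodule F V := LinearMap.ker (X - c • LinearMap.id)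

theorem mem_eigS (X : V →ₗ[F] V) (c : F) (v : V) : v ∈ eigS X c ↔ X v = c • v := by
  unfold eigS
  rw [LinearMap.mem_ker, LinearMap.sub_apply, LinearMap.smul_apply, LinearMap.id_apply,
    sub_eq_zero]

theorem eig_isCompl (h2 : (2 : F) ≠ 0) (X : V →ₗ[F] V) (c : F) (hc : c ≠ 0)
    (hX : ∀ v, X (X v) = (c * c) • v) : IsCompl (eigS X c) (eigS X (-c)) := by
  have h2c : (2 * c : F) ≠ 0 := mul_ne_zero h2 hc
  rw [isCompl_iff]
  constructor
  · rw [Submodule.disjoint_def]
    intro v hv hv'
    rw [mem_eigS] at hv hv'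
    have h3 : (2 * c) • v = 0 := by
      have : c • v = (-c) • v := by rw [← hv, hv']
      rw [mul_smul, two_smul]
      nth_rewrite 1 [this]
      rw [neg_smul, neg_add_cancel]
    exact (smul_eq_zero.1 h3).resolve_left h2c
  · rw [codisjoint_iff, Submodule.eq_top_iff']
    intro v
    rw [Submodule.mem_sup]
    refine ⟨(2 * c)⁻¹ • (c • v + X v), ?_, (2 * c)⁻¹ • (c • v - X v), ?_, ?_⟩
    · rw [mem_eigS, map_smul, map_add, map_smul, hX]
      module
    · rw [mem_eigS, map_smul, map_sub, map_smul, hX]
      module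
    · rw [← smul_add]
      have : c • v + X v + (c • v - X v) = (2 * c) • v := by module
      rw [this, smul_smul, inv_mul_cancel₀ h2c, one_smul]

theorem eig_orth (ω : LinearMap.BilinForm F V) (X : V →ₗ[F] V)
    (hX : ∀ u v, ω (X u) (X v) = ω u v) (c c' : F) (hcc : c * c' ≠ 1) (a b : V)
    (ha : a ∈ eigS X c) (hb : b ∈ eigS X c') : ω a b = 0 := by
  rw [mem_eigS] at ha hb
  have h1 := hX a b
  rw [ha, hb, map_smul, map_smul, LinearMap.smul_apply, smul_eq_mul, smul_eq_mul] at h1
  have h3 : (c * c' - 1) * ω a b = 0 := by linear_combination h1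
  exact (mul_eq_zero.1 h3).resolve_left (sub_ne_zero.2 hcc)

end eigen

section squares

variable {F : Type*} [Field F]

theorem ringChar_ne_two_of (h2 : (2 : F) ≠ 0) : ringChar F ≠ 2 := by
  intro h
  apply h2
  have := (ringChar.spec F 2).2 (by rw [h])
  exact_mod_cast this

/-- the product of two nonsquares is a square -/
theorem exists_sq_eq_mul [Fintype F] (h2 : (2 : F) ≠ 0) (a b : F) (ha : ¬ IsSquare a) (hb : ¬ IsSquare b) :
    ∃ c : F, c * c = a * b := by
  have hF := ringChar_ne_two_of h2
  have ha0 : a ≠ 0 := ne_zero_of_not_isSquare ha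
  have hb0 : b ≠ 0 := ne_zero_of_not_isSquare hb
  have ha1 : a ^ (Fintype.card F / 2) = -1 := by
    rcases FiniteField.pow_dichotomy hF ha0 with h | h
    · exact absurd ((FiniteField.isSquare_iff hF ha0).2 h) ha
    · exact h
  have hb1 : b ^ (Fintype.card F / 2) = -1 := by
    rcases FiniteField.pow_dichotomy hF hb0 with h | h
    · exact absurd ((FiniteField.isSquare_iff hF hb0).2 h) hb
    · exact h
  have hab : IsSquare (a * b) := by
    rw [FiniteField.isSquare_iff hF (mul_ne_zero ha0 hb0), mul_pow, ha1, hb1]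
    ring
  obtain ⟨c, hc⟩ := hab
  exact ⟨c, hc.symm⟩

end squares

section invol

variable {F : Type*} [Field F] [Fintype F] (d : ℕ)

local notation "V" => (Fin d ⊕ Fin d → F)
local notation "Mat" => Matrix (Fin d ⊕ Fin d) (Fin d ⊕ Fin d) F

theorem sympForm_single_inr_inl (i k : Fin d) :
    Cfsg.sympForm d F (Pi.single (Sum.inr i) 1) (Pi.single (Sum.inl k) 1) =
      if i = k then 1 else 0 := by
  classical
  rw [Helper13.sympForm_expand]
  simp only [Pi.single_apply, Sum.inr.injEq, Sum.inl.injEq, reduceCtorEq, if_false,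
    mul_zero, sub_zero]
  by_cases h : i = k
  · subst h
    rw [if_pos rfl, Finset.sum_eq_single i]
    · simp
    · intro j _ hj
      rw [if_neg hj, zero_mul]
    · intro h; exact absurd (Finset.mem_univ _) h
  · rw [if_neg h]
    apply Finset.sum_eq_zero
    intro j _
    by_cases hj : j = i
    · subst hj
      rw [if_neg h, mul_zero]
    · rw [if_neg hj, zero_mul]

/-- elements of `Sp` with scalar square have a conjugate in the normaliser -/
theorem invol_case (hcard : Fintype.card F % 2 = 1) (h2 : (2 : F) ≠ 0)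
    (hd : 1 ≤ d) (K : Subalgebra F Mat) (κ : Mat) (D : F)
    (hgen : SkewGen d κ D) (hκK : κ ∈ K) (hκns : ∀ a : F, κ ≠ a • (1 : Mat))
    (hdec : ∀ k ∈ K, ∃ a b : F, k = a • (1 : Mat) + b • κ)
    (x : GL (Fin d ⊕ Fin d) F) (hx : x ∈ Cfsg.spGL d F) (z : F)
    (hxz : (x : Mat) * (x : Mat) = z • (1 : Mat)) :
    ∃ g ∈ Cfsg.spGL d F, g⁻¹ * x * g ∈ Cfsg.Geo.subalgebraNormalizer K := by
  classical
  have hDns := not_isSquare_of_skewGen d hd hgen
  have hD0 : D ≠ 0 := ne_zero_of_not_isSquare hDns
  have hxp := (mem_spGL_iff d x).1 hx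
  set X : V →ₗ[F] V := Matrix.toLin' (x : Mat) with hXdef
  have hXv : ∀ v, X v = (x : Mat) *ᵥ v := fun v => Matrix.toLin'_apply _ _
  have hXω : ∀ u v, sympB d (X u) (X v) = sympB d u v := by
    intro u v
    rw [hXv, hXv, sympB_apply, sympB_apply]
    exact hxp u v
  have hXX : ∀ v, X (X v) = z • v := by
    intro v
    rw [hXv, hXv, Matrix.mulVec_mulVec, hxz, Matrix.smul_mulVec, Matrix.one_mulVec]
  -- z² = 1
  have hzz : z * z = 1 := by
    obtain ⟨u, v, huv⟩ : ∃ u v : V, sympB d u v ≠ 0 := by
      by_contra hcon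
      push Not at hcon
      have h1 : (Pi.single (Sum.inl ⟨0, hd⟩) 1 : V) = 0 :=
        (sympB_nondegenerate d).1 _ (fun v => hcon _ v)
      have := congrFun h1 (Sum.inl ⟨0, hd⟩)
      simp at this
    have h1 := hXω (X u) (X v)
    rw [hXX, hXX, hXω, map_smul, map_smul, LinearMap.smul_apply, smul_eq_mul, smul_eq_mul] at h1
    have h3 : (z * z - 1) * sympB d u v = 0 := by linear_combination h1
    exact sub_eq_zero.1 ((mul_eq_zero.1 h3).resolve_right huv)
  rcases mul_self_eq_one_iff.1 hzz with hz | hz
  · -- involution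
    have hXX1 : ∀ v, X (X v) = ((1 : F) * 1) • v := by
      intro v
      rw [hXX, hz, mul_one]
    have hc := eig_isCompl h2 X 1 one_ne_zero hXX1
    have horth : ∀ a ∈ eigS X (1 : F), ∀ b ∈ eigS X (-1 : F), sympB d a b = 0 := by
      intro a ha b hb
      refine eig_orth (sympB d) X hXω 1 (-1) ?_ a b ha hb
      intro h
      apply h2
      have : (2 : F) = 1 - 1 * -1 := by ring
      rw [this, h, sub_self]
    obtain ⟨J, hJ, hJA, hJB⟩ := exists_J_glue (sympB (F := F) d) (sympB_isAlt d) (sympB_nondegenerate d) D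
      (eigS X 1) (eigS X (-1)) hc horth
    apply conj_into_normalizer d hcard h2 hd K κ D hgen hκK hκns hdec x J hJ 1
    intro v
    rw [one_smul, ← hXv, ← hXv]
    have hv : v ∈ eigS X (1 : F) ⊔ eigS X (-1 : F) := by rw [hc.sup_eq_top]; exact Submodule.mem_top
    obtain ⟨a, ha, b, hb, rfl⟩ := Submodule.mem_sup.1 hv
    have e1 := (mem_eigS X 1 _).1 (hJA a ha)
    have e2 := (mem_eigS X (-1) _).1 (hJB b hb)
    rw [mem_eigS] at ha hb
    rw [map_add, map_add, map_add, e1, e2, ha, hb, map_add, map_smul, map_smul]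
  · -- square -1
    by_cases hsq : IsSquare (-1 : F)
    · obtain ⟨i, hi⟩ := hsq
      have hi0 : i ≠ 0 := by
        rintro rfl
        rw [mul_zero] at hi
        exact one_ne_zero (neg_eq_zero.1 hi)
      have hXXi : ∀ v, X (X v) = (i * i) • v := by
        intro v
        rw [hXX, hz, hi]
      have hc := eig_isCompl h2 X i hi0 hXXi
      have hne : i * i ≠ 1 := by
        rw [← hi]
        intro h
        apply h2
        have : (2 : F) = 1 - -1 := by ring
        rw [this, h, sub_self]
      have hne' : -i * -i ≠ 1 := by rw [neg_mul_neg]; exact hne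
      have hA : ∀ u ∈ eigS X i, ∀ v ∈ eigS X i, Cfsg.sympForm d F u v = 0 := by
        intro u hu v hv
        rw [← sympB_apply]
        exact eig_orth (sympB d) X hXω i i hne u v hu hv
      have hB : ∀ u ∈ eigS X (-i), ∀ v ∈ eigS X (-i), Cfsg.sympForm d F u v = 0 := by
        intro u hu v hv
        rw [← sympB_apply]
        exact eig_orth (sympB d) X hXω (-i) (-i) hne' u v hu hv
      obtain ⟨g₀, hgA, hgB⟩ := exists_symp_of_lagPair d hc hA hB
      set G : Mat := (g₀ : Mat) with hG
      have hGω : ∀ u v, Cfsg.sympForm d F (G *ᵥ u) (G *ᵥ v) = Cfsg.sympForm d F u v :=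
        Helper13.preserves_of_mem_symplectic d G g₀.2
      let e : Fin d → V := fun k => G *ᵥ (Pi.single (Sum.inr k) 1)
      let f : Fin d → V := fun k => G *ᵥ (Pi.single (Sum.inl k) 1)
      have heB : ∀ k, e k ∈ eigS X (-i) := by
        intro k
        rw [← hgB]
        refine ⟨Pi.single (Sum.inr k) 1, ?_, Matrix.toLin'_apply _ _⟩
        exact Submodule.subset_span ⟨k, rfl⟩
      have hfA : ∀ k, f k ∈ eigS X i := by
        intro k
        rw [← hgA]
        refine ⟨Pi.single (Sum.inl k) 1, ?_, Matrix.toLin'_apply _ _⟩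
        exact Submodule.subset_span ⟨k, rfl⟩
      have hee : ∀ j k, sympB d (e j) (e k) = 0 := by
        intro j k
        rw [sympB_apply]
        exact hB _ (heB j) _ (heB k)
      have hff : ∀ j k, sympB d (f j) (f k) = 0 := by
        intro j k
        rw [sympB_apply]
        exact hA _ (hfA j) _ (hfA k)
      have hef : ∀ j k, sympB d (e j) (f k) = if j = k then 1 else 0 := by
        intro j k
        rw [sympB_apply]
        show Cfsg.sympForm d F (G *ᵥ _) (G *ᵥ _) = _
        rw [hGω, sympForm_single_inr_inl]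
      have hfe : ∀ j k, sympB d (f j) (e k) = if j = k then -1 else 0 := by
        intro j k
        rw [← LinearMap.IsAlt.neg (sympB_isAlt (F := F) d), hef]
        by_cases h : j = k
        · rw [if_pos h, if_pos h.symm]
        · rw [if_neg h, if_neg (Ne.symm h), neg_zero]
      have hfr : finrank F V = 2 * d := by
        rw [Module.finrank_fintype_fun_eq_card, Fintype.card_sum, Fintype.card_fin]
        ring
      obtain ⟨J, hJ, hJe, hJf⟩ :=
        exists_J_of_family (sympB (F := F) d) (sympB_isAlt d) D d hfr e f hee hff hef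
      obtain ⟨b, hb⟩ := exists_basis_of_family (sympB (F := F) d) d hfr e f hee hff hef hfe
      have hbl : ∀ k, b (Sum.inl k) = e k := fun k => by rw [hb]; rfl
      have hbr : ∀ k, b (Sum.inr k) = f k := fun k => by rw [hb]; rfl
      have hanti : X ∘ₗ J = (-1 : F) • (J ∘ₗ X) := by
        apply b.ext
        intro y
        rcases y with k | k
        · have h1 := (mem_eigS X (-i) _).1 (heB k)
          have h3 := (mem_eigS X i _).1 (hfA k)
          rw [hbl, LinearMap.comp_apply, LinearMap.smul_apply, LinearMap.comp_apply, hJe, h3, h1,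
            map_smul, hJe, smul_smul]
          congr 1
          ring
        · have h1 := (mem_eigS X (-i) _).1 (heB k)
          have h3 := (mem_eigS X i _).1 (hfA k)
          rw [hbr, LinearMap.comp_apply, LinearMap.smul_apply, LinearMap.comp_apply, hJf, h3,
            map_smul, h1, map_smul, hJf, smul_smul, smul_smul, smul_smul]
          congr 1
          ring
      apply conj_into_normalizer d hcard h2 hd K κ D hgen hκK hκns hdec x J hJ (-1)
      intro v
      rw [← hXv, ← hXv]
      have := congrArg (fun T : V →ₗ[F] V => T v) hanti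
      simpa using this
    · -- the element itself generates a quadratic field
      obtain ⟨c, hc⟩ := exists_sq_eq_mul h2 (-1) D hsq hDns
      have hJ : IsJ (sympB d) D (c • X) := by
        refine ⟨fun v => ?_, fun u v => ?_⟩
        · rw [LinearMap.smul_apply, LinearMap.smul_apply, map_smul, hXX, hz, smul_smul, smul_smul,
            hc]
          congr 1
          ring
        · rw [LinearMap.smul_apply, LinearMap.smul_apply, map_smul, map_smul,
            LinearMap.smul_apply, smul_eq_mul, smul_eq_mul]
          have h1 : sympB d (X u) v = - sympB d u (X v) := by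
            have h3 : v = X (X (-v)) := by rw [hXX, hz, smul_neg, neg_smul, one_smul, neg_neg]
            nth_rewrite 1 [h3]
            rw [hXω, map_neg, map_neg]
          rw [h1]
          ring
      apply conj_into_normalizer d hcard h2 hd K κ D hgen hκK hκns hdec x (c • X) hJ 1
      intro v
      rw [one_smul, ← hXv, ← hXv, LinearMap.smul_apply, LinearMap.smul_apply, map_smul]

end invol

end Cfsg.Agent.Lib.Helper8.GUSp
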