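import Mathlib
import Cfsg.Agent.Lib.Helper8.GUSpBridge
import Cfsg.Agent.Lib.Helper8.GUSpInvol
import Cfsg.Agent.Lib.Helper8.SpOrthF
import Cfsg.Agent.Lib.Helper5.UnitaryCard

/-!
# The index of a subgroup of type `GU_d(q).2` in `Sp_{2d}(q)`
-/

set_option autoImplicit false

namespace Cfsg.Agent.Lib.Helper8.GUSp

open Matrix Module
open Cfsg.Agent.Lib.Helper99 Cfsg.Agent.Lib.Helper94

section sqrt

variable {F : Type*} [Field F] [Fintype F]

/-- a square root of a nonsquare in the quadratic extension; Frobenius negates it -/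
theorem exists_sqrt_ext {E : Type*} [Field E] [Algebra F E] [Fintype E] (h2 : (2 : F) ≠ 0)
    (hodd : Odd (Fintype.card F)) (hcardE : Fintype.card E = Fintype.card F ^ 2) (D : F)
    (hD : ¬ IsSquare D) :
    ∃ w : E, w * w = algebraMap F E D ∧ w ^ Fintype.card F = -w := by
  have hD0 : D ≠ 0 := ne_zero_of_not_isSquare hD
  obtain ⟨s, hs⟩ := hodd
  have h2E : (2 : E) ≠ 0 := by
    intro h
    apply h2
    apply (algebraMap F E).injective
    rw [map_ofNat, map_zero]
    exact h
  have hFE := ringChar_ne_two_of h2E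
  have hF := ringChar_ne_two_of h2
  have ha0 : algebraMap F E D ≠ 0 := by
    intro h
    apply hD0
    apply (algebraMap F E).injective
    rw [h, map_zero]
  have hsq : IsSquare (algebraMap F E D) := by
    rw [FiniteField.isSquare_iff hFE ha0, hcardE]
    have e : Fintype.card F ^ 2 / 2 = (Fintype.card F - 1) * (s + 1) := by
      rw [hs]
      have : 2 * s + 1 - 1 = 2 * s := by omega
      rw [this]
      have : (2 * s + 1) ^ 2 = 2 * (2 * s * (s + 1)) + 1 := by ring
      rw [this]
      omega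
    rw [e, ← map_pow, pow_mul, FiniteField.pow_card_sub_one_eq_one D hD0, one_pow, map_one]
  obtain ⟨w, hw⟩ := hsq
  refine ⟨w, hw.symm, ?_⟩
  have hDs : D ^ s = -1 := by
    have e : Fintype.card F / 2 = s := by rw [hs]; omega
    rcases FiniteField.pow_dichotomy hF hD0 with h | h
    · exact absurd ((FiniteField.isSquare_iff hF hD0).2 h) hD
    · rw [e] at h
      exact h
  rw [hs, pow_succ, pow_mul, pow_two, ← hw, ← map_pow, hDs, map_neg, map_one, neg_one_mul]

end sqrt

section model

variable {F : Type*} [Field F] [Fintype F] {E : Type*} [Field E] [Algebra F E] [Fintype E]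
  (d : ℕ)

/-- the alternating form `Tr(w h(u, v))` on `E^d` -/
noncomputable def uForm (w : E) : LinearMap.BilinForm F (Fin d → E) :=
  LinearMap.mk₂ F
    (fun u v => Algebra.trace F E (w * ∑ i, u i * FiniteField.frobeniusAlgHom F E (v i)))
    (by
      intro u u' v
      simp only [Pi.add_apply, add_mul, Finset.sum_add_distrib, mul_add, map_add])
    (by
      intro a u v
      simp only [Pi.smul_apply, smul_mul_assoc, ← Finset.smul_sum, mul_smul_comm, map_smul])
    (by
      intro u v v'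
      simp only [Pi.add_apply, map_add, mul_add, Finset.sum_add_distrib])
    (by
      intro a u v
      simp only [Pi.smul_apply, map_smul, mul_smul_comm, ← Finset.smul_sum])

theorem uForm_apply (w : E) (u v : Fin d → E) :
    uForm (F := F) d w u v = Algebra.trace F E (w * Cfsg.hermForm d E (Fintype.card F) u v) :=
  rfl

theorem frob_frob (hcardE : Fintype.card E = Fintype.card F ^ 2) (x : E) :
    (x ^ Fintype.card F) ^ Fintype.card F = x := by
  rw [← pow_mul, ← pow_two, ← hcardE]
  exact FiniteField.pow_card x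

theorem uForm_isAlt (h2 : (2 : F) ≠ 0) (hcardE : Fintype.card E = Fintype.card F ^ 2) (w : E)
    (hwq : w ^ Fintype.card F = -w) : (uForm (F := F) d w).IsAlt := by
  intro u
  rw [uForm_apply]
  set h : E := Cfsg.hermForm d E (Fintype.card F) u u with hh
  have hhq : h ^ Fintype.card F = h := by
    rw [hh]
    unfold Cfsg.hermForm
    have hadd : ∀ (s : Finset (Fin d)) (f : Fin d → E),
        (∑ i ∈ s, f i) ^ Fintype.card F = ∑ i ∈ s, f i ^ Fintype.card F := by
      intro s f
      exact map_sum (FiniteField.frobeniusAlgHom F E) f s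
    rw [hadd]
    apply Finset.sum_congr rfl
    intro i _
    rw [mul_pow, frob_frob hcardE, mul_comm]
  let σ : E ≃ₐ[F] E := FiniteField.frobeniusAlgEquivOfAlgebraic F E
  have hσ : ∀ x, σ x = x ^ Fintype.card F := fun x => rfl
  have h1 : Algebra.trace F E (w * h) = Algebra.trace F E (σ (w * h)) :=
    (Algebra.trace_eq_of_algEquiv σ (w * h)).symm
  rw [hσ, mul_pow, hwq, hhq, neg_mul, map_neg] at h1
  have h4 : (2 : F) * Algebra.trace F E (w * h) = 0 := by linear_combination h1
  exact (mul_eq_zero.1 h4).resolve_left h2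

theorem uForm_nondegenerate (h2 : (2 : F) ≠ 0) (hcardE : Fintype.card E = Fintype.card F ^ 2)
    (w : E) (hw0 : w ≠ 0) (hwq : w ^ Fintype.card F = -w) :
    (uForm (F := F) d w).Nondegenerate := by
  classical
  have halt := uForm_isAlt d h2 hcardE w hwq
  have htr := traceForm_nondegenerate F E
  have hleft : ∀ u, (∀ v, uForm (F := F) d w u v = 0) → u = 0 := by
    intro u hu
    funext i₀
    have h1 : w * u i₀ = 0 := by
      apply htr.1
      intro y
      have h3 := hu (Pi.single i₀ (y ^ Fintype.card F))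
      rw [uForm_apply] at h3
      unfold Cfsg.hermForm at h3
      rw [Finset.sum_eq_single i₀] at h3
      · rw [Pi.single_eq_same, frob_frob hcardE, ← mul_assoc] at h3
        rw [Algebra.traceForm_apply]
        exact h3
      · intro j _ hj
        rw [Pi.single_eq_of_ne hj, zero_pow Fintype.card_ne_zero, mul_zero]
      · intro h; exact absurd (Finset.mem_univ _) h
    exact (mul_eq_zero.1 h1).resolve_left hw0
  refine ⟨hleft, fun b hb => hleft b (fun a => ?_)⟩
  have := hb a
  rw [← LinearMap.IsAlt.neg halt, this, neg_zero]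

/-- multiplication by `w` -/
noncomputable def wMul (w : E) : (Fin d → E) →ₗ[F] (Fin d → E) where
  toFun v := w • v
  map_add' := smul_add w
  map_smul' a v := smul_comm w a v

theorem wMul_apply (w : E) (v : Fin d → E) : wMul (F := F) d w v = w • v := rfl

theorem isJ_wMul (w : E) (D : F) (hw : w * w = algebraMap F E D)
    (hwq : w ^ Fintype.card F = -w) : IsJ (uForm (F := F) d w) D (wMul d w) := by
  refine ⟨fun v => ?_, fun u v => ?_⟩
  · rw [wMul_apply, wMul_apply, smul_smul, hw, algebraMap_smul]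
  · rw [wMul_apply, wMul_apply, uForm_apply, uForm_apply, ← map_neg]
    congr 1
    unfold Cfsg.hermForm
    rw [← mul_neg, ← Finset.sum_neg_distrib]
    congr 1
    apply Finset.sum_congr rfl
    intro i _
    rw [Pi.smul_apply, Pi.smul_apply, smul_eq_mul, smul_eq_mul, mul_pow, hwq]
    ring

/-- the action of `GL_d(E)` on `E^d` as `F`-linear automorphisms -/
noncomputable def glAct (g : GL (Fin d) E) : (Fin d → E) ≃ₗ[F] (Fin d → E) :=
  LinearEquiv.ofLinear ((Matrix.toLin' (g : Matrix (Fin d) (Fin d) E)).restrictScalars F)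
    ((Matrix.toLin' ((g⁻¹ : GL (Fin d) E) : Matrix (Fin d) (Fin d) E)).restrictScalars F)
    (by
      apply LinearMap.ext
      intro v
      show (g : Matrix (Fin d) (Fin d) E) *ᵥ
        (((g⁻¹ : GL (Fin d) E) : Matrix (Fin d) (Fin d) E) *ᵥ v) = v
      rw [Matrix.mulVec_mulVec, GL_mul_inv, Matrix.one_mulVec])
    (by
      apply LinearMap.ext
      intro v
      show ((g⁻¹ : GL (Fin d) E) : Matrix (Fin d) (Fin d) E) *ᵥ
        ((g : Matrix (Fin d) (Fin d) E) *ᵥ v) = v
      rw [Matrix.mulVec_mulVec, GL_inv_mul, Matrix.one_mulVec])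

theorem glAct_apply (g : GL (Fin d) E) (v : Fin d → E) :
    glAct (F := F) d g v = (g : Matrix (Fin d) (Fin d) E) *ᵥ v := rfl

end model

section embed

variable {F : Type*} [Field F] [Fintype F] (d : ℕ)

local notation "V" => (Fin d ⊕ Fin d → F)
local notation "Mat" => Matrix (Fin d ⊕ Fin d) (Fin d ⊕ Fin d) F

/-- the order of `GU_d(q)` divides the order of the normaliser in `Sp_{2d}(q)` -/
theorem card_GU_dvd (p : ℕ) [Fact p.Prime] [CharP F p] (h2 : (2 : F) ≠ 0)
    (hodd : Odd (Fintype.card F)) (hd : 1 ≤ d) (K : Subalgebra F Mat) (κ : Mat) (D : F)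
    (hgen : SkewGen d κ D) (hκK : κ ∈ K) (hκns : ∀ a : F, κ ≠ a • (1 : Mat))
    (hdec : ∀ k ∈ K, ∃ a b : F, k = a • (1 : Mat) + b • κ) :
    (Fintype.card F ^ (d * (d - 1) / 2) * ∏ i ∈ Finset.range d,
      (if Even i then Fintype.card F ^ (i + 1) + 1 else Fintype.card F ^ (i + 1) - 1)) ∣
      Nat.card ↥(Cfsg.Geo.subalgebraNormalizer K ⊓ Cfsg.spGL d F) := by
  classical
  have hDns := not_isSquare_of_skewGen d hd hgen
  have hD0 : D ≠ 0 := ne_zero_of_not_isSquare hDns
  have hcard : Fintype.card F % 2 = 1 := Nat.odd_iff.1 hodd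
  let E := FiniteField.Extension F p 2
  have : Finite E := inferInstance
  let _ : Fintype E := Fintype.ofFinite E
  have hcardE : Fintype.card E = Fintype.card F ^ 2 := by
    rw [← Nat.card_eq_fintype_card, FiniteField.natCard_extension, Nat.card_eq_fintype_card]
  have hfrE : finrank F E = 2 := FiniteField.finrank_extension F p 2
  obtain ⟨w, hw, hwq⟩ := exists_sqrt_ext (E := E) h2 hodd hcardE D hDns
  have hw0 : w ≠ 0 := by
    rintro rfl
    rw [mul_zero] at hw
    apply hD0
    apply (algebraMap F E).injective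
    rw [← hw, map_zero]
  rw [← Cfsg.Agent.Lib.Helper5.card_GU hcardE d]
  have hfr : finrank F V = finrank F (Fin d → E) := by
    rw [Module.finrank_fintype_fun_eq_card, Fintype.card_sum, Fintype.card_fin,
      Module.finrank_pi_fintype]
    simp [hfrE]
    ring
  obtain ⟨T, hTω, hTJ⟩ := exists_conj hcard h2 D hDns (uForm (F := F) d w)
    (uForm_isAlt d h2 hcardE w hwq) (uForm_nondegenerate d h2 hcardE w hw0 hwq) (wMul d w)
    (isJ_wMul d w D hw hwq) (sympB d) (sympB_isAlt d) (sympB_nondegenerate d) (Matrix.toLin' κ)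
    (isJ_of_skewGen d hgen) hfr.symm
  have hTJ' : ∀ x : V, T.symm (κ *ᵥ x) = w • T.symm x := by
    intro x
    apply T.injective
    rw [LinearEquiv.apply_symm_apply, ← wMul_apply (F := F), hTJ, LinearEquiv.apply_symm_apply,
      Matrix.toLin'_apply]
  let ψ : Cfsg.GU d E (Fintype.card F) → (V ≃ₗ[F] V) := fun g =>
    T.symm.trans ((glAct (F := F) d g.1).trans T)
  have hψ : ∀ g v, ψ g v = T ((g.1 : Matrix (Fin d) (Fin d) E) *ᵥ T.symm v) := fun g v => rfl
  let φ : Cfsg.GU d E (Fintype.card F) →* GL (Fin d ⊕ Fin d) F :=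
    MonoidHom.mk' (fun g => glOfEquiv d (ψ g)) (by
      intro g h
      apply Units.ext
      rw [Units.val_mul, Matrix.ext_iff_mulVec]
      intro v
      rw [← Matrix.mulVec_mulVec, glOfEquiv_mulVec, glOfEquiv_mulVec, glOfEquiv_mulVec, hψ, hψ, hψ,
        LinearEquiv.symm_apply_apply, Matrix.mulVec_mulVec]
      rfl)
  have hφv : ∀ g v, ((φ g : GL (Fin d ⊕ Fin d) F) : Mat) *ᵥ v =
      T ((g.1 : Matrix (Fin d) (Fin d) E) *ᵥ T.symm v) := by
    intro g v
    show ((glOfEquiv d (ψ g) : GL (Fin d ⊕ Fin d) F) : Mat) *ᵥ v = _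
    rw [glOfEquiv_mulVec, hψ]
  have hmem : ∀ g, φ g ∈ Cfsg.Geo.subalgebraNormalizer K ⊓ Cfsg.spGL d F := by
    intro g
    refine Subgroup.mem_inf.2 ⟨?_, ?_⟩
    · apply mem_normalizer_of_comm d K κ hκK hκns hdec
      intro x
      rw [hφv, hφv, hTJ', Matrix.mulVec_smul, ← wMul_apply (F := F), hTJ, Matrix.toLin'_apply]
    · rw [mem_spGL_iff]
      intro u v
      rw [hφv, hφv, ← sympB_apply, ← sympB_apply, hTω, uForm_apply]
      have hg := g.2 (T.symm u) (T.symm v)
      have hg' : Cfsg.hermForm d E (Fintype.card F)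
          ((g.1 : Matrix (Fin d) (Fin d) E) *ᵥ T.symm u)
          ((g.1 : Matrix (Fin d) (Fin d) E) *ᵥ T.symm v) =
          Cfsg.hermForm d E (Fintype.card F) (T.symm u) (T.symm v) := hg
      rw [hg', ← uForm_apply, ← hTω, LinearEquiv.apply_symm_apply, LinearEquiv.apply_symm_apply]
  have hinj : Function.Injective (φ.codRestrict _ hmem) := by
    intro g h hgh
    have h1 : φ g = φ h := congrArg Subtype.val hgh
    apply Subtype.ext
    apply Units.ext
    rw [Matrix.ext_iff_mulVec]
    intro m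
    have h3 := hφv g (T m)
    rw [h1, hφv, LinearEquiv.symm_apply_apply] at h3
    exact (T.injective h3).symm
  exact Subgroup.card_dvd_of_injective _ hinj

/-- a prime dividing the index -/
theorem index_cases (p : ℕ) [Fact p.Prime] [CharP F p] (h2 : (2 : F) ≠ 0)
    (hodd : Odd (Fintype.card F)) (hd : 1 ≤ d) (K : Subalgebra F Mat) (κ : Mat) (D : F)
    (hgen : SkewGen d κ D) (hκK : κ ∈ K) (hκns : ∀ a : F, κ ≠ a • (1 : Mat))
    (hdec : ∀ k ∈ K, ∃ a b : F, k = a • (1 : Mat) + b • κ) (r : ℕ) (hr : r.Prime)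
    (hΩ : r ∣ (Cfsg.Geo.subalgebraNormalizer K).relIndex (Cfsg.spGL d F)) :
    r ∣ Fintype.card F ∨ ∃ i < d,
      r ∣ (if Even i then Fintype.card F ^ (i + 1) - 1 else Fintype.card F ^ (i + 1) + 1) := by
  classical
  set q := Fintype.card F with hq
  have hq1 : 1 ≤ q := Fintype.card_pos
  have h1 := card_GU_dvd d p h2 hodd hd K κ D hgen hκK hκns hdec
  have e1 : Nat.card ↥(Cfsg.Geo.subalgebraNormalizer K ⊓ Cfsg.spGL d F) *
      (Cfsg.Geo.subalgebraNormalizer K).relIndex (Cfsg.spGL d F) = Nat.card (Cfsg.spGL d F) := by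
    have := Subgroup.relIndex_mul_relIndex ⊥ (Cfsg.Geo.subalgebraNormalizer K ⊓ Cfsg.spGL d F)
      (Cfsg.spGL d F) bot_le inf_le_right
    rw [Subgroup.relIndex_bot_left, Subgroup.relIndex_bot_left, Subgroup.inf_relIndex_right]
      at this
    exact this
  have h3 : (q ^ (d * (d - 1) / 2) * ∏ i ∈ Finset.range d,
      (if Even i then q ^ (i + 1) + 1 else q ^ (i + 1) - 1)) * r ∣ Nat.card (Cfsg.spGL d F) := by
    rw [← e1]
    exact Nat.mul_dvd_mul h1 hΩ
  rw [card_spGL] at h3
  have hfac : ∀ i, q ^ (2 * (i + 1)) - 1 =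
      (if Even i then q ^ (i + 1) + 1 else q ^ (i + 1) - 1) *
        (if Even i then q ^ (i + 1) - 1 else q ^ (i + 1) + 1) := by
    intro i
    have ha : 1 ≤ q ^ (i + 1) := Nat.one_le_pow _ _ hq1
    have e : q ^ (2 * (i + 1)) = q ^ (i + 1) * q ^ (i + 1) := by rw [← pow_add]; congr 1; ring
    rw [e]
    generalize q ^ (i + 1) = a at ha
    have hkey : a * a - 1 = (a + 1) * (a - 1) := by
      obtain ⟨b, rfl⟩ : ∃ b, a = b + 1 := ⟨a - 1, by omega⟩
      have : (b + 1) * (b + 1) - 1 = b * b + 2 * b := by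
        have : (b + 1) * (b + 1) = b * b + 2 * b + 1 := by ring
        omega
      rw [this, Nat.add_sub_cancel]
      ring
    split_ifs
    · exact hkey
    · rw [hkey, mul_comm]
  have hprod : ∏ i ∈ Finset.range d, (q ^ (2 * (i + 1)) - 1) =
      (∏ i ∈ Finset.range d, (if Even i then q ^ (i + 1) + 1 else q ^ (i + 1) - 1)) *
        ∏ i ∈ Finset.range d, (if Even i then q ^ (i + 1) - 1 else q ^ (i + 1) + 1) := by
    rw [← Finset.prod_mul_distrib]
    exact Finset.prod_congr rfl (fun i _ => hfac i)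
  rw [hprod] at h3
  set G := ∏ i ∈ Finset.range d, (if Even i then q ^ (i + 1) + 1 else q ^ (i + 1) - 1) with hG
  set C := ∏ i ∈ Finset.range d, (if Even i then q ^ (i + 1) - 1 else q ^ (i + 1) + 1) with hC
  have hGpos : 0 < G := by
    rw [hG]
    apply Finset.prod_pos
    intro i _
    have ha : 1 ≤ q ^ (i + 1) := Nat.one_le_pow _ _ hq1
    split_ifs
    · omega
    · have hq2 : 2 ≤ q := by
        have := Fintype.one_lt_card (α := F)
        omega
      have : 2 ≤ q ^ (i + 1) := by
        calc 2 ≤ q := hq2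
          _ = q ^ 1 := (pow_one q).symm
          _ ≤ q ^ (i + 1) := Nat.pow_le_pow_right hq1 (by omega)
      omega
  have h4 : G * (q ^ (d * (d - 1) / 2) * r) ∣ G * (q ^ d ^ 2 * C) := by
    have e2 : G * (q ^ (d * (d - 1) / 2) * r) = q ^ (d * (d - 1) / 2) * G * r := by ring
    have e3 : G * (q ^ d ^ 2 * C) = q ^ d ^ 2 * (G * C) := by ring
    rw [e2, e3]
    exact h3
  have h5 : q ^ (d * (d - 1) / 2) * r ∣ q ^ d ^ 2 * C := (Nat.mul_dvd_mul_iff_left hGpos).1 h4
  have h6 : r ∣ q ^ d ^ 2 * C := dvd_trans (dvd_mul_left r _) h5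
  rcases (Nat.Prime.dvd_mul hr).1 h6 with h | h
  · exact Or.inl (hr.dvd_of_dvd_pow h)
  · right
    rw [hC, Prime.dvd_finset_prod_iff (Nat.prime_iff.1 hr)] at h
    obtain ⟨i, hi, hri⟩ := h
    exact ⟨i, Finset.mem_range.1 hi, hri⟩

end embed

end Cfsg.Agent.Lib.Helper8.GUSp
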