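import Cfsg.Agent.Lib.Helper8.MiNUM

/-! # Mi hive (S2140, helper81): leaves MI-AR1/2/3 (`Npts_mul`, `Npts_succ`, `Npts_lt`). -/

set_option autoImplicit false

namespace Cfsg.Agent.Lib.Helper81.Mi

open Matrix

/-- MI-AR1 -/
theorem Npts_mul (q n : ℕ) (hq : 2 ≤ q) : Npts q n * (q - 1) = q ^ n - 1 := by
  obtain ⟨r, rfl⟩ : ∃ r, q = r + 1 := ⟨q - 1, by omega⟩
  rw [num_Npts r n (by omega), Nat.add_sub_cancel, ← num_geom r n, Nat.add_sub_cancel]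

/-- MI-AR2 -/
theorem Npts_succ (q n : ℕ) (hq : 2 ≤ q) : Npts q (n + 1) = q ^ n + Npts q n := by
  obtain ⟨r, rfl⟩ : ∃ r, q = r + 1 := ⟨q - 1, by omega⟩
  rw [num_Npts r (n + 1) (by omega), num_Npts r n (by omega), Finset.sum_range_succ, add_comm]

/-- MI-AR3 : `N_n ≤ 2 q^(n-1) - 1`. -/
theorem Npts_lt (q n : ℕ) (hq : 2 ≤ q) (hn : 1 ≤ n) : Npts q n < 2 * q ^ (n - 1) := by
  obtain ⟨r, rfl⟩ : ∃ r, q = r + 1 := ⟨q - 1, by omega⟩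
  obtain ⟨k, rfl⟩ : ∃ k, n = k + 1 := ⟨n - 1, by omega⟩
  have hr : 1 ≤ r := by omega
  rw [num_Npts r (k + 1) hr, Finset.sum_range_succ, Nat.add_sub_cancel]
  have h := num_geom r k
  have h1 : ∑ i ∈ Finset.range k, (r + 1) ^ i ≤ (∑ i ∈ Finset.range k, (r + 1) ^ i) * r :=
    Nat.le_mul_of_pos_right _ hr
  omega

end Cfsg.Agent.Lib.Helper81.Mi
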