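import Cfsg.Agent.Lib.Helper81.Mi.Defs

/-! # Mi hive (S2140, helper81): leaf MI-NUM `dich_num`. -/

set_option autoImplicit false

namespace Cfsg.Agent.Lib.Helper81.Mi

open Matrix

/-- `(1 + q + ... + q^(n-1)) * (q - 1) + 1 = q^n`, subtraction free. -/
theorem num_geom (r n : ℕ) : (∑ k ∈ Finset.range n, (r + 1) ^ k) * r + 1 = (r + 1) ^ n := by
  induction n with
  | zero => simp
  | succ n ih =>
    rw [Finset.sum_range_succ, add_mul, pow_succ]
    calc (∑ k ∈ Finset.range n, (r + 1) ^ k) * r + (r + 1) ^ n * r + 1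
        = ((∑ k ∈ Finset.range n, (r + 1) ^ k) * r + 1) + (r + 1) ^ n * r := by ring
      _ = (r + 1) ^ n * (r + 1) := by rw [ih]; ring

theorem num_Npts (r n : ℕ) (hr : 1 ≤ r) : Npts (r + 1) n = ∑ k ∈ Finset.range n, (r + 1) ^ k := by
  unfold Npts
  have h := num_geom r n
  rw [Nat.add_sub_cancel, ← h, Nat.add_sub_cancel]
  exact Nat.mul_div_cancel _ hr

/-- the case `n = 3`. -/
theorem num_three (r s' a d : ℕ) (hr : 1 ≤ r) (hs' : 1 ≤ s')
    (hsN : (s' + 1) ∣ (r + 1) ^ 2) (has : a * s' = (r + 2) * r)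
    (hd : a * (s' + 1) ≤ d) (hdN : d < (r + 2) + (r + 1) ^ 2) (ha : a ≤ r + 2) :
    (a = 1 ∧ s' + 1 = (r + 1) ^ 2) ∨ (a = r + 2 ∧ s' = r ∧ d = (r + 1) * (r + 2)) := by
  -- s' ≥ r
  have hsr : r ≤ s' := by
    by_contra hlt
    rw [not_le] at hlt
    have h1 : a * s' ≤ (r + 2) * s' := Nat.mul_le_mul_right _ ha
    have h2 : (r + 2) * s' < (r + 2) * r := Nat.mul_lt_mul_of_pos_left hlt (by omega)
    omega
  obtain ⟨t, ht⟩ := hsN
  have ht0 : t ≠ 0 := by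
    rintro rfl
    simp at ht
  obtain ⟨t', rfl⟩ := Nat.exists_eq_succ_of_ne_zero ht0
  -- t' ≤ r
  have htr : t' ≤ r := by
    by_contra hlt
    rw [not_le] at hlt
    have h1 : (r + 1) * (r + 2) ≤ (s' + 1) * (t' + 1) := Nat.mul_le_mul (by omega) (by omega)
    nlinarith
  -- s' ∣ t'
  have hkey : s' * t' + s' + t' = a * s' := by
    rw [has]
    nlinarith
  have hdiv : s' ∣ t' := by
    have h1 : s' ∣ a * s' := dvd_mul_left _ _
    rw [← hkey] at h1
    have h2 : s' ∣ s' * t' + s' := by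
      exact dvd_add (dvd_mul_right _ _) dvd_rfl
    exact (Nat.dvd_add_right h2).mp h1
  rcases Nat.eq_zero_or_pos t' with h0 | hpos
  · left
    subst h0
    have h1 : s' + 1 = (r + 1) ^ 2 := by rw [ht]; ring
    refine ⟨?_, h1⟩
    have h2 : a * s' = 1 * s' := by
      rw [has]; nlinarith
    exact Nat.eq_of_mul_eq_mul_right (by omega) h2
  · right
    have hle : s' ≤ t' := Nat.le_of_dvd hpos hdiv
    have hst : s' = t' := by omega
    subst hst
    have hsr' : s' = r := by omega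
    subst hsr'
    have h2 : a * s' = (s' + 2) * s' := has
    have ha' : a = s' + 2 := Nat.eq_of_mul_eq_mul_right (by omega) h2
    refine ⟨ha', rfl, ?_⟩
    subst ha'
    nlinarith

/-- subtraction-free core of MI-NUM. -/
theorem num_core (r M s' a d G : ℕ) (hr : 1 ≤ r) (hM : 2 ≤ M) (hs' : 1 ≤ s')
    (hG1 : 1 ≤ G) (hG2 : M = 2 → G = r + 2)
    (hN : G * r + 1 = (r + 1) ^ M)
    (hsN : (s' + 1) ∣ (r + 1) ^ M)
    (has : a * s' = G * r)
    (hd : a * (s' + 1) ≤ d) (hdN : d < G + (r + 1) ^ M)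
    (hih : 3 ≤ M → a = 1 ∨ G ≤ a ∨ (M = 4 ∧ r = 1 ∧ a = 8)) :
    (a = 1 ∧ s' + 1 = (r + 1) ^ M) ∨ (a = G ∧ s' = r ∧ d = (r + 1) * G) := by
  have h1 : a * (s' + 1) = G * r + a := by rw [mul_add, has, mul_one]
  have haG : a ≤ G := by omega
  by_cases h3 : 3 ≤ M
  · rcases hih h3 with ha1 | hGa | ⟨hM4, hr1, ha8⟩
    · left
      refine ⟨ha1, ?_⟩
      rw [ha1, one_mul] at has
      omega
    · right
      have haG' : a = G := le_antisymm haG hGa
      subst haG'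
      have hsr : s' = r := Nat.eq_of_mul_eq_mul_left (by omega) has
      refine ⟨rfl, hsr, ?_⟩
      have : (r + 1) * a = a * r + a := by ring
      omega
    · exfalso
      subst hM4 hr1 ha8
      omega
  · have hM2 : M = 2 := by omega
    subst hM2
    have hG := hG2 rfl
    subst hG
    have := num_three r s' a d hr hs' hsN has hd hdN haG
    rcases this with ⟨h1, h2⟩ | ⟨h1, h2, h3⟩
    · left; exact ⟨h1, h2⟩
    · right; exact ⟨h1, h2, h3⟩

/-- MI-NUM -/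
theorem dich_num (q n s a d : ℕ) (hq : IsPrimePow q) (hn : 3 ≤ n) (hs1 : 1 < s) (hsN : s ∣ q ^ (n - 1))
    (has : a * (s - 1) = q ^ (n - 1) - 1) (hd : a * s ≤ d) (hdN : d < Npts q n)
    (hih : 4 ≤ n → a = 1 ∨ Npts q (n - 1) ≤ a ∨ (n - 1 = 4 ∧ q = 2 ∧ a = 8)) :
    (a = 1 ∧ s = q ^ (n - 1)) ∨ (a = Npts q (n - 1) ∧ s = q ∧ d = q * Npts q (n - 1)) := by
  have hq2 : 2 ≤ q := hq.two_le
  obtain ⟨r, rfl⟩ : ∃ r, q = r + 1 := ⟨q - 1, by omega⟩
  obtain ⟨M, rfl⟩ : ∃ M, n = M + 1 := ⟨n - 1, by omega⟩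
  obtain ⟨s', rfl⟩ : ∃ s', s = s' + 1 := ⟨s - 1, by omega⟩
  have hr : 1 ≤ r := by omega
  simp only [Nat.add_sub_cancel] at hsN has hih ⊢
  have hN := num_geom r M
  rw [num_Npts r (M + 1) hr, Finset.sum_range_succ] at hdN
  rw [num_Npts r M hr] at hih ⊢
  set G := ∑ k ∈ Finset.range M, (r + 1) ^ k with hGdef
  have hM : 2 ≤ M := by omega
  have hG1 : 1 ≤ G := by
    rw [hGdef]
    obtain ⟨M', rfl⟩ : ∃ M', M = M' + 1 := ⟨M - 1, by omega⟩
    rw [Finset.sum_range_succ']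
    simp
  have hG2 : M = 2 → G = r + 2 := by
    intro h2
    rw [hGdef, h2, Finset.sum_range_succ, Finset.sum_range_succ]
    simp
    ring
  have has' : a * s' = G * r := by
    rw [has, ← hN, Nat.add_sub_cancel]
  have hih' : 3 ≤ M → a = 1 ∨ G ≤ a ∨ (M = 4 ∧ r = 1 ∧ a = 8) := by
    intro h3
    rcases hih (by omega) with h | h | ⟨h1, h2, h3⟩
    · exact Or.inl h
    · exact Or.inr (Or.inl h)
    · exact Or.inr (Or.inr ⟨h1, by omega, h3⟩)
  rcases num_core r M s' a d G hr hM (by omega) hG1 hG2 hN hsN has' hd hdN hih' with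
    ⟨h1, h2⟩ | ⟨h1, h2, h3⟩
  · left; exact ⟨h1, h2⟩
  · right; exact ⟨h1, by omega, h3⟩

end Cfsg.Agent.Lib.Helper81.Mi
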