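import Mathlib
import Cfsg.Prelude.Def_CaseTheorems

/-! # N57 mini-hive (S1957, helper84): leaf N57-INV `normalizer_zpowers` (helper8) -/

set_option autoImplicit false

open Cfsg

namespace Cfsg.Agent.Lib.Helper84.N57

variable {G : Type*} [Group G] [Finite G]

/-- N57-INV: for an involution-or-1 u, N_G(⟨u⟩) = C_G(u). -/
theorem normalizer_zpowers (u : G) (hu2 : u * u = 1) :
    Subgroup.normalizer ((Subgroup.zpowers u : Subgroup G) : Set G) = Subgroup.centralizer ({u} : Set G) := by
  have hzp : ∀ x : G, x ∈ Subgroup.zpowers u ↔ x = 1 ∨ x = u := by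
    intro x
    constructor
    · rintro ⟨k, rfl⟩
      have hsq : u ^ (2 : ℤ) = 1 := by
        rw [zpow_ofNat, pow_two]; exact hu2
      rcases Int.emod_two_eq_zero_or_one k with h | h
      · left
        have : k = 2 * (k / 2) := by omega
        show u ^ k = 1
        rw [this, zpow_mul, hsq, one_zpow]
      · right
        have : k = 2 * (k / 2) + 1 := by omega
        show u ^ k = u
        rw [this, zpow_add, zpow_mul, hsq, one_zpow, one_mul, zpow_one]
    · rintro (rfl | rfl)
      · exact one_mem _
      · exact Subgroup.mem_zpowers _
  ext g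
  rw [Subgroup.mem_normalizer_iff, Subgroup.mem_centralizer_iff]
  constructor
  · intro h y hy
    rw [Set.mem_singleton_iff] at hy
    subst hy
    -- g y g⁻¹ ∈ zpowers y
    have h1 : g * y * g⁻¹ ∈ Subgroup.zpowers y := (h y).1 (Subgroup.mem_zpowers _)
    rcases (hzp _).1 h1 with h2 | h2
    · -- g y g⁻¹ = 1 → y = 1
      have : y = 1 := by
        have := congrArg (fun t => g⁻¹ * t * g) h2
        simpa [mul_assoc] using this
      rw [this]; simp
    · -- g y g⁻¹ = y
      have : g * y = y * g := by
        calc g * y = (g * y * g⁻¹) * g := by group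
          _ = y * g := by rw [h2]
      exact this.symm
  · intro h x
    have hc : u * g = g * u := h u (Set.mem_singleton _)
    have hconj : g * u * g⁻¹ = u := by
      rw [← hc]; group
    have hconj' : g⁻¹ * u * g = u := by
      calc g⁻¹ * u * g = g⁻¹ * (u * g) := by group
        _ = g⁻¹ * (g * u) := by rw [hc]
        _ = u := by group
    rw [hzp, hzp]
    constructor
    · rintro (rfl | rfl)
      · left; group
      · right; exact hconj
    · rintro (h1 | h1)
      · left
        have := congrArg (fun t => g⁻¹ * t * g) h1
        simpa [mul_assoc] using this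
      · right
        have := congrArg (fun t => g⁻¹ * t * g) h1
        have e : g⁻¹ * (g * x * g⁻¹) * g = x := by group
        simp only [e] at this
        rw [this, hconj']

end Cfsg.Agent.Lib.Helper84.N57
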