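import Mathlib
import Cfsg.Prelude.Def_GeometricClasses

/-!
# OC-IDX (Oc hive, S5977/S5978): the `E`-quadratic form attached to `(Q, J)`

`V` is a vector space over `E ⊇ F`, `w ∈ E` with `w² = δ`, the polar form `Bf` of `Q` satisfies `Bf (w u) v = Bf u (w v)`.
Then `qE v = Q v + (Bf (w v) v / (2 δ)) w` is a nondegenerate `E`-quadratic form on `V`.
-/

set_option autoImplicit false
set_option linter.unusedSectionVars false

namespace Cfsg.Agent.Lib.Helper44.Oc

open Module

section idxabs

variable {F : Type*} [Field F] {E : Type*} [Field E] [Algebra F E]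
  {V : Type*} [AddCommGroup V] [Module F V] [Module E V] [IsScalarTower F E V]

/-- the data of the construction -/
structure IdxData (Bf : LinearMap.BilinForm F V) (Q : V → F) (w : E) (δ : F) : Prop where
  polar : ∀ u v, Bf u v = QuadraticMap.polar Q u v
  two : (2 : F) ≠ 0
  self : ∀ v, Bf v v = 2 * Q v
  sq : w * w = algebraMap F E δ
  ne : δ ≠ 0
  adj : ∀ u v, Bf (w • u) v = Bf u (w • v)
  span : ∀ z : E, ∃ a b : F, z = algebraMap F E a + algebraMap F E b * w
  ind : ∀ a b : F, algebraMap F E a + algebraMap F E b * w = 0 → a = 0 ∧ b = 0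
  nondeg : ∀ u, (∀ v, Bf u v = 0) → u = 0

/-- the `E`-bilinear form -/
noncomputable def idx_beta (Bf : LinearMap.BilinForm F V) (w : E) (δ : F) (u v : V) : E :=
  algebraMap F E (Bf u v) + algebraMap F E (Bf (w • u) v / δ) * w

/-- the `E`-quadratic form -/
noncomputable def idx_qE (Bf : LinearMap.BilinForm F V) (Q : V → F) (w : E) (δ : F) (v : V) : E :=
  algebraMap F E (Q v) + algebraMap F E (Bf (w • v) v / (2 * δ)) * w

variable {Bf : LinearMap.BilinForm F V} {Q : V → F} {w : E} {δ : F}

theorem IdxData.symm (h : IdxData Bf Q w δ) (u v : V) : Bf u v = Bf v u := by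
  rw [h.polar, h.polar, QuadraticMap.polar_comm]

theorem IdxData.two' (h : IdxData Bf Q w δ) : (2 : E) ≠ 0 := by
  have : (2 : E) = algebraMap F E 2 := (map_ofNat (algebraMap F E) 2).symm
  rw [this]
  intro h0
  exact h.two ((algebraMap F E).injective (by rw [h0, map_zero]))

theorem IdxData.ww (h : IdxData Bf Q w δ) (u : V) : w • (w • u) = δ • u := by
  rw [smul_smul, h.sq, algebraMap_smul]

theorem idx_beta_add_left (u u' v : V) :
    idx_beta Bf w δ (u + u') v = idx_beta Bf w δ u v + idx_beta Bf w δ u' v := by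
  unfold idx_beta
  rw [smul_add, map_add, map_add, LinearMap.add_apply, LinearMap.add_apply, add_div, map_add,
    map_add]
  ring

theorem idx_beta_smulF_left (a : F) (u v : V) :
    idx_beta Bf w δ (a • u) v = algebraMap F E a * idx_beta Bf w δ u v := by
  unfold idx_beta
  rw [smul_comm w a u, map_smul, map_smul, LinearMap.smul_apply, LinearMap.smul_apply,
    smul_eq_mul, smul_eq_mul, mul_div_assoc, map_mul, map_mul]
  ring

theorem IdxData.beta_w_left (h : IdxData Bf Q w δ) (u v : V) :
    idx_beta Bf w δ (w • u) v = w * idx_beta Bf w δ u v := by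
  have e1 : Bf (w • (w • u)) v = δ * Bf u v := by
    rw [h.ww, map_smul, LinearMap.smul_apply, smul_eq_mul]
  unfold idx_beta
  rw [e1, mul_comm δ, mul_div_assoc, div_self h.ne, mul_one, mul_add, ← mul_assoc,
    mul_comm w (algebraMap F E (Bf (w • u) v / δ)), mul_assoc, h.sq, ← map_mul,
    div_mul_cancel₀ _ h.ne]
  ring

theorem IdxData.beta_smul_left (h : IdxData Bf Q w δ) (z : E) (u v : V) :
    idx_beta Bf w δ (z • u) v = z * idx_beta Bf w δ u v := by
  obtain ⟨a, b, rfl⟩ := h.span z
  rw [add_smul, idx_beta_add_left, algebraMap_smul, idx_beta_smulF_left, mul_smul,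
    algebraMap_smul, idx_beta_smulF_left, h.beta_w_left]
  ring

theorem IdxData.beta_symm (h : IdxData Bf Q w δ) (u v : V) :
    idx_beta Bf w δ u v = idx_beta Bf w δ v u := by
  unfold idx_beta
  rw [h.symm u v, h.adj u v, h.symm u (w • v)]

theorem IdxData.beta_add_right (h : IdxData Bf Q w δ) (u v v' : V) :
    idx_beta Bf w δ u (v + v') = idx_beta Bf w δ u v + idx_beta Bf w δ u v' := by
  rw [h.beta_symm, idx_beta_add_left, h.beta_symm v, h.beta_symm v']

theorem IdxData.beta_smul_right (h : IdxData Bf Q w δ) (z : E) (u v : V) :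
    idx_beta Bf w δ u (z • v) = z * idx_beta Bf w δ u v := by
  rw [h.beta_symm, h.beta_smul_left, h.beta_symm]

theorem IdxData.two_qE (h : IdxData Bf Q w δ) (v : V) :
    2 * idx_qE Bf Q w δ v = idx_beta Bf w δ v v := by
  unfold idx_qE idx_beta
  have h2 : (2 : E) = algebraMap F E 2 := (map_ofNat (algebraMap F E) 2).symm
  rw [h.self, mul_add, h2, ← mul_assoc, ← map_mul, ← map_mul]
  congr 3
  field_simp [h.two, h.ne]

theorem IdxData.polar_qE (h : IdxData Bf Q w δ) (u v : V) :
    QuadraticMap.polar (idx_qE Bf Q w δ) u v = idx_beta Bf w δ u v := by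
  have h2 := h.two'
  apply mul_left_cancel₀ h2
  unfold QuadraticMap.polar
  rw [mul_sub, mul_sub, h.two_qE, h.two_qE, h.two_qE, idx_beta_add_left, h.beta_add_right,
    h.beta_add_right, h.beta_symm v u]
  ring

theorem IdxData.qE_smul (h : IdxData Bf Q w δ) (z : E) (v : V) :
    idx_qE Bf Q w δ (z • v) = z ^ 2 * idx_qE Bf Q w δ v := by
  apply mul_left_cancel₀ h.two'
  rw [h.two_qE, h.beta_smul_left, h.beta_smul_right, ← h.two_qE]
  ring

theorem IdxData.beta_nondeg (h : IdxData Bf Q w δ) (u : V)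
    (hu : ∀ v, idx_beta Bf w δ u v = 0) : u = 0 := by
  apply h.nondeg
  intro v
  exact (h.ind _ _ (hu v)).1

theorem IdxData.Q_eq_of_qE_eq (h : IdxData Bf Q w δ) (u v : V)
    (huv : idx_qE Bf Q w δ u = idx_qE Bf Q w δ v) : Q u = Q v := by
  unfold idx_qE at huv
  have h1 : algebraMap F E (Q u - Q v) +
      algebraMap F E (Bf (w • u) u / (2 * δ) - Bf (w • v) v / (2 * δ)) * w = 0 := by
    rw [map_sub, map_sub]
    linear_combination huv
  exact sub_eq_zero.1 (h.ind _ _ h1).1

theorem IdxData.Q_eq_zero_of_qE (h : IdxData Bf Q w δ) (v : V)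
    (hv : idx_qE Bf Q w δ v = 0) : Q v = 0 := by
  unfold idx_qE at hv
  exact (h.ind _ _ hv).1

/-- the transported form is a nondegenerate quadratic form over `E` -/
theorem IdxData.isNondeg (h : IdxData Bf Q w δ) {d : ℕ} (Θ : V ≃ₗ[E] (Fin d → E)) :
    Cfsg.Geo.IsNondegenerateQuadraticForm (fun x : Fin d → E => idx_qE Bf Q w δ (Θ.symm x)) := by
  have hpol : ∀ x y : Fin d → E,
      QuadraticMap.polar (fun x : Fin d → E => idx_qE Bf Q w δ (Θ.symm x)) x y =
        idx_beta Bf w δ (Θ.symm x) (Θ.symm y) := by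
    intro x y
    have := h.polar_qE (Θ.symm x) (Θ.symm y)
    unfold QuadraticMap.polar at this ⊢
    simp only [map_add] at this ⊢
    exact this
  refine ⟨?_, ⟨?_, ?_, ?_, ?_⟩, ?_⟩
  · intro c v
    show idx_qE Bf Q w δ (Θ.symm (c • v)) = c ^ 2 * idx_qE Bf Q w δ (Θ.symm v)
    rw [map_smul, h.qE_smul]
  · intro x y v
    rw [hpol, hpol, hpol, map_add, idx_beta_add_left]
  · intro c x v
    rw [hpol, hpol, map_smul, h.beta_smul_left]
  · intro v x y
    rw [hpol, hpol, hpol, map_add, h.beta_add_right]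
  · intro c v x
    rw [hpol, hpol, map_smul, h.beta_smul_right]
  · intro v hv
    have hv' : Θ.symm v ≠ 0 := by
      intro h0
      apply hv
      have := congrArg Θ h0
      rwa [LinearEquiv.apply_symm_apply, map_zero] at this
    have hex : ∃ y, idx_beta Bf w δ (Θ.symm v) y ≠ 0 := by
      by_contra hcon
      push Not at hcon
      exact hv' (h.beta_nondeg _ hcon)
    obtain ⟨y, hy⟩ := hex
    refine ⟨⟨Θ y, ?_⟩, ⟨Θ y, ?_⟩⟩
    · rw [hpol, LinearEquiv.symm_apply_apply, h.beta_symm]
      exact hy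
    · rw [hpol, LinearEquiv.symm_apply_apply]
      exact hy

end idxabs

end Cfsg.Agent.Lib.Helper44.Oc
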