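import Mathlib
import Cfsg.Prelude.Def_GeometricClasses
import Cfsg.Agent.Lib.Helper8.OcIdxAbs

/-!
# OC-IDX (Oc hive, S5977/S5978): the embedding `O(Q_E) → C_{O(Q)}(J)` and the transfer of Lagrangians
-/

set_option autoImplicit false
set_option linter.unusedSectionVars false

namespace Cfsg.Agent.Lib.Helper44.Oc

open Module
open scoped Matrix MatrixGroups

section emb

variable {F : Type*} [Field F] {ι : Type} [Fintype ι] [DecidableEq ι]
  {E : Type*} [Field E] [Algebra F E]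

/-- the element of `GL` of a linear equivalence -/
noncomputable def idx_glOf (L : (ι → F) ≃ₗ[F] (ι → F)) : GL ι F :=
  ⟨LinearMap.toMatrix' L.toLinearMap, LinearMap.toMatrix' L.symm.toLinearMap,
    by rw [← LinearMap.toMatrix'_comp]; simp,
    by rw [← LinearMap.toMatrix'_comp]; simp⟩

theorem idx_glOf_mulVec (L : (ι → F) ≃ₗ[F] (ι → F)) (v : ι → F) :
    ((idx_glOf L : GL ι F) : Matrix ι ι F) *ᵥ v = L v := by
  show (LinearMap.toMatrix' L.toLinearMap) *ᵥ v = L v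
  rw [LinearMap.toMatrix'_mulVec]
  rfl

/-- the action of `GL_d(E)` on `E^d` as `F`-linear automorphisms -/
noncomputable def idx_glAct {d : ℕ} (g : GL (Fin d) E) : (Fin d → E) ≃ₗ[F] (Fin d → E) :=
  LinearEquiv.ofLinearMap ((Matrix.toLin' (g : Matrix (Fin d) (Fin d) E)).restrictScalars F)
    ((Matrix.toLin' ((g⁻¹ : GL (Fin d) E) : Matrix (Fin d) (Fin d) E)).restrictScalars F)
    (by
      apply LinearMap.ext
      intro v
      show (g : Matrix (Fin d) (Fin d) E) *ᵥ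
        (((g⁻¹ : GL (Fin d) E) : Matrix (Fin d) (Fin d) E) *ᵥ v) = v
      rw [Matrix.mulVec_mulVec, ← Units.val_mul, mul_inv_cancel, Units.val_one,
        Matrix.one_mulVec])
    (by
      apply LinearMap.ext
      intro v
      show ((g⁻¹ : GL (Fin d) E) : Matrix (Fin d) (Fin d) E) *ᵥ
        ((g : Matrix (Fin d) (Fin d) E) *ᵥ v) = v
      rw [Matrix.mulVec_mulVec, ← Units.val_mul, inv_mul_cancel, Units.val_one,
        Matrix.one_mulVec])

theorem idx_glAct_apply {d : ℕ} (g : GL (Fin d) E) (v : Fin d → E) :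
    idx_glAct (F := F) g v = (g : Matrix (Fin d) (Fin d) E) *ᵥ v := rfl

variable [Module E (ι → F)] [IsScalarTower F E (ι → F)]

/-- the embedding of `O(Q_E)` into the centraliser of `J` in `O(Q)` -/
theorem idx_embed (Q : (ι → F) → F) (J : Matrix ι ι F) (w : E) (δ : F)
    (Bf : LinearMap.BilinForm F (ι → F)) (hdata : IdxData Bf Q w δ)
    (hJw : ∀ v : ι → F, J *ᵥ v = w • v) {d : ℕ} (Θ : (ι → F) ≃ₗ[E] (Fin d → E)) :
    ∃ φ : ↥(Cfsg.isometryGroup E (fun x : Fin d → E => idx_qE Bf Q w δ (Θ.symm x))) →* GL ι F,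
      Function.Injective φ ∧ ∀ g, φ g ∈ Cfsg.isometryGroup F Q ∧
        ((φ g : GL ι F) : Matrix ι ι F) * J = J * ((φ g : GL ι F) : Matrix ι ι F) := by
  classical
  set T : (ι → F) ≃ₗ[F] (Fin d → E) := Θ.restrictScalars F with hT
  have hTΘ : ∀ v, T v = Θ v := fun v => rfl
  have hTΘs : ∀ x, T.symm x = Θ.symm x := fun x => rfl
  let ψ : GL (Fin d) E → ((ι → F) ≃ₗ[F] (ι → F)) := fun g =>
    T.trans ((idx_glAct (F := F) g).trans T.symm)
  have hψ : ∀ g v, ψ g v = Θ.symm ((g : Matrix (Fin d) (Fin d) E) *ᵥ Θ v) := fun g v => rfl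
  let φ₀ : GL (Fin d) E →* GL ι F :=
    MonoidHom.mk' (fun g => idx_glOf (ψ g)) (by
      intro g h
      apply Units.ext
      rw [Units.val_mul, Matrix.ext_iff_mulVec]
      intro v
      rw [← Matrix.mulVec_mulVec, idx_glOf_mulVec, idx_glOf_mulVec, idx_glOf_mulVec, hψ, hψ, hψ,
        LinearEquiv.apply_symm_apply, Matrix.mulVec_mulVec]
      rfl)
  have hφv : ∀ g v, ((φ₀ g : GL ι F) : Matrix ι ι F) *ᵥ v =
      Θ.symm ((g : Matrix (Fin d) (Fin d) E) *ᵥ Θ v) := by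
    intro g v
    show ((idx_glOf (ψ g) : GL ι F) : Matrix ι ι F) *ᵥ v = _
    rw [idx_glOf_mulVec, hψ]
  refine ⟨φ₀.comp (Subgroup.subtype _), ?_, ?_⟩
  · intro g h hgh
    have h1 : φ₀ g.1 = φ₀ h.1 := hgh
    apply Subtype.ext
    apply Units.ext
    rw [Matrix.ext_iff_mulVec]
    intro m
    have h3 := hφv g.1 (Θ.symm m)
    rw [h1, hφv, LinearEquiv.apply_symm_apply] at h3
    exact (Θ.symm.injective h3).symm
  · intro g
    refine ⟨?_, ?_⟩
    · intro u v
      show Q (((φ₀ g.1 : GL ι F) : Matrix ι ι F) *ᵥ u) = Q u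
      rw [hφv]
      apply hdata.Q_eq_of_qE_eq
      have hg := g.2 (Θ u) (Θ u)
      have hg' : idx_qE Bf Q w δ (Θ.symm ((g.1 : Matrix (Fin d) (Fin d) E) *ᵥ Θ u)) =
          idx_qE Bf Q w δ (Θ.symm (Θ u)) := hg
      rw [hg', LinearEquiv.symm_apply_apply]
    · rw [Matrix.ext_iff_mulVec]
      intro v
      show (((φ₀ g.1 : GL ι F) : Matrix ι ι F) * J) *ᵥ v =
        (J * ((φ₀ g.1 : GL ι F) : Matrix ι ι F)) *ᵥ v
      rw [← Matrix.mulVec_mulVec, ← Matrix.mulVec_mulVec, hφv, hφv, hJw, hJw, map_smul,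
        Matrix.mulVec_smul, map_smul]

/-- transfer of a totally singular subspace -/
theorem idx_lagrangian_transfer (Q : (ι → F) → F) (w : E) (δ : F)
    (Bf : LinearMap.BilinForm F (ι → F)) (hdata : IdxData Bf Q w δ) (hfrE : finrank F E = 2)
    {d : ℕ} (Θ : (ι → F) ≃ₗ[E] (Fin d → E)) (U : Submodule E (Fin d → E)) (e : ℕ)
    (hU : finrank E U = e) (hUQ : ∀ x ∈ U, idx_qE Bf Q w δ (Θ.symm x) = 0) :
    ∃ X : Submodule F (ι → F), finrank F X = 2 * e ∧ ∀ x ∈ X, Q x = 0 := by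
  classical
  set P : Submodule E (ι → F) := U.map (Θ.symm : (Fin d → E) →ₗ[E] (ι → F)) with hP
  have hPfr : finrank E P = e := by
    rw [hP, LinearEquiv.finrank_map_eq, hU]
  refine ⟨P.restrictScalars F, ?_, ?_⟩
  · have h1 : finrank F ↥(P.restrictScalars F) = finrank F ↥P :=
      LinearEquiv.finrank_eq ((Submodule.restrictScalarsEquiv F E (ι → F) P).restrictScalars F)
    rw [h1, ← Module.finrank_mul_finrank F E ↥P, hfrE, hPfr]
  · intro x hx
    have hx' : x ∈ P := hx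
    obtain ⟨y, hy, rfl⟩ := hx'
    exact hdata.Q_eq_zero_of_qE _ (hUQ y hy)

end emb

section reindex

variable {F : Type*} [Field F] {ι ι' : Type} [Fintype ι] [DecidableEq ι] [Fintype ι']
  [DecidableEq ι']

theorem idx_nondeg_congr (Q : (ι → F) → F) (hQ : Cfsg.Geo.IsNondegenerateQuadraticForm Q)
    (Θ : (ι' → F) ≃ₗ[F] (ι → F)) :
    Cfsg.Geo.IsNondegenerateQuadraticForm (fun v : ι' → F => Q (Θ v)) := by
  have hpol : ∀ x y : ι' → F, QuadraticMap.polar (fun v : ι' → F => Q (Θ v)) x y =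
      QuadraticMap.polar Q (Θ x) (Θ y) := by
    intro x y
    unfold QuadraticMap.polar
    simp only [map_add]
  refine ⟨?_, ⟨?_, ?_, ?_, ?_⟩, ?_⟩
  · intro c v
    show Q (Θ (c • v)) = c ^ 2 * Q (Θ v)
    rw [map_smul, hQ.smul]
  · intro x y v
    rw [hpol, hpol, hpol, map_add, hQ.polar_bilinear.add_left]
  · intro c x v
    rw [hpol, hpol, map_smul, hQ.polar_bilinear.smul_left]
  · intro v x y
    rw [hpol, hpol, hpol, map_add, hQ.polar_bilinear.add_right]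
  · intro c v x
    rw [hpol, hpol, map_smul, hQ.polar_bilinear.smul_right]
  · intro v hv
    have hv' : Θ v ≠ 0 := by
      intro h0
      apply hv
      have := congrArg Θ.symm h0
      rwa [LinearEquiv.symm_apply_apply, map_zero] at this
    obtain ⟨⟨x, hx⟩, ⟨y, hy⟩⟩ := hQ.nondegenerate (Θ v) hv'
    refine ⟨⟨Θ.symm x, ?_⟩, ⟨Θ.symm y, ?_⟩⟩
    · rw [hpol, LinearEquiv.apply_symm_apply]
      exact hx
    · rw [hpol, LinearEquiv.apply_symm_apply]
      exact hy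

theorem idx_counts_ne (q d : ℕ) (hq : 2 ≤ q) (hd : 1 ≤ d) :
    (q ^ d - 1) * (q ^ (d - 1) + 1) + 1 ≠ (q ^ d + 1) * (q ^ (d - 1) - 1) + 1 := by
  obtain ⟨k, rfl⟩ : ∃ k, d = k + 1 := ⟨d - 1, by omega⟩
  rw [Nat.add_sub_cancel]
  have hB : 1 ≤ q ^ k := Nat.one_le_pow _ _ (by omega)
  obtain ⟨b, hb⟩ : ∃ b, q ^ k = b + 1 := ⟨q ^ k - 1, by omega⟩
  obtain ⟨c, hc⟩ : ∃ c, q = c + 2 := ⟨q - 2, by omega⟩
  rw [pow_succ, hb, Nat.add_sub_cancel]
  have hA : (b + 1) * q - 1 = b * q + (q - 1) := by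
    have : (b + 1) * q = b * q + q := by ring
    omega
  rw [hA, hc]
  have e1 : c + 2 - 1 = c + 1 := by omega
  rw [e1]
  intro h
  have h1 : (b * (c + 2) + (c + 1)) * (b + 1 + 1) = ((b + 1) * (c + 2) + 1) * b := by omega
  nlinarith [h1]

end reindex

end Cfsg.Agent.Lib.Helper44.Oc
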