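import Mathlib
import Cfsg.Prelude.Def_GeometricClasses
import Cfsg.Agent.Lib.Helper37.OmegaIndex
import Cfsg.Agent.Lib.Helper37.ParabolicBridge

/-!
# OC-IDX (Oc hive, S5977/S5978): the index lemma
-/

set_option autoImplicit false
set_option linter.unusedSectionVars false

namespace Cfsg.Agent.Lib.Helper44.Oc

open Module Cfsg Cfsg.Agent.Lib.Helper37
open scoped Matrix MatrixGroups

variable {ι : Type} [Fintype ι] [DecidableEq ι] {F : Type*} [Field F]

theorem idx_index_omega [Fintype F] (h2 : (2 : F) ≠ 0) {Q : (ι → F) → F}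
    (hQ : Geo.IsNondegenerateQuadraticForm Q) (hn : 2 ≤ Fintype.card ι) :
    (Cfsg.Omega F Q).index = 4 := by
  classical
  set G : Matrix ι ι F :=
    Matrix.of (fun i j : ι => QuadraticMap.polar Q (Pi.single i 1) (Pi.single j 1)) with hG
  have h : IsGram Q G := isGram_of_quadraticForm h2 (toQF Q hQ)
  have hGB : G = LinearMap.BilinForm.toMatrix' (QuadraticMap.polarBilin (toQF Q hQ)) := by
    ext i j
    simp [hG, LinearMap.BilinForm.toMatrix'_apply, toQF_coe]
  have hdet : G.det ≠ 0 := by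
    rw [hGB, ← Matrix.nondegenerate_iff_det_ne_zero]
    exact LinearMap.BilinForm.Nondegenerate.toMatrix' (toQF_nondeg Q hQ)
  exact index_omega_eq_four h hdet hn

/-- if a group `H` embeds into `N(K) ∩ O(Q)` and the odd prime `r` divides the index of `N(K) ∩ Ω` in `Ω`,
then `|H| r` divides `|O(Q)|` -/
theorem idx_card_mul_dvd [Fintype F] (h2 : (2 : F) ≠ 0) {Q : (ι → F) → F}
    (hQ : Geo.IsNondegenerateQuadraticForm Q) (hn : 2 ≤ Fintype.card ι)
    (N : Subgroup (GL ι F)) {H : Type*} [Group H] (φ : H →* GL ι F)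
    (hinj : Function.Injective φ) (hmem : ∀ h, φ h ∈ N ⊓ Cfsg.isometryGroup F Q)
    (r : ℕ) (hr : r.Prime) (hr2 : r ≠ 2) (hΩ : r ∣ N.relIndex (Geo.omegaGL Q)) :
    Nat.card H * r ∣ Nat.card (Cfsg.isometryGroup F Q) := by
  classical
  set O := Cfsg.isometryGroup F Q with hO
  set Ω := Geo.omegaGL Q with hΩdef
  have hΩO : Ω ≤ O := by
    rintro _ ⟨x, _, rfl⟩
    exact x.2
  have hsub : Ω.subgroupOf O = Cfsg.Omega F Q := by
    show ((Cfsg.Omega F Q).map O.subtype).comap O.subtype = _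
    exact Subgroup.comap_map_eq_self_of_injective O.subtype_injective _
  -- the index of Ω in O
  have h4 : Ω.relIndex O = 4 := by
    show (Ω.subgroupOf O).index = 4
    rw [hsub]
    exact idx_index_omega h2 hQ hn
  -- the index of N ∩ Ω in N ∩ O divides 4
  have hdiv4 : (N ⊓ Ω).relIndex (N ⊓ O) ∣ 4 := by
    have e1 : N ⊓ Ω = Ω ⊓ (N ⊓ O) := by
      apply le_antisymm
      · exact le_inf inf_le_right (le_inf inf_le_left (inf_le_right.trans hΩO))
      · exact le_inf (inf_le_right.trans inf_le_left) inf_le_left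
    rw [e1, Subgroup.inf_relIndex_right]
    have e2 : Ω.relIndex (N ⊓ O) =
        (Ω.subgroupOf O).relIndex ((N ⊓ O).subgroupOf O) :=
      (Subgroup.relIndex_subgroupOf inf_le_right).symm
    rw [e2, hsub]
    have hnorm : (Cfsg.Omega F Q).Normal := by
      show (commutator _).Normal
      infer_instance
    have := Subgroup.relIndex_dvd_index_of_normal (Cfsg.Omega F Q) ((N ⊓ O).subgroupOf O)
    rwa [idx_index_omega h2 hQ hn] at this
  -- multiplicativity
  have hm1 : (N ⊓ Ω).relIndex Ω * Ω.relIndex O = (N ⊓ Ω).relIndex O :=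
    Subgroup.relIndex_mul_relIndex _ _ _ inf_le_right hΩO
  have hm2 : (N ⊓ Ω).relIndex (N ⊓ O) * (N ⊓ O).relIndex O = (N ⊓ Ω).relIndex O :=
    Subgroup.relIndex_mul_relIndex _ _ _ (inf_le_inf_left N hΩO) inf_le_right
  have hr1 : r ∣ (N ⊓ Ω).relIndex (N ⊓ O) * (N ⊓ O).relIndex O := by
    rw [hm2, ← hm1, Subgroup.inf_relIndex_right]
    exact Dvd.dvd.mul_right hΩ _
  have hr3 : r ∣ (N ⊓ O).relIndex O := by
    rcases (Nat.Prime.dvd_mul hr).1 hr1 with h | h
    · exfalso
      have h5 : r ∣ 4 := h.trans hdiv4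
      have h6 : r ∣ 2 ^ 2 := by norm_num; exact h5
      have h7 := (Nat.prime_dvd_prime_iff_eq hr Nat.prime_two).1 (hr.dvd_of_dvd_pow h6)
      exact hr2 h7
    · exact h
  have hcardH : Nat.card H ∣ Nat.card ↥(N ⊓ O) :=
    Subgroup.card_dvd_of_injective (φ.codRestrict (N ⊓ O) hmem) (by
      intro a b hab
      apply hinj
      exact congrArg Subtype.val hab)
  have hm3 : Nat.card ↥(N ⊓ O) * (N ⊓ O).relIndex O = Nat.card O := by
    have := Subgroup.relIndex_mul_relIndex ⊥ (N ⊓ O) O bot_le inf_le_right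
    rwa [Subgroup.relIndex_bot_left, Subgroup.relIndex_bot_left] at this
  rw [← hm3]
  exact Nat.mul_dvd_mul hcardH hr3

end Cfsg.Agent.Lib.Helper44.Oc
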