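import Mathlib
import Cfsg.Prelude.Def_GeometricClasses
import Cfsg.Agent.Lib.Helper44.OcDefs
import Cfsg.Agent.Lib.Helper8.OcIdxAbs
import Cfsg.Agent.Lib.Helper8.OcIdxEmb
import Cfsg.Agent.Lib.Helper8.OcIdxGrp
import Cfsg.Agent.Lib.Helper8.SpOrthF
import Cfsg.Agent.Lib.Helper25.OcIdxAR1
import Cfsg.Agent.Lib.Helper25.OcIdxAR2
import Cfsg.Agent.Lib.Helper42.OcIdxL
import Cfsg.Agent.Lib.Helper42.OcIdxP
import Cfsg.Agent.Lib.Helper68.OcIdxZ
import Cfsg.Agent.Lib.Helper45.OfCARDE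
import Cfsg.Agent.Lib.Helper13.OfCARDO

/-!
# OC-IDX (Oc hive, S5977/S5978): the core, for an abstract quadratic extension `E`
-/

set_option autoImplicit false
set_option linter.unusedSectionVars false
set_option maxHeartbeats 800000

namespace Cfsg.Agent.Lib.Helper44.Oc

open Module
open scoped Matrix MatrixGroups

section core

variable {F : Type*} [Field F] {ι : Type} [Fintype ι] [DecidableEq ι]
  {E : Type*} [Field E] [Algebra F E] [Module E (ι → F)] [IsScalarTower F E (ι → F)]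

theorem idx_core [Fintype F] [Fintype E] (h2 : (2 : F) ≠ 0) (d : ℕ) (hd : 4 ≤ d)
    (hcard : Fintype.card ι = 2 * d) (Q : (ι → F) → F)
    (hQ : Cfsg.Geo.IsNondegenerateQuadraticForm Q) (N : Subgroup (GL ι F)) (J : Matrix ι ι F)
    (δ : F) (w : E) (Bf : LinearMap.BilinForm F (ι → F)) (hdata : IdxData Bf Q w δ)
    (hJw : ∀ v : ι → F, J *ᵥ v = w • v) (hfrE : finrank F E = 2)
    (hcardE : Fintype.card E = Fintype.card F ^ 2)
    (hN : ∀ g : GL ι F, (g : Matrix ι ι F) * J = J * (g : Matrix ι ι F) → g ∈ N)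
    (r : ℕ) (hr : r.Prime) (hr2 : r ≠ 2) (hrq : ¬ r ∣ Fintype.card F)
    (hΩ : r ∣ N.relIndex (Cfsg.Geo.omegaGL Q)) :
    orderOf ((Fintype.card F : ℕ) : ZMod r) % 4 ≠ 0 := by
  classical
  intro h4'
  have h4 : 4 ∣ orderOf ((Fintype.card F : ℕ) : ZMod r) := Nat.dvd_of_mod_eq_zero h4'
  set q := Fintype.card F with hq
  have hq2 : 2 ≤ q := Fintype.one_lt_card
  have h2E : (2 : E) ≠ 0 := hdata.two'
  -- `q` is odd, so `3 ≤ q`
  have hq3 : 3 ≤ q := by
    by_contra hcon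
    have hq' : q = 2 := by omega
    have hchar : (2 : F) = 0 := by
      have h1 : ((Fintype.card F : ℕ) : F) = 0 := Nat.cast_card_eq_zero F
      rw [← hq, hq'] at h1
      exact_mod_cast h1
    exact h2 hchar
  -- the `E`-dimension of `V`
  have hfrV : finrank F (ι → F) = 2 * d := by
    rw [Module.finrank_fintype_fun_eq_card, hcard]
  haveI : Module.Finite E (ι → F) := Module.Finite.of_restrictScalars_finite F E (ι → F)
  have hfrEV : finrank E (ι → F) = d := by
    have := Module.finrank_mul_finrank F E (ι → F)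
    rw [hfrE, hfrV] at this
    omega
  set Θ : (ι → F) ≃ₗ[E] (Fin d → E) := (Module.finBasisOfFinrankEq E (ι → F) hfrEV).equivFun
    with hΘ
  set QE : (Fin d → E) → E := fun x => idx_qE Bf Q w δ (Θ.symm x) with hQE
  have hQEnd : Cfsg.Geo.IsNondegenerateQuadraticForm QE := hdata.isNondeg Θ
  obtain ⟨φ, hφinj, hφ⟩ := idx_embed Q J w δ Bf hdata hJw Θ
  have hn : 2 ≤ Fintype.card ι := by omega
  have hdvd : Nat.card ↥(Cfsg.isometryGroup E QE) * r ∣ Nat.card ↥(Cfsg.isometryGroup F Q) :=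
    idx_card_mul_dvd h2 hQ hn N φ hφinj
      (fun g => Subgroup.mem_inf.2 ⟨hN _ (hφ g).2, (hφ g).1⟩) r hr hr2 hΩ
  -- coordinates `Fin (2 d)`
  have hcard' : Fintype.card (Fin (2 * d)) = Fintype.card ι := by
    rw [Fintype.card_fin, hcard]
  let e : Fin (2 * d) ≃ ι := Fintype.equivOfCardEq hcard'
  let Θ' : (Fin (2 * d) → F) ≃ₗ[F] (ι → F) := LinearEquiv.funCongrLeft F F e.symm
  set Q' : (Fin (2 * d) → F) → F := fun v => Q (Θ' v) with hQ'
  have hQ'nd : Cfsg.Geo.IsNondegenerateQuadraticForm Q' := idx_nondeg_congr Q hQ Θ'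
  have hcardQ : Nat.card ↥(Cfsg.isometryGroup F Q') = Nat.card ↥(Cfsg.isometryGroup F Q) :=
    Cfsg.Agent.Lib.Helper8.card_isometryGroup_of_coords Q' Q Θ' (fun v => rfl)
  rw [← hcardQ] at hdvd
  have hd1 : 1 ≤ d := by omega
  have hF := Cfsg.Agent.Lib.Helper44.Of.card_isometryGroup_of_even h2 (n := 2 * d) (m := d) rfl hd1
    Q' hQ'nd
  rw [← hq] at hF
  rcases Nat.even_or_odd' d with ⟨e', he' | he'⟩
  · -- `d = 2 e'` even
    have he1 : 1 ≤ e' := by omega
    have he2 : 2 ≤ e' := by omega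
    have hEc := Cfsg.Agent.Lib.Helper44.Of.card_isometryGroup_of_even h2E (n := d) (m := e') he'
      he1 QE hQEnd
    rw [hcardE] at hEc
    rcases hEc with ⟨hEz, hEo⟩ | ⟨hEz, hEo⟩
    · rcases hF with ⟨hFz, hFo⟩ | ⟨hFz, hFo⟩
      · rw [hEo, hFo] at hdvd
        exact (idx_arith_even q r e' d he' he1 hr hr2 hq2 hrq h4).1 hdvd
      · -- plus over `E`, minus over `F`: impossible
        exfalso
        obtain ⟨U, hUfr, hUQ⟩ := idx_lagrangian_of_card_zeros h2E (n := d) (m := e') he' he1 QE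
          hQEnd (by rw [hcardE]; exact hEz)
        obtain ⟨X, hXfr, hXQ⟩ := idx_lagrangian_transfer Q w δ Bf hdata hfrE Θ U e' hUfr
          (fun x hx => hUQ x hx)
        set X' : Submodule F (Fin (2 * d) → F) :=
          X.map (Θ'.symm : (ι → F) →ₗ[F] (Fin (2 * d) → F)) with hX'
        have hX'fr : finrank F X' = d := by
          rw [hX', LinearEquiv.finrank_map_eq, hXfr, he']
        have hX'Q : ∀ x ∈ X', Q' x = 0 := by
          rintro _ ⟨y, hy, rfl⟩
          show Q (Θ' (Θ'.symm y)) = 0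
          rw [LinearEquiv.apply_symm_apply]
          exact hXQ y hy
        have hplus := idx_card_zeros_of_lagrangian h2 (n := 2 * d) (m := d) rfl hd1 Q' hQ'nd X'
          hX'fr hX'Q
        rw [← hq, hFz] at hplus
        exact idx_counts_ne q d hq2 hd1 hplus.symm
    · rcases hF with ⟨hFz, hFo⟩ | ⟨hFz, hFo⟩
      · -- minus over `E`, plus over `F`: Zsigmondy
        rw [hEo, hFo] at hdvd
        exact idx_zsig q e' d he' hq3 he2 (Dvd.dvd.trans (Dvd.intro _ rfl) hdvd)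
      · rw [hEo, hFo] at hdvd
        exact (idx_arith_even q r e' d he' he1 hr hr2 hq2 hrq h4).2 hdvd
  · -- `d = 2 e' + 1` odd
    have hEc := Cfsg.Agent.Lib.Helper44.Of.card_isometryGroup_of_odd h2E (n := d) (m := e') he'
      QE hQEnd
    rw [hcardE] at hEc
    rcases hF with ⟨hFz, hFo⟩ | ⟨hFz, hFo⟩
    · rw [hEc, hFo] at hdvd
      exact idx_arith_odd q r e' d he' hr hr2 hq2 hrq h4 (q ^ d - 1) (Or.inl rfl) hdvd
    · rw [hEc, hFo] at hdvd
      exact idx_arith_odd q r e' d he' hr hr2 hq2 hrq h4 (q ^ d + 1) (Or.inr rfl) hdvd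

end core

end Cfsg.Agent.Lib.Helper44.Oc
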