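import Mathlib

/-!
# OC-IDX (Oc hive, S5977/S5978): the quadratic extension `E = F[X]/(X² - δ)` acting through `J`
-/

set_option autoImplicit false

namespace Cfsg.Agent.Lib.Helper44.Oc

open Polynomial Module

section inst

variable {F : Type*} [Field F]

theorem idx_monic (δ : F) : (X ^ 2 - C δ : F[X]).Monic := monic_X_pow_sub_C δ (by norm_num)

theorem idx_natDegree (δ : F) : (X ^ 2 - C δ : F[X]).natDegree = 2 := natDegree_X_pow_sub_C

theorem idx_irreducible (δ : F) (hδ : ¬ IsSquare δ) : Irreducible (X ^ 2 - C δ : F[X]) := by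
  apply Polynomial.irreducible_of_degree_le_three_of_not_isRoot
  · rw [idx_natDegree]
    decide
  · intro x hx
    apply hδ
    refine ⟨x, ?_⟩
    have : x ^ 2 - δ = 0 := by simpa [IsRoot] using hx
    rw [← pow_two]
    exact (sub_eq_zero.1 this).symm

/-- every element of `E` is `a + b w` -/
theorem idx_span (δ : F) (z : AdjoinRoot (X ^ 2 - C δ : F[X])) :
    ∃ a b : F, z = algebraMap F _ a + algebraMap F _ b * AdjoinRoot.root (X ^ 2 - C δ : F[X]) := by
  obtain ⟨g, rfl⟩ := AdjoinRoot.mk_surjective z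
  have hm := idx_monic δ
  have h1 := Polynomial.modByMonic_add_div g (X ^ 2 - C δ : F[X])
  have hdeg : (g %ₘ (X ^ 2 - C δ : F[X])).natDegree < 2 := by
    have := Polynomial.natDegree_modByMonic_lt g hm (by
      intro h
      have := idx_natDegree δ
      rw [h] at this
      simp at this)
    rwa [idx_natDegree] at this
  refine ⟨(g %ₘ (X ^ 2 - C δ : F[X])).coeff 0, (g %ₘ (X ^ 2 - C δ : F[X])).coeff 1, ?_⟩
  have h2 : g %ₘ (X ^ 2 - C δ : F[X]) =
      C ((g %ₘ (X ^ 2 - C δ : F[X])).coeff 0) + C ((g %ₘ (X ^ 2 - C δ : F[X])).coeff 1) * X := by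
    have hle : (g %ₘ (X ^ 2 - C δ : F[X])).natDegree ≤ 1 := by omega
    conv_lhs => rw [Polynomial.eq_X_add_C_of_natDegree_le_one hle]
    ring
  have h3 : AdjoinRoot.mk (X ^ 2 - C δ : F[X]) g =
      AdjoinRoot.mk (X ^ 2 - C δ : F[X]) (g %ₘ (X ^ 2 - C δ : F[X])) := by
    rw [AdjoinRoot.mk_eq_mk]
    refine ⟨g /ₘ (X ^ 2 - C δ : F[X]), ?_⟩
    linear_combination h1.symm
  rw [h3]
  conv_lhs => rw [h2]
  rw [map_add, map_mul, AdjoinRoot.mk_C, AdjoinRoot.mk_C, AdjoinRoot.mk_X, AdjoinRoot.algebraMap_eq]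

theorem idx_root_sq (δ : F) :
    AdjoinRoot.root (X ^ 2 - C δ : F[X]) * AdjoinRoot.root (X ^ 2 - C δ : F[X]) =
      algebraMap F _ δ := by
  have h := AdjoinRoot.eval₂_root (X ^ 2 - C δ : F[X])
  rw [eval₂_sub, eval₂_pow, eval₂_X, eval₂_C, sub_eq_zero] at h
  rw [← pow_two, h, AdjoinRoot.algebraMap_eq]

end inst

section modstruct

variable {F : Type*} [Field F] {V : Type*} [AddCommGroup V] [Module F V]

/-- the ring hom `F[X]/(X² - δ) → End_F(V)` sending the root to `J` -/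
noncomputable def idx_hom (δ : F) (J : Module.End F V) (hJ : J * J = δ • (1 : Module.End F V)) :
    AdjoinRoot (X ^ 2 - C δ : F[X]) →+* Module.End F V :=
  Ideal.Quotient.lift (Ideal.span {(X ^ 2 - C δ : F[X])}) ((aeval J).toRingHom) (by
    intro a ha
    obtain ⟨b, rfl⟩ := Ideal.mem_span_singleton.1 ha
    show aeval J ((X ^ 2 - C δ) * b) = 0
    rw [map_mul, map_sub, map_pow, aeval_X, aeval_C, pow_two, hJ, Algebra.algebraMap_eq_smul_one,
      sub_self, zero_mul])

theorem idx_hom_mk (δ : F) (J : Module.End F V) (hJ : J * J = δ • (1 : Module.End F V))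
    (g : F[X]) : idx_hom δ J hJ (AdjoinRoot.mk _ g) = aeval J g := rfl

theorem idx_hom_algebraMap (δ : F) (J : Module.End F V) (hJ : J * J = δ • (1 : Module.End F V))
    (a : F) : idx_hom δ J hJ (algebraMap F _ a) = a • (1 : Module.End F V) := by
  rw [AdjoinRoot.algebraMap_eq, ← AdjoinRoot.mk_C, idx_hom_mk, aeval_C,
    Algebra.algebraMap_eq_smul_one]

theorem idx_hom_root (δ : F) (J : Module.End F V) (hJ : J * J = δ • (1 : Module.End F V)) :
    idx_hom δ J hJ (AdjoinRoot.root _) = J := by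
  rw [← AdjoinRoot.mk_X, idx_hom_mk, aeval_X]

end modstruct

end Cfsg.Agent.Lib.Helper44.Oc
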