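import Mathlib
import Cfsg.Prelude.Def_GeometricClasses
import Cfsg.Agent.Lib.Helper44.OcDefs
import Cfsg.Agent.Lib.Helper8.OcIdxCore
import Cfsg.Agent.Lib.Helper8.OcIdxInst
import Cfsg.Agent.Lib.Helper37.ParabolicBridge

/-!
# OC-IDX (Oc hive of helper44, S5977/S5978): `4 ∤ ord_r(q)` for an odd prime `r ≠ p` dividing the index of `N(K) ∩ Ω`
-/

set_option autoImplicit false
set_option linter.unusedSectionVars false
set_option linter.style.haveILetI false
set_option linter.unusedVariables false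
set_option maxHeartbeats 800000
open scoped MatrixGroups
open Matrix Polynomial

namespace Cfsg.Agent.Lib.Helper44.Oc

universe v

variable {F : Type v} [Field F] {ι : Type} [Fintype ι] [DecidableEq ι]

/-- OC-IDX -/
theorem ord_mod_four_of_dvd_index [Fintype F] {p : ℕ} [Fact p.Prime] [CharP F p] (h2 : (2 : F) ≠ 0) (d : ℕ)
    (hd : 4 ≤ d) (hcard : Fintype.card ι = 2 * d) (Q : (ι → F) → F)
    (hQ : Cfsg.Geo.IsNondegenerateQuadraticForm Q) (K : Subalgebra F (Matrix ι ι F)) (J : Matrix ι ι F) (δ : F)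
    (hδ : ¬ IsSquare δ) (hJ : IsJ Q δ J) (hJK : J ∈ K)
    (hK : ∀ k ∈ K, ∃ a b : F, k = a • (1 : Matrix ι ι F) + b • J)
    (r : ℕ) [Fact r.Prime] (hr2 : r ≠ 2) (hrp : r ≠ p)
    (hΩ : r ∣ (Cfsg.Geo.subalgebraNormalizer K).relIndex (Cfsg.Geo.omegaGL Q)) :
    orderOf ((Fintype.card F : ℕ) : ZMod r) % 4 ≠ 0 := by
  classical
  have hr : r.Prime := Fact.out
  have hp : p.Prime := Fact.out
  have hδ0 : δ ≠ 0 := by
    rintro rfl
    exact hδ ⟨0, by simp⟩
  haveI : Fact (Irreducible (X ^ 2 - C δ : F[X])) := ⟨idx_irreducible δ hδ⟩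
  set Jl : Module.End F (ι → F) := Matrix.toLin' J with hJl
  have hJJ : Jl * Jl = δ • (1 : Module.End F (ι → F)) := by
    apply LinearMap.ext
    intro v
    rw [hJl, Module.End.mul_apply, Matrix.toLin'_apply, Matrix.toLin'_apply, Matrix.mulVec_mulVec,
      hJ.1, Matrix.smul_mulVec, Matrix.one_mulVec, LinearMap.smul_apply, Module.End.one_apply]
  letI : Module (AdjoinRoot (X ^ 2 - C δ : F[X])) (ι → F) :=
    Module.compHom (ι → F) (idx_hom δ Jl hJJ)
  have hsmul : ∀ (z : AdjoinRoot (X ^ 2 - C δ : F[X])) (v : ι → F),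
      z • v = idx_hom δ Jl hJJ z v := fun z v => rfl
  haveI : IsScalarTower F (AdjoinRoot (X ^ 2 - C δ : F[X])) (ι → F) := ⟨by
    intro a z v
    rw [hsmul, hsmul, Algebra.smul_def, map_mul, idx_hom_algebraMap, Module.End.mul_apply,
      LinearMap.smul_apply, Module.End.one_apply]⟩
  haveI : Module.Finite F (AdjoinRoot (X ^ 2 - C δ : F[X])) := (idx_monic δ).finite_adjoinRoot
  haveI : Finite (AdjoinRoot (X ^ 2 - C δ : F[X])) := Module.finite_of_finite F
  letI : Fintype (AdjoinRoot (X ^ 2 - C δ : F[X])) := Fintype.ofFinite _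
  have hfrE : Module.finrank F (AdjoinRoot (X ^ 2 - C δ : F[X])) = 2 := by
    rw [(AdjoinRoot.powerBasis' (idx_monic δ)).finrank, AdjoinRoot.powerBasis'_dim, idx_natDegree]
  have hcardE : Fintype.card (AdjoinRoot (X ^ 2 - C δ : F[X])) = Fintype.card F ^ 2 := by
    rw [Module.card_eq_pow_finrank (K := F) (V := AdjoinRoot (X ^ 2 - C δ : F[X])), hfrE]
  have hJw : ∀ v : ι → F, J *ᵥ v = AdjoinRoot.root (X ^ 2 - C δ : F[X]) • v := by
    intro v
    rw [hsmul, idx_hom_root, hJl, Matrix.toLin'_apply]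
  have hdata : IdxData (QuadraticMap.polarBilin (Cfsg.Agent.Lib.Helper37.toQF Q hQ)) Q
      (AdjoinRoot.root (X ^ 2 - C δ : F[X])) δ := by
    refine ⟨fun u v => rfl, h2, fun v => ?_, idx_root_sq δ, hδ0, fun u v => ?_, idx_span δ, ?_, ?_⟩
    · rw [QuadraticMap.polarBilin_apply_apply]
      have := QuadraticMap.polar_self (Cfsg.Agent.Lib.Helper37.toQF Q hQ) v
      rw [this, two_smul, two_mul]
      rfl
    · rw [← hJw, ← hJw]
      exact hJ.2 u v
    · intro a b hab
      by_cases hb : b = 0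
      · subst hb
        rw [map_zero, zero_mul, add_zero] at hab
        refine ⟨?_, rfl⟩
        apply (algebraMap F (AdjoinRoot (X ^ 2 - C δ : F[X]))).injective
        rw [hab, map_zero]
      · exfalso
        apply hδ
        refine ⟨-a / b, ?_⟩
        apply (algebraMap F (AdjoinRoot (X ^ 2 - C δ : F[X]))).injective
        have hb' : algebraMap F (AdjoinRoot (X ^ 2 - C δ : F[X])) b ≠ 0 := by
          intro h0
          apply hb
          apply (algebraMap F (AdjoinRoot (X ^ 2 - C δ : F[X]))).injective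
          rw [h0, map_zero]
        have hw : AdjoinRoot.root (X ^ 2 - C δ : F[X]) =
            algebraMap F (AdjoinRoot (X ^ 2 - C δ : F[X])) (-a / b) := by
          rw [map_div₀, map_neg, eq_div_iff hb']
          linear_combination hab
        rw [← idx_root_sq δ, map_mul, ← hw]
    · intro u hu
      by_contra hu0
      obtain ⟨-, y, hy⟩ := hQ.nondegenerate u hu0
      exact hy (hu y)
  have hN : ∀ g : GL ι F, (g : Matrix ι ι F) * J = J * (g : Matrix ι ι F) →
      g ∈ Cfsg.Geo.subalgebraNormalizer K := by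
    intro g hg
    have hcomm : ∀ k ∈ K, (g : Matrix ι ι F) * k = k * (g : Matrix ι ι F) := by
      intro k hk
      obtain ⟨a, b, rfl⟩ := hK k hk
      rw [Matrix.mul_add, Matrix.add_mul, Matrix.mul_smul, Matrix.smul_mul, Matrix.mul_smul,
        Matrix.smul_mul, Matrix.mul_one, Matrix.one_mul, hg]
    have hgi : (g : Matrix ι ι F) * ((g⁻¹ : GL ι F) : Matrix ι ι F) = 1 := by
      rw [← Units.val_mul, mul_inv_cancel, Units.val_one]
    have hig : ((g⁻¹ : GL ι F) : Matrix ι ι F) * (g : Matrix ι ι F) = 1 := by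
      rw [← Units.val_mul, inv_mul_cancel, Units.val_one]
    intro k
    constructor
    · intro hk
      rw [hcomm k hk, Matrix.mul_assoc, hgi, Matrix.mul_one]
      exact hk
    · intro hk
      have h1 := hcomm _ hk
      have h2' : k = ((g⁻¹ : GL ι F) : Matrix ι ι F) *
          ((g : Matrix ι ι F) * k * ((g⁻¹ : GL ι F) : Matrix ι ι F)) * (g : Matrix ι ι F) := by
        rw [Matrix.mul_assoc, Matrix.mul_assoc, Matrix.mul_assoc, hig, Matrix.mul_one,
          ← Matrix.mul_assoc, hig, Matrix.one_mul]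
      rw [h2', Matrix.mul_assoc, ← h1, ← Matrix.mul_assoc, hig, Matrix.one_mul]
      exact hk
  have hrq : ¬ r ∣ Fintype.card F := by
    intro h
    obtain ⟨n, _, hn⟩ := FiniteField.card F p
    rw [hn] at h
    exact hrp ((Nat.prime_dvd_prime_iff_eq hr hp).1 (hr.dvd_of_dvd_pow h))
  exact idx_core h2 d hd hcard Q hQ (Cfsg.Geo.subalgebraNormalizer K) J δ
    (AdjoinRoot.root (X ^ 2 - C δ : F[X]))
    (QuadraticMap.polarBilin (Cfsg.Agent.Lib.Helper37.toQF Q hQ)) hdata hJw hfrE hcardE hN r hr hr2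
    hrq hΩ

end Cfsg.Agent.Lib.Helper44.Oc
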