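import Mathlib
import Cfsg.Prelude.Def_ClassicalGeometry
import Cfsg.Agent.Lib.Helper8.MaxTSParity
import Cfsg.Agent.Lib.Helper8.OmegaNoSplit

/-! Splitting of classes of involutions from `O` to `Ω` in characteristic two. -/

set_option autoImplicit false

namespace Cfsg.Agent.Lib.Helper8

open Matrix Module QuadraticMap
open Cfsg.Agent.Lib.Helper13

variable {ι : Type} [Fintype ι] [DecidableEq ι] {F : Type*} [Field F]

/-- the commutator subgroup is the kernel of the Dickson invariant -/
theorem mem_commutator_iff_dicksonPar [Fintype F] (h2 : (2 : F) = 0)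
    (Q : QuadraticForm F (ι → F)) (hQ : (QuadraticMap.polarBilin Q).Nondegenerate)
    (hgood : GoodOrth Q) (hex : ∃ v, Q v ≠ 0)
    (g : ↥(Cfsg.isometryGroup F (⇑Q))) :
    g ∈ commutator ↥(Cfsg.isometryGroup F (⇑Q)) ↔ dicksonPar Q g = 0 := by
  have hgen := closure_reflSet_eq_top_gen Q hQ hgood
  have hidx := commutator_index_two_char2_gen h2 Q hQ hgood hex
  obtain ⟨v0, hv0⟩ := hex
  have hr0 : dicksonHom Q hQ hgen (reflElt Q v0 hv0) ≠ 1 := by
    rw [dicksonHom_apply, dicksonPar_refl Q hQ _ (reflElt_mem_reflSet Q v0 hv0)]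
    intro h
    have : (1 : ZMod 2) = 0 := Multiplicative.ofAdd.injective h
    exact one_ne_zero this
  have hker := eq_ker_of_index_two (dicksonHom Q hQ hgen) _
    (Abelianization.commutator_subset_ker _) hidx _ hr0
  rw [hker, MonoidHom.mem_ker, dicksonHom_apply]
  constructor
  · intro h
    exact Multiplicative.ofAdd.injective h
  · intro h
    rw [h]; rfl

/-- the image of `s - 1` for a conjugate `s = c t c⁻¹` -/
theorem range_sub_one_conj (Q : QuadraticForm F (ι → F))
    (t s c : ↥(Cfsg.isometryGroup F (⇑Q))) (hconj : c * t * c⁻¹ = s) :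
    LinearMap.range (Matrix.toLin' (((s : Matrix.GeneralLinearGroup ι F) : Matrix ι ι F) - 1))
      = mapSub Q c (LinearMap.range
        (Matrix.toLin' (((t : Matrix.GeneralLinearGroup ι F) : Matrix ι ι F) - 1))) := by
  set g : Matrix.GeneralLinearGroup ι F := (c : Matrix.GeneralLinearGroup ι F) with hgdef
  have hconj' : g * (t : Matrix.GeneralLinearGroup ι F) * g⁻¹
      = (s : Matrix.GeneralLinearGroup ι F) := by
    rw [← hconj]; rfl
  have hmat : ((s : Matrix.GeneralLinearGroup ι F) : Matrix ι ι F) - 1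
      = (g : Matrix ι ι F) * (((t : Matrix.GeneralLinearGroup ι F) : Matrix ι ι F) - 1)
        * ((g⁻¹ : Matrix.GeneralLinearGroup ι F) : Matrix ι ι F) := by
    have h1 : (g : Matrix ι ι F) * ((g⁻¹ : Matrix.GeneralLinearGroup ι F) : Matrix ι ι F) = 1 := by
      rw [← Units.val_mul, mul_inv_cancel, Units.val_one]
    rw [← hconj', Units.val_mul, Units.val_mul, Matrix.mul_sub, Matrix.sub_mul, Matrix.mul_one, h1]
  have hgg' : ∀ z, ((g⁻¹ : Matrix.GeneralLinearGroup ι F) : Matrix ι ι F) *ᵥ ((g : Matrix ι ι F) *ᵥ z)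
      = z := by
    intro z
    rw [Matrix.mulVec_mulVec, ← Units.val_mul, inv_mul_cancel, Units.val_one, Matrix.one_mulVec]
  ext y
  rw [mem_mapSub]
  simp only [LinearMap.mem_range, Matrix.toLin'_apply]
  constructor
  · rintro ⟨z, rfl⟩
    refine ⟨(((t : Matrix.GeneralLinearGroup ι F) : Matrix ι ι F) - 1) *ᵥ
      (((g⁻¹ : Matrix.GeneralLinearGroup ι F) : Matrix ι ι F) *ᵥ z), ⟨_, rfl⟩, ?_⟩
    rw [hmat, ← Matrix.mulVec_mulVec, ← Matrix.mulVec_mulVec]
  · rintro ⟨x, ⟨u, rfl⟩, rfl⟩
    refine ⟨(g : Matrix ι ι F) *ᵥ u, ?_⟩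
    rw [hmat, ← Matrix.mulVec_mulVec, ← Matrix.mulVec_mulVec, hgg']

/-- splitting of the classes of involutions of `O` in `Ω`, characteristic two, dimension `2m` -/
theorem omega_involution_splitting [Fintype F] (h2 : (2 : F) = 0)
    (Q : QuadraticForm F (ι → F)) (hQ : (QuadraticMap.polarBilin Q).Nondegenerate)
    (hgood : GoodOrth Q) (hex : ∃ v, Q v ≠ 0) (m : ℕ) (hdim : finrank F (ι → F) = 2 * m)
    (t s : ↥(Cfsg.isometryGroup F (⇑Q))) (ht : orderOf t = 2)
    (htO : t ∈ commutator ↥(Cfsg.isometryGroup F (⇑Q))) (hconj : IsConj t s) :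
    (¬ ((((t : Matrix.GeneralLinearGroup ι F) : Matrix ι ι F) - 1).rank = m ∧
        ∀ v : ι → F, Q (v + ((t : Matrix.GeneralLinearGroup ι F) : Matrix ι ι F) *ᵥ v) = 0) →
      ∃ g ∈ commutator ↥(Cfsg.isometryGroup F (⇑Q)), g * t * g⁻¹ = s) ∧
    (((((t : Matrix.GeneralLinearGroup ι F) : Matrix ι ι F) - 1).rank = m ∧
        ∀ v : ι → F, Q (v + ((t : Matrix.GeneralLinearGroup ι F) : Matrix ι ι F) *ᵥ v) = 0) →
      ((∃ g ∈ commutator ↥(Cfsg.isometryGroup F (⇑Q)), g * t * g⁻¹ = s) ↔
        Even (finrank F ↥(LinearMap.range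
            (Matrix.toLin' (((t : Matrix.GeneralLinearGroup ι F) : Matrix ι ι F) - 1)) ⊓
          LinearMap.range
            (Matrix.toLin' (((s : Matrix.GeneralLinearGroup ι F) : Matrix ι ι F) - 1)))))) := by
  have hinv : IsInvIso Q (isoLin Q t) := isInvIso_isoLin Q t (mul_self_of_orderOf_two t ht)
  have hplus : ∀ v : ι → F, v + ((t : Matrix.GeneralLinearGroup ι F) : Matrix ι ι F) *ᵥ v
      = nilPart (isoLin Q t) v := by
    intro v
    rw [nilPart_apply, isoLin_apply]
    have : v + ((t : Matrix.GeneralLinearGroup ι F) : Matrix ι ι F) *ᵥ v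
        = ((t : Matrix.GeneralLinearGroup ι F) : Matrix ι ι F) *ᵥ v - v + (2 : F) • v := by
      rw [two_smul]; abel
    rw [this, h2, zero_smul, add_zero]
  have hrk : (((t : Matrix.GeneralLinearGroup ι F) : Matrix ι ι F) - 1).rank
      = finrank F (LinearMap.range (nilPart (isoLin Q t))) := (finrank_range_nilPart Q t).symm
  constructor
  · -- no splitting
    intro hnot
    have hfix : ∃ w, isoLin Q t w = w ∧ Q w ≠ 0 := by
      by_cases hA : ∀ z, Q (nilPart (isoLin Q t) z) = 0
      · have hlt : (((t : Matrix.GeneralLinearGroup ι F) : Matrix ι ι F) - 1).rank ≠ m := by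
          intro h
          exact hnot ⟨h, fun v => by rw [hplus]; exact hA v⟩
        have h1 := hinv.two_mul_finrank_range_le h2
        have h3 := LinearMap.finrank_range_add_finrank_ker (nilPart (isoLin Q t))
        rw [← hrk] at h1 h3
        obtain ⟨w, hwK, hw⟩ := exists_nonsingular_of_finrank_gt Q hQ
          (LinearMap.ker (nilPart (isoLin Q t))) (by omega)
        refine ⟨w, ?_, hw⟩
        rw [LinearMap.mem_ker, nilPart_apply, sub_eq_zero] at hwK
        exact hwK
      · push Not at hA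
        obtain ⟨z, hz⟩ := hA
        refine ⟨nilPart (isoLin Q t) z, ?_, hz⟩
        have := hinv.nil_nil h2 z
        rw [nilPart_apply, sub_eq_zero] at this
        exact this
    obtain ⟨w, hfixw, hw⟩ := hfix
    exact omega_conj_of_fixed_nonsingular h2 Q hQ hgood t s hconj w hw hfixw
  · -- the class that splits
    rintro ⟨hrank, halt⟩
    have hgen := closure_reflSet_eq_top_gen Q hQ hgood
    set W : Submodule F (ι → F) := LinearMap.range
      (Matrix.toLin' (((t : Matrix.GeneralLinearGroup ι F) : Matrix ι ι F) - 1)) with hWdef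
    have hWeq : W = LinearMap.range (nilPart (isoLin Q t)) := by
      rw [hWdef]
      congr 1
      apply LinearMap.ext
      intro z
      rw [nilPart_isoLin, Matrix.toLin'_apply]
    have hWm : finrank F W = m := by rw [hWeq, ← hrk, hrank]
    have hWts : ∀ w ∈ W, Q w = 0 := by
      intro w hw
      rw [hWeq] at hw
      obtain ⟨z, rfl⟩ := hw
      rw [← hplus]; exact halt z
    have hmeven : ((m : ℕ) : ZMod 2) = 0 := by
      rw [mem_commutator_iff_even_rank_char2_gen h2 Q hQ hgood hex, hrank] at htO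
      exact (ZMod.natCast_eq_zero_iff_even).2 htO
    have hpar : ∀ c : ↥(Cfsg.isometryGroup F (⇑Q)), c * t * c⁻¹ = s →
        ((finrank F ↥(W ⊓ LinearMap.range
          (Matrix.toLin' (((s : Matrix.GeneralLinearGroup ι F) : Matrix ι ι F) - 1))) : ℕ) : ZMod 2)
          = dicksonPar Q c := by
      intro c hc
      rw [range_sub_one_conj Q t s c hc, maxTS_parity h2 Q hQ hgen m hdim W hWts hWm c W hWts hWm,
        inf_idem, hWm, hmeven, zero_add]
    constructor
    · rintro ⟨g, hg, hgts⟩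
      rw [← ZMod.natCast_eq_zero_iff_even, hpar g hgts]
      exact (mem_commutator_iff_dicksonPar h2 Q hQ hgood hex g).1 hg
    · intro hev
      obtain ⟨c, hc⟩ := isConj_iff.mp hconj
      refine ⟨c, ?_, hc⟩
      rw [mem_commutator_iff_dicksonPar h2 Q hQ hgood hex, ← hpar c hc]
      exact (ZMod.natCast_eq_zero_iff_even).2 hev

/-- the same for a function that is the coercion of a quadratic form -/
theorem omega_involution_splitting' [Fintype F] (h2 : (2 : F) = 0) (f : (ι → F) → F)
    (Q : QuadraticForm F (ι → F)) (hf : f = ⇑Q)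
    (hQ : (QuadraticMap.polarBilin Q).Nondegenerate)
    (hgood : GoodOrth Q) (hex : ∃ v, Q v ≠ 0) (m : ℕ) (hdim : finrank F (ι → F) = 2 * m)
    (t s : ↥(Cfsg.isometryGroup F f)) (ht : orderOf t = 2)
    (htO : t ∈ commutator ↥(Cfsg.isometryGroup F f)) (hconj : IsConj t s) :
    (¬ ((((t : Matrix.GeneralLinearGroup ι F) : Matrix ι ι F) - 1).rank = m ∧
        ∀ v : ι → F, f (v + ((t : Matrix.GeneralLinearGroup ι F) : Matrix ι ι F) *ᵥ v) = 0) →
      ∃ g ∈ commutator ↥(Cfsg.isometryGroup F f), g * t * g⁻¹ = s) ∧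
    (((((t : Matrix.GeneralLinearGroup ι F) : Matrix ι ι F) - 1).rank = m ∧
        ∀ v : ι → F, f (v + ((t : Matrix.GeneralLinearGroup ι F) : Matrix ι ι F) *ᵥ v) = 0) →
      ((∃ g ∈ commutator ↥(Cfsg.isometryGroup F f), g * t * g⁻¹ = s) ↔
        Even (finrank F ↥(LinearMap.range
            (Matrix.toLin' (((t : Matrix.GeneralLinearGroup ι F) : Matrix ι ι F) - 1)) ⊓
          LinearMap.range
            (Matrix.toLin' (((s : Matrix.GeneralLinearGroup ι F) : Matrix ι ι F) - 1)))))) := by
  subst hf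
  exact omega_involution_splitting h2 Q hQ hgood hex m hdim t s ht htO hconj

end Cfsg.Agent.Lib.Helper8
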