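import Mathlib
import Cfsg.Prelude.Def_ClassicalGeometry
import Cfsg.Agent.Lib.Helper8.OmegaPlusSplit

/-! The number of classes of involutions of `Ω⁺_{2m}(q)`, `q` even. -/

set_option autoImplicit false

namespace Cfsg.Agent.Lib.Helper8

open Matrix Module QuadraticMap
open Cfsg.Agent.Lib.Helper13

variable {ι : Type} [Fintype ι] [DecidableEq ι] {F : Type*} [Field F]

theorem orderOf_conj_eq {G : Type*} [Group G] (r x : G) : orderOf (r * x * r⁻¹) = orderOf x :=
  orderOf_injective (MulAut.conj r).toMonoidHom (MulAut.conj r).injective x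

/-- the number of classes of involutions in the commutator subgroup of an orthogonal group of
dimension `2m` and Witt index `m` in characteristic two -/
theorem card_omega_plus_involution_classes [Fintype F] (h2 : (2 : F) = 0)
    (Q : QuadraticForm F (ι → F))
    (hQ : (QuadraticMap.polarBilin Q).Nondegenerate) (hgood : GoodOrth Q)
    (hex : ∃ v, Q v ≠ 0) (m : ℕ) (hm1 : 1 ≤ m)
    (hdim : finrank F (ι → F) = 2 * m)
    (hnon : ∀ s, 1 ≤ s → s ≤ m → ∃ t : (ι → F) →ₗ[F] (ι → F), IsInvIso Q t ∧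
      finrank F (LinearMap.range (nilPart t)) = s ∧ ¬ ∀ z, Q (nilPart t z) = 0)
    (halt : ∀ r, 1 ≤ r → 2 * r ≤ m → ∃ t : (ι → F) →ₗ[F] (ι → F), IsInvIso Q t ∧
      finrank F (LinearMap.range (nilPart t)) = 2 * r ∧ ∀ z, Q (nilPart t z) = 0) :
    Nat.card {C : ConjClasses ↥(commutator ↥(Cfsg.isometryGroup F (⇑Q))) //
      ∃ g : ↥(commutator ↥(Cfsg.isometryGroup F (⇑Q))), ConjClasses.mk g = C ∧ orderOf g = 2}
      = 2 * (m / 2) + (if Even m then 1 else 0) := by
  classical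
  let rk : ↥(Cfsg.isometryGroup F (⇑Q)) → ℕ := fun g =>
    (((g : Matrix.GeneralLinearGroup ι F) : Matrix ι ι F) - 1).rank
  let alt : ↥(Cfsg.isometryGroup F (⇑Q)) → Prop := fun g =>
    ∀ z, Q ((((g : Matrix.GeneralLinearGroup ι F) : Matrix ι ι F) - 1) *ᵥ z) = 0
  let Wg : ↥(Cfsg.isometryGroup F (⇑Q)) → Submodule F (ι → F) := fun g =>
    LinearMap.range (Matrix.toLin' (((g : Matrix.GeneralLinearGroup ι F) : Matrix ι ι F) - 1))
  have hgen := closure_reflSet_eq_top_gen Q hQ hgood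
  have hmem : ∀ g : ↥(Cfsg.isometryGroup F (⇑Q)),
      g ∈ commutator ↥(Cfsg.isometryGroup F (⇑Q)) ↔ Even (rk g) :=
    fun g => mem_commutator_iff_even_rank_char2_gen h2 Q hQ hgood hex g
  have hpar : ∀ g : ↥(Cfsg.isometryGroup F (⇑Q)),
      g ∈ commutator ↥(Cfsg.isometryGroup F (⇑Q)) ↔ dicksonPar Q g = 0 :=
    fun g => mem_commutator_iff_dicksonPar h2 Q hQ hgood hex g
  have hrkdef : ∀ g, rk g = finrank F (LinearMap.range (nilPart (isoLin Q g))) :=
    fun g => (finrank_range_nilPart Q g).symm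
  have haltdef : ∀ g, alt g ↔ ∀ z, Q (nilPart (isoLin Q g) z) = 0 := by
    intro g
    simp only [nilPart_isoLin]
    exact Iff.rfl
  have hWgdef : ∀ g, Wg g = LinearMap.range (nilPart (isoLin Q g)) := by
    intro g
    show LinearMap.range (Matrix.toLin' (((g : Matrix.GeneralLinearGroup ι F) : Matrix ι ι F) - 1))
      = LinearMap.range (nilPart (isoLin Q g))
    congr 1
    apply LinearMap.ext
    intro z
    rw [nilPart_isoLin, Matrix.toLin'_apply]
  have hWgrk : ∀ g, finrank F (Wg g) = rk g := by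
    intro g; rw [hWgdef, hrkdef]
  have hWgts : ∀ g, alt g → ∀ w ∈ Wg g, Q w = 0 := by
    intro g hg w hw
    rw [hWgdef] at hw
    obtain ⟨z, rfl⟩ := hw
    exact (haltdef g).1 hg z
  have hinv : ∀ a : ↥(Cfsg.isometryGroup F (⇑Q)), orderOf a = 2 → IsInvIso Q (isoLin Q a) :=
    fun a ha => isInvIso_isoLin Q a (mul_self_of_orderOf_two a ha)
  have hrk1 : ∀ a, orderOf a = 2 → 1 ≤ rk a := by
    intro a ha
    rcases Nat.eq_zero_or_pos (rk a) with h | h
    · exfalso
      have h1 := eq_one_of_rank_sub_one_eq_zero Q a h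
      rw [h1, orderOf_one] at ha
      omega
    · exact h
  have hrkm : ∀ a, orderOf a = 2 → rk a ≤ m := by
    intro a ha
    have := (hinv a ha).two_mul_finrank_range_le h2
    rw [← hrkdef, hdim] at this
    omega
  have hlift : ∀ t : (ι → F) →ₗ[F] (ι → F), IsInvIso Q t →
      1 ≤ finrank F (LinearMap.range (nilPart t)) →
      ∃ T : ↥(Cfsg.isometryGroup F (⇑Q)), orderOf T = 2 ∧
        rk T = finrank F (LinearMap.range (nilPart t)) ∧
        (alt T ↔ ∀ z, Q (nilPart t z) = 0) ∧ Wg T = LinearMap.range (nilPart t) := by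
    intro t ht hr
    obtain ⟨T, hTT, hT⟩ := exists_iso_of_isInvIso Q hQ t ht
    have hrT : rk T = finrank F (LinearMap.range (nilPart t)) := by rw [hrkdef, hT]
    refine ⟨T, ?_, hrT, by rw [haltdef, hT], by rw [hWgdef, hT]⟩
    have : Fact (Nat.Prime 2) := ⟨Nat.prime_two⟩
    apply orderOf_eq_prime
    · rw [pow_two]; exact hTT
    · intro h1
      have : rk T = 0 := by
        show (((T : Matrix.GeneralLinearGroup ι F) : Matrix ι ι F) - 1).rank = 0
        rw [h1]
        simp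
      omega
  -- the reference maximal totally singular subspace
  obtain ⟨T₀, hT₀⟩ : ∃ T₀ : ↥(Cfsg.isometryGroup F (⇑Q)), Even m → 1 ≤ m →
      (orderOf T₀ = 2 ∧ rk T₀ = m ∧ alt T₀) := by
    by_cases hme : Even m ∧ 1 ≤ m
    · obtain ⟨⟨M, hM⟩, hm1⟩ := hme
      obtain ⟨t, ht, hr, ha⟩ := halt M (by omega) (by omega)
      obtain ⟨T, hT2, hTr, hTa, -⟩ := hlift t ht (by omega)
      exact ⟨T, fun _ _ => ⟨hT2, by rw [hTr, hr]; omega, hTa.2 ha⟩⟩
    · exact ⟨1, fun h1 h3 => absurd ⟨h1, h3⟩ hme⟩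
  have hW₀ : Even m → 1 ≤ m → ((∀ w ∈ Wg T₀, Q w = 0) ∧ finrank F (Wg T₀) = m) := by
    intro hme hm1
    obtain ⟨-, h3, h4⟩ := hT₀ hme hm1
    exact ⟨hWgts T₀ h4, by rw [hWgrk, h3]⟩
  -- the parity invariant
  let π : ↥(Cfsg.isometryGroup F (⇑Q)) → ℕ := fun g => finrank F ↥(Wg T₀ ⊓ Wg g) % 2
  have hπlt : ∀ g, π g < 2 := fun g => Nat.mod_lt _ (by norm_num)
  have hπconj : ∀ a c : ↥(Cfsg.isometryGroup F (⇑Q)), alt a → rk a = m → Even m → 1 ≤ m →
      ((π (c * a * c⁻¹) : ℕ) : ZMod 2) = ((π a : ℕ) : ZMod 2) + dicksonPar Q c := by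
    intro a c haa hra hme hm1
    obtain ⟨h5, h6⟩ := hW₀ hme hm1
    have h7 : Wg (c * a * c⁻¹) = mapSub Q c (Wg a) := range_sub_one_conj Q a _ c rfl
    show ((finrank F ↥(Wg T₀ ⊓ Wg (c * a * c⁻¹)) % 2 : ℕ) : ZMod 2)
      = ((finrank F ↥(Wg T₀ ⊓ Wg a) % 2 : ℕ) : ZMod 2) + dicksonPar Q c
    rw [ZMod.natCast_mod, ZMod.natCast_mod, h7]
    exact maxTS_parity h2 Q hQ hgen m hdim (Wg T₀) h5 h6 c (Wg a) (hWgts a haa)
      (by rw [hWgrk, hra])
  have hord : ∀ a : ↥(commutator ↥(Cfsg.isometryGroup F (⇑Q))),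
      orderOf a = 2 → orderOf (a : ↥(Cfsg.isometryGroup F (⇑Q))) = 2 := by
    intro a ha
    rw [Subgroup.orderOf_coe]; exact ha
  have hev : ∀ a : ↥(commutator ↥(Cfsg.isometryGroup F (⇑Q))),
      Even (rk (a : ↥(Cfsg.isometryGroup F (⇑Q)))) := fun a => (hmem _).1 a.2
  have hzmod : ∀ x y : ℕ, x < 2 → y < 2 → ((x : ℕ) : ZMod 2) = ((y : ℕ) : ZMod 2) → x = y := by
    intro x y hx hy h
    rw [ZMod.natCast_eq_natCast_iff'] at h
    omega
  apply card_classes_of_code (fun g => orderOf g = 2) (2 * (m / 2) + (if Even m then 1 else 0))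
    (fun g : ↥(commutator ↥(Cfsg.isometryGroup F (⇑Q))) =>
      if alt (g : ↥(Cfsg.isometryGroup F (⇑Q))) then
        (if rk (g : ↥(Cfsg.isometryGroup F (⇑Q))) = m then
          m + π (g : ↥(Cfsg.isometryGroup F (⇑Q)))
        else m / 2 + rk (g : ↥(Cfsg.isometryGroup F (⇑Q))) / 2)
      else rk (g : ↥(Cfsg.isometryGroup F (⇑Q))) / 2)
  · -- invariance
    intro a b hab
    obtain ⟨c, hc⟩ := isConj_iff.mp hab
    have hc' : (c : ↥(Cfsg.isometryGroup F (⇑Q))) * (a : ↥(Cfsg.isometryGroup F (⇑Q))) *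
        (c : ↥(Cfsg.isometryGroup F (⇑Q)))⁻¹ = (b : ↥(Cfsg.isometryGroup F (⇑Q))) := by
      rw [← hc]; rfl
    obtain ⟨hr, hal⟩ := same_type_of_conj Q _ _ _ hc'
    have hr' : rk (a : ↥(Cfsg.isometryGroup F (⇑Q))) = rk (b : ↥(Cfsg.isometryGroup F (⇑Q))) :=
      hr
    have hal' : alt (a : ↥(Cfsg.isometryGroup F (⇑Q))) ↔
        alt (b : ↥(Cfsg.isometryGroup F (⇑Q))) := hal
    show (if alt (a : ↥(Cfsg.isometryGroup F (⇑Q))) then
        (if rk (a : ↥(Cfsg.isometryGroup F (⇑Q))) = m then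
          m + π (a : ↥(Cfsg.isometryGroup F (⇑Q)))
        else m / 2 + rk (a : ↥(Cfsg.isometryGroup F (⇑Q))) / 2)
      else rk (a : ↥(Cfsg.isometryGroup F (⇑Q))) / 2) =
      (if alt (b : ↥(Cfsg.isometryGroup F (⇑Q))) then
        (if rk (b : ↥(Cfsg.isometryGroup F (⇑Q))) = m then
          m + π (b : ↥(Cfsg.isometryGroup F (⇑Q)))
        else m / 2 + rk (b : ↥(Cfsg.isometryGroup F (⇑Q))) / 2)
      else rk (b : ↥(Cfsg.isometryGroup F (⇑Q))) / 2)
    by_cases h : alt (a : ↥(Cfsg.isometryGroup F (⇑Q)))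
    · rw [if_pos h, if_pos (hal'.mp h), ← hr']
      by_cases hrm : rk (a : ↥(Cfsg.isometryGroup F (⇑Q))) = m
      · rw [if_pos hrm, if_pos hrm]
        have hme : Even m := by rw [← hrm]; exact hev a
        by_cases hm1 : 1 ≤ m
        · have h8 := hπconj _ (c : ↥(Cfsg.isometryGroup F (⇑Q))) h hrm hme hm1
          rw [hc', (hpar _).1 c.2, add_zero] at h8
          rw [hzmod _ _ (hπlt _) (hπlt _) h8]
        · have hm0 : m = 0 := by omega
          have hWa : finrank F (Wg (a : ↥(Cfsg.isometryGroup F (⇑Q)))) = 0 := by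
            rw [hWgrk, hrm, hm0]
          have hWb : finrank F (Wg (b : ↥(Cfsg.isometryGroup F (⇑Q)))) = 0 := by
            rw [hWgrk, ← hr', hrm, hm0]
          have e1 : finrank F ↥(Wg T₀ ⊓ Wg (a : ↥(Cfsg.isometryGroup F (⇑Q)))) = 0 := by
            have := Submodule.finrank_mono
              (inf_le_right : Wg T₀ ⊓ Wg (a : ↥(Cfsg.isometryGroup F (⇑Q))) ≤ _)
            omega
          have e2 : finrank F ↥(Wg T₀ ⊓ Wg (b : ↥(Cfsg.isometryGroup F (⇑Q)))) = 0 := by
            have := Submodule.finrank_mono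
              (inf_le_right : Wg T₀ ⊓ Wg (b : ↥(Cfsg.isometryGroup F (⇑Q))) ≤ _)
            omega
          show m + finrank F ↥(Wg T₀ ⊓ Wg (a : ↥(Cfsg.isometryGroup F (⇑Q)))) % 2
            = m + finrank F ↥(Wg T₀ ⊓ Wg (b : ↥(Cfsg.isometryGroup F (⇑Q)))) % 2
          rw [e1, e2]
      · rw [if_neg hrm, if_neg hrm]
    · rw [if_neg h, if_neg (fun h' => h (hal'.mpr h')), hr']
  · -- completeness
    intro a b ha hb hcode
    have hcode' : (if alt (a : ↥(Cfsg.isometryGroup F (⇑Q))) then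
        (if rk (a : ↥(Cfsg.isometryGroup F (⇑Q))) = m then
          m + π (a : ↥(Cfsg.isometryGroup F (⇑Q)))
        else m / 2 + rk (a : ↥(Cfsg.isometryGroup F (⇑Q))) / 2)
      else rk (a : ↥(Cfsg.isometryGroup F (⇑Q))) / 2) =
      (if alt (b : ↥(Cfsg.isometryGroup F (⇑Q))) then
        (if rk (b : ↥(Cfsg.isometryGroup F (⇑Q))) = m then
          m + π (b : ↥(Cfsg.isometryGroup F (⇑Q)))
        else m / 2 + rk (b : ↥(Cfsg.isometryGroup F (⇑Q))) / 2)
      else rk (b : ↥(Cfsg.isometryGroup F (⇑Q))) / 2) := hcode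
    have ha' := hord a ha
    have hb' := hord b hb
    have ha1 := hrk1 _ ha'
    have hb1 := hrk1 _ hb'
    have ham := hrkm _ ha'
    have hbm := hrkm _ hb'
    obtain ⟨Na, hNa⟩ := hev a
    obtain ⟨Nb, hNb⟩ := hev b
    have hπa := hπlt (a : ↥(Cfsg.isometryGroup F (⇑Q)))
    have hπb := hπlt (b : ↥(Cfsg.isometryGroup F (⇑Q)))
    have key : rk (a : ↥(Cfsg.isometryGroup F (⇑Q))) = rk (b : ↥(Cfsg.isometryGroup F (⇑Q))) ∧
        (alt (a : ↥(Cfsg.isometryGroup F (⇑Q))) ↔ alt (b : ↥(Cfsg.isometryGroup F (⇑Q)))) ∧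
        (alt (a : ↥(Cfsg.isometryGroup F (⇑Q))) → rk (a : ↥(Cfsg.isometryGroup F (⇑Q))) = m →
          π (a : ↥(Cfsg.isometryGroup F (⇑Q))) = π (b : ↥(Cfsg.isometryGroup F (⇑Q)))) := by
      by_cases h : alt (a : ↥(Cfsg.isometryGroup F (⇑Q))) <;>
        by_cases h' : alt (b : ↥(Cfsg.isometryGroup F (⇑Q)))
      · rw [if_pos h, if_pos h'] at hcode'
        by_cases hra : rk (a : ↥(Cfsg.isometryGroup F (⇑Q))) = m <;>
          by_cases hrb : rk (b : ↥(Cfsg.isometryGroup F (⇑Q))) = m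
        · rw [if_pos hra, if_pos hrb] at hcode'
          exact ⟨by omega, ⟨fun _ => h', fun _ => h⟩, fun _ _ => by omega⟩
        · rw [if_pos hra, if_neg hrb] at hcode'
          omega
        · rw [if_neg hra, if_pos hrb] at hcode'
          omega
        · rw [if_neg hra, if_neg hrb] at hcode'
          exact ⟨by omega, ⟨fun _ => h', fun _ => h⟩, fun _ h9 => absurd h9 hra⟩
      · rw [if_pos h, if_neg h'] at hcode'
        by_cases hra : rk (a : ↥(Cfsg.isometryGroup F (⇑Q))) = m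
        · rw [if_pos hra] at hcode'
          omega
        · rw [if_neg hra] at hcode'
          omega
      · rw [if_neg h, if_pos h'] at hcode'
        by_cases hrb : rk (b : ↥(Cfsg.isometryGroup F (⇑Q))) = m
        · rw [if_pos hrb] at hcode'
          omega
        · rw [if_neg hrb] at hcode'
          omega
      · rw [if_neg h, if_neg h'] at hcode'
        exact ⟨by omega, ⟨fun x => absurd x h, fun x => absurd x h'⟩, fun x => absurd x h⟩
    have hO := isConj_of_same_type h2 Q hQ _ _ (mul_self_of_orderOf_two _ ha')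
      (mul_self_of_orderOf_two _ hb') key.1 key.2.1
    have hfin : ∃ g ∈ commutator ↥(Cfsg.isometryGroup F (⇑Q)),
        g * (a : ↥(Cfsg.isometryGroup F (⇑Q))) * g⁻¹ = (b : ↥(Cfsg.isometryGroup F (⇑Q))) := by
      by_cases hsp : alt (a : ↥(Cfsg.isometryGroup F (⇑Q))) ∧
          rk (a : ↥(Cfsg.isometryGroup F (⇑Q))) = m
      · obtain ⟨haa, hra⟩ := hsp
        obtain ⟨c, hc⟩ := isConj_iff.mp hO
        refine ⟨c, ?_, hc⟩
        have hme : Even m := by rw [← hra]; exact hev a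
        have h8 := hπconj _ c haa hra hme (by omega)
        rw [hc, key.2.2 haa hra] at h8
        rw [hpar]
        have : ∀ x y : ZMod 2, x = x + y → y = 0 := by decide
        exact this _ _ h8
      · have h9 := (omega_involution_splitting h2 Q hQ hgood hex m hdim _ _ ha' a.2 hO).1
        apply h9
        rintro ⟨h10, h11⟩
        apply hsp
        refine ⟨?_, h10⟩
        intro z
        have h12 := h11 z
        have h13 : z + ((((a : ↥(Cfsg.isometryGroup F (⇑Q))) :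
            Matrix.GeneralLinearGroup ι F) : Matrix ι ι F)) *ᵥ z
            = ((((a : ↥(Cfsg.isometryGroup F (⇑Q))) :
            Matrix.GeneralLinearGroup ι F) : Matrix ι ι F) - 1) *ᵥ z + (2 : F) • z := by
          rw [Matrix.sub_mulVec, Matrix.one_mulVec, two_smul]; abel
        rw [h13, h2, zero_smul, add_zero] at h12
        exact h12
    obtain ⟨g, hg, hgab⟩ := hfin
    rw [isConj_iff]
    refine ⟨⟨g, hg⟩, ?_⟩
    apply Subtype.ext
    exact hgab
  · -- range
    intro a ha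
    have ha' := hord a ha
    have ha1 := hrk1 _ ha'
    have ham := hrkm _ ha'
    obtain ⟨Na, hNa⟩ := hev a
    have hπa := hπlt (a : ↥(Cfsg.isometryGroup F (⇑Q)))
    show 1 ≤ (if alt (a : ↥(Cfsg.isometryGroup F (⇑Q))) then
        (if rk (a : ↥(Cfsg.isometryGroup F (⇑Q))) = m then
          m + π (a : ↥(Cfsg.isometryGroup F (⇑Q)))
        else m / 2 + rk (a : ↥(Cfsg.isometryGroup F (⇑Q))) / 2)
      else rk (a : ↥(Cfsg.isometryGroup F (⇑Q))) / 2) ∧
      (if alt (a : ↥(Cfsg.isometryGroup F (⇑Q))) then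
        (if rk (a : ↥(Cfsg.isometryGroup F (⇑Q))) = m then
          m + π (a : ↥(Cfsg.isometryGroup F (⇑Q)))
        else m / 2 + rk (a : ↥(Cfsg.isometryGroup F (⇑Q))) / 2)
      else rk (a : ↥(Cfsg.isometryGroup F (⇑Q))) / 2) ≤ 2 * (m / 2) + (if Even m then 1 else 0)
    by_cases hme : Even m
    · rw [if_pos hme]
      obtain ⟨M, hM⟩ := hme
      by_cases h : alt (a : ↥(Cfsg.isometryGroup F (⇑Q)))
      · rw [if_pos h]
        by_cases hra : rk (a : ↥(Cfsg.isometryGroup F (⇑Q))) = m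
        · rw [if_pos hra]; omega
        · rw [if_neg hra]; omega
      · rw [if_neg h]; omega
    · rw [if_neg hme]
      have hmo : ¬ 2 ∣ m := fun h => hme (even_iff_two_dvd.2 h)
      by_cases h : alt (a : ↥(Cfsg.isometryGroup F (⇑Q)))
      · rw [if_pos h]
        by_cases hra : rk (a : ↥(Cfsg.isometryGroup F (⇑Q))) = m
        · exfalso; apply hme; rw [← hra]; exact hev a
        · rw [if_neg hra]; omega
      · rw [if_neg h]; omega
  · -- every value is taken
    intro j hj1 hjm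
    by_cases hj : j ≤ m / 2
    · obtain ⟨t, ht, hr, hna⟩ := hnon (2 * j) (by omega) (by omega)
      obtain ⟨T, hT2, hTr, hTa, -⟩ := hlift t ht (by omega)
      have hTO : T ∈ commutator ↥(Cfsg.isometryGroup F (⇑Q)) := by
        rw [hmem, hTr, hr]; exact ⟨j, by ring⟩
      refine ⟨⟨T, hTO⟩, ?_, ?_⟩
      · show orderOf (⟨T, hTO⟩ : ↥(commutator ↥(Cfsg.isometryGroup F (⇑Q)))) = 2
        rw [← Subgroup.orderOf_coe]; exact hT2
      · show (if alt T then (if rk T = m then m + π T else m / 2 + rk T / 2) else rk T / 2) = j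
        rw [if_neg (fun h => hna (hTa.1 h)), hTr, hr]
        omega
    · by_cases hlt : 2 * (j - m / 2) < m
      · obtain ⟨t, ht, hr, ha⟩ := halt (j - m / 2) (by omega) (by omega)
        obtain ⟨T, hT2, hTr, hTa, -⟩ := hlift t ht (by omega)
        have hTO : T ∈ commutator ↥(Cfsg.isometryGroup F (⇑Q)) := by
          rw [hmem, hTr, hr]; exact ⟨j - m / 2, by ring⟩
        refine ⟨⟨T, hTO⟩, ?_, ?_⟩
        · show orderOf (⟨T, hTO⟩ : ↥(commutator ↥(Cfsg.isometryGroup F (⇑Q)))) = 2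
          rw [← Subgroup.orderOf_coe]; exact hT2
        · show (if alt T then (if rk T = m then m + π T else m / 2 + rk T / 2) else rk T / 2) = j
          rw [if_pos (hTa.2 ha), if_neg (by rw [hTr, hr]; omega), hTr, hr]
          omega
      · -- the two classes of maximal rank
        have hme : Even m := by
          by_contra hme
          rw [if_neg hme] at hjm
          have hmo : ¬ 2 ∣ m := fun h => hme (even_iff_two_dvd.2 h)
          omega
        rw [if_pos hme] at hjm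
        obtain ⟨hT₀2, hT₀r, hT₀a⟩ := hT₀ hme hm1
        obtain ⟨h5, h6⟩ := hW₀ hme hm1
        have hT₀O : T₀ ∈ commutator ↥(Cfsg.isometryGroup F (⇑Q)) := by
          rw [hmem, hT₀r]; exact hme
        have hmz : ((m : ℕ) : ZMod 2) = 0 := (ZMod.natCast_eq_zero_iff_even).2 hme
        have hπ0 : π T₀ = 0 := by
          show finrank F ↥(Wg T₀ ⊓ Wg T₀) % 2 = 0
          rw [inf_idem, h6]
          exact Nat.even_iff.1 hme
        by_cases hjm' : j = m
        · refine ⟨⟨T₀, hT₀O⟩, ?_, ?_⟩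
          · show orderOf (⟨T₀, hT₀O⟩ : ↥(commutator ↥(Cfsg.isometryGroup F (⇑Q)))) = 2
            rw [← Subgroup.orderOf_coe]; exact hT₀2
          · show (if alt T₀ then (if rk T₀ = m then m + π T₀ else m / 2 + rk T₀ / 2)
              else rk T₀ / 2) = j
            rw [if_pos hT₀a, if_pos hT₀r, hπ0, hjm', add_zero]
        · have hjm1 : j = m + 1 := by
            obtain ⟨M, hM⟩ := hme
            omega
          obtain ⟨v0, hv0⟩ := hex
          set r0 := reflElt Q v0 hv0 with hr0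
          have hT₁O : r0 * T₀ * r0⁻¹ ∈ commutator ↥(Cfsg.isometryGroup F (⇑Q)) :=
            (inferInstance : (commutator ↥(Cfsg.isometryGroup F (⇑Q))).Normal).conj_mem _ hT₀O r0
          obtain ⟨hr1, hal1⟩ := same_type_of_conj Q T₀ (r0 * T₀ * r0⁻¹) r0 rfl
          have hr1' : rk (r0 * T₀ * r0⁻¹) = m := by rw [← hT₀r]; exact hr1.symm
          have hal1' : alt (r0 * T₀ * r0⁻¹) := hal1.1 hT₀a
          have h8 := hπconj T₀ r0 hT₀a hT₀r hme hm1
          rw [hπ0, dicksonPar_refl Q hQ r0 (reflElt_mem_reflSet Q v0 hv0)] at h8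
          have hπ1 : π (r0 * T₀ * r0⁻¹) = 1 := by
            apply hzmod _ _ (hπlt _) (by norm_num)
            rw [h8]; simp
          refine ⟨⟨r0 * T₀ * r0⁻¹, hT₁O⟩, ?_, ?_⟩
          · show orderOf (⟨r0 * T₀ * r0⁻¹, hT₁O⟩ :
              ↥(commutator ↥(Cfsg.isometryGroup F (⇑Q)))) = 2
            rw [← Subgroup.orderOf_coe]
            show orderOf (r0 * T₀ * r0⁻¹) = 2
            rw [orderOf_conj_eq]; exact hT₀2
          · show (if alt (r0 * T₀ * r0⁻¹) then (if rk (r0 * T₀ * r0⁻¹) = m then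
              m + π (r0 * T₀ * r0⁻¹) else m / 2 + rk (r0 * T₀ * r0⁻¹) / 2)
              else rk (r0 * T₀ * r0⁻¹) / 2) = j
            rw [if_pos hal1', if_pos hr1', hπ1, hjm1]

/-- the same for a function that is the coercion of a quadratic form -/
theorem card_omega_plus_involution_classes' [Fintype F] (h2 : (2 : F) = 0) (f : (ι → F) → F)
    (Q : QuadraticForm F (ι → F)) (hf : f = ⇑Q)
    (hQ : (QuadraticMap.polarBilin Q).Nondegenerate) (hgood : GoodOrth Q)
    (hex : ∃ v, Q v ≠ 0) (m : ℕ) (hm1 : 1 ≤ m)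
    (hdim : finrank F (ι → F) = 2 * m)
    (hnon : ∀ s, 1 ≤ s → s ≤ m → ∃ t : (ι → F) →ₗ[F] (ι → F), IsInvIso Q t ∧
      finrank F (LinearMap.range (nilPart t)) = s ∧ ¬ ∀ z, Q (nilPart t z) = 0)
    (halt : ∀ r, 1 ≤ r → 2 * r ≤ m → ∃ t : (ι → F) →ₗ[F] (ι → F), IsInvIso Q t ∧
      finrank F (LinearMap.range (nilPart t)) = 2 * r ∧ ∀ z, Q (nilPart t z) = 0) :
    Nat.card {C : ConjClasses ↥(commutator ↥(Cfsg.isometryGroup F f)) //
      ∃ g : ↥(commutator ↥(Cfsg.isometryGroup F f)), ConjClasses.mk g = C ∧ orderOf g = 2}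
      = 2 * (m / 2) + (if Even m then 1 else 0) := by
  subst hf
  exact card_omega_plus_involution_classes h2 Q hQ hgood hex m hm1 hdim hnon halt

end Cfsg.Agent.Lib.Helper8
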