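import Mathlib

/-!
# Arithmetic for the spectrum of `PSU_3(q)`
-/

set_option autoImplicit false

namespace Cfsg.Agent.Lib.Helper8.PSU3N

theorem div_gcd_dvd (n j : ℕ) (h : n ∣ 3 * j) : n / Nat.gcd 3 n ∣ j := by
  rcases (Nat.dvd_prime Nat.prime_three).mp (Nat.gcd_dvd_left 3 n) with hd | hd
  · rw [hd, Nat.div_one]
    have hc : Nat.Coprime n 3 := by rw [Nat.coprime_comm]; exact hd
    exact hc.dvd_of_dvd_mul_left h
  · rw [hd]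
    have h3 : 3 ∣ n := by rw [← hd]; exact Nat.gcd_dvd_right 3 n
    obtain ⟨t, rfl⟩ := h3
    rw [Nat.mul_div_cancel_left _ (by norm_num)]
    exact Nat.dvd_of_mul_dvd_mul_left (by norm_num) h

/-- `(q² - 1) ∣ k (q + 1)` and `(q² - 1) ∣ k (q - 2)` force `(q² - 1)/d ∣ k` -/
theorem torus_arith (q k : ℕ) (hq : 3 ≤ q) (h1 : q ^ 2 - 1 ∣ k * (q + 1))
    (h2 : q ^ 2 - 1 ∣ k * (q - 2)) : (q ^ 2 - 1) / Nat.gcd 3 (q + 1) ∣ k := by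
  obtain ⟨t, rfl⟩ : ∃ t, q = t + 3 := ⟨q - 3, by omega⟩
  have e1 : (t + 3) ^ 2 - 1 = (t + 2) * (t + 3 + 1) := by
    apply Nat.sub_eq_of_eq_add
    ring
  have e2 : t + 3 - 2 = t + 1 := by omega
  rw [e1] at h1 h2 ⊢
  rw [e2] at h2
  have h3 : t + 2 ∣ k := Nat.dvd_of_mul_dvd_mul_right (by omega) h1
  obtain ⟨j, rfl⟩ := h3
  have h4 : t + 3 + 1 ∣ j * (t + 1) := by
    apply Nat.dvd_of_mul_dvd_mul_left (show 0 < t + 2 by omega)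
    rw [← mul_assoc]
    exact h2
  have h5 : t + 3 + 1 ∣ 3 * j := by
    have e : j * (t + 3 + 1) = j * (t + 1) + 3 * j := by ring
    have h6 : t + 3 + 1 ∣ j * (t + 1) + 3 * j := by rw [← e]; exact Dvd.intro_left _ rfl
    exact (Nat.dvd_add_right h4).1 h6
  have h7 := div_gcd_dvd (t + 3 + 1) j h5
  rw [Nat.mul_div_assoc _ (Nat.gcd_dvd_right 3 (t + 3 + 1))]
  exact Nat.mul_dvd_mul_left _ h7

theorem three_dvd_iff (q : ℕ) (hq : 1 ≤ q) : 3 ∣ q ^ 2 - q + 1 ↔ 3 ∣ q + 1 := by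
  obtain ⟨s, hs⟩ : ∃ s, q = 3 * s + 1 ∨ q = 3 * s + 2 ∨ q = 3 * s + 3 := ⟨(q - 1) / 3, by omega⟩
  rcases hs with rfl | rfl | rfl
  · have e : (3 * s + 1) ^ 2 - (3 * s + 1) + 1 = 3 * (3 * (s * s) + s) + 1 := by
      have : (3 * s + 1) ^ 2 = 3 * (3 * (s * s) + s) + (3 * s + 1) := by ring
      omega
    rw [e]
    omega
  · have e : (3 * s + 2) ^ 2 - (3 * s + 2) + 1 = 3 * (3 * (s * s) + 3 * s + 1) := by
      have : (3 * s + 2) ^ 2 = 3 * (3 * (s * s) + 3 * s + 1) + (3 * s + 2) - 1 := by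
        have : (3 * s + 2) ^ 2 + 1 = 3 * (3 * (s * s) + 3 * s + 1) + (3 * s + 2) := by ring
        omega
      omega
    rw [e]
    omega
  · have e : (3 * s + 3) ^ 2 - (3 * s + 3) + 1 = 3 * (3 * (s * s) + 5 * s + 2) + 1 := by
      have : (3 * s + 3) ^ 2 = 3 * (3 * (s * s) + 5 * s + 2) + (3 * s + 3) := by ring
      omega
    rw [e]
    omega

theorem gcd_three_eq (q : ℕ) (hq : 1 ≤ q) : Nat.gcd 3 (q ^ 2 - q + 1) = Nat.gcd 3 (q + 1) := by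
  have h := three_dvd_iff q hq
  rcases (Nat.dvd_prime Nat.prime_three).mp (Nat.gcd_dvd_left 3 (q ^ 2 - q + 1)) with h1 | h1 <;>
  rcases (Nat.dvd_prime Nat.prime_three).mp (Nat.gcd_dvd_left 3 (q + 1)) with h2 | h2
  · rw [h1, h2]
  · exfalso
    have h3 : 3 ∣ q + 1 := by rw [← h2]; exact Nat.gcd_dvd_right _ _
    have h4 := h.2 h3
    have h5 : 3 ∣ Nat.gcd 3 (q ^ 2 - q + 1) := Nat.dvd_gcd (dvd_refl 3) h4
    rw [h1] at h5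
    omega
  · exfalso
    have h3 : 3 ∣ q ^ 2 - q + 1 := by rw [← h1]; exact Nat.gcd_dvd_right _ _
    have h4 := h.1 h3
    have h5 : 3 ∣ Nat.gcd 3 (q + 1) := Nat.dvd_gcd (dvd_refl 3) h4
    rw [h2] at h5
    omega
  · rw [h1, h2]

/-- `(q² - q + 1) ∣ k (q² - 1)` forces `(q² - q + 1)/d ∣ k` -/
theorem cubic_arith (q k : ℕ) (hq : 2 ≤ q) (h : q ^ 2 - q + 1 ∣ k * (q ^ 2 - 1)) :
    (q ^ 2 - q + 1) / Nat.gcd 3 (q + 1) ∣ k := by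
  rw [← gcd_three_eq q (by omega)]
  apply div_gcd_dvd
  obtain ⟨t, rfl⟩ : ∃ t, q = t + 2 := ⟨q - 2, by omega⟩
  have e1 : (t + 2) ^ 2 - 1 = (t + 1) * (t + 3) := by
    apply Nat.sub_eq_of_eq_add
    ring
  have e2 : (t + 2) ^ 2 - (t + 2) + 1 = (t + 2) * (t + 1) + 1 := by
    have : (t + 2) ^ 2 = (t + 2) * (t + 1) + (t + 2) := by ring
    omega
  rw [e1, e2] at h
  rw [e2]
  have hc : Nat.Coprime ((t + 2) * (t + 1) + 1) (t + 1) := by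
    rw [Nat.coprime_mul_right_add_left]
    exact Nat.coprime_one_left _
  have h3 : (t + 2) * (t + 1) + 1 ∣ k * (t + 3) := by
    apply hc.dvd_of_dvd_mul_right
    have e : k * (t + 3) * (t + 1) = k * ((t + 1) * (t + 3)) := by ring
    rw [e]
    exact h
  have e3 : k * (t + 3) * t + 3 * k = k * ((t + 2) * (t + 1) + 1) := by ring
  have h4 : (t + 2) * (t + 1) + 1 ∣ k * (t + 3) * t + 3 * k := by
    rw [e3]; exact Dvd.intro_left _ rfl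
  exact (Nat.dvd_add_right (Dvd.dvd.mul_right h3 t)).1 h4

/-- `p ∣ k` and `(q + 1) ∣ 3 k` force `p (q + 1)/d ∣ k` when `p ∣ q` -/
theorem unip_arith (p q k : ℕ) (hpq : p ∣ q) (h1 : p ∣ k) (h2 : q + 1 ∣ 3 * k) :
    p * (q + 1) / Nat.gcd 3 (q + 1) ∣ k := by
  rw [Nat.mul_div_assoc _ (Nat.gcd_dvd_right 3 (q + 1))]
  have h3 := div_gcd_dvd (q + 1) k h2
  have hc : Nat.Coprime p ((q + 1) / Nat.gcd 3 (q + 1)) := by
    have hc1 : Nat.Coprime q (q + 1) := by simp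
    have hc2 : Nat.Coprime p (q + 1) := Nat.Coprime.coprime_dvd_left hpq hc1
    exact Nat.Coprime.coprime_dvd_right (Nat.div_dvd_of_dvd (Nat.gcd_dvd_right 3 (q + 1))) hc2
  exact hc.mul_dvd_of_dvd_of_dvd h1 h3

theorem cubic_eq (q : ℕ) (hq : 1 ≤ q) : q ^ 2 - q + 1 = q * (q - 1) + 1 := by
  obtain ⟨t, rfl⟩ : ∃ t, q = t + 1 := ⟨q - 1, by omega⟩
  rw [Nat.add_sub_cancel]
  have : (t + 1) ^ 2 = (t + 1) * t + (t + 1) := by ring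
  omega

theorem cubic_dvd_cube (q : ℕ) (hq : 1 ≤ q) : q ^ 2 - q + 1 ∣ q ^ 3 + 1 := by
  rw [cubic_eq q hq]
  obtain ⟨t, rfl⟩ : ∃ t, q = t + 1 := ⟨q - 1, by omega⟩
  rw [Nat.add_sub_cancel]
  exact ⟨t + 2, by ring⟩

theorem cubic_dvd_card (q : ℕ) (hq : 1 ≤ q) : q ^ 2 - q + 1 ∣ q ^ 6 - 1 := by
  have h1 : q ^ 6 - 1 = (q ^ 3 + 1) * (q ^ 3 - 1) := by
    have := Nat.sq_sub_sq (q ^ 3) 1
    rw [← pow_mul, one_pow] at this
    exact this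
  rw [h1]
  exact Dvd.dvd.mul_right (cubic_dvd_cube q hq) _

theorem cubic_dvd_norm (q : ℕ) (hq : 1 ≤ q) : q ^ 2 - q + 1 ∣ (q ^ 2) ^ 0 + (q ^ 2) ^ 1 + (q ^ 2) ^ 2 := by
  rw [cubic_eq q hq]
  obtain ⟨t, rfl⟩ : ∃ t, q = t + 1 := ⟨q - 1, by omega⟩
  rw [Nat.add_sub_cancel]
  exact ⟨(t + 1) ^ 2 + (t + 1) + 1, by ring⟩

end Cfsg.Agent.Lib.Helper8.PSU3N
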