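import Cfsg.Agent.Lib.Helper8.PSU3Transport
import Cfsg.Agent.Lib.Helper8.PSU3Num
import Cfsg.Agent.Lib.Helper40.PGUnip5

/-!
# Elements of `SU_3(q)` from explicit matrices

Elements whose images in `PSU_3(q)` have orders divisible by `q + 1`, `p (q + 1)/d` and
`(q² - 1)/d`.
-/

set_option autoImplicit false
set_option linter.unusedSectionVars false

namespace Cfsg.Agent.Lib.Helper8.PSU3E

open Cfsg.Agent.Lib.Helper40.Herm Cfsg.Agent.Lib.Helper8.PSU3T Cfsg.Agent.Lib.Helper99.SURoot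
open Cfsg.Agent.Lib.Helper8.PSU3N Matrix

variable {F : Type*} [Field F] [Fintype F] {q : ℕ}

theorem toLin'_pow_apply {n : ℕ} (M : Matrix (Fin n) (Fin n) F) (k : ℕ) (v : Fin n → F) :
    ((Matrix.toLin' M) ^ k) v = (M ^ k) *ᵥ v := by
  induction k generalizing v with
  | zero => simp
  | succ k ih =>
    rw [pow_succ, Module.End.mul_apply, ih, Matrix.toLin'_apply, Matrix.mulVec_mulVec, ← pow_succ]

/-- a matrix of determinant one preserving a nondegenerate hermitian form on `F ^ n` gives an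
element of `SU_n(q)` with the same scalar powers -/
theorem exists_SU_of_matrix (hF : Fintype.card F = q ^ 2) (n : ℕ)
    (H : (Fin n → F) →ₗ[F] (Fin n → F) →ₛₗ[tauHom hF] F) (hH : IsHermitian H) (hnd : HNondeg H)
    (M : Matrix (Fin n) (Fin n) F) (hdet : M.det = 1)
    (hM : ∀ u v, H (M *ᵥ u) (M *ᵥ v) = H u v) :
    ∃ x : ↥(Cfsg.SU n F q), ∀ (k : ℕ) (c : F),
      (mat n x) ^ k = c • (1 : Matrix (Fin n) (Fin n) F) →
        M ^ k = c • (1 : Matrix (Fin n) (Fin n) F) := by
  obtain ⟨x, hx⟩ := exists_SU_of_isometry hF n H hH hnd (Module.finrank_fin_fun F)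
    (Matrix.toLin' M) (fun u v => by rw [Matrix.toLin'_apply, Matrix.toLin'_apply, hM])
    (by rw [LinearMap.det_toLin', hdet])
  refine ⟨x, fun k c hc => ?_⟩
  have h1 := hx k c hc
  apply Matrix.ext_iff_mulVec.mpr
  intro v
  rw [← toLin'_pow_apply, h1, LinearMap.smul_apply, Matrix.smul_mulVec, Matrix.one_mulVec]
  rfl

/-! ### the hyperbolic form -/

/-- the hermitian form `u₀ v̄₁ + u₁ v̄₀ + u₂ v̄₂` -/
noncomputable def hyp (hF : Fintype.card F = q ^ 2) :
    (Fin 3 → F) →ₗ[F] (Fin 3 → F) →ₛₗ[tauHom hF] F :=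
  LinearMap.mk₂'ₛₗ (RingHom.id F) (tauHom hF)
    (fun u v => u 0 * tauHom hF (v 1) + u 1 * tauHom hF (v 0) + u 2 * tauHom hF (v 2))
    (by intro a b c; simp only [Pi.add_apply]; ring)
    (by intro c a b; simp only [Pi.smul_apply, smul_eq_mul, RingHom.id_apply]; ring)
    (by intro a b c; simp only [Pi.add_apply, map_add]; ring)
    (by intro c a b; simp only [Pi.smul_apply, smul_eq_mul, map_mul]; ring)

theorem hyp_apply (hF : Fintype.card F = q ^ 2) (u v : Fin 3 → F) :
    hyp hF u v = u 0 * tauHom hF (v 1) + u 1 * tauHom hF (v 0) + u 2 * tauHom hF (v 2) := rfl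

theorem hyp_isHermitian (hF : Fintype.card F = q ^ 2) : IsHermitian (hyp hF) := by
  intro u v
  rw [hyp_apply, hyp_apply]
  simp only [map_add, map_mul, tauHom_tauHom]
  ring

theorem hyp_nondeg (hF : Fintype.card F = q ^ 2) : HNondeg (hyp hF) := by
  intro u hu
  have h0 := hu (Pi.single 1 1)
  have h1 := hu (Pi.single 0 1)
  have h2 := hu (Pi.single 2 1)
  rw [hyp_apply] at h0 h1 h2
  simp at h0 h1 h2
  funext i
  fin_cases i
  · exact h0
  · exact h1
  · exact h2

/-! ### diagonal elements in the standard model: order `q + 1` -/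

theorem exists_order_q_add_one (hF : Fintype.card F = q ^ 2) :
    ∃ x : ↥(Cfsg.SU 3 F q), ∀ (k : ℕ) (c : F),
      (mat 3 x) ^ k = c • (1 : Matrix (Fin 3) (Fin 3) F) → q + 1 ∣ k := by
  have hq2 : 2 ≤ q := Cfsg.Agent.Lib.Helper44.two_le_q_of_card hF
  have hdvd : q + 1 ∣ Fintype.card F - 1 := by
    rw [hF]
    refine ⟨q - 1, ?_⟩
    obtain ⟨t, rfl⟩ : ∃ t, q = t + 1 := ⟨q - 1, by omega⟩
    rw [Nat.add_sub_cancel]
    apply Nat.sub_eq_of_eq_add
    ring
  obtain ⟨a, ha0, ha⟩ := Cfsg.Agent.Lib.Helper40.PG.exists_orderOf_eq_of_dvd (F := F) (q + 1) hdvd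
  have haq : a ^ (q + 1) = 1 := by rw [← ha]; exact pow_orderOf_eq_one a
  have haq' : a * a ^ q = 1 := by rw [← pow_succ']; exact haq
  set d : Fin 3 → F := ![a, a⁻¹, 1] with hd
  have hdn : ∀ i, d i * tauHom hF (d i) = 1 := by
    intro i
    fin_cases i
    · exact haq'
    · show a⁻¹ * (a⁻¹) ^ q = 1
      rw [inv_pow, ← mul_inv, haq', inv_one]
    · show (1 : F) * 1 ^ q = 1
      rw [one_pow, one_mul]
  obtain ⟨x, hx⟩ := exists_SU_of_matrix hF 3 (stdHerm hF 3) (stdHerm_isHermitian hF 3)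
    (stdHerm_nondeg hF 3) (Matrix.diagonal d)
    (by
      rw [Matrix.det_diagonal, Fin.prod_univ_three]
      show a * a⁻¹ * 1 = 1
      rw [mul_inv_cancel₀ ha0, one_mul])
    (by
      intro u v
      rw [stdHerm_apply, stdHerm_apply, Cfsg.hermForm, Cfsg.hermForm]
      apply Finset.sum_congr rfl
      intro i _
      rw [Matrix.mulVec_diagonal, Matrix.mulVec_diagonal, mul_pow]
      have := hdn i
      rw [tauHom_apply] at this
      calc d i * u i * (d i ^ q * v i ^ q) = (d i * d i ^ q) * (u i * v i ^ q) := by ring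
        _ = u i * v i ^ q := by rw [this, one_mul])
  refine ⟨x, fun k c hc => ?_⟩
  have h1 := hx k c hc
  rw [Matrix.diagonal_pow] at h1
  have e2 := congrFun (congrFun h1 2) 2
  have e0 := congrFun (congrFun h1 0) 0
  simp only [Matrix.diagonal_apply_eq, Pi.pow_apply, Matrix.smul_apply, Matrix.one_apply_eq,
    smul_eq_mul, mul_one] at e0 e2
  have e2' : (1 : F) ^ k = c := e2
  have e0' : a ^ k = c := e0
  rw [one_pow] at e2'
  rw [← e2'] at e0'
  rw [← ha]
  exact orderOf_dvd_of_pow_eq_one e0'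

end Cfsg.Agent.Lib.Helper8.PSU3E
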