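import Cfsg.Agent.Lib.Helper8.PSU3Ex1

/-!
# Elements of `SU_3(q)` from the hyperbolic model

Elements whose images in `PSU_3(q)` have orders divisible by `(q² - 1)/d` and `p (q + 1)/d`.
-/

set_option autoImplicit false
set_option linter.unusedSectionVars false

namespace Cfsg.Agent.Lib.Helper8.PSU3E

open Cfsg.Agent.Lib.Helper40.Herm Cfsg.Agent.Lib.Helper8.PSU3T Cfsg.Agent.Lib.Helper99.SURoot
open Cfsg.Agent.Lib.Helper8.PSU3N Matrix

variable {F : Type*} [Field F] [Fintype F] {q : ℕ}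

theorem hyp_diag (hF : Fintype.card F = q ^ 2) (d : Fin 3 → F)
    (h01 : d 0 * tauHom hF (d 1) = 1) (h10 : d 1 * tauHom hF (d 0) = 1)
    (h22 : d 2 * tauHom hF (d 2) = 1) (u v : Fin 3 → F) :
    hyp hF (Matrix.diagonal d *ᵥ u) (Matrix.diagonal d *ᵥ v) = hyp hF u v := by
  rw [hyp_apply, hyp_apply]
  simp only [Matrix.mulVec_diagonal, map_mul]
  linear_combination (u 0 * tauHom hF (v 1)) * h01 + (u 1 * tauHom hF (v 0)) * h10 +
    (u 2 * tauHom hF (v 2)) * h22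

/-- an element of the torus of order `q² - 1` -/
theorem exists_order_torus (hF : Fintype.card F = q ^ 2) (hq3 : 3 ≤ q) :
    ∃ x : ↥(Cfsg.SU 3 F q), ∀ (k : ℕ) (c : F),
      (mat 3 x) ^ k = c • (1 : Matrix (Fin 3) (Fin 3) F) →
        (q ^ 2 - 1) / Nat.gcd 3 (q + 1) ∣ k := by
  obtain ⟨ζ, hζ0, hζ⟩ := Cfsg.Agent.Lib.Helper40.PG.exists_orderOf_eq_of_dvd (F := F)
    (Fintype.card F - 1) (dvd_refl _)
  rw [hF] at hζ
  have hζq : (ζ ^ q) ^ q = ζ := by
    rw [← pow_mul, ← sq, ← hF]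
    exact FiniteField.pow_card ζ
  have hζq0 : ζ ^ q ≠ 0 := pow_ne_zero _ hζ0
  set d : Fin 3 → F := ![ζ, (ζ ^ q)⁻¹, ζ ^ q * ζ⁻¹] with hd
  have hd0 : d 0 = ζ := rfl
  have hd1 : d 1 = (ζ ^ q)⁻¹ := rfl
  have hd2 : d 2 = ζ ^ q * ζ⁻¹ := rfl
  obtain ⟨x, hx⟩ := exists_SU_of_matrix hF 3 (hyp hF) (hyp_isHermitian hF) (hyp_nondeg hF)
    (Matrix.diagonal d)
    (by
      rw [Matrix.det_diagonal, Fin.prod_univ_three, hd0, hd1, hd2]
      field_simp)
    (hyp_diag hF d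
      (by
        rw [hd0, hd1, tauHom_apply, inv_pow, hζq, mul_inv_cancel₀ hζ0])
      (by
        rw [hd0, hd1, tauHom_apply, inv_mul_cancel₀ hζq0])
      (by
        rw [hd2, tauHom_apply, mul_pow, hζq, inv_pow]
        field_simp))
  refine ⟨x, fun k c hc => ?_⟩
  have h1 := hx k c hc
  rw [Matrix.diagonal_pow] at h1
  have e0 := congrFun (congrFun h1 0) 0
  have e1 := congrFun (congrFun h1 1) 1
  have e2 := congrFun (congrFun h1 2) 2
  simp only [Matrix.diagonal_apply_eq, Pi.pow_apply, Matrix.smul_apply, Matrix.one_apply_eq,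
    smul_eq_mul, mul_one] at e0 e1 e2
  rw [hd0] at e0
  rw [hd1, inv_pow] at e1
  rw [hd2, mul_pow, inv_pow] at e2
  have hc0 : c ≠ 0 := by rw [← e0]; exact pow_ne_zero _ hζ0
  have hk0 : ζ ^ k ≠ 0 := pow_ne_zero _ hζ0
  have e1' : (ζ ^ q) ^ k = c⁻¹ := by rw [← e1, inv_inv]
  have hA : ζ ^ (k * (q + 1)) = 1 := by
    have : ζ ^ (k * (q + 1)) = ζ ^ k * (ζ ^ q) ^ k := by ring
    rw [this, e0, e1', mul_inv_cancel₀ hc0]
  have hB : ζ ^ (k * (q - 2)) = 1 := by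
    have hq' : q = (q - 2) + 2 := by omega
    have e3 : (ζ ^ q) ^ k = ζ ^ (k * (q - 2)) * (ζ ^ k * ζ ^ k) := by
      conv_lhs => rw [hq']
      ring
    have e4 : (ζ ^ q) ^ k = ζ ^ k * ζ ^ k := by
      rw [← e0] at e2
      field_simp at e2
      rw [e2]
      ring
    rw [e4] at e3
    have hkk : ζ ^ k * ζ ^ k ≠ 0 := mul_ne_zero hk0 hk0
    have := mul_right_cancel₀ hkk (e3.symm.trans (one_mul _).symm)
    exact this
  have h2 : q ^ 2 - 1 ∣ k * (q + 1) := by rw [← hζ]; exact orderOf_dvd_of_pow_eq_one hA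
  have h3 : q ^ 2 - 1 ∣ k * (q - 2) := by rw [← hζ]; exact orderOf_dvd_of_pow_eq_one hB
  exact torus_arith q k hq3 h2 h3

theorem exists_skew' (hF : Fintype.card F = q ^ 2) : ∃ c₀ : F, c₀ ≠ 0 ∧ tauHom hF c₀ = -c₀ := by
  have hne := tauHom_ne_id hF
  have hex : ∃ x : F, tauHom hF x ≠ x := by
    by_contra hall
    push Not at hall
    apply hne
    apply RingHom.ext
    intro x
    exact hall x
  obtain ⟨x, hx⟩ := hex
  refine ⟨x - tauHom hF x, ?_, ?_⟩
  · intro h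
    apply hx
    exact (sub_eq_zero.mp h).symm
  · rw [map_sub, tauHom_tauHom]
    ring

theorem unipMat_pow (a c₀ : F) (k : ℕ) :
    (!![a, a * c₀, 0; 0, a, 0; 0, 0, (a ^ 2)⁻¹] : Matrix (Fin 3) (Fin 3) F) ^ k =
      !![a ^ k, (k : F) * a ^ k * c₀, 0; 0, a ^ k, 0; 0, 0, ((a ^ 2)⁻¹) ^ k] := by
  induction k with
  | zero =>
    ext i j
    fin_cases i <;> fin_cases j <;> simp
  | succ k ih =>
    rw [pow_succ, ih]
    ext i j
    fin_cases i <;> fin_cases j <;> simp [Matrix.mul_apply, Fin.sum_univ_three] <;> ring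

/-- an element with unipotent part a transvection and semisimple part of order `q + 1` -/
theorem exists_order_unip (hF : Fintype.card F = q ^ 2) (p : ℕ) [Fact p.Prime] [CharP F p]
    (hpq : p ∣ q) :
    ∃ x : ↥(Cfsg.SU 3 F q), ∀ (k : ℕ) (c : F),
      (mat 3 x) ^ k = c • (1 : Matrix (Fin 3) (Fin 3) F) →
        p * (q + 1) / Nat.gcd 3 (q + 1) ∣ k := by
  have hq2 : 2 ≤ q := Cfsg.Agent.Lib.Helper44.two_le_q_of_card hF
  have hdvd : q + 1 ∣ Fintype.card F - 1 := by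
    rw [hF]
    refine ⟨q - 1, ?_⟩
    obtain ⟨t, rfl⟩ : ∃ t, q = t + 1 := ⟨q - 1, by omega⟩
    rw [Nat.add_sub_cancel]
    apply Nat.sub_eq_of_eq_add
    ring
  obtain ⟨a, ha0, ha⟩ := Cfsg.Agent.Lib.Helper40.PG.exists_orderOf_eq_of_dvd (F := F) (q + 1) hdvd
  have haq : a ^ (q + 1) = 1 := by rw [← ha]; exact pow_orderOf_eq_one a
  have haq' : a * tauHom hF a = 1 := by rw [tauHom_apply, ← pow_succ']; exact haq
  obtain ⟨c₀, hc0, hc⟩ := exists_skew' hF
  set M : Matrix (Fin 3) (Fin 3) F := !![a, a * c₀, 0; 0, a, 0; 0, 0, (a ^ 2)⁻¹] with hM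
  have hMv : ∀ u : Fin 3 → F,
      M *ᵥ u = ![a * u 0 + a * c₀ * u 1, a * u 1, (a ^ 2)⁻¹ * u 2] := by
    intro u
    funext i
    fin_cases i <;> simp [hM, Matrix.mulVec, dotProduct, Fin.sum_univ_three]
  have ha2 : (a ^ 2)⁻¹ * tauHom hF ((a ^ 2)⁻¹) = 1 := by
    rw [map_inv₀, ← mul_inv, map_pow, ← mul_pow, haq', one_pow, inv_one]
  obtain ⟨x, hx⟩ := exists_SU_of_matrix hF 3 (hyp hF) (hyp_isHermitian hF) (hyp_nondeg hF) M
    (by
      rw [hM, Matrix.det_fin_three]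
      simp
      field_simp)
    (by
      intro u v
      rw [hMv, hMv, hyp_apply, hyp_apply]
      simp only [Matrix.cons_val_zero, Matrix.cons_val_one, Matrix.cons_val_two, Matrix.head_cons,
        Matrix.tail_cons, map_add, map_mul, hc]
      linear_combination (u 0 * tauHom hF (v 1) + u 1 * tauHom hF (v 0)) * haq' +
        (u 2 * tauHom hF (v 2)) * ha2)
  refine ⟨x, fun k c hck => ?_⟩
  have h1 := hx k c hck
  rw [hM, unipMat_pow] at h1
  have e00 := congrFun (congrFun h1 0) 0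
  have e01 := congrFun (congrFun h1 0) 1
  have e22 := congrFun (congrFun h1 2) 2
  simp at e00 e01 e22
  have hak : a ^ k ≠ 0 := pow_ne_zero _ ha0
  have hk : (k : F) = 0 := by
    rcases e01 with (h | ⟨h, -⟩) | h
    · exact h
    · exact absurd h ha0
    · exact absurd h hc0
  have hpk : p ∣ k := (CharP.cast_eq_zero_iff F p k).mp hk
  have h3 : a ^ (3 * k) = 1 := by
    have e : a ^ (3 * k) = a ^ k * (a ^ 2) ^ k := by ring
    rw [e, e00]
    have hc0' : c ≠ 0 := by rw [← e00]; exact hak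
    rw [inv_eq_iff_eq_inv] at e22
    rw [e22, mul_inv_cancel₀ hc0']
  have h4 : q + 1 ∣ 3 * k := by rw [← ha]; exact orderOf_dvd_of_pow_eq_one h3
  exact unip_arith p q k hpq hpk h4

end Cfsg.Agent.Lib.Helper8.PSU3E
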