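import Cfsg.Agent.Lib.Helper8.PSU3Ex1

/-!
# Elements of `SU_3(q)` from a cubic extension

For `E / F` of degree three, `E` carries the hermitian form `tr (x · y ^ (q ^ 3))`, preserved by
multiplication with elements of norm one to the subfield of index two; this yields an element
whose image in `PSU_3(q)` has order divisible by `(q² - q + 1)/d`.
-/

set_option autoImplicit false
set_option linter.unusedSectionVars false
set_option linter.style.haveILetI false

namespace Cfsg.Agent.Lib.Helper8.PSU3E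

open Cfsg.Agent.Lib.Helper40.Herm Cfsg.Agent.Lib.Helper8.PSU3T Cfsg.Agent.Lib.Helper99.SURoot
open Cfsg.Agent.Lib.Helper8.PSU3N Matrix

variable {F : Type*} [Field F] [Fintype F] {q : ℕ}

theorem exists_order_cubic (hF : Fintype.card F = q ^ 2) (p : ℕ) [Fact p.Prime] [CharP F p]
    (e : ℕ) (hqe : q = p ^ e) {E : Type*} [Field E] [Fintype E] [Algebra F E]
    (hE : Module.finrank F E = 3) :
    ∃ x : ↥(Cfsg.SU 3 F q), ∀ (k : ℕ) (c : F),
      (mat 3 x) ^ k = c • (1 : Matrix (Fin 3) (Fin 3) F) →
        (q ^ 2 - q + 1) / Nat.gcd 3 (q + 1) ∣ k := by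
  classical
  have hq2 : 2 ≤ q := Cfsg.Agent.Lib.Helper44.two_le_q_of_card hF
  haveI : CharP E p := charP_of_injective_algebraMap (algebraMap F E).injective p
  haveI : FiniteDimensional F E := Module.finite_of_finrank_pos (by rw [hE]; norm_num)
  let σ : E →+* E := iterateFrobenius E p (3 * e)
  have hσ : ∀ x, σ x = x ^ (q ^ 3) := fun x => by
    show iterateFrobenius E p (3 * e) x = _
    rw [iterateFrobenius_def, hqe, ← pow_mul, mul_comm]
  have hcE : Fintype.card E = q ^ 6 := by
    rw [Module.card_eq_pow_finrank (K := F), hE, hF, ← pow_mul]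
  have hσσ : ∀ x, σ (σ x) = x := fun x => by
    rw [hσ, hσ, ← pow_mul]
    have : q ^ 3 * q ^ 3 = q ^ 6 := by ring
    rw [this, ← hcE, FiniteField.pow_card]
  have hσF : ∀ a : F, σ (algebraMap F E a) = algebraMap F E (tauHom hF a) := fun a => by
    rw [hσ, ← map_pow, tauHom_apply]
    congr 1
    have : q ^ 3 = q ^ 2 * q := by ring
    rw [this, pow_mul, ← hF, FiniteField.pow_card]
  let H : E →ₗ[F] E →ₛₗ[tauHom hF] F :=
    LinearMap.mk₂'ₛₗ (RingHom.id F) (tauHom hF) (fun x y => Algebra.trace F E (x * σ y))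
      (by intro a b c; rw [add_mul, map_add])
      (by intro c a b; rw [smul_mul_assoc, map_smul, RingHom.id_apply])
      (by intro a b c; rw [map_add, mul_add, map_add])
      (by
        intro c a b
        rw [Algebra.smul_def, map_mul σ, hσF, ← mul_assoc, mul_comm a, mul_assoc, ← Algebra.smul_def,
          map_smul])
  have hHdef : ∀ x y, H x y = Algebra.trace F E (x * σ y) := fun x y => rfl
  have htr : ∀ z : E, tauHom hF (Algebra.trace F E z) = Algebra.trace F E (σ z) := by
    intro z
    apply (algebraMap F E).injective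
    rw [← hσF, FiniteField.algebraMap_trace_eq_sum_pow, FiniteField.algebraMap_trace_eq_sum_pow,
      map_sum]
    apply Finset.sum_congr rfl
    intro i _
    rw [map_pow]
  have hherm : IsHermitian H := by
    intro x y
    rw [hHdef, hHdef, htr, map_mul σ, hσσ, mul_comm]
  have hnd : HNondeg H := by
    intro x hx
    have h1 : ∀ w, Algebra.trace F E (x * w) = 0 := by
      intro w
      have := hx (σ w)
      rwa [hHdef, hσσ] at this
    have htr := (traceForm_nondegenerate F E).1 x
    simp_rw [Algebra.traceForm_apply] at htr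
    exact htr h1
  -- the element of order `q² - q + 1`
  have hdvd : q ^ 2 - q + 1 ∣ Fintype.card E - 1 := by
    rw [hcE]
    exact cubic_dvd_card q (by omega)
  obtain ⟨y₀, hy0, hy⟩ := Cfsg.Agent.Lib.Helper40.PG.exists_orderOf_eq_of_dvd (F := E) _ hdvd
  have hym : y₀ ^ (q ^ 2 - q + 1) = 1 := by rw [← hy]; exact pow_orderOf_eq_one y₀
  have hyσ : y₀ * σ y₀ = 1 := by
    rw [hσ, ← pow_succ']
    obtain ⟨t, ht⟩ := cubic_dvd_cube q (by omega)
    rw [ht, pow_mul, hym, one_pow]
  have hnorm : Algebra.norm F y₀ = 1 := by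
    apply (algebraMap F E).injective
    rw [FiniteField.algebraMap_norm_eq_pow_sum, hE, map_one, Nat.card_eq_fintype_card, hF]
    have hsum : ∑ i ∈ Finset.range 3, (q ^ 2) ^ i = (q ^ 2) ^ 0 + (q ^ 2) ^ 1 + (q ^ 2) ^ 2 := by
      simp [Finset.sum_range_succ]
    rw [hsum]
    obtain ⟨t, ht⟩ := cubic_dvd_norm q (by omega)
    rw [ht, pow_mul, hym, one_pow]
  have hdet : LinearMap.det (Algebra.lmul F E y₀) = 1 := by
    rw [← Algebra.norm_apply]; exact hnorm
  have hinv : HInv H (Algebra.lmul F E y₀) := by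
    intro u v
    rw [hHdef, hHdef]
    show Algebra.trace F E (y₀ * u * σ (y₀ * v)) = _
    rw [map_mul σ]
    have : y₀ * u * (σ y₀ * σ v) = (y₀ * σ y₀) * (u * σ v) := by ring
    rw [this, hyσ, one_mul]
  obtain ⟨x, hx⟩ := exists_SU_of_isometry hF 3 H hherm hnd hE (Algebra.lmul F E y₀) hinv hdet
  refine ⟨x, fun k c hc => ?_⟩
  have h1 := hx k c hc
  have h2 : y₀ ^ k = algebraMap F E c := by
    rw [← map_pow] at h1
    have := LinearMap.congr_fun h1 1
    simpa [Algebra.algebraMap_eq_smul_one] using this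
  have hc0 : c ≠ 0 := by
    rintro rfl
    rw [map_zero] at h2
    exact pow_ne_zero k hy0 h2
  have h3 : y₀ ^ (k * (q ^ 2 - 1)) = 1 := by
    rw [pow_mul, h2, ← map_pow, ← hF, FiniteField.pow_card_sub_one_eq_one c hc0, map_one]
  have h4 : q ^ 2 - q + 1 ∣ k * (q ^ 2 - 1) := by
    rw [← hy]; exact orderOf_dvd_of_pow_eq_one h3
  exact cubic_arith q k hq2 h4

end Cfsg.Agent.Lib.Helper8.PSU3E
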