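import Cfsg.Agent.Lib.Helper8.PSU3Roots

/-!
# Unitary `3 × 3` matrices of determinant one: some power in the list is scalar
-/

set_option autoImplicit false
open Polynomial

namespace Cfsg.Agent.Lib.Helper8.PSU3

open Cfsg.Agent.Lib.Helper40.PrimeOrder Cfsg.Agent.Lib.Helper40.Herm

section roots
variable {K : Type*} [Field K]

theorem reverse_X_sub_C (x : K) (hx : x ≠ 0) :
    (X - C x : K[X]).reverse = C (-x) * (X - C x⁻¹) := by
  have h1 : (X - C x : K[X]) = X + C (-x) := by rw [C_neg]; ring
  rw [h1, reverse_add_C, reverse_X', natDegree_X, pow_one, mul_sub, ← C_mul, neg_mul,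
    mul_inv_cancel₀ hx]
  simp only [C_neg, C_1]
  ring

theorem roots_reverse_prod (R : Multiset K) (h0 : ∀ x ∈ R, x ≠ 0) :
    ((R.map (fun x => X - C x)).prod).reverse.roots = R.map (fun x => x⁻¹) := by
  rw [reverse_multiset_prod, Multiset.map_map]
  have h1 : R.map (reverse ∘ fun x => (X - C x : K[X])) =
      R.map (fun x => C (-x) * (X - C x⁻¹)) := by
    apply Multiset.map_congr rfl
    intro x hx
    exact reverse_X_sub_C x (h0 x hx)
  rw [h1, Multiset.prod_map_mul]
  have h2 : (R.map (fun x => (C (-x) : K[X]))).prod = C ((R.map (fun x => -x)).prod) := by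
    rw [map_multiset_prod (C : K →+* K[X]), Multiset.map_map]
    rfl
  have h3 : (R.map (fun x => -x)).prod ≠ 0 := by
    intro h
    rw [Multiset.prod_eq_zero_iff] at h
    obtain ⟨x, hx, hx0⟩ := Multiset.mem_map.mp h
    exact h0 x hx (neg_eq_zero.mp hx0)
  rw [h2, roots_C_mul _ h3]
  have h4 : R.map (fun x => (X - C x⁻¹ : K[X])) = (R.map (fun x => x⁻¹)).map (fun a => X - C a) := by
    rw [Multiset.map_map]; rfl
  rw [h4, roots_multiset_prod_X_sub_C]

/-- eigenvalues of a matrix with `Mᵀ σ(M) = 1` are stable under `x ↦ (σ x)⁻¹` -/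
theorem roots_theta_stable {n : Type*} [Fintype n] [DecidableEq n] (σ : K →+* K)
    (M : Matrix n n K) (hM : M.transpose * M.map σ = 1) (hs : M.charpoly.Splits) :
    M.charpoly.roots.map (fun x => (σ x)⁻¹) = M.charpoly.roots := by
  have h1 := reverse_charpoly_of_mul_eq_one M.transpose (M.map σ) hM
  rw [Matrix.charpoly_transpose, Matrix.charpoly_map] at h1
  set P := M.charpoly with hP
  set R := P.roots with hR
  have hPR : P = (R.map (fun x => X - C x)).prod :=
    hs.eq_prod_roots_of_monic (Matrix.charpoly_monic M)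
  have hdet : M.det ≠ 0 := by
    intro h0
    have := congrArg Matrix.det hM
    rw [Matrix.det_mul, Matrix.det_transpose, h0, zero_mul, Matrix.det_one] at this
    exact zero_ne_one this
  have hc0 : P.coeff 0 ≠ 0 := by
    intro h0
    apply hdet
    rw [Matrix.det_eq_sign_charpoly_coeff, ← hP, h0, mul_zero]
  have hR0 : ∀ x ∈ R, x ≠ 0 := by
    intro x hx hx0
    rw [hR, mem_roots (Matrix.charpoly_monic M).ne_zero, IsRoot, hx0, ← coeff_zero_eq_eval_zero]
      at hx
    exact hc0 hx
  have hl : P.reverse.roots = R.map (fun x => x⁻¹) := by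
    conv_lhs => rw [hPR]
    exact roots_reverse_prod R hR0
  have hr : (C (P.coeff 0) * P.map σ).roots = R.map σ := by
    rw [roots_C_mul _ hc0]
    conv_lhs => rw [hPR]
    rw [Polynomial.map_multiset_prod, Multiset.map_map]
    have : R.map ((Polynomial.map σ) ∘ fun x => (X - C x : K[X])) =
        (R.map σ).map (fun a => X - C a) := by
      rw [Multiset.map_map]
      apply Multiset.map_congr rfl
      intro x _
      show Polynomial.map σ (X - C x) = X - C (σ x)
      rw [Polynomial.map_sub, Polynomial.map_X, Polynomial.map_C]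
    rw [this, roots_multiset_prod_X_sub_C]
  rw [h1, hr] at hl
  have h2 : R.map (fun x => (σ x)⁻¹) = (R.map σ).map (fun x => x⁻¹) := by
    rw [Multiset.map_map]; rfl
  rw [h2, hl, Multiset.map_map]
  conv_rhs => rw [← Multiset.map_id R]
  apply Multiset.map_congr rfl
  intro x _
  simp

end roots

section main
variable {F : Type*} [Field F] [Fintype F] {q : ℕ}

theorem exists_nat_pow_eq (hF : Fintype.card F = q ^ 2) (p : ℕ) [Fact p.Prime] [CharP F p] :
    ∃ k : ℕ, q = p ^ k := by
  obtain ⟨m, hp, hm⟩ := FiniteField.card F p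
  rw [hF] at hm
  have hq0 : q ≠ 0 := by
    rintro rfl
    have : (0 : ℕ) ^ 2 = 0 := by norm_num
    rw [this] at hm
    exact (pow_pos hp.pos _).ne hm
  refine ⟨q.primeFactorsList.length, Nat.eq_prime_pow_of_unique_prime_dvd hq0 ?_⟩
  intro d hd hdq
  have h1 : d ∣ p ^ (m : ℕ) := by rw [← hm]; exact Dvd.dvd.pow hdq (by norm_num)
  exact (Nat.prime_dvd_prime_iff_eq hd hp).mp (hd.dvd_of_dvd_pow h1)

/-- a unitary `3 × 3` matrix of determinant one has a scalar power with exponent in the list -/
theorem exists_pow_scalar (hF : Fintype.card F = q ^ 2) (p : ℕ) [Fact p.Prime] [CharP F p]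
    (hp2 : p ≠ 2) (A : Matrix (Fin 3) (Fin 3) F)
    (hA : ∀ u v, Cfsg.hermForm 3 F q (A.mulVec u) (A.mulVec v) = Cfsg.hermForm 3 F q u v)
    (hdet : A.det = 1) : ∃ N : ℕ, InT p q N ∧ ∃ c : F, A ^ N = c • (1 : Matrix (Fin 3) (Fin 3) F) := by
  classical
  have hq2 : 2 ≤ q := Cfsg.Agent.Lib.Helper44.two_le_q_of_card hF
  obtain ⟨k, hk⟩ := exists_nat_pow_eq hF p
  let K := AlgebraicClosure F
  have : CharP K p := charP_of_injective_algebraMap (algebraMap F K).injective p
  let σ : K →+* K := iterateFrobenius K p k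
  have hσ : ∀ x, σ x = x ^ q := fun x => by
    show iterateFrobenius K p k x = x ^ q
    rw [iterateFrobenius_def, hk]
  set AK : Matrix (Fin 3) (Fin 3) K := A.map (algebraMap F K) with hAK
  have hcompat : ∀ a : F, algebraMap F K (tauHom hF a) = σ (algebraMap F K a) := by
    intro a
    rw [hσ, tauHom_apply, map_pow]
  have hM : AK.transpose * AK.map σ = 1 := by
    have h1 := transpose_mul_map_of_unitary hF 3 A hA
    have h2 := congrArg (fun M : Matrix (Fin 3) (Fin 3) F => M.map (algebraMap F K)) h1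
    beta_reduce at h2
    rw [Matrix.map_mul, Matrix.map_one _ (map_zero _) (map_one _), Matrix.transpose_map] at h2
    have h3 : (A.map (tauHom hF)).map (algebraMap F K) = AK.map σ := by
      ext i j
      simp only [Matrix.map_apply, hAK]
      exact hcompat _
    rw [h3] at h2
    exact h2
  have hs : AK.charpoly.Splits := IsAlgClosed.splits _
  have hθ := roots_theta_stable σ AK hM hs
  set R := AK.charpoly.roots with hR
  have hcard : Multiset.card R = 3 := by
    rw [hR, ← hs.natDegree_eq_card_roots, Matrix.charpoly_natDegree_eq_dim, Fintype.card_fin]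
  have hdetK : AK.det = 1 := by
    have := (RingHom.map_det (algebraMap F K) A).symm
    rw [hdet, map_one] at this
    exact this
  have hprod : R.prod = 1 := by
    rw [hR, ← Matrix.det_eq_prod_roots_charpoly, hdetK]
  have h0 : ∀ x ∈ R, x ≠ 0 := by
    intro x hx hx0
    have : (0 : K) ∈ R := hx0 ▸ hx
    have h1 := Multiset.prod_eq_zero this
    rw [hprod] at h1
    exact one_ne_zero h1
  obtain ⟨N, ω, hN, hdvd⟩ := exists_pow_dvd p hp2 q hq2 σ hσ R hcard h0 hθ hprod
  have hPR : AK.charpoly = (R.map (fun x => X - C x)).prod :=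
    hs.eq_prod_roots_of_monic (Matrix.charpoly_monic AK)
  rw [← hPR] at hdvd
  have hCH : aeval AK (X ^ N - C ω : K[X]) = 0 := by
    obtain ⟨g, hg⟩ := hdvd
    rw [hg, map_mul, Matrix.aeval_self_charpoly, zero_mul]
  have hpow : AK ^ N = ω • (1 : Matrix (Fin 3) (Fin 3) K) := by
    rw [map_sub, map_pow, aeval_X, aeval_C, sub_eq_zero] at hCH
    rw [hCH, Algebra.algebraMap_eq_smul_one]
  refine ⟨N, hN, (A ^ N) 0 0, ?_⟩
  apply Matrix.map_injective (algebraMap F K).injective
  show (A ^ N).map (algebraMap F K) = ((A ^ N) 0 0 • (1 : Matrix (Fin 3) (Fin 3) F)).map _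
  have h1 : (A ^ N).map (algebraMap F K) = AK ^ N := Matrix.map_pow A (algebraMap F K) N
  have h2 : algebraMap F K ((A ^ N) 0 0) = ω := by
    have := congrFun (congrFun h1 0) 0
    rw [Matrix.map_apply, hpow] at this
    simpa using this
  rw [h1, hpow]
  ext i j
  simp only [Matrix.smul_apply, Matrix.map_apply, Matrix.one_apply, smul_eq_mul]
  split_ifs
  · rw [mul_one, map_mul, map_one, mul_one, h2]
  · rw [mul_zero, map_mul, map_zero, mul_zero]

end main

end Cfsg.Agent.Lib.Helper8.PSU3
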