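import Cfsg.Agent.Lib.Helper40.HermCharpoly
import Cfsg.Agent.Lib.Helper40.RecipPoly

/-!
# Eigenvalues of unitary `3 × 3` matrices: the exponent of the image in `PSU_3(q)`

For a matrix `M` over a field `K` with `Mᵀ * σ(M) = 1` (`σ` a ring endomorphism) whose
characteristic polynomial splits, the multiset of eigenvalues is stable under
`x ↦ (σ x)⁻¹`.  For `3 × 3` matrices of determinant one and `σ x = x ^ q` this yields an `N` in
the list `q + 1, p (q + 1)/d, (q² - 1)/d, (q² - q + 1)/d` with `M ^ N` scalar.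
-/

set_option autoImplicit false
open Polynomial

namespace Cfsg.Agent.Lib.Helper8.PSU3

open Cfsg.Agent.Lib.Helper40.PrimeOrder Cfsg.Agent.Lib.Helper40.Herm

/-- the exponents dividing one of the four numbers of the spectrum of `PSU_3(q)` -/
def InT (p q N : ℕ) : Prop :=
  N ∣ q + 1 ∨ N ∣ p * (q + 1) / Nat.gcd 3 (q + 1) ∨ N ∣ (q ^ 2 - 1) / Nat.gcd 3 (q + 1) ∨
    N ∣ (q ^ 2 - q + 1) / Nat.gcd 3 (q + 1)

section nat

theorem gcd_eq_one_or_three (q : ℕ) : Nat.gcd 3 (q + 1) = 1 ∨ Nat.gcd 3 (q + 1) = 3 :=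
  (Nat.dvd_prime Nat.prime_three).mp (Nat.gcd_dvd_left 3 (q + 1))

theorem gcd_dvd_sq_sub (q : ℕ) : Nat.gcd 3 (q + 1) ∣ q ^ 2 - 1 := by
  have h1 : q ^ 2 - 1 = (q + 1) * (q - 1) := by
    rcases Nat.eq_zero_or_pos q with h0 | h0
    · subst h0; simp
    · obtain ⟨t, rfl⟩ : ∃ t, q = t + 1 := ⟨q - 1, by omega⟩
      rw [Nat.add_sub_cancel]
      apply Nat.sub_eq_of_eq_add
      ring
  rw [h1]
  exact Dvd.dvd.mul_right (Nat.gcd_dvd_right 3 (q + 1)) _

theorem gcd_dvd_sq_sub_add (q : ℕ) (hq : 1 ≤ q) : Nat.gcd 3 (q + 1) ∣ q ^ 2 - q + 1 := by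
  rcases gcd_eq_one_or_three q with h | h
  · rw [h]; exact one_dvd _
  · rw [h]
    have h3 : 3 ∣ q + 1 := by rw [← h]; exact Nat.gcd_dvd_right 3 (q + 1)
    obtain ⟨t, ht⟩ := h3
    obtain ⟨s, rfl⟩ : ∃ s, t = s + 1 := ⟨t - 1, by omega⟩
    have hq' : q = 3 * s + 2 := by omega
    subst hq'
    refine ⟨3 * s ^ 2 + 3 * s + 1, ?_⟩
    have : (3 * s + 2) ^ 2 = 3 * (3 * s ^ 2 + 3 * s + 1) + (3 * s + 2) - 1 := by
      have : (3 * s + 2) ^ 2 + 1 = 3 * (3 * s ^ 2 + 3 * s + 1) + (3 * s + 2) := by ring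
      omega
    omega

end nat

section field
variable {K : Type*} [Field K]

theorem inv_sq_of_pow_gcd (q : ℕ) (ω : K) (h : ω ^ Nat.gcd 3 (q + 1) = 1) : ω⁻¹ * ω⁻¹ = ω := by
  rcases gcd_eq_one_or_three q with hd | hd
  · rw [hd, pow_one] at h
    rw [h]; simp
  · rw [hd] at h
    have h0 : ω ≠ 0 := by
      rintro rfl
      simp at h
    have h1 : ω * ω * ω = 1 := by rw [← h]; ring
    field_simp
    rw [← h1]
    ring

theorem pow_q_of_pow_gcd (q : ℕ) (ω : K) (h : ω ^ Nat.gcd 3 (q + 1) = 1) : ω ^ q = ω⁻¹ := by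
  have h0 : ω ≠ 0 := by
    rintro rfl
    rw [zero_pow (Nat.gcd_pos_of_pos_left _ (by norm_num)).ne'] at h
    exact zero_ne_one h
  obtain ⟨t, ht⟩ := Nat.gcd_dvd_right 3 (q + 1)
  have h1 : ω ^ (q + 1) = 1 := by rw [ht, pow_mul, h, one_pow]
  rw [pow_succ] at h1
  exact eq_inv_of_mul_eq_one_left h1

theorem case_transp (q : ℕ) (hq : 1 ≤ q) (x y z : K) (hx0 : x ≠ 0) (hy : y = (x ^ q)⁻¹)
    (hxx : x ^ (q ^ 2) = x) (hprod : x * y * z = 1) :
    ∃ ω : K, x ^ ((q ^ 2 - 1) / Nat.gcd 3 (q + 1)) = ω ∧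
      y ^ ((q ^ 2 - 1) / Nat.gcd 3 (q + 1)) = ω ∧ z ^ ((q ^ 2 - 1) / Nat.gcd 3 (q + 1)) = ω := by
  set N := (q ^ 2 - 1) / Nat.gcd 3 (q + 1) with hN
  have hq2 : 1 ≤ q ^ 2 := Nat.one_le_pow _ _ hq
  have hx1 : x ^ (q ^ 2 - 1) = 1 := by
    have h1 : x ^ (q ^ 2 - 1) * x = x := by
      rw [← pow_succ, Nat.sub_add_cancel hq2, hxx]
    exact mul_right_cancel₀ hx0 (by rw [h1, one_mul])
  have hω : (x ^ N) ^ Nat.gcd 3 (q + 1) = 1 := by
    rw [← pow_mul, hN, Nat.div_mul_cancel (gcd_dvd_sq_sub q), hx1]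
  have hyN : y ^ N = x ^ N := by
    rw [hy, inv_pow, ← pow_mul, mul_comm, pow_mul, pow_q_of_pow_gcd q _ hω, inv_inv]
  have hz : z = x⁻¹ * x ^ q := by
    have hy0 : y ≠ 0 := by rw [hy]; exact inv_ne_zero (pow_ne_zero _ hx0)
    have h1 : z = (x * y)⁻¹ := eq_inv_of_mul_eq_one_right hprod
    rw [h1, hy, mul_inv, inv_inv]
  refine ⟨x ^ N, rfl, hyN, ?_⟩
  rw [hz, mul_pow, inv_pow, ← pow_mul, mul_comm q N, pow_mul, pow_q_of_pow_gcd q _ hω]
  exact inv_sq_of_pow_gcd q _ hω

theorem case_cycle (q : ℕ) (hq : 1 ≤ q) (x y z : K) (hx0 : x ≠ 0) (hy : y = (x ^ q)⁻¹)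
    (hz : z = (y ^ q)⁻¹) (hprod : x * y * z = 1) :
    ∃ ω : K, x ^ ((q ^ 2 - q + 1) / Nat.gcd 3 (q + 1)) = ω ∧
      y ^ ((q ^ 2 - q + 1) / Nat.gcd 3 (q + 1)) = ω ∧
      z ^ ((q ^ 2 - q + 1) / Nat.gcd 3 (q + 1)) = ω := by
  set N := (q ^ 2 - q + 1) / Nat.gcd 3 (q + 1) with hN
  have hz' : z = x ^ (q ^ 2) := by
    rw [hz, hy, inv_pow, inv_inv, ← pow_mul, sq]
  have hqq : q ≤ q ^ 2 := by nlinarith
  have hx1 : x ^ (q ^ 2 - q + 1) = 1 := by
    have h1 : x * x ^ (q ^ 2) = x ^ q := by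
      have h2 : x * (x ^ q)⁻¹ * x ^ (q ^ 2) = 1 := by rw [← hy, ← hz']; exact hprod
      have h3 : x ^ q ≠ 0 := pow_ne_zero _ hx0
      field_simp at h2
      rw [← h2]
    have h4 : x ^ (q ^ 2 - q + 1) * x ^ q = x ^ q := by
      rw [← pow_add]
      have : q ^ 2 - q + 1 + q = q ^ 2 + 1 := by omega
      rw [this, pow_succ, mul_comm]
      exact h1
    exact mul_right_cancel₀ (pow_ne_zero q hx0) (by rw [h4, one_mul])
  have hω : (x ^ N) ^ Nat.gcd 3 (q + 1) = 1 := by
    rw [← pow_mul, hN, Nat.div_mul_cancel (gcd_dvd_sq_sub_add q hq), hx1]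
  have hyN : y ^ N = x ^ N := by
    rw [hy, inv_pow, ← pow_mul, mul_comm, pow_mul, pow_q_of_pow_gcd q _ hω, inv_inv]
  refine ⟨x ^ N, rfl, hyN, ?_⟩
  rw [hz', ← pow_mul, mul_comm, pow_mul, sq, pow_mul, pow_q_of_pow_gcd q _ hω, inv_pow,
    pow_q_of_pow_gcd q _ hω, inv_inv]

theorem case_double (q : ℕ) (x y : K) (hx : x ^ (q + 1) = 1) (hprod : x * x * y = 1) :
    ∃ ω : K, x ^ ((q + 1) / Nat.gcd 3 (q + 1)) = ω ∧ y ^ ((q + 1) / Nat.gcd 3 (q + 1)) = ω := by
  set N := (q + 1) / Nat.gcd 3 (q + 1) with hN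
  have hω : (x ^ N) ^ Nat.gcd 3 (q + 1) = 1 := by
    rw [← pow_mul, hN, Nat.div_mul_cancel (Nat.gcd_dvd_right 3 (q + 1)), hx]
  have hy : y = (x * x)⁻¹ := eq_inv_of_mul_eq_one_right hprod
  refine ⟨x ^ N, rfl, ?_⟩
  rw [hy, inv_pow, mul_pow, mul_inv]
  exact inv_sq_of_pow_gcd q _ hω

end field

section multiset
variable {K : Type*} [Field K]

/-- the case analysis on a `θ`-stable multiset of three eigenvalues -/
theorem exists_pow_dvd (p : ℕ) [Fact p.Prime] [CharP K p] (hp2 : p ≠ 2) (q : ℕ) (hq : 2 ≤ q)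
    (σ : K →+* K) (hσ : ∀ x, σ x = x ^ q) (R : Multiset K) (hcard : Multiset.card R = 3)
    (h0 : ∀ x ∈ R, x ≠ 0) (hθ : R.map (fun x => (σ x)⁻¹) = R) (hprod : R.prod = 1) :
    ∃ N : ℕ, ∃ ω : K, InT p q N ∧ (R.map (fun x => X - C x)).prod ∣ X ^ N - C ω := by
  classical
  have hp : p.Prime := Fact.out
  have hp3 : 3 ≤ p := by
    have := hp.two_le
    omega
  set θ : K → K := fun x => (σ x)⁻¹ with hθdef
  have hθx : ∀ x, θ x = (x ^ q)⁻¹ := fun x => by rw [hθdef]; simp only; rw [hσ]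
  have hθinj : Function.Injective θ := by
    intro a b h
    exact σ.injective (inv_injective h)
  have hmem : ∀ x ∈ R, θ x ∈ R := by
    intro x hx
    have : θ x ∈ R.map θ := Multiset.mem_map_of_mem θ hx
    rwa [hθ] at this
  have hfix : ∀ x, x ≠ 0 → θ x = x → x ^ (q + 1) = 1 := by
    intro x hx0 h
    rw [hθx] at h
    have h2 : x ^ q ≠ 0 := pow_ne_zero _ hx0
    have h1 : x ^ q * (x ^ q)⁻¹ = 1 := mul_inv_cancel₀ h2
    rw [h] at h1
    rw [pow_succ]; exact h1
  have hdpos : 0 < Nat.gcd 3 (q + 1) := Nat.gcd_pos_of_pos_left _ (by norm_num)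
  -- divisibility from common power in the nodup case
  have fin_nodup : ∀ (N : ℕ) (ω : K), 0 < N → R.Nodup → (∀ x ∈ R, x ^ N = ω) →
      (R.map (fun x => X - C x)).prod ∣ X ^ N - C ω := by
    intro N ω hN hnd hall
    have hne : (X ^ N - C ω : K[X]) ≠ 0 := X_pow_sub_C_ne_zero hN ω
    rw [Multiset.prod_X_sub_C_dvd_iff_le_roots hne, Multiset.le_iff_subset hnd]
    intro x hx
    rw [mem_roots hne, IsRoot, eval_sub, eval_pow, eval_X, eval_C, hall x hx, sub_self]
  by_cases hnd : R.Nodup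
  · obtain ⟨x, y, z, hR⟩ := Multiset.card_eq_three.mp hcard
    have hxR : x ∈ R := by rw [hR]; simp
    have hyR : y ∈ R := by rw [hR]; simp
    have hzR : z ∈ R := by rw [hR]; simp
    have hnd' := hnd
    rw [hR] at hnd'
    have hxy : x ≠ y := by
      intro h; subst h; simp at hnd'
    have hxz : x ≠ z := by
      intro h; subst h; simp at hnd'
    have hyz : y ≠ z := by
      intro h; subst h; simp at hnd'
    have hx0 := h0 x hxR
    have hy0 := h0 y hyR
    have hz0 := h0 z hzR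
    have hxyz : x * y * z = 1 := by
      rw [← hprod, hR]; simp [mul_assoc]
    have hmx := hmem x hxR
    have hmy := hmem y hyR
    have hmz := hmem z hzR
    rw [hR] at hmx hmy hmz
    simp only [Multiset.insert_eq_cons, Multiset.mem_cons, Multiset.mem_singleton] at hmx hmy hmz
    have hall3 : ∀ (N : ℕ) (ω : K), x ^ N = ω → y ^ N = ω → z ^ N = ω → ∀ w ∈ R, w ^ N = ω := by
      intro N ω h1 h2 h3 w hw
      rw [hR] at hw
      simp only [Multiset.insert_eq_cons, Multiset.mem_cons, Multiset.mem_singleton] at hw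
      rcases hw with rfl | rfl | rfl
      · exact h1
      · exact h2
      · exact h3
    have hq1 : 1 ≤ q := by omega
    have hNt : 0 < (q ^ 2 - 1) / Nat.gcd 3 (q + 1) := by
      apply Nat.div_pos _ hdpos
      apply Nat.le_of_dvd _ (gcd_dvd_sq_sub q)
      have : 4 ≤ q ^ 2 := by nlinarith
      omega
    have hNc : 0 < (q ^ 2 - q + 1) / Nat.gcd 3 (q + 1) := by
      apply Nat.div_pos _ hdpos
      apply Nat.le_of_dvd _ (gcd_dvd_sq_sub_add q hq1)
      omega
    -- transposition helper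
    have transp : ∀ a b c : K, a ≠ 0 → a * b * c = 1 → θ a = b → θ b = a →
        (∀ (N : ℕ) (ω : K), a ^ N = ω → b ^ N = ω → c ^ N = ω → ∀ w ∈ R, w ^ N = ω) →
        ∃ N : ℕ, ∃ ω : K, InT p q N ∧ (R.map (fun x => X - C x)).prod ∣ X ^ N - C ω := by
      intro a b c ha0 habc hab hba hall
      have haa : a ^ (q ^ 2) = a := by
        have h1 : θ (θ a) = a := by rw [hab, hba]
        rw [hθx, hθx, inv_pow, inv_inv, ← pow_mul, ← sq] at h1
        exact h1
      obtain ⟨ω, h1, h2, h3⟩ := case_transp q hq1 a b c ha0 (by rw [← hab, hθx]) haa habc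
      exact ⟨_, ω, Or.inr (Or.inr (Or.inl dvd_rfl)), fin_nodup _ ω hNt hnd (hall _ ω h1 h2 h3)⟩
    have cyc : ∀ a b c : K, a ≠ 0 → a * b * c = 1 → θ a = b → θ b = c →
        (∀ (N : ℕ) (ω : K), a ^ N = ω → b ^ N = ω → c ^ N = ω → ∀ w ∈ R, w ^ N = ω) →
        ∃ N : ℕ, ∃ ω : K, InT p q N ∧ (R.map (fun x => X - C x)).prod ∣ X ^ N - C ω := by
      intro a b c ha0 habc hab hbc hall
      obtain ⟨ω, h1, h2, h3⟩ := case_cycle q hq1 a b c ha0 (by rw [← hab, hθx])
        (by rw [← hbc, hθx]) habc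
      exact ⟨_, ω, Or.inr (Or.inr (Or.inr dvd_rfl)), fin_nodup _ ω hNc hnd (hall _ ω h1 h2 h3)⟩
    rcases hmx with hx | hx | hx
    · -- θ x = x
      rcases hmy with hy | hy | hy
      · exact absurd (hθinj (hy.trans hx.symm)) hxy.symm
      · -- θ y = y, so θ z = z
        rcases hmz with hz | hz | hz
        · exact absurd (hθinj (hz.trans hx.symm)) hxz.symm
        · exact absurd (hθinj (hz.trans hy.symm)) hyz.symm
        · refine ⟨q + 1, 1, Or.inl dvd_rfl, fin_nodup _ 1 (by omega) hnd ?_⟩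
          exact hall3 _ 1 (hfix x hx0 hx) (hfix y hy0 hy) (hfix z hz0 hz)
      · -- θ y = z, so θ z = y
        rcases hmz with hz | hz | hz
        · exact absurd (hθinj (hz.trans hx.symm)) hxz.symm
        · refine transp y z x hy0 (by rw [← hxyz]; ring) hy hz ?_
          intro N ω h1 h2 h3
          exact hall3 N ω h3 h1 h2
        · exact absurd (hθinj (hz.trans hy.symm)) hyz.symm
    · -- θ x = y
      rcases hmy with hy | hy | hy
      · -- θ y = x : transposition, z fixed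
        exact transp x y z hx0 hxyz hx hy hall3
      · exact absurd (hθinj (hy.trans hx.symm)) hxy.symm
      · -- θ y = z : cycle
        exact cyc x y z hx0 hxyz hx hy hall3
    · -- θ x = z
      rcases hmz with hz | hz | hz
      · -- θ z = x : transposition
        refine transp x z y hx0 (by rw [← hxyz]; ring) hx hz ?_
        intro N ω h1 h2 h3
        exact hall3 N ω h1 h3 h2
      · -- θ z = y : cycle x -> z -> y
        refine cyc x z y hx0 (by rw [← hxyz]; ring) hx hz ?_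
        intro N ω h1 h2 h3
        exact hall3 N ω h1 h3 h2
      · exact absurd (hθinj (hz.trans hx.symm)) hxz.symm
  · -- a repeated eigenvalue
    obtain ⟨x, hx2⟩ : ∃ x, 2 ≤ R.count x := by
      by_contra hcon
      push Not at hcon
      apply hnd
      rw [Multiset.nodup_iff_count_le_one]
      intro a
      have := hcon a
      omega
    have hrep : Multiset.replicate 2 x ≤ R := Multiset.le_count_iff_replicate_le.mp hx2
    obtain ⟨t, ht⟩ := Multiset.le_iff_exists_add.mp hrep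
    have htc : Multiset.card t = 1 := by
      have := congrArg Multiset.card ht
      rw [Multiset.card_add, Multiset.card_replicate, hcard] at this
      omega
    obtain ⟨y, hy⟩ := Multiset.card_eq_one.mp htc
    have hR : R = x ::ₘ x ::ₘ {y} := by
      rw [ht, hy]
      rfl
    have hxR : x ∈ R := by rw [hR]; simp
    have hyR : y ∈ R := by rw [hR]; simp
    have hx0 := h0 x hxR
    have hcount : R.count (θ x) = R.count x := by
      conv_lhs => rw [← hθ]
      exact Multiset.count_map_eq_count' θ R hθinj x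
    have hθxx : θ x = x := by
      by_contra hne
      have h1 : R.count (θ x) ≤ 1 := by
        rw [hR]
        simp only [Multiset.count_cons, Multiset.count_singleton]
        have : ¬ (θ x = x) := hne
        simp [this]
        split_ifs <;> omega
      omega
    have hθyy : θ y = y := by
      have := hmem y hyR
      rw [hR] at this
      simp only [Multiset.mem_cons, Multiset.mem_singleton] at this
      rcases this with h | h | h
      · have : y = x := hθinj (h.trans hθxx.symm)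
        rw [this]; exact hθxx
      · have : y = x := hθinj (h.trans hθxx.symm)
        rw [this]; exact hθxx
      · exact h
    have hxxy : x * x * y = 1 := by
      rw [← hprod, hR]; simp [mul_assoc]
    obtain ⟨ω, h1, h2⟩ := case_double q x y (hfix x hx0 hθxx) hxxy
    set N' := (q + 1) / Nat.gcd 3 (q + 1) with hN'
    have hN'pos : 0 < N' := by
      apply Nat.div_pos _ hdpos
      exact Nat.le_of_dvd (by omega) (Nat.gcd_dvd_right 3 (q + 1))
    refine ⟨p * N', ω ^ p, Or.inr (Or.inl ?_), ?_⟩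
    · rw [hN', Nat.mul_div_assoc p (Nat.gcd_dvd_right 3 (q + 1))]
    · have hpow : (X ^ (p * N') - C (ω ^ p) : K[X]) = (X ^ N' - C ω) ^ p := by
        rw [sub_pow_char, ← pow_mul, mul_comm, C_pow]
      have hne : (X ^ N' - C ω : K[X]) ≠ 0 := X_pow_sub_C_ne_zero hN'pos ω
      have hne' : ((X ^ N' - C ω) ^ p : K[X]) ≠ 0 := pow_ne_zero _ hne
      rw [hpow, Multiset.prod_X_sub_C_dvd_iff_le_roots hne', roots_pow, Multiset.le_iff_count]
      intro a
      rw [Multiset.count_nsmul]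
      by_cases haR : a ∈ R
      · have ha : a ^ N' = ω := by
          rw [hR] at haR
          simp only [Multiset.mem_cons, Multiset.mem_singleton] at haR
          rcases haR with rfl | rfl | rfl
          · exact h1
          · exact h1
          · exact h2
        have hroot : a ∈ (X ^ N' - C ω : K[X]).roots := by
          rw [mem_roots hne, IsRoot, eval_sub, eval_pow, eval_X, eval_C, ha, sub_self]
        have h3 : 1 ≤ Multiset.count a (X ^ N' - C ω : K[X]).roots :=
          Multiset.one_le_count_iff_mem.mpr hroot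
        have h4 : Multiset.count a R ≤ 3 := by
          rw [← hcard]; exact Multiset.count_le_card a R
        calc Multiset.count a R ≤ 3 := h4
          _ ≤ p * 1 := by omega
          _ ≤ p * Multiset.count a (X ^ N' - C ω : K[X]).roots := Nat.mul_le_mul_left p h3
      · rw [Multiset.count_eq_zero_of_notMem haR]
        exact Nat.zero_le _

end multiset

end Cfsg.Agent.Lib.Helper8.PSU3
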