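import Mathlib

/-!
# Block matrices `diag(A, a)` indexed by `Fin (m + 1)` with the last coordinate distinguished
-/

set_option autoImplicit false

namespace Cfsg.Agent.Lib.Helper8.SLStd

open Matrix

variable {F : Type*} [Field F] {m : ℕ}

/-- The block-diagonal matrix `diag(A, a)`. -/
def blk (A : Matrix (Fin m) (Fin m) F) (a : F) : Matrix (Fin (m + 1)) (Fin (m + 1)) F :=
  Matrix.of fun i j =>
    Fin.lastCases (Fin.lastCases a (fun _ => 0) j) (fun i' => Fin.lastCases 0 (fun j' => A i' j') j) i

@[simp] lemma blk_cc (A : Matrix (Fin m) (Fin m) F) (a : F) (i j : Fin m) :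
    blk A a i.castSucc j.castSucc = A i j := by simp [blk]

@[simp] lemma blk_cl (A : Matrix (Fin m) (Fin m) F) (a : F) (i : Fin m) :
    blk A a i.castSucc (Fin.last m) = 0 := by simp [blk]

@[simp] lemma blk_lc (A : Matrix (Fin m) (Fin m) F) (a : F) (j : Fin m) :
    blk A a (Fin.last m) j.castSucc = 0 := by simp [blk]

@[simp] lemma blk_ll (A : Matrix (Fin m) (Fin m) F) (a : F) :
    blk A a (Fin.last m) (Fin.last m) = a := by simp [blk]

lemma blk_mul (A B : Matrix (Fin m) (Fin m) F) (a b : F) :
    blk A a * blk B b = blk (A * B) (a * b) := by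
  ext i j
  refine Fin.lastCases ?_ (fun i' => ?_) i <;> refine Fin.lastCases ?_ (fun j' => ?_) j <;>
    simp [Matrix.mul_apply, Fin.sum_univ_castSucc]

lemma blk_one : blk (1 : Matrix (Fin m) (Fin m) F) 1 = 1 := by
  ext i j
  refine Fin.lastCases ?_ (fun i' => ?_) i <;> refine Fin.lastCases ?_ (fun j' => ?_) j
  · simp
  · rw [blk_lc, Matrix.one_apply_ne]
    exact (Fin.castSucc_lt_last j').ne'
  · rw [blk_cl, Matrix.one_apply_ne]
    exact (Fin.castSucc_lt_last i').ne
  · rw [blk_cc, Matrix.one_apply, Matrix.one_apply]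
    simp

lemma blk_injective {A B : Matrix (Fin m) (Fin m) F} {a b : F} (h : blk A a = blk B b) :
    A = B ∧ a = b := by
  constructor
  · ext i j
    have := congrFun (congrFun h i.castSucc) j.castSucc
    simpa using this
  · have := congrFun (congrFun h (Fin.last m)) (Fin.last m)
    simpa using this

lemma blk_submatrix (A : Matrix (Fin m) (Fin m) F) (a : F) :
    (blk A a).submatrix Fin.castSucc Fin.castSucc = A := by
  ext i j
  simp

lemma det_blk (A : Matrix (Fin m) (Fin m) F) (a : F) : (blk A a).det = A.det * a := by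
  rw [Matrix.det_succ_row _ (Fin.last m), Fin.sum_univ_castSucc]
  have h1 : ∀ j : Fin m, (-1 : F) ^ ((Fin.last m : ℕ) + (j.castSucc : ℕ)) *
      blk A a (Fin.last m) j.castSucc *
      ((blk A a).submatrix (Fin.last m).succAbove j.castSucc.succAbove).det = 0 := by
    intro j
    rw [blk_lc, mul_zero, zero_mul]
  rw [Finset.sum_eq_zero (fun j _ => h1 j), zero_add, blk_ll, Fin.succAbove_last, blk_submatrix]
  have h2 : (-1 : F) ^ ((Fin.last m : ℕ) + (Fin.last m : ℕ)) = 1 := by
    rw [← two_mul, pow_mul]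
    simp
  rw [h2, one_mul, mul_comm]

/-- a matrix whose last row and column vanish off the diagonal is a block matrix -/
lemma eq_blk (M : Matrix (Fin (m + 1)) (Fin (m + 1)) F)
    (h : ∀ i : Fin m, M i.castSucc (Fin.last m) = 0 ∧ M (Fin.last m) i.castSucc = 0) :
    M = blk (M.submatrix Fin.castSucc Fin.castSucc) (M (Fin.last m) (Fin.last m)) := by
  ext i j
  refine Fin.lastCases ?_ (fun i' => ?_) i <;> refine Fin.lastCases ?_ (fun j' => ?_) j
  · simp
  · rw [blk_lc]; exact (h j').2
  · rw [blk_cl]; exact (h i').1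
  · simp

/-- the diagonal `(-1, …, -1, 1)` -/
def dvec (F : Type*) [Field F] (m : ℕ) : Fin (m + 1) → F :=
  fun i => if (i : ℕ) + 1 = m + 1 then 1 else -1

lemma dvec_last : dvec F m (Fin.last m) = 1 := by simp [dvec]

lemma dvec_castSucc (i : Fin m) : dvec F m i.castSucc = -1 := by
  have : ¬ ((i.castSucc : Fin (m + 1)) : ℕ) + 1 = m + 1 := by
    have := i.isLt
    simp only [Fin.val_castSucc]
    omega
  unfold dvec
  rw [if_neg this]

lemma diagonal_dvec : Matrix.diagonal (dvec F m) = blk (-1 : Matrix (Fin m) (Fin m) F) 1 := by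
  ext i j
  refine Fin.lastCases ?_ (fun i' => ?_) i <;> refine Fin.lastCases ?_ (fun j' => ?_) j
  · simp [dvec_last]
  · rw [blk_lc, Matrix.diagonal_apply_ne]
    exact (Fin.castSucc_lt_last j').ne'
  · rw [blk_cl, Matrix.diagonal_apply_ne]
    exact (Fin.castSucc_lt_last i').ne
  · rw [blk_cc, Matrix.diagonal_apply, Matrix.neg_apply, Matrix.one_apply, dvec_castSucc]
    simp only [Fin.castSucc_inj]
    split_ifs <;> simp

/-- matrices commuting with `diag(-1, …, -1, 1)` are block diagonal (characteristic not two) -/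
lemma offdiag_zero_of_comm (h2 : (2 : F) ≠ 0) (M : Matrix (Fin (m + 1)) (Fin (m + 1)) F)
    (h : Matrix.diagonal (dvec F m) * M = M * Matrix.diagonal (dvec F m)) (i : Fin m) :
    M i.castSucc (Fin.last m) = 0 ∧ M (Fin.last m) i.castSucc = 0 := by
  constructor
  · have := congrFun (congrFun h i.castSucc) (Fin.last m)
    rw [Matrix.diagonal_mul, Matrix.mul_diagonal, dvec_last, dvec_castSucc] at this
    have h3 : (2 : F) * M i.castSucc (Fin.last m) = 0 := by linear_combination -this
    exact (mul_eq_zero.mp h3).resolve_left h2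
  · have := congrFun (congrFun h (Fin.last m)) i.castSucc
    rw [Matrix.diagonal_mul, Matrix.mul_diagonal, dvec_last, dvec_castSucc] at this
    have h3 : (2 : F) * M (Fin.last m) i.castSucc = 0 := by linear_combination this
    exact (mul_eq_zero.mp h3).resolve_left h2

lemma comm_of_blk (A : Matrix (Fin m) (Fin m) F) (a : F) :
    Matrix.diagonal (dvec F m) * blk A a = blk A a * Matrix.diagonal (dvec F m) := by
  rw [diagonal_dvec, blk_mul, blk_mul]
  simp

end Cfsg.Agent.Lib.Helper8.SLStd
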