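import Cfsg.Agent.Lib.Helper8.SLStdGroup

/-!
# The centralizer of the embedded `SL_m` in `SL_{m+1}` and the standard subgroup property
-/

set_option autoImplicit false
set_option linter.unusedSectionVars false

namespace Cfsg.Agent.Lib.Helper8.SLStd

open Matrix
open scoped commutatorElement

variable {F : Type*} [Field F] {m : ℕ}

section withT

variable (t : Matrix.SpecialLinearGroup (Fin (m + 1)) F)
  (ht : (t : Matrix (Fin (m + 1)) (Fin (m + 1)) F) = Matrix.diagonal (dvec F m))
include ht

/-- elements centralizing the embedded `SL_m` have the form `diag(c, …, c, a)` -/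
lemma centralizer_range_form (h2 : (2 : F) ≠ 0) (hm : Even m)
    (x : Matrix.SpecialLinearGroup (Fin (m + 1)) F)
    (hx : x ∈ Subgroup.centralizer ((emb F m).range : Set (Matrix.SpecialLinearGroup (Fin (m + 1)) F))) :
    ∃ c a : F, (x : Matrix (Fin (m + 1)) (Fin (m + 1)) F) =
      blk (c • (1 : Matrix (Fin m) (Fin m) F)) a := by
  rw [Subgroup.mem_centralizer_iff] at hx
  have hxt : x ∈ Subgroup.centralizer ({t} : Set (Matrix.SpecialLinearGroup (Fin (m + 1)) F)) := by
    rw [Subgroup.mem_centralizer_iff]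
    intro y hy
    rw [Set.mem_singleton_iff] at hy
    subst hy
    exact hx _ (t_mem_range _ ht hm)
  have h0 := (mem_centralizer_iff t ht h2 x).mp hxt
  have h1 := eq_blk x.1 h0
  set A := x.1.submatrix Fin.castSucc Fin.castSucc with hA
  set a := x.1 (Fin.last m) (Fin.last m) with ha
  have hcomm : ∀ ts : Matrix.TransvectionStruct (Fin m) F, Commute ts.toMatrix A := by
    intro ts
    have h3 := hx (emb F m (⟨ts.toMatrix, ts.det⟩ : Matrix.SpecialLinearGroup (Fin m) F)) ⟨_, rfl⟩
    have h4 : ((emb F m (⟨ts.toMatrix, ts.det⟩ : Matrix.SpecialLinearGroup (Fin m) F) * x :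
        Matrix.SpecialLinearGroup (Fin (m + 1)) F) : Matrix (Fin (m + 1)) (Fin (m + 1)) F) =
        ((x * emb F m (⟨ts.toMatrix, ts.det⟩ : Matrix.SpecialLinearGroup (Fin m) F) :
        Matrix.SpecialLinearGroup (Fin (m + 1)) F) : Matrix (Fin (m + 1)) (Fin (m + 1)) F) := by
      rw [h3]
    rw [Matrix.SpecialLinearGroup.coe_mul, Matrix.SpecialLinearGroup.coe_mul, h1] at h4
    have h5 : blk ts.toMatrix 1 * blk A a = blk A a * blk ts.toMatrix 1 := h4
    rw [blk_mul, blk_mul] at h5
    exact (blk_injective h5).1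
  obtain ⟨c, hc⟩ := Matrix.mem_range_scalar_of_commute_transvectionStruct hcomm
  refine ⟨c, a, ?_⟩
  rw [h1, ← hc, Matrix.scalar_apply, Matrix.smul_one_eq_diagonal]

/-- the centralizer of the embedded `SL_m` is commutative -/
lemma centralizer_range_comm (h2 : (2 : F) ≠ 0) (hm : Even m)
    (x y : Matrix.SpecialLinearGroup (Fin (m + 1)) F)
    (hx : x ∈ Subgroup.centralizer ((emb F m).range : Set (Matrix.SpecialLinearGroup (Fin (m + 1)) F)))
    (hy : y ∈ Subgroup.centralizer ((emb F m).range : Set (Matrix.SpecialLinearGroup (Fin (m + 1)) F))) :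
    x * y = y * x := by
  obtain ⟨c, a, hxa⟩ := centralizer_range_form t ht h2 hm x hx
  obtain ⟨d, b, hyb⟩ := centralizer_range_form t ht h2 hm y hy
  apply sl_ext
  rw [Matrix.SpecialLinearGroup.coe_mul, Matrix.SpecialLinearGroup.coe_mul, hxa, hyb, blk_mul,
    blk_mul, mul_comm a b]
  congr 1
  rw [Matrix.smul_mul, Matrix.mul_smul, Matrix.smul_mul, Matrix.mul_smul, one_mul, smul_comm]

/-- `t` is the only involution centralizing the embedded `SL_m` -/
lemma centralizer_range_invol (h2 : (2 : F) ≠ 0) (hm : Even m) (hm1 : 1 ≤ m)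
    (x : Matrix.SpecialLinearGroup (Fin (m + 1)) F)
    (hx : x ∈ Subgroup.centralizer ((emb F m).range : Set (Matrix.SpecialLinearGroup (Fin (m + 1)) F)))
    (hxx : x * x = 1) (hx1 : x ≠ 1) : x = t := by
  obtain ⟨c, a, hxa⟩ := centralizer_range_form t ht h2 hm x hx
  have h1 : ((x * x : Matrix.SpecialLinearGroup (Fin (m + 1)) F) :
      Matrix (Fin (m + 1)) (Fin (m + 1)) F) = 1 := by
    rw [hxx]; rfl
  rw [Matrix.SpecialLinearGroup.coe_mul, hxa, blk_mul, ← blk_one] at h1
  obtain ⟨h3, h4⟩ := blk_injective h1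
  have hcc : c * c = 1 := by
    have := congrFun (congrFun h3 ⟨0, hm1⟩) ⟨0, hm1⟩
    simpa using this
  have hdet : c ^ m * a = 1 := by
    have := x.2
    rw [hxa, det_blk, Matrix.det_smul, Matrix.det_one, Fintype.card_fin, mul_one] at this
    exact this
  obtain ⟨k, hk⟩ := hm
  have hcm : c ^ m = 1 := by
    rw [hk, ← two_mul, pow_mul, sq, hcc, one_pow]
  rw [hcm, one_mul] at hdet
  have hc : c = 1 ∨ c = -1 := by
    have : (c - 1) * (c + 1) = 0 := by linear_combination hcc
    rcases mul_eq_zero.mp this with h | h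
    · left; linear_combination h
    · right; linear_combination h
  rcases hc with rfl | rfl
  · exfalso
    apply hx1
    apply sl_ext
    rw [hxa, hdet, one_smul, blk_one]
    rfl
  · apply sl_ext
    rw [hxa, ht, diagonal_dvec, hdet, neg_smul, one_smul]

end withT

end Cfsg.Agent.Lib.Helper8.SLStd
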