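import Cfsg.Agent.Lib.Helper8.SLStd
import Cfsg.Agent.Lib.Helper5.PSLSimple
import Cfsg.Agent.Lib.Helper22.FStar

/-!
# The standard subgroup `SL_m ≤ SL_{m+1}` centralized by `t = diag(-1, …, -1, 1)`
-/

set_option autoImplicit false
set_option linter.unusedSectionVars false

namespace Cfsg.Agent.Lib.Helper8.SLStd

open Matrix
open scoped commutatorElement

variable {F : Type*} [Field F] {m : ℕ}

/-- the embedding `A ↦ diag(A, 1)` -/
def emb (F : Type*) [Field F] (m : ℕ) :
    Matrix.SpecialLinearGroup (Fin m) F →* Matrix.SpecialLinearGroup (Fin (m + 1)) F where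
  toFun A := ⟨blk A.1 1, by rw [det_blk, A.2, mul_one]⟩
  map_one' := Subtype.ext blk_one
  map_mul' A B := Subtype.ext (by
    show blk (A * B).1 1 = blk A.1 1 * blk B.1 1
    rw [blk_mul, mul_one]
    rfl)

lemma sl_ext {n : ℕ} {A B : Matrix.SpecialLinearGroup (Fin n) F}
    (h : (A : Matrix (Fin n) (Fin n) F) = (B : Matrix (Fin n) (Fin n) F)) : A = B := Subtype.ext h

lemma emb_val (A : Matrix.SpecialLinearGroup (Fin m) F) :
    ((emb F m A : Matrix.SpecialLinearGroup (Fin (m + 1)) F) : Matrix (Fin (m + 1)) (Fin (m + 1)) F) =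
      blk A.1 1 := rfl

lemma emb_injective : Function.Injective (emb F m) := by
  intro A B h
  have : ((emb F m A : Matrix.SpecialLinearGroup (Fin (m + 1)) F) : Matrix (Fin (m + 1)) (Fin (m + 1)) F) =
      ((emb F m B : Matrix.SpecialLinearGroup (Fin (m + 1)) F) : Matrix (Fin (m + 1)) (Fin (m + 1)) F) := by
    rw [h]
  rw [emb_val, emb_val] at this
  exact sl_ext (blk_injective this).1

section withT

variable (t : Matrix.SpecialLinearGroup (Fin (m + 1)) F)
  (ht : (t : Matrix (Fin (m + 1)) (Fin (m + 1)) F) = Matrix.diagonal (dvec F m))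
include ht

lemma mem_centralizer_iff (h2 : (2 : F) ≠ 0) (x : Matrix.SpecialLinearGroup (Fin (m + 1)) F) :
    x ∈ Subgroup.centralizer ({t} : Set (Matrix.SpecialLinearGroup (Fin (m + 1)) F)) ↔
      ∀ i : Fin m, x.1 i.castSucc (Fin.last m) = 0 ∧ x.1 (Fin.last m) i.castSucc = 0 := by
  rw [Subgroup.mem_centralizer_iff]
  constructor
  · intro h i
    have h1 := h t rfl
    have h3 : ((t * x : Matrix.SpecialLinearGroup (Fin (m + 1)) F) : Matrix (Fin (m + 1)) (Fin (m + 1)) F) =
        ((x * t : Matrix.SpecialLinearGroup (Fin (m + 1)) F) : Matrix (Fin (m + 1)) (Fin (m + 1)) F) := by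
      rw [h1]
    rw [Matrix.SpecialLinearGroup.coe_mul, Matrix.SpecialLinearGroup.coe_mul, ht] at h3
    exact offdiag_zero_of_comm h2 x.1 h3 i
  · intro h y hy
    rw [Set.mem_singleton_iff] at hy
    subst hy
    apply sl_ext
    rw [Matrix.SpecialLinearGroup.coe_mul, Matrix.SpecialLinearGroup.coe_mul, ht, eq_blk x.1 h]
    exact comm_of_blk _ _

lemma range_emb_le_centralizer (h2 : (2 : F) ≠ 0) :
    (emb F m).range ≤ Subgroup.centralizer ({t} : Set (Matrix.SpecialLinearGroup (Fin (m + 1)) F)) := by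
  rintro x ⟨A, rfl⟩
  rw [mem_centralizer_iff t ht h2]
  intro i
  rw [emb_val]
  simp

lemma t_mem_range (hm : Even m) : t ∈ (emb F m).range := by
  have hdet : (-1 : Matrix (Fin m) (Fin m) F).det = 1 := by
    rw [Matrix.det_neg, Matrix.det_one, Fintype.card_fin, hm.neg_one_pow, mul_one]
  refine ⟨(⟨-1, hdet⟩ : Matrix.SpecialLinearGroup (Fin m) F), ?_⟩
  apply sl_ext
  show blk (-1 : Matrix (Fin m) (Fin m) F) 1 = _
  rw [ht, diagonal_dvec]

/-- the character `x ↦ x_{last,last}` on the centralizer of `t` -/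
def chi (h2 : (2 : F) ≠ 0) :
    ↥(Subgroup.centralizer ({t} : Set (Matrix.SpecialLinearGroup (Fin (m + 1)) F))) →* F where
  toFun x := x.1.1 (Fin.last m) (Fin.last m)
  map_one' := by
    show (1 : Matrix (Fin (m + 1)) (Fin (m + 1)) F) (Fin.last m) (Fin.last m) = 1
    exact Matrix.one_apply_eq _
  map_mul' x y := by
    show (x.1.1 * y.1.1) (Fin.last m) (Fin.last m) = _
    rw [Matrix.mul_apply, Fin.sum_univ_castSucc]
    have hx := (mem_centralizer_iff t ht h2 x.1).mp x.2
    have : ∑ i : Fin m, x.1.1 (Fin.last m) i.castSucc * y.1.1 i.castSucc (Fin.last m) = 0 := by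
      apply Finset.sum_eq_zero
      intro i _
      rw [(hx i).2, zero_mul]
    rw [this, zero_add]

lemma chi_apply (h2 : (2 : F) ≠ 0)
    (x : ↥(Subgroup.centralizer ({t} : Set (Matrix.SpecialLinearGroup (Fin (m + 1)) F)))) :
    chi t ht h2 x = x.1.1 (Fin.last m) (Fin.last m) := rfl

lemma ker_chi (h2 : (2 : F) ≠ 0) :
    (chi t ht h2).ker = (emb F m).range.subgroupOf
      (Subgroup.centralizer ({t} : Set (Matrix.SpecialLinearGroup (Fin (m + 1)) F))) := by
  ext x
  rw [MonoidHom.mem_ker, chi_apply, Subgroup.mem_subgroupOf]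
  constructor
  · intro h
    have hx := (mem_centralizer_iff t ht h2 x.1).mp x.2
    have h1 := eq_blk x.1.1 hx
    rw [h] at h1
    have hdet : (x.1.1.submatrix Fin.castSucc Fin.castSucc).det = 1 := by
      have := x.1.2
      rw [h1, det_blk, mul_one] at this
      exact this
    refine ⟨(⟨_, hdet⟩ : Matrix.SpecialLinearGroup (Fin m) F), ?_⟩
    apply sl_ext
    exact h1.symm
  · rintro ⟨A, hA⟩
    rw [← hA, emb_val, blk_ll]

lemma range_subgroupOf_normal (h2 : (2 : F) ≠ 0) :
    ((emb F m).range.subgroupOf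
      (Subgroup.centralizer ({t} : Set (Matrix.SpecialLinearGroup (Fin (m + 1)) F)))).Normal := by
  rw [← ker_chi t ht h2]
  exact MonoidHom.normal_ker _

/-- perfect subgroups of the centralizer lie in the kernel of `chi` -/
lemma le_ker_chi_of_perfect (h2 : (2 : F) ≠ 0)
    (P : Subgroup ↥(Subgroup.centralizer ({t} : Set (Matrix.SpecialLinearGroup (Fin (m + 1)) F))))
    (hP : ⁅P, P⁆ = P) : P ≤ (chi t ht h2).ker := by
  rw [← hP, Subgroup.commutator_le]
  intro p _ q _
  rw [MonoidHom.mem_ker, commutatorElement_def, map_mul, map_mul, map_mul]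
  have h1 : chi t ht h2 p * chi t ht h2 p⁻¹ = 1 := by rw [← map_mul, mul_inv_cancel, map_one]
  have h3 : chi t ht h2 q * chi t ht h2 q⁻¹ = 1 := by rw [← map_mul, mul_inv_cancel, map_one]
  calc chi t ht h2 p * chi t ht h2 q * chi t ht h2 p⁻¹ * chi t ht h2 q⁻¹
      = (chi t ht h2 p * chi t ht h2 p⁻¹) * (chi t ht h2 q * chi t ht h2 q⁻¹) := by ring
    _ = 1 := by rw [h1, h3, mul_one]

end withT

/-- `SL_m(F)` is quasisimple for `m ≥ 3` -/
lemma quasisimple_SL (hm : 3 ≤ m) : Cfsg.IsQuasisimple (Matrix.SpecialLinearGroup (Fin m) F) := by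
  have h3 : 3 ≤ Fintype.card (Fin m) := by rw [Fintype.card_fin]; exact hm
  exact ⟨⟨Cfsg.Agent.Lib.Helper5.commutator_SL_eq_top h3⟩,
    Cfsg.Agent.Lib.Helper5.PSL_isSimpleGroup_of_three_le h3⟩

lemma quasisimple_range (hm : 3 ≤ m) : Cfsg.IsQuasisimple ↥(emb F m).range :=
  Cfsg.Agent.Lib.Helper21.quasisimple_of_mulEquiv
    (MonoidHom.ofInjective (emb_injective (F := F) (m := m))) (quasisimple_SL hm)

section withT2

variable (t : Matrix.SpecialLinearGroup (Fin (m + 1)) F)
  (ht : (t : Matrix (Fin (m + 1)) (Fin (m + 1)) F) = Matrix.diagonal (dvec F m))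
include ht

/-- the layer of the centralizer of `t` is the embedded `SL_m` -/
theorem layer_centralizer (h2 : (2 : F) ≠ 0) (hm : 3 ≤ m) :
    (Cfsg.layer ↥(Subgroup.centralizer ({t} : Set (Matrix.SpecialLinearGroup (Fin (m + 1)) F)))).map
      (Subgroup.centralizer ({t} : Set (Matrix.SpecialLinearGroup (Fin (m + 1)) F))).subtype =
      (emb F m).range := by
  have hle := range_emb_le_centralizer t ht h2
  have hlayer : Cfsg.layer ↥(Subgroup.centralizer ({t} : Set (Matrix.SpecialLinearGroup (Fin (m + 1)) F))) =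
      (emb F m).range.subgroupOf
        (Subgroup.centralizer ({t} : Set (Matrix.SpecialLinearGroup (Fin (m + 1)) F))) := by
    apply le_antisymm
    · rw [← ker_chi t ht h2]
      exact le_ker_chi_of_perfect t ht h2 _ (Cfsg.Agent.Lib.Helper22.layer_perfect _)
    · apply Cfsg.Agent.Lib.Helper22.component_le_layer
      refine ⟨(range_subgroupOf_normal t ht h2).isSubnormal, ?_⟩
      exact Cfsg.Agent.Lib.Helper21.quasisimple_of_mulEquiv
        (Subgroup.subgroupOfEquivOfLe hle).symm (quasisimple_range hm)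
  rw [hlayer, Subgroup.map_subgroupOf_eq_of_le hle]

end withT2

end Cfsg.Agent.Lib.Helper8.SLStd
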