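import Cfsg.Agent.Lib.Helper9.SlK3Defs

/-! # Sl hive (S2332) / K3 sub-hive (helper9) / leaf K3-COMB (helper27): sub-leaf K3-COMB-TB. -/

set_option autoImplicit false

namespace Cfsg.Agent.Lib.Helper76.Sl

open Matrix

variable (F : Type*) [Field F] [Fintype F] [DecidableEq F]

set_option linter.unusedSectionVars false

/-- the transvection move on `(0, β)`. -/
theorem k3combtb_T (m : ℕ) (μ : (Fin (m + 1) → F) → (Fin (m + 1) → F) → ℕ)
    (hT : ∀ i j : Fin (m + 1), i ≠ j → ∀ (c : F) (α β : Fin (m + 1) → F),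
      μ α β = μ (fun l => α l + if l = i then c * α j else 0)
        (fun l => β l - if l = j then c * β i else 0))
    (i j : Fin (m + 1)) (hij : i ≠ j) (c : F) (β : Fin (m + 1) → F) :
    μ 0 β = μ 0 (fun l => β l - if l = j then c * β i else 0) := by
  rw [hT i j hij c 0 β]
  congr 1
  funext l
  simp

/-- the diagonal move on `(0, β)`. -/
theorem k3combtb_D (m : ℕ) (μ : (Fin (m + 1) → F) → (Fin (m + 1) → F) → ℕ)
    (hD : ∀ d : Fin (m + 3) → F, (∀ i, d i ≠ 0) → ∏ i, d i = 1 → ∀ α β,
      μ α β = μ (fun j => α j * d (k3mid m j) / d 0)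
        (fun j => β j * d (Fin.last (m + 2)) / d (k3mid m j)))
    (d : Fin (m + 3) → F) (hd : ∀ i, d i ≠ 0) (hprod : ∏ i, d i = 1) (β : Fin (m + 1) → F) :
    μ 0 β = μ 0 (fun j => β j * d (Fin.last (m + 2)) / d (k3mid m j)) := by
  rw [hD d hd hprod 0 β]
  congr 1
  funext l
  simp

/-- scaling `b • e_0` to `e_0`. -/
theorem k3combtb_scale (m : ℕ) (μ : (Fin (m + 1) → F) → (Fin (m + 1) → F) → ℕ)
    (hD : ∀ d : Fin (m + 3) → F, (∀ i, d i ≠ 0) → ∏ i, d i = 1 → ∀ α β,
      μ α β = μ (fun j => α j * d (k3mid m j) / d 0)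
        (fun j => β j * d (Fin.last (m + 2)) / d (k3mid m j)))
    (β : Fin (m + 1) → F) (h0 : β 0 ≠ 0) (hβ : ∀ l, l ≠ 0 → β l = 0) :
    μ 0 β = μ 0 (Pi.single 0 1) := by
  set b := β 0 with hb
  let d : Fin (m + 3) → F := fun k => if k = 1 then b else if k = 0 then b⁻¹ else 1
  have hmid0 : k3mid m 0 = 1 := rfl
  have hd : ∀ i, d i ≠ 0 := by
    intro i
    simp only [d]
    split_ifs
    · exact h0
    · exact inv_ne_zero h0
    · exact one_ne_zero
  have hprod : ∏ i, d i = 1 := by
    rw [Fin.prod_univ_succ, Fin.prod_univ_succ]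
    have h1 : d 0 = b⁻¹ := by
      simp [d]
    have h2 : d (Fin.succ 0) = b := by
      simp [d]
    have h3 : ∀ k : Fin (m + 1), d k.succ.succ = 1 := by
      intro k
      simp only [d]
      rw [if_neg, if_neg (Fin.succ_ne_zero _)]
      intro h
      have : k.succ = 0 := Fin.succ_injective _ h
      exact Fin.succ_ne_zero _ this
    rw [h1, h2, Finset.prod_congr rfl (fun k _ => h3 k), Finset.prod_const_one, mul_one,
      inv_mul_cancel₀ h0]
  rw [k3combtb_D F m μ hD d hd hprod β]
  congr 1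
  funext j
  have hlast : d (Fin.last (m + 2)) = 1 := by
    simp only [d]
    have h1 : Fin.last (m + 2) ≠ 1 := by
      intro h
      have := congrArg Fin.val h
      simp at this
    have h2 : Fin.last (m + 2) ≠ 0 := by
      intro h
      have := congrArg Fin.val h
      simp at this
    rw [if_neg h1, if_neg h2]
  rw [hlast, mul_one]
  by_cases hj : j = 0
  · subst hj
    rw [hmid0, Pi.single_eq_same]
    have hd1 : d 1 = b := by simp [d]
    rw [hd1]
    exact div_self h0
  · rw [hβ j hj, zero_div, Pi.single_eq_of_ne hj]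

/-- killing the coordinates in `S`. -/
theorem k3combtb_kill (m : ℕ) (μ : (Fin (m + 1) → F) → (Fin (m + 1) → F) → ℕ)
    (hD : ∀ d : Fin (m + 3) → F, (∀ i, d i ≠ 0) → ∏ i, d i = 1 → ∀ α β,
      μ α β = μ (fun j => α j * d (k3mid m j) / d 0)
        (fun j => β j * d (Fin.last (m + 2)) / d (k3mid m j)))
    (hT : ∀ i j : Fin (m + 1), i ≠ j → ∀ (c : F) (α β : Fin (m + 1) → F),
      μ α β = μ (fun l => α l + if l = i then c * α j else 0)
        (fun l => β l - if l = j then c * β i else 0))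
    (S : Finset (Fin (m + 1))) :
    ∀ β : Fin (m + 1) → F, β 0 ≠ 0 → (∀ l, l ≠ 0 → l ∉ S → β l = 0) →
      μ 0 β = μ 0 (Pi.single 0 1) := by
  induction S using Finset.induction_on with
  | empty =>
    intro β h0 hβ
    exact k3combtb_scale F m μ hD β h0 (fun l hl => hβ l hl (Finset.notMem_empty l))
  | insert a S ha ih =>
    intro β h0 hβ
    by_cases ha0 : a = 0
    · apply ih β h0
      intro l hl hlS
      apply hβ l hl
      rw [Finset.mem_insert, not_or]
      exact ⟨fun h => hl (h.trans ha0), hlS⟩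
    · rw [k3combtb_T F m μ hT 0 a (Ne.symm ha0) (β a / β 0) β]
      apply ih
      · show β 0 - (if (0 : Fin (m + 1)) = a then β a / β 0 * β 0 else 0) ≠ 0
        rw [if_neg (Ne.symm ha0), sub_zero]
        exact h0
      · intro l hl hlS
        show β l - (if l = a then β a / β 0 * β 0 else 0) = 0
        by_cases hla : l = a
        · rw [if_pos hla, hla, div_mul_cancel₀ _ h0, sub_self]
        · rw [if_neg hla, sub_zero]
          apply hβ l hl
          rw [Finset.mem_insert, not_or]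
          exact ⟨hla, hlS⟩

/-- K3-COMB-TB -/
theorem k3comb_transB (m : ℕ) (μ : (Fin (m + 1) → F) → (Fin (m + 1) → F) → ℕ)
    (hD : ∀ d : Fin (m + 3) → F, (∀ i, d i ≠ 0) → ∏ i, d i = 1 → ∀ α β,
      μ α β = μ (fun j => α j * d (k3mid m j) / d 0)
        (fun j => β j * d (Fin.last (m + 2)) / d (k3mid m j)))
    (hT : ∀ i j : Fin (m + 1), i ≠ j → ∀ (c : F) (α β : Fin (m + 1) → F),
      μ α β = μ (fun l => α l + if l = i then c * α j else 0)
        (fun l => β l - if l = j then c * β i else 0)) :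
    ∀ β : Fin (m + 1) → F, β ≠ 0 → μ 0 β = μ 0 (Pi.single 0 1) := by
  intro β hβ
  by_cases h0 : β 0 = 0
  · obtain ⟨i, hi⟩ := Function.ne_iff.mp hβ
    rw [Pi.zero_apply] at hi
    have hi0 : i ≠ 0 := by
      intro h
      rw [h] at hi
      exact hi h0
    rw [k3combtb_T F m μ hT i 0 hi0 (-1) β]
    apply k3combtb_kill F m μ hD hT Finset.univ
    · show β 0 - (if (0 : Fin (m + 1)) = 0 then -1 * β i else 0) ≠ 0
      rw [if_pos rfl, h0]
      simpa using hi
    · intro l _ hl
      exact absurd (Finset.mem_univ l) hl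
  · apply k3combtb_kill F m μ hD hT Finset.univ β h0
    intro l _ hl
    exact absurd (Finset.mem_univ l) hl

end Cfsg.Agent.Lib.Helper76.Sl
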