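import Mathlib
import Cfsg.Prelude.Def_GeometricClasses
import Cfsg.Agent.Lib.Helper5.SympCard
import Cfsg.Agent.Lib.Helper44.Darboux

/-! Index of the symplectic-type subgroup of `SL_n(q)`: the odd primes dividing it (for S5968). -/

set_option autoImplicit false
set_option linter.unusedSectionVars false
set_option linter.unusedVariables false

namespace Cfsg.Agent.Lib.Helper8.SpDer

open Module Matrix

variable {F : Type*} [Field F]

/-- the bilinear form attached to a bilinear function on `F^ι` -/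
noncomputable def toBilin {ι : Type} [Fintype ι] [DecidableEq ι] (f : (ι → F) → (ι → F) → F)
    (hf : Cfsg.Geo.IsBilinearForm f) : LinearMap.BilinForm F (ι → F) :=
  LinearMap.mk₂ F f hf.add_left (fun c x y => by rw [hf.smul_left]; rfl)
    hf.add_right (fun c x y => by rw [hf.smul_right]; rfl)

theorem toBilin_apply {ι : Type} [Fintype ι] [DecidableEq ι] (f : (ι → F) → (ι → F) → F)
    (hf : Cfsg.Geo.IsBilinearForm f) (u v : ι → F) : toBilin f hf u v = f u v := rfl

theorem toBilin_isAlt {ι : Type} [Fintype ι] [DecidableEq ι] (f : (ι → F) → (ι → F) → F)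
    (hf : Cfsg.Geo.IsSymplecticForm f) : (toBilin f hf.bilinear).IsAlt :=
  fun x => hf.alternating x

theorem toBilin_nondegenerate {ι : Type} [Fintype ι] [DecidableEq ι]
    (f : (ι → F) → (ι → F) → F)
    (hf : Cfsg.Geo.IsSymplecticForm f) : (toBilin f hf.bilinear).Nondegenerate := by
  refine ⟨fun x hx => ?_, fun y hy => ?_⟩
  · by_contra hx0
    obtain ⟨y, hy⟩ := (hf.nondegenerate x hx0).2
    exact hy (hx y)
  · by_contra hy0
    obtain ⟨x, hx⟩ := (hf.nondegenerate y hy0).1
    exact hx (hy x)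

/-- `Sp_{2N}(F)` embeds in the similarity group of any symplectic form on `F^{2N}`. -/
theorem exists_sp_embedding {n N : ℕ} (hn : n = 2 * N) (f : (Fin n → F) → (Fin n → F) → F)
    (hf : Cfsg.Geo.IsSymplecticForm f) :
    ∃ φ : Matrix.symplecticGroup (Fin N) F →* GL (Fin n) F, Function.Injective φ ∧
      ∀ A, φ A ∈ Cfsg.Geo.similarityGroup f := by
  classical
  have hfr : finrank F (Fin n → F) = 2 * N := by rw [Module.finrank_fin_fun, hn]
  obtain ⟨b, hb⟩ := Cfsg.Agent.Lib.Helper44.darboux_basis N (Fin n → F) (toBilin f hf.bilinear)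
    (toBilin_isAlt f hf) (toBilin_nondegenerate f hf) hfr
  let ψ : Matrix (Fin N ⊕ Fin N) (Fin N ⊕ Fin N) F ≃ₐ[F] Matrix (Fin n) (Fin n) F :=
    (Matrix.toLinAlgEquiv b).trans LinearMap.toMatrixAlgEquiv'
  let φ : Matrix.symplecticGroup (Fin N) F →* GL (Fin n) F :=
    MonoidHom.toHomUnits (((ψ : Matrix (Fin N ⊕ Fin N) (Fin N ⊕ Fin N) F →*
      Matrix (Fin n) (Fin n) F)).comp (Matrix.symplecticGroup (Fin N) F).subtype)
  have hφ : ∀ A : Matrix.symplecticGroup (Fin N) F,
      ((φ A : GL (Fin n) F) : Matrix (Fin n) (Fin n) F) =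
        LinearMap.toMatrix' (Matrix.toLin b b (A : Matrix (Fin N ⊕ Fin N) (Fin N ⊕ Fin N) F)) := by
    intro A
    rfl
  refine ⟨φ, ?_, ?_⟩
  · intro A B hAB
    have h1 := congrArg (fun g : GL (Fin n) F => (g : Matrix (Fin n) (Fin n) F)) hAB
    simp only [hφ] at h1
    apply Subtype.ext
    exact (Matrix.toLin b b).injective (LinearMap.toMatrix'.injective h1)
  · intro A
    refine ⟨1, fun u v => ?_⟩
    rw [hφ, Units.val_one, one_mul]
    set T := Matrix.toLin b b (A : Matrix (Fin N ⊕ Fin N) (Fin N ⊕ Fin N) F) with hT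
    have hmv : ∀ w, LinearMap.toMatrix' T *ᵥ w = T w := by
      intro w
      rw [← Matrix.toLin'_apply, Matrix.toLin'_toMatrix']
    rw [hmv, hmv]
    have hcomp : (toBilin f hf.bilinear).comp T T = toBilin f hf.bilinear := by
      apply (LinearMap.BilinForm.toMatrix b).injective
      rw [LinearMap.BilinForm.toMatrix_comp b b, hb, hT, LinearMap.toMatrix_toLin,
        Cfsg.Agent.Lib.Helper44.gramJ_eq]
      have hA := (SymplecticGroup.mem_iff'.mp A.2)
      rw [Matrix.mul_neg, Matrix.neg_mul, hA]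
    have := congrArg (fun B : LinearMap.BilinForm F (Fin n → F) => B u v) hcomp
    simpa [toBilin_apply] using this

/-- the image of `SL_n` in `GL_n` is a normal subgroup -/
theorem range_toGL_normal {n : ℕ} :
    ((Matrix.SpecialLinearGroup.toGL : Matrix.SpecialLinearGroup (Fin n) F →* GL (Fin n) F).range).Normal := by
  have : (Matrix.SpecialLinearGroup.toGL : Matrix.SpecialLinearGroup (Fin n) F →* GL (Fin n) F).range =
      (Matrix.GeneralLinearGroup.det : GL (Fin n) F →* Fˣ).ker := by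
    ext g
    rw [MonoidHom.mem_range, MonoidHom.mem_ker]
    constructor
    · rintro ⟨x, rfl⟩
      apply Units.ext
      simp
    · intro hg
      have hdet : (g : Matrix (Fin n) (Fin n) F).det = 1 := by
        have := congrArg Units.val hg
        simpa using this
      refine ⟨⟨(g : Matrix (Fin n) (Fin n) F), hdet⟩, ?_⟩
      apply Units.ext
      rfl
  rw [this]
  exact MonoidHom.normal_ker _

/-- Lagrange bookkeeping: `r ∣ |SL_n : H|` forces `r |Sp_{2N}(F)| ∣ |GL_n(F)|`. -/
theorem mul_card_sp_dvd_card_GL [Fintype F] {n N : ℕ} (hn : n = 2 * N)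
    (f : (Fin n → F) → (Fin n → F) → F) (hf : Cfsg.Geo.IsSymplecticForm f) (r : ℕ)
    (hΩ : r ∣ ((Cfsg.Geo.similarityGroup f).comap
      (Matrix.SpecialLinearGroup.toGL : Matrix.SpecialLinearGroup (Fin n) F →* GL (Fin n) F)).index) :
    r * Nat.card (Matrix.symplecticGroup (Fin N) F) ∣ Nat.card (GL (Fin n) F) := by
  classical
  set Hg := Cfsg.Geo.similarityGroup f with hHg
  set S := (Matrix.SpecialLinearGroup.toGL :
    Matrix.SpecialLinearGroup (Fin n) F →* GL (Fin n) F).range with hS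
  have : S.Normal := range_toGL_normal
  rw [Subgroup.index_comap] at hΩ
  -- |Sp| divides |Hg|
  obtain ⟨φ, hinj, hmem⟩ := exists_sp_embedding hn f hf
  have h1 : Nat.card (Matrix.symplecticGroup (Fin N) F) ∣ Nat.card Hg := by
    have hle : φ.range ≤ Hg := by
      rintro _ ⟨A, rfl⟩
      exact hmem A
    have hc : Nat.card (Matrix.symplecticGroup (Fin N) F) = Nat.card φ.range :=
      Nat.card_congr (MonoidHom.ofInjective hinj).toEquiv
    rw [hc]
    exact Subgroup.card_dvd_of_le hle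
  -- counting
  have e1 : Nat.card ↥(Hg ⊓ S) * Hg.relIndex S = Nat.card S := by
    have := Subgroup.relIndex_mul_relIndex ⊥ (Hg ⊓ S) S bot_le inf_le_right
    rw [Subgroup.relIndex_bot_left, Subgroup.relIndex_bot_left, Subgroup.inf_relIndex_right] at this
    exact this
  have e2 : Nat.card ↥(Hg ⊓ S) * S.relIndex Hg = Nat.card Hg := by
    have := Subgroup.relIndex_mul_relIndex ⊥ (Hg ⊓ S) Hg bot_le inf_le_left
    rw [Subgroup.relIndex_bot_left, Subgroup.relIndex_bot_left, Subgroup.inf_relIndex_left] at this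
    exact this
  have e3 : S.relIndex Hg ∣ S.index := Subgroup.relIndex_dvd_index_of_normal S Hg
  have e4 : Nat.card S * S.index = Nat.card (GL (Fin n) F) := Subgroup.card_mul_index S
  have h2 : r * Nat.card Hg ∣ Nat.card (GL (Fin n) F) := by
    rw [← e4, ← e1, ← e2]
    have : r * (Nat.card ↥(Hg ⊓ S) * S.relIndex Hg) =
        Nat.card ↥(Hg ⊓ S) * r * S.relIndex Hg := by ring
    rw [this]
    exact Nat.mul_dvd_mul (Nat.mul_dvd_mul (dvd_refl _) hΩ) e3
  exact dvd_trans (Nat.mul_dvd_mul (dvd_refl r) h1) h2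

/-! ### Number theory -/

theorem prod_range_two_mul (g : ℕ → ℕ) (N : ℕ) :
    ∏ k ∈ Finset.range (2 * N), g k =
      (∏ j ∈ Finset.range N, g (2 * j)) * ∏ j ∈ Finset.range N, g (2 * j + 1) := by
  induction N with
  | zero => simp
  | succ N ih =>
    have : 2 * (N + 1) = 2 * N + 1 + 1 := by ring
    rw [this, Finset.prod_range_succ, Finset.prod_range_succ, ih, Finset.prod_range_succ,
      Finset.prod_range_succ]
    ring

theorem card_GL_factor (q N : ℕ) (hq : 1 ≤ q) :
    ∃ M, ∏ i : Fin (2 * N), (q ^ (2 * N) - q ^ (i : ℕ)) =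
      q ^ M * ((∏ j ∈ Finset.range N, (q ^ (2 * j + 1) - 1)) *
        ∏ j ∈ Finset.range N, (q ^ (2 * (j + 1)) - 1)) := by
  refine ⟨∑ i ∈ Finset.range (2 * N), i, ?_⟩
  rw [Fin.prod_univ_eq_prod_range (fun i => q ^ (2 * N) - q ^ i) (2 * N)]
  have h1 : ∀ i ∈ Finset.range (2 * N), q ^ (2 * N) - q ^ i = q ^ i * (q ^ (2 * N - i) - 1) := by
    intro i hi
    rw [Finset.mem_range] at hi
    rw [Nat.mul_sub, mul_one, ← pow_add]
    congr 2
    omega
  rw [Finset.prod_congr rfl h1, Finset.prod_mul_distrib, Finset.prod_pow_eq_pow_sum]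
  congr 1
  have h2 : ∏ i ∈ Finset.range (2 * N), (q ^ (2 * N - i) - 1) =
      ∏ k ∈ Finset.range (2 * N), (q ^ (k + 1) - 1) := by
    rw [← Finset.prod_range_reflect (fun k => q ^ (k + 1) - 1) (2 * N)]
    apply Finset.prod_congr rfl
    intro i hi
    rw [Finset.mem_range] at hi
    have : 2 * N - 1 - i + 1 = 2 * N - i := by omega
    rw [this]
  rw [h2, prod_range_two_mul (fun k => q ^ (k + 1) - 1) N]
  congr 1

theorem exists_odd_of_dvd (q N r : ℕ) (hq : 2 ≤ q) (hr : r.Prime) (hrq : Nat.Coprime r q)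
    (h : r * (q ^ (N ^ 2) * ∏ i ∈ Finset.range N, (q ^ (2 * (i + 1)) - 1)) ∣
      ∏ i : Fin (2 * N), (q ^ (2 * N) - q ^ (i : ℕ))) :
    ∃ j < N, r ∣ q ^ (2 * j + 1) - 1 := by
  obtain ⟨M, hM⟩ := card_GL_factor q N (by omega)
  rw [hM] at h
  set A := ∏ i ∈ Finset.range N, (q ^ (2 * (i + 1)) - 1) with hA
  set B := ∏ j ∈ Finset.range N, (q ^ (2 * j + 1) - 1) with hB
  have hApos : 0 < A := by
    apply Finset.prod_pos
    intro i _
    have : 2 ≤ q ^ (2 * (i + 1)) := by
      calc 2 ≤ q := hq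
        _ = q ^ 1 := (pow_one q).symm
        _ ≤ q ^ (2 * (i + 1)) := Nat.pow_le_pow_right (by omega) (by omega)
    omega
  have h1 : r * q ^ (N ^ 2) * A ∣ q ^ M * B * A := by
    have e1 : r * q ^ (N ^ 2) * A = r * (q ^ (N ^ 2) * A) := by ring
    have e2 : q ^ M * B * A = q ^ M * (B * A) := by ring
    rw [e1, e2]; exact h
  have h2 : r * q ^ (N ^ 2) ∣ q ^ M * B := Nat.dvd_of_mul_dvd_mul_right hApos h1
  have h3 : r ∣ q ^ M * B := dvd_trans (dvd_mul_right r _) h2
  have h4 : r ∣ B := (Nat.Coprime.pow_right M hrq).dvd_of_dvd_mul_left h3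
  obtain ⟨j, hj, hdvd⟩ := (Prime.dvd_finsetProd_iff hr.prime _).mp h4
  exact ⟨j, Finset.mem_range.mp hj, hdvd⟩

/-- A prime `r ≠ p` dividing the index of the symplectic-type subgroup of `SL_{2N}(q)` divides
`q^i - 1` for some odd `i < 2N`. -/
theorem exists_odd_dvd_of_dvd_index [Fintype F] {p : ℕ} [Fact p.Prime] [CharP F p] {n N : ℕ}
    (hn : n = 2 * N)
    (f : (Fin n → F) → (Fin n → F) → F) (hf : Cfsg.Geo.IsSymplecticForm f) (r : ℕ) [Fact r.Prime]
    (hrp : r ≠ p)
    (hΩ : r ∣ ((Cfsg.Geo.similarityGroup f).comap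
      (Matrix.SpecialLinearGroup.toGL : Matrix.SpecialLinearGroup (Fin n) F →* GL (Fin n) F)).index) :
    ∃ j < N, r ∣ Fintype.card F ^ (2 * j + 1) - 1 := by
  classical
  have h := mul_card_sp_dvd_card_GL hn f hf r hΩ
  subst hn
  rw [Cfsg.Agent.Lib.Helper5.card_symplecticGroup_fin, Matrix.card_GL_field] at h
  have hq : 2 ≤ Fintype.card F := Fintype.one_lt_card
  have hcop : Nat.Coprime r (Fintype.card F) := by
    obtain ⟨k, hk⟩ := FiniteField.card F p
    rw [hk.2]
    apply Nat.Coprime.pow_right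
    exact (Nat.coprime_primes (Fact.out : r.Prime) (Fact.out : p.Prime)).mpr hrp
  exact exists_odd_of_dvd (Fintype.card F) N r hq Fact.out hcop h

end Cfsg.Agent.Lib.Helper8.SpDer
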