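import Mathlib
import Cfsg.Prelude.Def_GeometricClasses
import Cfsg.Agent.Lib.Helper8.SpDerIndex

/-! Elements of `SL_n(q)` that are similitudes of no symplectic form (for S5968):
the reduction lemma, the unipotent `J_3` element, diagonal elements. -/

set_option autoImplicit false
set_option linter.unusedSectionVars false
set_option linter.unusedVariables false

namespace Cfsg.Agent.Lib.Helper8.SpDer

open Module Matrix

variable {F : Type*} [Field F] {n : ℕ}

/-- `x` is a similitude of `f'` with multiplier `c` -/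
def IsSim (x : Matrix (Fin n) (Fin n) F) (f' : (Fin n → F) → (Fin n → F) → F) (c : F) : Prop :=
  ∀ u v, f' (x *ᵥ u) (x *ᵥ v) = c * f' u v

/-- Reduction: an element which is a similitude of no symplectic form has no conjugate in the
similarity group of `f`. -/
theorem not_conj_mem (f : (Fin n → F) → (Fin n → F) → F) (hf : Cfsg.Geo.IsSymplecticForm f)
    (x : Matrix.SpecialLinearGroup (Fin n) F)
    (h : ∀ f' : (Fin n → F) → (Fin n → F) → F, Cfsg.Geo.IsSymplecticForm f' → ∀ c : F,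
      ¬ IsSim (x : Matrix (Fin n) (Fin n) F) f' c) :
    ∀ P : Matrix.SpecialLinearGroup (Fin n) F, P⁻¹ * x * P ∉
      ((Cfsg.Geo.similarityGroup f).comap (Matrix.SpecialLinearGroup.toGL :
        Matrix.SpecialLinearGroup (Fin n) F →* GL (Fin n) F)) := by
  intro P hmem
  rw [Subgroup.mem_comap] at hmem
  obtain ⟨c, hc⟩ := hmem
  set Pm : Matrix (Fin n) (Fin n) F := (P : Matrix (Fin n) (Fin n) F) with hPm
  set Pi : Matrix (Fin n) (Fin n) F :=
    ((P⁻¹ : Matrix.SpecialLinearGroup (Fin n) F) : Matrix (Fin n) (Fin n) F) with hPi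
  have h1 : Pi * Pm = 1 := by
    rw [hPi, hPm, ← Matrix.SpecialLinearGroup.coe_mul, inv_mul_cancel,
      Matrix.SpecialLinearGroup.coe_one]
  have h2 : Pm * Pi = 1 := by
    rw [hPi, hPm, ← Matrix.SpecialLinearGroup.coe_mul, mul_inv_cancel,
      Matrix.SpecialLinearGroup.coe_one]
  have hcoe : ((Matrix.SpecialLinearGroup.toGL (P⁻¹ * x * P) : GL (Fin n) F) :
      Matrix (Fin n) (Fin n) F) = Pi * (x : Matrix (Fin n) (Fin n) F) * Pm := by
    rw [Matrix.SpecialLinearGroup.coe_GL_coe_matrix, Matrix.SpecialLinearGroup.coe_mul,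
      Matrix.SpecialLinearGroup.coe_mul]
  rw [hcoe] at hc
  refine h (fun u v => f (Pi *ᵥ u) (Pi *ᵥ v)) ?_ (c : F) ?_
  · refine ⟨⟨?_, ?_, ?_, ?_⟩, ?_, ?_, ?_⟩
    · intro a b v
      show f (Pi *ᵥ (a + b)) (Pi *ᵥ v) = _
      rw [Matrix.mulVec_add, hf.bilinear.add_left]
    · intro k a v
      show f (Pi *ᵥ (k • a)) (Pi *ᵥ v) = _
      rw [Matrix.mulVec_smul, hf.bilinear.smul_left]
    · intro v a b
      show f (Pi *ᵥ v) (Pi *ᵥ (a + b)) = _
      rw [Matrix.mulVec_add, hf.bilinear.add_right]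
    · intro k v a
      show f (Pi *ᵥ v) (Pi *ᵥ (k • a)) = _
      rw [Matrix.mulVec_smul, hf.bilinear.smul_right]
    · intro v w
      exact hf.skew _ _
    · intro v
      exact hf.alternating _
    · intro v hv
      have hne : Pi *ᵥ v ≠ 0 := by
        intro h0
        apply hv
        have := congrArg (fun w => Pm *ᵥ w) h0
        simpa [Matrix.mulVec_mulVec, h2] using this
      obtain ⟨⟨y, hy⟩, ⟨z, hz⟩⟩ := hf.nondegenerate _ hne
      refine ⟨⟨Pm *ᵥ y, ?_⟩, ⟨Pm *ᵥ z, ?_⟩⟩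
      · show f (Pi *ᵥ (Pm *ᵥ y)) (Pi *ᵥ v) ≠ 0
        rw [Matrix.mulVec_mulVec, h1, Matrix.one_mulVec]; exact hy
      · show f (Pi *ᵥ v) (Pi *ᵥ (Pm *ᵥ z)) ≠ 0
        rw [Matrix.mulVec_mulVec, h1, Matrix.one_mulVec]; exact hz
  · intro u v
    show f (Pi *ᵥ ((x : Matrix (Fin n) (Fin n) F) *ᵥ u))
      (Pi *ᵥ ((x : Matrix (Fin n) (Fin n) F) *ᵥ v)) = (c : F) * f (Pi *ᵥ u) (Pi *ᵥ v)
    have := hc (Pi *ᵥ u) (Pi *ᵥ v)
    rw [Matrix.mulVec_mulVec, Matrix.mulVec_mulVec] at this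
    have e : Pi * (x : Matrix (Fin n) (Fin n) F) * Pm * Pi = Pi * (x : Matrix (Fin n) (Fin n) F) := by
      rw [Matrix.mul_assoc, h2, Matrix.mul_one]
    rw [e] at this
    rw [Matrix.mulVec_mulVec, Matrix.mulVec_mulVec]
    exact this

theorem IsSim.pow {x : Matrix (Fin n) (Fin n) F} {f' : (Fin n → F) → (Fin n → F) → F} {c : F}
    (h : IsSim x f' c) (j : ℕ) : IsSim (x ^ j) f' (c ^ j) := by
  induction j with
  | zero => intro u v; simp
  | succ j ih =>
    intro u v
    rw [pow_succ, ← Matrix.mulVec_mulVec, ← Matrix.mulVec_mulVec, ih, h, pow_succ, mul_assoc]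

/-- the multiplier of a similitude of order prime to `q - 1` is `1` -/
theorem sim_mult_eq_one [Fintype F] {f' : (Fin n → F) → (Fin n → F) → F}
    (hf' : Cfsg.Geo.IsSymplecticForm f') (hn : 0 < n) (x : Matrix (Fin n) (Fin n) F) (r : ℕ)
    (hr : 0 < r) (hxr : x ^ r = 1) (hcop : Nat.Coprime r (Fintype.card F - 1)) (c : F)
    (h : IsSim x f' c) : c = 1 := by
  classical
  have h1 := h.pow r
  rw [hxr] at h1
  have hv : (Pi.single (⟨0, hn⟩ : Fin n) (1 : F) : Fin n → F) ≠ 0 := by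
    intro h0
    have := congrFun h0 ⟨0, hn⟩
    simp at this
  obtain ⟨⟨y, hy⟩, -⟩ := hf'.nondegenerate _ hv
  have h2 := h1 y (Pi.single (⟨0, hn⟩ : Fin n) (1 : F))
  rw [Matrix.one_mulVec, Matrix.one_mulVec] at h2
  have hcr : c ^ r = 1 := by
    have : (c ^ r - 1) * f' y (Pi.single (⟨0, hn⟩ : Fin n) (1 : F)) = 0 := by
      rw [sub_mul, one_mul, ← h2, sub_self]
    rcases mul_eq_zero.mp this with h3 | h3
    · exact sub_eq_zero.mp h3
    · exact absurd h3 hy
  have hc0 : c ≠ 0 := by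
    intro h0
    rw [h0, zero_pow hr.ne'] at hcr
    exact zero_ne_one hcr
  have hcq : c ^ (Fintype.card F - 1) = 1 := FiniteField.pow_card_sub_one_eq_one c hc0
  have := (pow_gcd_eq_one (a := c)).mpr ⟨hcr, hcq⟩
  rw [Nat.Coprime] at hcop
  rw [hcop, pow_one] at this
  exact this

/-- the `i`-th standard basis vector -/
abbrev ev (i : Fin n) : Fin n → F := Pi.single i (1 : F)

theorem ev_ne_zero (i : Fin n) : (ev i : Fin n → F) ≠ 0 := by
  intro h0
  have := congrFun h0 i
  simp [ev] at this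

/-- a vector pairing trivially with all basis vectors (on the right) contradicts nondegeneracy -/
theorem eq_zero_of_forall_ev {f' : (Fin n → F) → (Fin n → F) → F}
    (hf' : Cfsg.Geo.IsSymplecticForm f') (v : Fin n → F) (h : ∀ j, f' v (ev j) = 0) : v = 0 := by
  classical
  by_contra hv
  obtain ⟨-, ⟨z, hz⟩⟩ := hf'.nondegenerate v hv
  apply hz
  have hlin : toBilin f' hf'.bilinear v = 0 := by
    apply (Pi.basisFun F (Fin n)).ext
    intro j
    rw [Pi.basisFun_apply, LinearMap.zero_apply]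
    exact h j
  have := congrArg (fun L : (Fin n → F) →ₗ[F] F => L z) hlin
  simpa [toBilin_apply] using this

theorem exists_entry_ne_zero {f' : (Fin n → F) → (Fin n → F) → F}
    (hf' : Cfsg.Geo.IsSymplecticForm f') (i : Fin n) : ∃ j, j ≠ i ∧ f' (ev i) (ev j) ≠ 0 := by
  by_contra hcon
  push Not at hcon
  apply ev_ne_zero (F := F) i
  apply eq_zero_of_forall_ev hf'
  intro j
  by_cases hj : j = i
  · rw [hj]; exact hf'.alternating _
  · exact hcon j hj

end Cfsg.Agent.Lib.Helper8.SpDer
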