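import Mathlib
import Cfsg.Agent.Lib.Helper8.SpDerElts

/-! Diagonal elements of order `r ∣ q - 1` that are similitudes of no symplectic form (for S5968). -/

set_option autoImplicit false
set_option linter.unusedSectionVars false
set_option linter.unusedVariables false

namespace Cfsg.Agent.Lib.Helper8.SpDer

open Module Matrix

variable {F : Type*} [Field F] {n : ℕ}

/-- the diagonal entries `ζ ^ a i` -/
def dz (ζ : Fˣ) (a : Fin n → ℤ) : Fin n → F := fun i => ((ζ ^ a i : Fˣ) : F)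

theorem dz_mul (ζ : Fˣ) (a : Fin n → ℤ) (i j : Fin n) :
    dz ζ a i * dz ζ a j = ((ζ ^ (a i + a j) : Fˣ) : F) := by
  unfold dz
  rw [_root_.zpow_add, Units.val_mul]

theorem zpow_dvd_of_eq (ζ : Fˣ) (r : ℕ) (hζ : orderOf ζ = r) (k l : ℤ)
    (h : ((ζ ^ k : Fˣ) : F) = ((ζ ^ l : Fˣ) : F)) : (r : ℤ) ∣ k - l := by
  have h1 : ζ ^ k = ζ ^ l := Units.ext h
  rw [← hζ, orderOf_dvd_iff_zpow_eq_one, _root_.zpow_sub, h1, mul_inv_cancel]

theorem prod_zpow (ζ : Fˣ) (a : Fin n → ℤ) (s : Finset (Fin n)) :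
    ∏ i ∈ s, ζ ^ a i = ζ ^ (∑ i ∈ s, a i) := by
  classical
  induction s using Finset.induction_on with
  | empty => simp
  | insert i s hi ih => rw [Finset.prod_insert hi, Finset.sum_insert hi, ih, _root_.zpow_add]

theorem det_diag_dz (ζ : Fˣ) (a : Fin n → ℤ) :
    (Matrix.diagonal (dz ζ a)).det = ((ζ ^ (∑ i, a i) : Fˣ) : F) := by
  rw [Matrix.det_diagonal, ← prod_zpow]
  unfold dz
  rw [Units.coe_prod]

theorem diag_dz_pow (ζ : Fˣ) (r : ℕ) (hζ : ζ ^ r = 1) (a : Fin n → ℤ) :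
    (Matrix.diagonal (dz ζ a)) ^ r = 1 := by
  rw [Matrix.diagonal_pow]
  have : (dz ζ a) ^ r = fun _ => (1 : F) := by
    ext i
    rw [Pi.pow_apply]
    unfold dz
    rw [← Units.val_pow_eq_pow_val, ← zpow_natCast, ← _root_.zpow_mul, mul_comm, _root_.zpow_mul, zpow_natCast, hζ,
      _root_.one_zpow, Units.val_one]
  rw [this, Matrix.diagonal_one]

theorem diag_dz_not_scalar (ζ : Fˣ) (r : ℕ) (hζ : orderOf ζ = r) (a : Fin n → ℤ) (i j : Fin n)
    (hij : ¬ (r : ℤ) ∣ a i - a j) (z : F) :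
    Matrix.diagonal (dz ζ a) ≠ z • (1 : Matrix (Fin n) (Fin n) F) := by
  intro h
  have hi := congrFun (congrFun h i) i
  have hj := congrFun (congrFun h j) j
  rw [Matrix.diagonal_apply_eq, Matrix.smul_apply, Matrix.one_apply_eq] at hi hj
  apply hij
  apply zpow_dvd_of_eq ζ r hζ
  show dz ζ a i = dz ζ a j
  rw [hi, hj]

theorem diag_mulVec_ev (d : Fin n → F) (j : Fin n) :
    Matrix.diagonal d *ᵥ (ev j : Fin n → F) = d j • ev j := by
  simp only [ev]
  rw [Matrix.diagonal_mulVec_single, mul_one]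
  ext k
  simp [Pi.single_apply]

theorem diag_entry {d : Fin n → F} {f' : (Fin n → F) → (Fin n → F) → F}
    (hf' : Cfsg.Geo.IsSymplecticForm f') {c : F} (h : IsSim (Matrix.diagonal d) f' c)
    {i j : Fin n} (hJ : f' (ev i) (ev j) ≠ 0) : d i * d j = c := by
  have := h (ev i) (ev j)
  rw [diag_mulVec_ev, diag_mulVec_ev, hf'.bilinear.smul_left, hf'.bilinear.smul_right,
    ← mul_assoc] at this
  exact mul_right_cancel₀ hJ this

/-- comparing two nonzero entries of the Gram matrix -/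
theorem dz_entry_dvd (ζ : Fˣ) (r : ℕ) (hζ : orderOf ζ = r) (a : Fin n → ℤ)
    {f' : (Fin n → F) → (Fin n → F) → F}
    (hf' : Cfsg.Geo.IsSymplecticForm f') {c : F} (h : IsSim (Matrix.diagonal (dz ζ a)) f' c)
    {i j i' j' : Fin n} (hJ : f' (ev i) (ev j) ≠ 0) (hJ' : f' (ev i') (ev j') ≠ 0) :
    (r : ℤ) ∣ (a i + a j) - (a i' + a j') := by
  apply zpow_dvd_of_eq ζ r hζ
  rw [← dz_mul, ← dz_mul, diag_entry hf' h hJ, diag_entry hf' h hJ']

/-! ### a totally isotropic coordinate subspace has dimension at most `n / 2` -/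

theorem isotropic_bound {f' : (Fin n → F) → (Fin n → F) → F}
    (hf' : Cfsg.Geo.IsSymplecticForm f') (P : Fin n → Prop) [DecidablePred P]
    (hiso : ∀ i j, P i → P j → f' (ev i) (ev j) = 0)
    (hcard : n < 2 * Fintype.card {i // P i}) : False := by
  classical
  have hκ : Fintype.card {i // ¬ P i} = n - Fintype.card {i // P i} := by
    rw [Fintype.card_subtype_compl, Fintype.card_fin]
  set ω := toBilin f' hf'.bilinear with hω
  let E : ({i // P i} → F) →ₗ[F] (Fin n → F) :=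
    Fintype.linearCombination F (fun t : {i // P i} => (ev t.val : Fin n → F))
  have hE : ∀ β, E β = ∑ t, β t • (ev t.val : Fin n → F) := fun β =>
    Fintype.linearCombination_apply F _ β
  let Φ : ({i // P i} → F) →ₗ[F] ({i // ¬ P i} → F) :=
    LinearMap.pi (fun k => (ω (ev k.val)).comp E)
  have hker : LinearMap.ker Φ ≠ ⊥ := by
    apply LinearMap.ker_ne_bot_of_finrank_lt
    rw [Module.finrank_fintype_fun_eq_card, Module.finrank_fintype_fun_eq_card, hκ]
    omega
  obtain ⟨β, hβ, hβ0⟩ := Submodule.exists_mem_ne_zero_of_ne_bot hker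
  rw [LinearMap.mem_ker] at hβ
  have hcoord : ∀ t : {i // P i}, E β t.val = β t := by
    intro t
    rw [hE, Finset.sum_apply, Finset.sum_eq_single t]
    · simp [ev]
    · intro s _ hst
      have : s.val ≠ t.val := fun h => hst (Subtype.ext h)
      simp [ev, this.symm]
    · intro h; exact absurd (Finset.mem_univ t) h
  have hv : E β = 0 := by
    apply eq_zero_of_forall_ev hf'
    intro k
    rw [hf'.skew, neg_eq_zero]
    by_cases hk : P k
    · show ω (ev k) (E β) = 0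
      rw [hE, map_sum]
      apply Finset.sum_eq_zero
      intro t _
      rw [map_smul, smul_eq_mul]
      have : ω (ev k) (ev t.val) = 0 := hiso k t.val hk t.2
      rw [this, mul_zero]
    · have := congrFun hβ ⟨k, hk⟩
      exact this
  apply hβ0
  ext t
  rw [← hcoord, hv]
  rfl

theorem card_val_lt (k : ℕ) (hk : k ≤ n) : Fintype.card {i : Fin n // i.val < k} = k := by
  have e : {i : Fin n // i.val < k} ≃ Fin k :=
    { toFun := fun i => ⟨i.1.val, i.2⟩
      invFun := fun j => ⟨⟨j.val, by omega⟩, j.2⟩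
      left_inv := fun i => rfl
      right_inv := fun j => rfl }
  rw [Fintype.card_congr e, Fintype.card_fin]

theorem card_not_val_lt (k : ℕ) (hk : k ≤ n) : Fintype.card {i : Fin n // ¬ i.val < k} = n - k := by
  rw [Fintype.card_subtype_compl, Fintype.card_fin, card_val_lt k hk]

/-! ### The element `diag(ζ, ζ, ζ⁻², 1, …, 1)` for `r ≥ 5` -/

/-- exponents `(1, 1, -2, 0, …, 0)` -/
def aA (n : ℕ) : Fin n → ℤ := fun i => if i.val < 2 then 1 else if i.val = 2 then -2 else 0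

theorem sum_piecewise (g : ℕ → ℤ) (K : ℕ) (hK : K ≤ n) (hg : ∀ k ≥ K, g k = 0) :
    ∑ i : Fin n, g i.val = ∑ k ∈ Finset.range K, g k := by
  rw [Fin.sum_univ_eq_sum_range g n]
  exact Finset.eventually_constant_sum hg hK

theorem sum_aA (hn : 3 ≤ n) : ∑ i, aA n i = 0 := by
  have := sum_piecewise (n := n) (fun k => if k < 2 then 1 else if k = 2 then -2 else 0) 3 hn
    (by intro k hk; rw [if_neg (by omega), if_neg (by omega)])
  unfold aA
  rw [this]
  simp [Finset.sum_range_succ]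

theorem not_sim_A (hn : 4 ≤ n) (ζ : Fˣ) (r : ℕ) (hr5 : 5 ≤ r) (hζ : orderOf ζ = r)
    {f' : (Fin n → F) → (Fin n → F) → F} (hf' : Cfsg.Geo.IsSymplecticForm f') (c : F) :
    ¬ IsSim (Matrix.diagonal (dz ζ (aA n))) f' c := by
  intro h
  obtain ⟨j2, hj2, hJ2⟩ := exists_entry_ne_zero hf' (⟨2, by omega⟩ : Fin n)
  obtain ⟨j3, hj3, hJ3⟩ := exists_entry_ne_zero hf' (⟨3, by omega⟩ : Fin n)
  obtain ⟨j0, hj0, hJ0⟩ := exists_entry_ne_zero hf' (⟨0, by omega⟩ : Fin n)
  have d23 := dz_entry_dvd ζ r hζ (aA n) hf' h hJ2 hJ3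
  have d20 := dz_entry_dvd ζ r hζ (aA n) hf' h hJ2 hJ0
  have v2 : aA n ⟨2, by omega⟩ = -2 := by simp [aA]
  have v3 : aA n ⟨3, by omega⟩ = 0 := by simp [aA]
  have v0 : aA n ⟨0, by omega⟩ = 1 := by simp [aA]
  have hj2' : aA n j2 = 1 ∨ aA n j2 = 0 := by
    have : j2.val ≠ 2 := fun hh => hj2 (Fin.ext hh)
    unfold aA
    split_ifs <;> simp
  have hj3' : aA n j3 = 1 ∨ aA n j3 = -2 ∨ aA n j3 = 0 := by
    unfold aA
    split_ifs <;> simp
  have hj0' : aA n j0 = 1 ∨ aA n j0 = -2 ∨ aA n j0 = 0 := by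
    unfold aA
    split_ifs <;> simp
  rw [v2, v3] at d23
  rw [v2, v0] at d20
  have hr' : (5 : ℤ) ≤ (r : ℤ) := by exact_mod_cast hr5
  have q23 := Int.eq_zero_of_abs_lt_dvd d23 (by rw [abs_lt]; constructor <;> omega)
  have q20 := Int.eq_zero_of_abs_lt_dvd d20 (by rw [abs_lt]; constructor <;> omega)
  omega

/-! ### The element `diag(ζ, ζ, ζ, 1, …, 1)` for `r = 3` -/

/-- exponents `(1, 1, 1, 0, …, 0)` -/
def aB (n : ℕ) : Fin n → ℤ := fun i => if i.val < 3 then 1 else 0

theorem sum_aB (hn : 3 ≤ n) : ∑ i, aB n i = 3 := by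
  have := sum_piecewise (n := n) (fun k => if k < 3 then 1 else 0) 3 hn
    (by intro k hk; rw [if_neg (by omega)])
  unfold aB
  rw [this]
  decide

theorem not_sim_B (hn : 4 ≤ n) (hn6 : n ≠ 6) (hne : Even n) (ζ : Fˣ) (hζ : orderOf ζ = 3)
    {f' : (Fin n → F) → (Fin n → F) → F} (hf' : Cfsg.Geo.IsSymplecticForm f') (c : F) :
    ¬ IsSim (Matrix.diagonal (dz ζ (aB n))) f' c := by
  intro h
  obtain ⟨j3, hj3, hJ3⟩ := exists_entry_ne_zero hf' (⟨3, by omega⟩ : Fin n)
  obtain ⟨j0, hj0, hJ0⟩ := exists_entry_ne_zero hf' (⟨0, by omega⟩ : Fin n)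
  have v3 : aB n ⟨3, by omega⟩ = 0 := by simp [aB]
  have v0 : aB n ⟨0, by omega⟩ = 1 := by simp [aB]
  have hval : ∀ j, aB n j = 1 ∨ aB n j = 0 := by
    intro j
    unfold aB
    split_ifs <;> simp
  have d03 := dz_entry_dvd ζ 3 hζ (aB n) hf' h hJ0 hJ3
  rw [v0, v3] at d03
  have q03 := Int.eq_zero_of_abs_lt_dvd d03 (by
    rw [abs_lt]; rcases hval j0 with h1 | h1 <;> rcases hval j3 with h2 | h2 <;> constructor <;>
      simp [h1, h2])
  have hj0v : aB n j0 = 0 := by
    rcases hval j0 with h1 | h1 <;> rcases hval j3 with h2 | h2 <;> omega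
  -- all nonzero entries pair an index `< 3` with an index `≥ 3`
  have hpair : ∀ i j, f' (ev i) (ev j) ≠ 0 → aB n i + aB n j = 1 := by
    intro i j hJ
    have d := dz_entry_dvd ζ 3 hζ (aB n) hf' h hJ hJ0
    rw [v0, hj0v] at d
    have q := Int.eq_zero_of_abs_lt_dvd d (by
      rw [abs_lt]; rcases hval i with h1 | h1 <;> rcases hval j with h2 | h2 <;> constructor <;>
        simp [h1, h2])
    omega
  have hlt : ∀ i : Fin n, i.val < 3 → aB n i = 1 := by
    intro i hi; unfold aB; rw [if_pos hi]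
  have hge : ∀ i : Fin n, ¬ i.val < 3 → aB n i = 0 := by
    intro i hi; unfold aB; rw [if_neg hi]
  obtain ⟨m, hm⟩ := hne
  by_cases h8 : n < 6
  · -- n = 4
    apply isotropic_bound hf' (fun i : Fin n => i.val < 3)
    · intro i j hi hj
      by_contra hJ
      have := hpair i j hJ
      rw [hlt i hi, hlt j hj] at this
      omega
    · rw [card_val_lt 3 (by omega)]
      omega
  · apply isotropic_bound hf' (fun i : Fin n => ¬ i.val < 3)
    · intro i j hi hj
      by_contra hJ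
      have := hpair i j hJ
      rw [hge i hi, hge j hj] at this
      omega
    · rw [card_not_val_lt 3 (by omega)]
      omega

end Cfsg.Agent.Lib.Helper8.SpDer
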