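import Mathlib
import Cfsg.Agent.Lib.Helper40.PGDim
import Cfsg.Agent.Lib.Helper43.FormJordan
import Cfsg.Agent.Lib.Helper99.SympForm

/-!
# Symplectic isometries of order `r p` (`p` the characteristic) on a `2n`-space need
`η(ord_r q) ≤ n - 1`
-/

set_option autoImplicit false

namespace Cfsg.Agent.Lib.Helper8

open Module

section normop

variable {F : Type*} [Field F] {V : Type*} [AddCommGroup V] [Module F V]

/-- the norm operator `1 + X + ⋯ + X^(r-1)` -/
noncomputable def normOp (X : Module.End F V) (r : ℕ) : Module.End F V :=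
  ∑ j ∈ Finset.range r, X ^ j

theorem normOp_mul_sub (X : Module.End F V) (r : ℕ) : normOp X r * (X - 1) = X ^ r - 1 :=
  geom_sum_mul X r

theorem normOp_comm (X Y : Module.End F V) (r : ℕ) (h : Commute Y X) :
    Commute Y (normOp X r) :=
  Commute.sum_right _ _ _ (fun j _ => h.pow_right j)

theorem sub_one_mem_ker_normOp (X : Module.End F V) (r : ℕ) (hX : X ^ r = 1) (v : V) :
    X v - v ∈ LinearMap.ker (normOp X r) := by
  rw [LinearMap.mem_ker]
  have h1 : (normOp X r * (X - 1)) v = 0 := by
    rw [normOp_mul_sub, hX, sub_self]; rfl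
  rw [Module.End.mul_apply] at h1
  exact h1

theorem ker_normOp_invariant (X Y : Module.End F V) (r : ℕ) (h : Commute Y X) (v : V)
    (hv : v ∈ LinearMap.ker (normOp X r)) : Y v ∈ LinearMap.ker (normOp X r) := by
  rw [LinearMap.mem_ker] at hv ⊢
  have := congrArg (fun g : Module.End F V => g v) (normOp_comm X Y r h).eq
  simp only [Module.End.mul_apply] at this
  rw [← this, hv, map_zero]

theorem pow_apply_of_fixed (X : Module.End F V) (v : V) (h : X v = v) (j : ℕ) :
    (X ^ j) v = v := by
  induction j with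
  | zero => rfl
  | succ j ih => rw [pow_succ, Module.End.mul_apply, h, ih]

theorem ker_normOp_fpf (X : Module.End F V) (r : ℕ) (hrF : (r : F) ≠ 0) (v : V)
    (hv : v ∈ LinearMap.ker (normOp X r)) (hfix : X v = v) : v = 0 := by
  rw [LinearMap.mem_ker] at hv
  have h2 : normOp X r v = (r : F) • v := by
    unfold normOp
    rw [LinearMap.sum_apply, Finset.sum_congr rfl (fun j _ => pow_apply_of_fixed X v hfix j),
      Finset.sum_const, Finset.card_range, Nat.cast_smul_eq_nsmul]
  rw [h2] at hv
  rcases smul_eq_zero.1 hv with h | h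
  · exact absurd h hrF
  · exact h

theorem ker_normOp_ne_bot (X : Module.End F V) (r : ℕ) (hX : X ^ r = 1) (hX1 : X ≠ 1) :
    LinearMap.ker (normOp X r) ≠ ⊥ := by
  intro hbot
  apply hX1
  apply LinearMap.ext
  intro v
  have h2 := sub_one_mem_ker_normOp X r hX v
  rw [hbot, Submodule.mem_bot, sub_eq_zero] at h2
  exact h2

variable (ω : LinearMap.BilinForm F V)

theorem pow_preserves (X : Module.End F V) (hXω : ∀ a b, ω (X a) (X b) = ω a b) (j : ℕ)
    (a b : V) : ω ((X ^ j) a) ((X ^ j) b) = ω a b := by
  induction j generalizing a b with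
  | zero => rfl
  | succ j ih => rw [pow_succ, Module.End.mul_apply, Module.End.mul_apply, ih, hXω]

/-- `ω(N v, v) = 0` for the norm operator `N` of an isometry of odd order -/
theorem normOp_isAlt (halt : ω.IsAlt) (X : Module.End F V) (r : ℕ) (hr : Odd r)
    (hX : X ^ r = 1) (hXω : ∀ a b, ω (X a) (X b) = ω a b) (v : V) :
    ω (normOp X r v) v = 0 := by
  unfold normOp
  rw [LinearMap.sum_apply, map_sum, LinearMap.sum_apply]
  have hrpos : 0 < r := hr.pos
  apply Finset.sum_involution (fun j _ => if j = 0 then 0 else r - j)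
  · intro j hj
    rw [Finset.mem_range] at hj
    by_cases h0 : j = 0
    · subst h0
      simp only [if_true, pow_zero, Module.End.one_apply]
      rw [halt v, add_zero]
    · rw [if_neg h0]
      have h1 : ω ((X ^ (r - j)) v) v = ω ((X ^ r) v) ((X ^ j) v) := by
        have e : j + (r - j) = r := by omega
        rw [← pow_preserves ω X hXω j ((X ^ (r - j)) v) v, ← Module.End.mul_apply, ← pow_add, e]
      rw [h1, hX, Module.End.one_apply, ← LinearMap.IsAlt.neg halt, neg_add_cancel]
  · intro j hj hne
    rw [Finset.mem_range] at hj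
    by_cases h0 : j = 0
    · subst h0
      exfalso
      apply hne
      simp only [pow_zero, Module.End.one_apply]
      exact halt v
    · rw [if_neg h0]
      obtain ⟨t, ht⟩ := hr
      omega
  · intro j hj
    rw [Finset.mem_range] at hj ⊢
    by_cases h0 : j = 0
    · rw [if_pos h0]; exact hrpos
    · rw [if_neg h0]; omega
  · intro j hj
    rw [Finset.mem_range] at hj
    by_cases h0 : j = 0
    · subst h0; simp
    · rw [if_neg h0]
      have : r - j ≠ 0 := by omega
      rw [if_neg this]
      omega

end normop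

section main

variable {F : Type*} [Field F] [Fintype F] {V : Type*} [AddCommGroup V] [Module F V]
  [FiniteDimensional F V]

/-- the fixed-point-free part of an isometry of odd order has even dimension -/
theorem finrank_ker_normOp_even (ω : LinearMap.BilinForm F V) (halt : ω.IsAlt)
    (hnd : ∀ a, (∀ b, ω a b = 0) → a = 0) (X : Module.End F V) (r : ℕ) (hr : Odd r)
    (hX : X ^ r = 1) (hXω : ∀ a b, ω (X a) (X b) = ω a b) :
    ∃ c, finrank F V = finrank F (LinearMap.ker (normOp X r)) + 2 * c := by
  have hθ : (ω.compLeft (normOp X r)).IsAlt := by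
    intro v
    rw [LinearMap.BilinForm.compLeft_apply]
    exact normOp_isAlt ω halt X r hr hX hXω v
  apply Cfsg.Agent.Lib.Helper43.even_finrank_sub_of_isAlt (ω.compLeft (normOp X r)) hθ
  intro y
  rw [LinearMap.mem_ker]
  constructor
  · intro hy x
    rw [← LinearMap.IsAlt.neg hθ, LinearMap.BilinForm.compLeft_apply, hy]
    simp
  · intro h
    apply hnd
    intro b
    have := h b
    rw [← LinearMap.IsAlt.neg hθ, LinearMap.BilinForm.compLeft_apply, neg_eq_zero] at this
    exact this

theorem nilpotent_eq_zero_of_disjoint (N : Module.End F V)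
    (h : LinearMap.range N ⊓ LinearMap.ker N = ⊥) (j : ℕ) (hj : N ^ (j + 1) = 0) : N = 0 := by
  induction j with
  | zero => simpa using hj
  | succ j ih =>
    apply ih
    apply LinearMap.ext
    intro v
    have hmem : (N ^ (j + 1)) v ∈ LinearMap.range N ⊓ LinearMap.ker N := by
      constructor
      · rw [pow_succ', Module.End.mul_apply]
        exact ⟨_, rfl⟩
      · show N ((N ^ (j + 1)) v) = 0
        rw [← Module.End.mul_apply, ← pow_succ', hj]
        rfl
    rw [h] at hmem
    exact (Submodule.mem_bot F).1 hmem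

/-- no commuting pair (element of order `r`, unipotent element) of isometries when
`η(ord_r q) = n` -/
theorem no_elt_order_rp (ω : LinearMap.BilinForm F V) (halt : ω.IsAlt)
    (hnd : ∀ a, (∀ b, ω a b = 0) → a = 0) (n : ℕ) (hn : 1 ≤ n) (hdim : finrank F V = 2 * n)
    (r : ℕ) [Fact r.Prime] (hr2 : r ≠ 2) (hrF : (r : F) ≠ 0) (p : ℕ) [Fact p.Prime] [CharP F p]
    (X U : Module.End F V) (hXr : X ^ r = 1) (hX1 : X ≠ 1) (hUp : U ^ p = 1) (hU1 : U ≠ 1)
    (hc : Commute X U) (hXω : ∀ a b, ω (X a) (X b) = ω a b)
    (hUω : ∀ a b, ω (U a) (U b) = ω a b)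
    (hk : (Odd n ∧ orderOf ((Fintype.card F : ℕ) : ZMod r) = n) ∨
      orderOf ((Fintype.card F : ℕ) : ZMod r) = 2 * n) : False := by
  classical
  have hrP : r.Prime := Fact.out
  have hpP : p.Prime := Fact.out
  have hrodd : Odd r := hrP.odd_of_ne_two hr2
  set k := orderOf ((Fintype.card F : ℕ) : ZMod r) with hkdef
  set S := LinearMap.ker (normOp X r) with hS
  have hSinv : ∀ u ∈ S, X u ∈ S :=
    fun u hu => ker_normOp_invariant X X r (Commute.refl X) u hu
  have hSfpf : ∀ u ∈ S, X u = u → u = 0 := fun u hu h => ker_normOp_fpf X r hrF u hu h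
  have hSne : S ≠ ⊥ := ker_normOp_ne_bot X r hXr hX1
  have hSdvd : k ∣ finrank F S :=
    Cfsg.Agent.Lib.Helper40.PG.dvd_finrank_of_fixedPointFree r X hXr S hSinv hSfpf
  have hSpos : 0 < finrank F S := by
    rw [Module.finrank_pos_iff]; exact Submodule.nontrivial_iff_ne_bot.2 hSne
  have hSle : finrank F S ≤ 2 * n := by rw [← hdim]; exact Submodule.finrank_le S
  obtain ⟨c, hc2⟩ := finrank_ker_normOp_even ω halt hnd X r hrodd hXr hXω
  rw [hdim, ← hS] at hc2
  have hStop : S = ⊤ := by
    apply Submodule.eq_top_of_finrank_eq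
    rw [hdim]
    rcases hk with ⟨hodd, hkn⟩ | hk2
    · rw [hkn] at hSdvd
      obtain ⟨t, ht⟩ := hSdvd
      have ht1 : 1 ≤ t := by
        rcases Nat.eq_zero_or_pos t with h0 | h0
        · rw [h0, mul_zero] at ht; omega
        · exact h0
      have ht2 : t ≤ 2 := by
        by_contra h
        push Not at h
        have : n * 3 ≤ n * t := Nat.mul_le_mul_left n h
        omega
      obtain ⟨s, hs⟩ := hodd
      interval_cases t
      · exfalso
        omega
      · omega
    · rw [hk2] at hSdvd
      have := Nat.le_of_dvd hSpos hSdvd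
      omega
  have hfpf : ∀ v, X v = v → v = 0 :=
    fun v hv => hSfpf v (by rw [hStop]; exact Submodule.mem_top) hv
  have hdvd : ∀ T : Submodule F V, (∀ u ∈ T, X u ∈ T) → k ∣ finrank F T := fun T hT =>
    Cfsg.Agent.Lib.Helper40.PG.dvd_finrank_of_fixedPointFree r X hXr T hT (fun u _ h => hfpf u h)
  -- the unipotent part
  have hVnt : Nontrivial V := Module.nontrivial_of_finrank_pos (R := F) (by rw [hdim]; omega)
  have hinj : Function.Injective (algebraMap F (Module.End F V)) := by
    intro a b hab
    obtain ⟨v, hv⟩ := exists_ne (0 : V)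
    have := congrArg (fun g : Module.End F V => g v) hab
    simp only [Module.algebraMap_end_apply] at this
    exact smul_left_injective F hv this
  have : CharP (Module.End F V) p := charP_of_injective_algebraMap hinj p
  set N : Module.End F V := U - 1 with hN
  have hNp : N ^ p = 0 := by
    rw [hN, sub_pow_char_of_commute p (Commute.one_right U), hUp, one_pow, sub_self]
  have hN0 : N ≠ 0 := by
    intro h
    apply hU1
    rw [hN, sub_eq_zero] at h
    exact h
  have hNX : Commute N X := (hc.symm.sub_left (Commute.one_left X))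
  have hNXv : ∀ v, N (X v) = X (N v) := by
    intro v
    have := congrArg (fun g : Module.End F V => g v) hNX.eq
    simpa [Module.End.mul_apply] using this
  have hUN : ∀ v, U v = v + N v := by
    intro v
    rw [hN, LinearMap.sub_apply, Module.End.one_apply]; abel
  set K := LinearMap.ker N with hK
  have hKinv : ∀ u ∈ K, X u ∈ K := by
    intro u hu
    rw [LinearMap.mem_ker] at hu ⊢
    rw [hNXv, hu, map_zero]
  have hKne : K ≠ ⊥ := by
    intro hbot
    have hinjN : Function.Injective N := LinearMap.ker_eq_bot.1 hbot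
    have hinjp : Function.Injective (⇑(N ^ p)) := by
      rw [Module.End.coe_pow]
      exact hinjN.iterate p
    obtain ⟨v, hv⟩ := exists_ne (0 : V)
    apply hv
    apply hinjp
    rw [hNp]
    simp
  have hKtop : K ≠ ⊤ := by
    intro htop
    apply hN0
    exact LinearMap.ker_eq_top.1 htop
  have hKdvd := hdvd K hKinv
  have hKpos : 0 < finrank F K := by
    rw [Module.finrank_pos_iff]; exact Submodule.nontrivial_iff_ne_bot.2 hKne
  have hKlt : finrank F K < 2 * n := by
    rw [← hdim]
    exact Submodule.finrank_lt hKtop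
  rcases hk with ⟨hodd, hkn⟩ | hk2
  swap
  · rw [hk2] at hKdvd
    have := Nat.le_of_dvd hKpos hKdvd
    omega
  rw [hkn] at hKdvd hdvd
  have hKn : finrank F K = n := by
    obtain ⟨t, ht⟩ := hKdvd
    have ht1 : 1 ≤ t := by
      rcases Nat.eq_zero_or_pos t with h0 | h0
      · rw [h0, mul_zero] at ht; omega
      · exact h0
    have ht2 : t < 2 := by
      by_contra h
      push Not at h
      have : n * 2 ≤ n * t := Nat.mul_le_mul_left n h
      omega
    interval_cases t
    omega
  set I := LinearMap.range N with hI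
  have hIn : finrank F I = n := by
    have := LinearMap.finrank_range_add_finrank_ker N
    rw [hdim, ← hK, ← hI] at this
    omega
  have hIinv : ∀ u ∈ I, X u ∈ I := by
    rintro _ ⟨w, rfl⟩
    exact ⟨X w, hNXv w⟩
  have hIKne : I ⊓ K ≠ ⊥ := by
    intro h
    apply hN0
    have hp1 : p = (p - 1) + 1 := by have := hpP.pos; omega
    rw [hp1] at hNp
    exact nilpotent_eq_zero_of_disjoint N h (p - 1) hNp
  have hIKdvd := hdvd (I ⊓ K) (fun u hu => ⟨hIinv u hu.1, hKinv u hu.2⟩)
  have hIKpos : 0 < finrank F ↥(I ⊓ K) := by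
    rw [Module.finrank_pos_iff]; exact Submodule.nontrivial_iff_ne_bot.2 hIKne
  have hIKle : finrank F ↥(I ⊓ K) ≤ n := by
    rw [← hIn]; exact Submodule.finrank_mono inf_le_left
  have hIKn : finrank F ↥(I ⊓ K) = n := Nat.le_antisymm hIKle (Nat.le_of_dvd hIKpos hIKdvd)
  have hIleK : I ≤ K := by
    have := Submodule.eq_of_le_of_finrank_eq (inf_le_left : I ⊓ K ≤ I) (by rw [hIKn, hIn])
    exact inf_eq_left.1 this
  have hN2 : ∀ v, N (N v) = 0 := by
    intro v
    have : N v ∈ K := hIleK ⟨v, rfl⟩
    exact this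
  have hiso : ∀ v w, ω (N v) (N w) = 0 := by
    intro v w
    have h1 : U (N w) = N w := by rw [hUN, hN2, add_zero]
    have h2 := hUω v (N w)
    rw [h1, hUN] at h2
    simp only [map_add, LinearMap.add_apply] at h2
    linear_combination h2
  have hsymm : ∀ v w, ω (N v) w = ω (N w) v := by
    intro v w
    have h2 := hUω v w
    rw [hUN, hUN] at h2
    simp only [map_add, LinearMap.add_apply] at h2
    have h3 : -ω (N w) v = ω v (N w) := LinearMap.IsAlt.neg halt (N w) v
    have h4 := hiso v w
    linear_combination h2 + h3 - h4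
  -- the inverse of X
  set Y : Module.End F V := X ^ (r - 1) with hY
  have hr1 : r - 1 + 1 = r := by have := hrP.pos; omega
  have hXY : X * Y = 1 := by rw [hY, ← pow_succ', hr1, hXr]
  have hYX : Y * X = 1 := by rw [hY, ← pow_succ, hr1, hXr]
  have hXYv : ∀ v, X (Y v) = v := by
    intro v
    rw [← Module.End.mul_apply, hXY]; rfl
  have hNY : Commute N Y := hNX.pow_right (r - 1)
  have hNYv : ∀ v, N (Y v) = Y (N v) := by
    intro v
    have := congrArg (fun g : Module.End F V => g v) hNY.eq
    simpa [Module.End.mul_apply] using this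
  have hfpf2 : ∀ v, X (X v) = v → v = 0 := by
    intro v hv
    apply hfpf
    obtain ⟨h, hh⟩ := hrodd
    have h1 : ((X ^ 2) ^ (h + 1)) v = v := by
      apply pow_apply_of_fixed
      rw [pow_two, Module.End.mul_apply]
      exact hv
    have h2 : (X ^ 2) ^ (h + 1) = X := by
      rw [← pow_mul]
      have : 2 * (h + 1) = r + 1 := by omega
      rw [this, pow_succ, hXr, one_mul]
    rw [h2] at h1
    exact h1
  set D : Module.End F V := X - Y with hD
  have hDinj : Function.Injective D := by
    rw [← LinearMap.ker_eq_bot, Submodule.eq_bot_iff]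
    intro v hv
    rw [LinearMap.mem_ker, hD, LinearMap.sub_apply, sub_eq_zero] at hv
    apply hfpf2
    rw [hv, hXYv]
  have hDsurj : Function.Surjective D := LinearMap.injective_iff_surjective.1 hDinj
  have hND : Commute N D := hNX.sub_right hNY
  have hDX : Commute D X := (Commute.refl X).sub_left ((Commute.refl X).pow_left (r - 1))
  set α : LinearMap.BilinForm F V := ω.compLeft (N * D) with hα
  have hαalt : α.IsAlt := by
    intro v
    show ω ((N * D) v) v = 0
    have hDv : D v = X v - Y v := by rw [hD]; rfl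
    rw [Module.End.mul_apply, hDv, map_sub, map_sub, LinearMap.sub_apply, sub_eq_zero]
    have h1 : ω (N (Y v)) v = ω (X (N (Y v))) (X v) := (hXω _ _).symm
    rw [h1, ← hNXv, hXYv, hsymm v (X v)]
  obtain ⟨c', hc'⟩ := Cfsg.Agent.Lib.Helper43.even_finrank_sub_of_isAlt α hαalt
    (LinearMap.ker (N * D)) (by
      intro y
      rw [LinearMap.mem_ker]
      constructor
      · intro hy x
        rw [← LinearMap.IsAlt.neg hαalt, hα, LinearMap.BilinForm.compLeft_apply, hy]
        simp
      · intro h
        apply hnd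
        intro b
        have := h b
        rw [← LinearMap.IsAlt.neg hαalt, hα, LinearMap.BilinForm.compLeft_apply,
          neg_eq_zero] at this
        exact this)
  rw [hdim] at hc'
  set R := LinearMap.ker (N * D) with hR
  have hKR : K ≤ R := by
    intro y hy
    rw [LinearMap.mem_ker] at hy ⊢
    rw [hND.eq, Module.End.mul_apply, hy, map_zero]
  have hRinv : ∀ u ∈ R, X u ∈ R := by
    intro u hu
    rw [LinearMap.mem_ker] at hu ⊢
    have hcomm : Commute (N * D) X := hNX.mul_left hDX
    have h1 : (N * D) (X u) = X ((N * D) u) := by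
      have := congrArg (fun g : Module.End F V => g u) hcomm.eq
      exact this
    rw [h1, hu, map_zero]
  have hRdvd := hdvd R hRinv
  have hRpos : 0 < finrank F R := lt_of_lt_of_le hKpos (Submodule.finrank_mono hKR)
  have hRle : finrank F R ≤ 2 * n := by rw [← hdim]; exact Submodule.finrank_le R
  obtain ⟨t, ht⟩ := hRdvd
  have ht1 : 1 ≤ t := by
    rcases Nat.eq_zero_or_pos t with h0 | h0
    · rw [h0, mul_zero] at ht; omega
    · exact h0
  have ht2 : t ≤ 2 := by
    by_contra h
    push Not at h
    have : n * 3 ≤ n * t := Nat.mul_le_mul_left n h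
    omega
  obtain ⟨s, hs⟩ := hodd
  interval_cases t
  · omega
  · have hRtop : R = ⊤ := by
      apply Submodule.eq_top_of_finrank_eq
      rw [hdim]; omega
    apply hN0
    apply LinearMap.ext
    intro v
    obtain ⟨w, rfl⟩ := hDsurj v
    have : w ∈ R := by rw [hRtop]; exact Submodule.mem_top
    rw [LinearMap.mem_ker, Module.End.mul_apply] at this
    exact this

end main

section matrix

open Matrix Cfsg.Agent.Lib.Helper99

variable {F : Type*} [Field F] [Fintype F]

/-- `Sp_{2n}(q)` has no element of order `r p` when `η(ord_r q) = n` -/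
theorem sp_no_elt_order_rp (n : ℕ) (hn : 1 ≤ n) (r : ℕ) [Fact r.Prime] (hr2 : r ≠ 2)
    (p : ℕ) [Fact p.Prime] [CharP F p] (hrp : r ≠ p)
    (hk : (Odd n ∧ orderOf ((Fintype.card F : ℕ) : ZMod r) = n) ∨
      orderOf ((Fintype.card F : ℕ) : ZMod r) = 2 * n)
    (g : ↥(symplecticGroup (Fin n) F)) (hg : orderOf g = r * p) : False := by
  classical
  have hrP : r.Prime := Fact.out
  have hpP : p.Prime := Fact.out
  have hrF : (r : F) ≠ 0 := by
    intro h
    rw [CharP.cast_eq_zero_iff F p] at h
    exact hrp ((Nat.prime_dvd_prime_iff_eq hpP hrP).1 h).symm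
  set A : Matrix (Fin n ⊕ Fin n) (Fin n ⊕ Fin n) F :=
    (g : Matrix (Fin n ⊕ Fin n) (Fin n ⊕ Fin n) F) with hA
  have hApow : ∀ m : ℕ, A ^ m = ((g ^ m : ↥(symplecticGroup (Fin n) F)) :
      Matrix (Fin n ⊕ Fin n) (Fin n ⊕ Fin n) F) := by
    intro m
    rw [hA, SubmonoidClass.coe_pow]
  have hAmem : ∀ m : ℕ, A ^ m ∈ symplecticGroup (Fin n) F := by
    intro m
    rw [hApow]
    exact (g ^ m).2
  have hA1 : ∀ m : ℕ, A ^ m = 1 → r * p ∣ m := by
    intro m hm
    rw [← hg]
    apply orderOf_dvd_of_pow_eq_one
    apply Subtype.ext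
    rw [← hApow, hm]
    rfl
  have hArp : A ^ (r * p) = 1 := by
    rw [hApow, ← hg, pow_orderOf_eq_one]
    rfl
  have hfin : Module.finrank F (Fin n ⊕ Fin n → F) = 2 * n := by
    rw [Module.finrank_fintype_fun_eq_card, Fintype.card_sum, Fintype.card_fin]; ring
  apply no_elt_order_rp (sympB (F := F) n) (fun v => sympB_self n v)
    (fun a ha => sympB_nd n a Submodule.mem_top (fun v _ => ha v)) n hn hfin r hr2 hrF p
    (Matrix.toLin' (A ^ p)) (Matrix.toLin' (A ^ r))
  · rw [← Matrix.toLin'_pow, ← pow_mul, mul_comm, hArp, Matrix.toLin'_one]; rfl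
  · intro h
    have h1 : A ^ p = 1 := by
      apply Matrix.toLin'.injective
      rw [h, Matrix.toLin'_one]; rfl
    have h2 := hA1 p h1
    have h3 : r ∣ 1 := by
      have : r * p ∣ 1 * p := by rw [one_mul]; exact h2
      exact Nat.dvd_of_mul_dvd_mul_right hpP.pos this
    exact hrP.one_lt.ne' (Nat.dvd_one.1 h3)
  · rw [← Matrix.toLin'_pow, ← pow_mul, hArp, Matrix.toLin'_one]; rfl
  · intro h
    have h1 : A ^ r = 1 := by
      apply Matrix.toLin'.injective
      rw [h, Matrix.toLin'_one]; rfl
    have h2 := hA1 r h1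
    have h3 : p ∣ 1 := by
      have : p * r ∣ 1 * r := by rw [one_mul, mul_comm]; exact h2
      exact Nat.dvd_of_mul_dvd_mul_right hrP.pos this
    exact hpP.one_lt.ne' (Nat.dvd_one.1 h3)
  · show Matrix.toLin' (A ^ p) * Matrix.toLin' (A ^ r) = Matrix.toLin' (A ^ r) * Matrix.toLin' (A ^ p)
    rw [Module.End.mul_eq_comp, Module.End.mul_eq_comp, ← Matrix.toLin'_mul, ← Matrix.toLin'_mul,
      ← pow_add, ← pow_add, add_comm]
  · intro a b
    exact sympB_preserved n (A ^ p) (hAmem p) a b
  · intro a b
    exact sympB_preserved n (A ^ r) (hAmem r) a b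
  · exact hk

end matrix

end Cfsg.Agent.Lib.Helper8
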