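import Mathlib
import Cfsg.Agent.Lib.Helper8.SpDerElts
import Cfsg.Agent.Lib.Helper8.SpOrderRP

/-! Elements of order `r` acting fixed-point-freely on a subspace of odd dimension and trivially
on a complement are similitudes of no symplectic form (for S5968). -/

set_option autoImplicit false
set_option linter.unusedSectionVars false
set_option linter.unusedVariables false

namespace Cfsg.Agent.Lib.Helper8.SpDer

open Module Matrix

section abstract

variable {F : Type*} [Field F] {K : Type*} [Field K] [Algebra F K] {W : Type*} [AddCommGroup W]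
  [Module F W]

/-- multiplication by `ζ` on `K`, identity on `W` -/
noncomputable def sX (ζ : K) : Module.End F (K × W) :=
  LinearMap.prodMap (Algebra.lmul F K ζ) LinearMap.id

theorem sX_apply (ζ : K) (a : K) (w : W) : sX (F := F) ζ (a, w) = (ζ * a, w) := by
  simp [sX]

theorem sX_pow_apply (ζ : K) (j : ℕ) (a : K) (w : W) :
    ((sX (F := F) (W := W) ζ) ^ j) (a, w) = (ζ ^ j * a, w) := by
  induction j generalizing a with
  | zero => simp
  | succ j ih => rw [pow_succ, Module.End.mul_apply, sX_apply, ih, pow_succ, mul_assoc]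

theorem sX_pow_eq_one (ζ : K) (r : ℕ) (hζ : ζ ^ r = 1) : (sX (F := F) (W := W) ζ) ^ r = 1 := by
  apply LinearMap.ext
  rintro ⟨a, w⟩
  rw [sX_pow_apply, hζ, one_mul]
  rfl

theorem normOp_sX_apply (ζ : K) (r : ℕ) (a : K) (w : W) :
    normOp (sX (F := F) (W := W) ζ) r (a, w) =
      ((∑ j ∈ Finset.range r, ζ ^ j) * a, (r : F) • w) := by
  unfold normOp
  rw [LinearMap.sum_apply]
  simp only [sX_pow_apply]
  apply Prod.ext
  · rw [Prod.fst_sum, Finset.sum_mul]
  · rw [Prod.snd_sum]
    simp only [Finset.sum_const, Finset.card_range]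
    rw [Nat.cast_smul_eq_nsmul]

theorem ker_normOp_sX (ζ : K) (r : ℕ) (hζ : ζ ^ r = 1) (hζ1 : ζ ≠ 1) (hr : (r : F) ≠ 0) :
    LinearMap.ker (normOp (sX (F := F) (W := W) ζ) r) = LinearMap.range (LinearMap.inl F K W) := by
  have hsum : ∑ j ∈ Finset.range r, ζ ^ j = 0 := by
    have h1 := geom_sum_mul ζ r
    rw [hζ, sub_self] at h1
    rcases mul_eq_zero.mp h1 with h2 | h2
    · exact h2
    · exact absurd (sub_eq_zero.mp h2) hζ1
  ext ⟨a, w⟩
  rw [LinearMap.mem_ker, normOp_sX_apply, hsum, zero_mul, LinearMap.mem_range]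
  constructor
  · intro h
    have h2 : (r : F) • w = 0 := congrArg Prod.snd h
    have hw : w = 0 := by
      rcases smul_eq_zero.mp h2 with h3 | h3
      · exact absurd h3 hr
      · exact h3
    exact ⟨a, by rw [hw]; rfl⟩
  · rintro ⟨a', ha'⟩
    have hw : w = 0 := by
      have := congrArg Prod.snd ha'
      simpa using this.symm
    rw [hw, smul_zero]
    rfl

/-- an isometry of this shape forces `dim W` to be even -/
theorem sX_isometry_even [Fintype F] [FiniteDimensional F K] [FiniteDimensional F W] (ζ : K) (r : ℕ)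
    (hr : Odd r) (hrF : (r : F) ≠ 0) (hζ : ζ ^ r = 1) (hζ1 : ζ ≠ 1)
    (ω : LinearMap.BilinForm F (K × W)) (halt : ω.IsAlt)
    (hnd : ∀ a, (∀ b, ω a b = 0) → a = 0)
    (hiso : ∀ a b, ω (sX (F := F) ζ a) (sX (F := F) ζ b) = ω a b) :
    ∃ c, finrank F W = 2 * c := by
  obtain ⟨c, hc⟩ := finrank_ker_normOp_even ω halt hnd (sX (F := F) (W := W) ζ) r hr
    (sX_pow_eq_one ζ r hζ) hiso
  refine ⟨c, ?_⟩
  rw [ker_normOp_sX ζ r hζ hζ1 hrF, LinearMap.finrank_range_of_inj LinearMap.inl_injective,
    Module.finrank_prod] at hc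
  omega

end abstract

section matrix

variable {F : Type*} [Field F] [Fintype F] {p : ℕ} [Fact p.Prime] [CharP F p]

theorem eq_one_of_pow_eq_one (c : F) (r : ℕ) (hr : 0 < r) (hcr : c ^ r = 1)
    (hcop : Nat.Coprime r (Fintype.card F - 1)) : c = 1 := by
  have hc0 : c ≠ 0 := by
    intro h0
    rw [h0, zero_pow hr.ne'] at hcr
    exact zero_ne_one hcr
  have hcq : c ^ (Fintype.card F - 1) = 1 := FiniteField.pow_card_sub_one_eq_one c hc0
  have := (pow_gcd_eq_one (a := c)).mpr ⟨hcr, hcq⟩
  rw [Nat.Coprime] at hcop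
  rw [hcop, pow_one] at this
  exact this

/-- Existence of the Singer-type element. -/
theorem exists_singer_elt (n i : ℕ) (hi : 0 < i) (hin : i < n) (hodd : Odd (n - i))
    (r : ℕ) [Fact r.Prime] (hr2 : r ≠ 2) (hrp : r ≠ p)
    (hrq : ¬ r ∣ Fintype.card F - 1) (hri : r ∣ Fintype.card F ^ i - 1) :
    ∃ x : Matrix (Fin n) (Fin n) F, x.det = 1 ∧ x ^ r = 1 ∧
      ∀ f' : (Fin n → F) → (Fin n → F) → F, Cfsg.Geo.IsSymplecticForm f' → ∀ c : F,
        ¬ IsSim x f' c := by
  classical
  have hrprime : r.Prime := Fact.out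
  have : NeZero i := ⟨hi.ne'⟩
  have hcop : Nat.Coprime r (Fintype.card F - 1) := (hrprime.coprime_iff_not_dvd).mpr hrq
  have hrF : (r : F) ≠ 0 := by
    intro h0
    have hdvd : p ∣ r := (CharP.cast_eq_zero_iff F p r).mp h0
    exact hrp ((Nat.prime_dvd_prime_iff_eq (Fact.out : p.Prime) hrprime).mp hdvd).symm
  have hrodd : Odd r := hrprime.odd_of_ne_two hr2
  -- the field extension and the element of order `r`
  let K := FiniteField.Extension F p i
  have hcardK : Nat.card Kˣ = Fintype.card F ^ i - 1 := by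
    rw [Nat.card_units, FiniteField.natCard_extension, Nat.card_eq_fintype_card]
  obtain ⟨ζu, hζu⟩ := exists_prime_orderOf_dvd_card' (G := Kˣ) r (by rw [hcardK]; exact hri)
  set ζ : K := (ζu : K) with hζdef
  have hζ : ζ ^ r = 1 := by
    rw [hζdef, ← Units.val_pow_eq_pow_val, ← hζu, pow_orderOf_eq_one, Units.val_one]
  have hζ1 : ζ ≠ 1 := by
    intro h1
    have : ζu = 1 := Units.ext h1
    rw [this, orderOf_one] at hζu
    exact hrprime.one_lt.ne' hζu.symm
  -- the space and its basis
  have hfin : finrank F (K × (Fin (n - i) → F)) = n := by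
    rw [Module.finrank_prod, FiniteField.finrank_extension, Module.finrank_fin_fun]
    omega
  let b' : Basis (Fin n) F (K × (Fin (n - i) → F)) :=
    Module.finBasisOfFinrankEq F (K × (Fin (n - i) → F)) hfin
  set X' : Module.End F (K × (Fin (n - i) → F)) := sX (F := F) ζ with hX'
  refine ⟨LinearMap.toMatrix b' b' X', ?_, ?_, ?_⟩
  · -- determinant
    rw [LinearMap.det_toMatrix, hX', sX, LinearMap.det_prodMap, LinearMap.det_id, mul_one,
      ← Algebra.norm_apply]
    apply eq_one_of_pow_eq_one _ r hrprime.pos _ hcop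
    rw [← map_pow, hζ, map_one]
  · rw [LinearMap.toMatrix_pow, hX', sX_pow_eq_one ζ r hζ]
    exact LinearMap.toMatrix_one b'
  · intro f' hf' c h
    have hxr : (LinearMap.toMatrix b' b' X') ^ r = 1 := by
      rw [LinearMap.toMatrix_pow, hX', sX_pow_eq_one ζ r hζ]
      exact LinearMap.toMatrix_one b'
    have hc := sim_mult_eq_one hf' (by omega) _ r hrprime.pos hxr hcop c h
    rw [hc] at h
    -- transport the form
    let E : (K × (Fin (n - i) → F)) →ₗ[F] (Fin n → F) := b'.equivFun.toLinearMap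
    have hE : ∀ a, E a = b'.equivFun a := fun a => rfl
    let ω' : LinearMap.BilinForm F (K × (Fin (n - i) → F)) :=
      LinearMap.BilinForm.comp (toBilin f' hf'.bilinear) E E
    have hω' : ∀ a b, ω' a b = f' (b'.equivFun a) (b'.equivFun b) := fun a b => rfl
    have halt : ω'.IsAlt := fun a => hf'.alternating _
    have hnd : ∀ a, (∀ b, ω' a b = 0) → a = 0 := by
      intro a ha
      by_contra ha0
      have hne : b'.equivFun a ≠ 0 := by
        intro h0
        exact ha0 ((LinearEquiv.map_eq_zero_iff b'.equivFun).mp h0)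
      obtain ⟨-, ⟨z, hz⟩⟩ := hf'.nondegenerate _ hne
      apply hz
      have := ha (b'.equivFun.symm z)
      rw [hω', LinearEquiv.apply_symm_apply] at this
      exact this
    have hiso : ∀ a b, ω' (X' a) (X' b) = ω' a b := by
      intro a b
      rw [hω', hω']
      have h1 : ∀ v, b'.equivFun (X' v) = LinearMap.toMatrix b' b' X' *ᵥ b'.equivFun v := by
        intro v
        have := LinearMap.toMatrix_mulVec_repr b' b' X' v
        rw [Basis.equivFun_apply, Basis.equivFun_apply]
        exact this.symm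
      rw [h1, h1, h, one_mul]
    obtain ⟨c', hc'⟩ := sX_isometry_even ζ r hrodd hrF hζ hζ1 ω' halt hnd hiso
    rw [Module.finrank_fin_fun] at hc'
    rw [hc'] at hodd
    exact (Nat.not_odd_iff_even.mpr ⟨c', by ring⟩) hodd

end matrix

end Cfsg.Agent.Lib.Helper8.SpDer
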