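import Mathlib
import Cfsg.Agent.Lib.Helper8.SpDerElts

/-! The unipotent element with one Jordan block of size three (for S5968). -/

set_option autoImplicit false
set_option linter.unusedSectionVars false
set_option linter.unusedVariables false

namespace Cfsg.Agent.Lib.Helper8.SpDer

open Module Matrix

variable {F : Type*} [Field F] {n : ℕ}

/-- the nilpotent matrix `E₀₁ + E₁₂` -/
def uN (hn : 3 ≤ n) : Matrix (Fin n) (Fin n) F :=
  Matrix.single (⟨0, by omega⟩ : Fin n) (⟨1, by omega⟩ : Fin n) (1 : F) +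
    Matrix.single (⟨1, by omega⟩ : Fin n) (⟨2, by omega⟩ : Fin n) (1 : F)

/-- the unipotent matrix `1 + E₀₁ + E₁₂` -/
def uX (hn : 3 ≤ n) : Matrix (Fin n) (Fin n) F := 1 + uN hn

theorem uN_mul_self (hn : 3 ≤ n) :
    (uN hn : Matrix (Fin n) (Fin n) F) * uN hn =
      Matrix.single (⟨0, by omega⟩ : Fin n) (⟨2, by omega⟩ : Fin n) (1 : F) := by
  unfold uN
  rw [Matrix.add_mul, Matrix.mul_add, Matrix.mul_add]
  rw [Matrix.single_mul_single_of_ne, Matrix.single_mul_single_same,
    Matrix.single_mul_single_of_ne, Matrix.single_mul_single_of_ne]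
  · simp
  · simp [Fin.ext_iff]
  · simp [Fin.ext_iff]
  · simp [Fin.ext_iff]

theorem uN_cube (hn : 3 ≤ n) :
    (uN hn : Matrix (Fin n) (Fin n) F) * uN hn * uN hn = 0 := by
  rw [uN_mul_self]
  unfold uN
  rw [Matrix.mul_add, Matrix.single_mul_single_of_ne, Matrix.single_mul_single_of_ne]
  · simp
  · simp [Fin.ext_iff]
  · simp [Fin.ext_iff]

theorem uX_pow (hn : 3 ≤ n) (p : ℕ) [Fact p.Prime] [CharP F p] (hp : 3 ≤ p) :
    (uX hn : Matrix (Fin n) (Fin n) F) ^ p = 1 := by
  have : Nonempty (Fin n) := ⟨⟨0, by omega⟩⟩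
  unfold uX
  rw [add_pow_char_of_commute p (Commute.one_left _), one_pow]
  have : (uN hn : Matrix (Fin n) (Fin n) F) ^ p = 0 := by
    have hp' : p = 3 + (p - 3) := by omega
    rw [hp', pow_add, pow_succ, pow_two, uN_cube, zero_mul]
  rw [this, add_zero]

theorem uX_det (hn : 3 ≤ n) : (uX hn : Matrix (Fin n) (Fin n) F).det = 1 := by
  have htri : (uX hn : Matrix (Fin n) (Fin n) F).BlockTriangular id := by
    intro i j hij
    simp only [id] at hij
    unfold uX uN
    rw [Matrix.add_apply, Matrix.add_apply, Matrix.one_apply_ne (ne_of_gt hij),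
      Matrix.single_apply_of_ne, Matrix.single_apply_of_ne]
    · simp
    · rintro ⟨h1, h2⟩
      rw [← h1, ← h2] at hij
      simp [Fin.lt_def] at hij
    · rintro ⟨h1, h2⟩
      rw [← h1, ← h2] at hij
      simp [Fin.lt_def] at hij
  rw [Matrix.det_of_isUpperTriangular htri]
  apply Finset.prod_eq_one
  intro i _
  unfold uX uN
  rw [Matrix.add_apply, Matrix.add_apply, Matrix.one_apply_eq,
    Matrix.single_apply_of_ne, Matrix.single_apply_of_ne]
  · simp
  · rintro ⟨h1, h2⟩
    rw [← h1] at h2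
    simp [Fin.ext_iff] at h2
  · rintro ⟨h1, h2⟩
    rw [← h1] at h2
    simp [Fin.ext_iff] at h2

theorem uX_mulVec (hn : 3 ≤ n) (v : Fin n → F) :
    (uX hn : Matrix (Fin n) (Fin n) F) *ᵥ v =
      v + (v ⟨1, by omega⟩ • (ev ⟨0, by omega⟩ : Fin n → F) +
        v ⟨2, by omega⟩ • (ev ⟨1, by omega⟩ : Fin n → F)) := by
  unfold uX uN
  rw [Matrix.add_mulVec, Matrix.one_mulVec, Matrix.add_mulVec, Matrix.single_mulVec_eq,
    Matrix.single_mulVec_eq, one_mul, one_mul]

theorem uX_not_scalar (hn : 3 ≤ n) (z : F) :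
    (uX hn : Matrix (Fin n) (Fin n) F) ≠ z • (1 : Matrix (Fin n) (Fin n) F) := by
  intro h
  have := congrFun (congrFun h ⟨0, by omega⟩) ⟨1, by omega⟩
  unfold uX uN at this
  rw [Matrix.add_apply, Matrix.add_apply, Matrix.single_apply_same, Matrix.single_apply_of_ne,
    Matrix.smul_apply, Matrix.one_apply_ne] at this
  · simp at this
  · simp [Fin.ext_iff]
  · simp [Fin.ext_iff]

theorem uX_not_sim_one (hn : 3 ≤ n) {f' : (Fin n → F) → (Fin n → F) → F}
    (hf' : Cfsg.Geo.IsSymplecticForm f') :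
    ¬ IsSim (uX hn : Matrix (Fin n) (Fin n) F) f' 1 := by
  intro h
  set e0 : Fin n → F := ev ⟨0, by omega⟩ with he0
  set e1 : Fin n → F := ev ⟨1, by omega⟩ with he1
  set e2 : Fin n → F := ev ⟨2, by omega⟩ with he2
  have x0 : (uX hn : Matrix (Fin n) (Fin n) F) *ᵥ e0 = e0 := by
    rw [uX_mulVec, he0]
    simp [ev, Fin.ext_iff]
  have x1 : (uX hn : Matrix (Fin n) (Fin n) F) *ᵥ e1 = e1 + e0 := by
    rw [uX_mulVec, he1, he0]
    simp [ev, Fin.ext_iff]
  have x2 : (uX hn : Matrix (Fin n) (Fin n) F) *ᵥ e2 = e2 + e1 := by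
    rw [uX_mulVec, he2, he1]
    simp [ev, Fin.ext_iff]
  have xj : ∀ j : Fin n, j.val ≠ 1 → j.val ≠ 2 →
      (uX hn : Matrix (Fin n) (Fin n) F) *ᵥ (ev j : Fin n → F) = ev j := by
    intro j h1 h2
    rw [uX_mulVec]
    have a1 : (ev j : Fin n → F) ⟨1, by omega⟩ = 0 := by
      simp only [ev]
      rw [Pi.single_apply, if_neg]
      intro hh; apply h1; rw [← hh]
    have a2 : (ev j : Fin n → F) ⟨2, by omega⟩ = 0 := by
      simp only [ev]
      rw [Pi.single_apply, if_neg]
      intro hh; apply h2; rw [← hh]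
    rw [a1, a2]; simp
  have hb := hf'.bilinear
  -- f'(e0, e1) = 0
  have a1 : f' e0 e1 = 0 := by
    have := h e0 e2
    rw [x0, x2, hb.add_right, one_mul] at this
    exact left_eq_add.mp this.symm |> fun h => by simpa using h
  -- f'(e0, e2) = 0
  have a2 : f' e0 e2 = 0 := by
    have := h e1 e2
    rw [x1, x2, hb.add_left, hb.add_right, hb.add_right, one_mul, hf'.alternating, a1, add_zero,
      add_zero] at this
    exact left_eq_add.mp this.symm |> fun h => by simpa using h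
  have a3 : ∀ j : Fin n, j.val ≠ 0 → j.val ≠ 1 → j.val ≠ 2 → f' e0 (ev j) = 0 := by
    intro j h0 h1 h2
    have := h e1 (ev j)
    rw [x1, xj j h1 h2, hb.add_left, one_mul] at this
    exact left_eq_add.mp this.symm |> fun h => by simpa using h
  apply ev_ne_zero (F := F) (⟨0, by omega⟩ : Fin n)
  apply eq_zero_of_forall_ev hf'
  intro j
  by_cases h0 : j.val = 0
  · have : j = ⟨0, by omega⟩ := Fin.ext h0
    rw [this]; exact hf'.alternating _
  by_cases h1 : j.val = 1
  · have : j = ⟨1, by omega⟩ := Fin.ext h1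
    rw [this]; exact a1
  by_cases h2 : j.val = 2
  · have : j = ⟨2, by omega⟩ := Fin.ext h2
    rw [this]; exact a2
  exact a3 j h0 h1 h2

/-- the unipotent element is a similitude of no symplectic form -/
theorem uX_not_sim [Fintype F] (hn : 3 ≤ n) (p : ℕ) [Fact p.Prime] [CharP F p] (hp : 3 ≤ p)
    {f' : (Fin n → F) → (Fin n → F) → F}
    (hf' : Cfsg.Geo.IsSymplecticForm f') (c : F) :
    ¬ IsSim (uX hn : Matrix (Fin n) (Fin n) F) f' c := by
  intro h
  have hcop : Nat.Coprime p (Fintype.card F - 1) := by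
    obtain ⟨k, hk⟩ := FiniteField.card F p
    rw [hk.2]
    have hpp : (Fact.out : p.Prime) = (Fact.out : p.Prime) := rfl
    have h1 : p ∣ p ^ (k : ℕ) := dvd_pow_self p k.ne_zero
    have hpos : 0 < p ^ (k : ℕ) := pow_pos (Fact.out : p.Prime).pos _
    rw [Nat.coprime_comm]
    apply Nat.Coprime.symm
    rw [(Fact.out : p.Prime).coprime_iff_not_dvd]
    intro h2
    have : p ∣ 1 := by
      have h3 : p ∣ p ^ (k : ℕ) - (p ^ (k : ℕ) - 1) := Nat.dvd_sub h1 h2
      have h4 : p ^ (k : ℕ) - (p ^ (k : ℕ) - 1) = 1 := by omega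
      rwa [h4] at h3
    exact (Fact.out : p.Prime).one_lt.ne' (Nat.dvd_one.mp this)
  have hc := sim_mult_eq_one hf' (by omega) _ p (by omega) (uX_pow hn p hp) hcop c h
  rw [hc] at h
  exact uX_not_sim_one hn hf' h

end Cfsg.Agent.Lib.Helper8.SpDer
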