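import Mathlib
import Cfsg.Agent.Lib.Helper8.SpExtBridge
import Cfsg.Agent.Lib.Helper8.SpIrredElt
import Cfsg.Agent.Lib.Helper8.SpOrthF

/-!
# Extension field subgroups of `Sp_{2d}(q)`: transvections and the index
-/

set_option autoImplicit false
set_option linter.style.haveILetI false
set_option linter.unusedSectionVars false

namespace Cfsg.Agent.Lib.Helper8.SpExt

open Matrix Module
open Cfsg.Agent.Lib.Helper99

section embedded

variable {F : Type*} [Field F] [Fintype F] (d : ℕ) {𝕂 : Type*} [Field 𝕂] [Algebra F 𝕂]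
  [Finite 𝕂] (ι : 𝕂 →ₐ[F] Matrix (Fin d ⊕ Fin d) (Fin d ⊕ Fin d) F)
  (hι : Function.Injective ι)

local notation "V" => (Fin d ⊕ Fin d → F)
local notation "Mat" => Matrix (Fin d ⊕ Fin d) (Fin d ⊕ Fin d) F

include hι

/-- no symplectic transvection normalizes an extension field -/
theorem no_transvection (hd : 2 ≤ d) (hk : 2 ≤ finrank F 𝕂) (a : V) (ha : a ≠ 0) (c : F)
    (hc : c ≠ 0) (hy : stv d a c ∈ Cfsg.Geo.subalgebraNormalizer ι.range) : False := by
  classical
  letI := Cfsg.Agent.Lib.Helper13.SP.modOfI ι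
  haveI := Cfsg.Agent.Lib.Helper13.SP.modOfI_tower ι
  haveI : Module.Finite F 𝕂 := Module.Finite.of_finite
  haveI : Module.Finite 𝕂 V := Module.Finite.of_finite
  set X : V ≃ₗ[F] V := Cfsg.Agent.Lib.Helper13.SP.ΘI (stv d a c) with hXdef
  have hXv : ∀ v, X v = v + (c * Cfsg.sympForm d F v a) • a := by
    intro v
    show ((stv d a c : GL (Fin d ⊕ Fin d) F) : Mat) *ᵥ v = _
    rw [stv_mulVec]
  have hN := normalizes_of_mem d ι hι (stv d a c) hy
  have hdimV : finrank F V = 2 * d := by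
    rw [Module.finrank_fintype_fun_eq_card, Fintype.card_sum, Fintype.card_fin]
    ring
  -- the functional
  let φ : V →ₗ[F] F := (sympB (F := F) d).flip a
  have hφ : ∀ v, φ v = Cfsg.sympForm d F v a := by
    intro v
    show sympB d v a = _
    rw [sympB_apply]
  obtain ⟨b, hb⟩ : ∃ b : V, Cfsg.sympForm d F b a ≠ 0 := by
    by_contra hcon
    push Not at hcon
    apply ha
    apply (sympB_nondegenerate (F := F) d).2
    intro v
    rw [sympB_apply]
    exact hcon v
  have hsurj : Function.Surjective φ := by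
    intro t
    refine ⟨(t * (Cfsg.sympForm d F b a)⁻¹) • b, ?_⟩
    rw [map_smul, hφ, smul_eq_mul, mul_assoc, inv_mul_cancel₀ hb, mul_one]
  have hker : finrank F (LinearMap.ker φ) + 1 = 2 * d := by
    have h1 := LinearMap.finrank_range_add_finrank_ker φ
    rw [LinearMap.range_eq_top.2 hsurj, finrank_top, Module.finrank_self, hdimV] at h1
    omega
  have hC : Commutes 𝕂 (X : V →ₗ[F] V) := by
    apply commutes_of_rank (X : V →ₗ[F] V) hN (LinearMap.ker φ)
    · intro u hu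
      rw [LinearMap.mem_ker, hφ] at hu
      rw [LinearEquiv.coe_coe, hXv, hu, mul_zero, zero_smul, add_zero]
    · rw [hdimV]
      omega
  -- the line spanned by `a` is invariant
  have hinv : ∀ (k : 𝕂), ∀ w ∈ Submodule.span F {a}, k • w ∈ Submodule.span F {a} := by
    intro k w hw
    rw [Submodule.mem_span_singleton] at hw ⊢
    obtain ⟨t, rfl⟩ := hw
    have h1 := hC k b
    rw [LinearEquiv.coe_coe, hXv, hXv, smul_add] at h1
    have h3 : (c * Cfsg.sympForm d F (k • b) a) • a =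
        k • ((c * Cfsg.sympForm d F b a) • a) := add_left_cancel h1
    have hne : c * Cfsg.sympForm d F b a ≠ 0 := mul_ne_zero hc hb
    refine ⟨t * (c * Cfsg.sympForm d F b a)⁻¹ * (c * Cfsg.sympForm d F (k • b) a), ?_⟩
    rw [mul_smul, h3, smul_comm k, smul_smul, mul_assoc,
      inv_mul_cancel₀ hne, mul_one, smul_comm]
  have h4 := finrank_dvd_of_invariant (𝕂 := 𝕂) (Submodule.span F {a}) hinv
  rw [finrank_span_singleton ha] at h4
  have := Nat.le_of_dvd one_pos h4
  omega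

/-- the order of `Sp_{2N}(q^k)` divides the order of the normalizer -/
theorem card_Sp_dvd
    (hsa : ∀ (k : 𝕂) (u v : V), Cfsg.sympForm d F (ι k *ᵥ u) v = Cfsg.sympForm d F u (ι k *ᵥ v))
    (halt : ∀ (k : 𝕂) (v : V), Cfsg.sympForm d F (ι k *ᵥ v) v = 0) :
    ∃ N : ℕ, d = finrank F 𝕂 * N ∧
      ((Fintype.card F ^ finrank F 𝕂) ^ (N ^ 2) * ∏ i ∈ Finset.range N,
        ((Fintype.card F ^ finrank F 𝕂) ^ (2 * (i + 1)) - 1)) ∣
      Nat.card ↥(Cfsg.Geo.subalgebraNormalizer ι.range ⊓ Cfsg.spGL d F) := by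
  classical
  letI := Cfsg.Agent.Lib.Helper13.SP.modOfI ι
  haveI := Cfsg.Agent.Lib.Helper13.SP.modOfI_tower ι
  haveI : Module.Finite F 𝕂 := Module.Finite.of_finite
  haveI : Module.Finite 𝕂 V := Module.Finite.of_finite
  letI : Fintype 𝕂 := Fintype.ofFinite 𝕂
  have hsmul : ∀ (c : 𝕂) (v : V), c • v = ι c *ᵥ v := fun c v => rfl
  obtain ⟨tr, htr1⟩ := Cfsg.Agent.Lib.Helper13.CF.exists_coord (F := F) (b := (1 : 𝕂)) one_ne_zero
  have htr : tr ≠ 0 := by
    rintro rfl
    simp at htr1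
  obtain ⟨B, D, hB⟩ := Cfsg.Agent.Lib.Helper13.SP.exists_B (K := 𝕂) tr htr (sympB (F := F) d)
    (by
      intro k u v
      rw [sympB_apply, sympB_apply]
      exact hsa k u v)
    (by
      intro k v
      rw [sympB_apply]
      exact halt k v)
    (fun u hu => (sympB_nondegenerate (F := F) d).1 u hu)
  have hBf : ∀ u v : V, tr (B u v) = Cfsg.sympForm d F u v := by
    intro u v
    rw [hB, sympB_apply]
  have hBalt : LinearMap.BilinForm.IsAlt (B : LinearMap.BilinForm 𝕂 V) := fun v => D.alt v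
  have hBnd : (B : LinearMap.BilinForm 𝕂 V).Nondegenerate := by
    refine ⟨fun u hu => D.nd u hu, fun v hv => D.nd v (fun u => ?_)⟩
    rw [D.skew, hv u, neg_zero]
  obtain ⟨N, hN⟩ := Cfsg.Agent.Lib.Helper44.alt_finrank_even (finrank 𝕂 V) V
    (B : LinearMap.BilinForm 𝕂 V) hBalt hBnd rfl
  have hdimV : finrank F V = 2 * d := by
    rw [Module.finrank_fintype_fun_eq_card, Fintype.card_sum, Fintype.card_fin]
    ring
  have hdN : d = finrank F 𝕂 * N := by
    have h1 := Module.finrank_mul_finrank F 𝕂 V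
    rw [hdimV, hN] at h1
    have : 2 * (finrank F 𝕂 * N) = 2 * d := by rw [← h1]; ring
    omega
  refine ⟨N, hdN, ?_⟩
  obtain ⟨Θ, hΘ⟩ := Cfsg.Agent.Lib.Helper8.exists_symp_coords_gen (F := 𝕂)
    (B : LinearMap.BilinForm 𝕂 V) hBalt hBnd N hN
  have hcardK : Fintype.card 𝕂 = Fintype.card F ^ finrank F 𝕂 := Module.card_eq_pow_finrank
  rw [← hcardK, ← Cfsg.Agent.Lib.Helper8.card_spGL (F := 𝕂) N]
  let ψ : Cfsg.spGL N 𝕂 → (V ≃ₗ[F] V) := fun g =>
    (Θ.trans ((Cfsg.Agent.Lib.Helper13.SP.ΘI (F := 𝕂) g.1).trans Θ.symm)).restrictScalars F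
  have hψ : ∀ g v, ψ g v =
      Θ.symm ((g.1 : Matrix (Fin N ⊕ Fin N) (Fin N ⊕ Fin N) 𝕂) *ᵥ Θ v) := fun g v => rfl
  let φ : Cfsg.spGL N 𝕂 →* GL (Fin d ⊕ Fin d) F :=
    MonoidHom.mk' (fun g => glOfEquiv d (ψ g)) (by
      intro g h
      apply Units.ext
      rw [Units.val_mul, Matrix.ext_iff_mulVec]
      intro v
      rw [← Matrix.mulVec_mulVec, glOfEquiv_mulVec, glOfEquiv_mulVec, glOfEquiv_mulVec, hψ, hψ, hψ,
        LinearEquiv.apply_symm_apply, Matrix.mulVec_mulVec]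
      rfl)
  have hφv : ∀ g v, ((φ g : GL (Fin d ⊕ Fin d) F) : Mat) *ᵥ v =
      Θ.symm ((g.1 : Matrix (Fin N ⊕ Fin N) (Fin N ⊕ Fin N) 𝕂) *ᵥ Θ v) := by
    intro g v
    show ((glOfEquiv d (ψ g) : GL (Fin d ⊕ Fin d) F) : Mat) *ᵥ v = _
    rw [glOfEquiv_mulVec, hψ]
  have hmem : ∀ g, φ g ∈ Cfsg.Geo.subalgebraNormalizer ι.range ⊓ Cfsg.spGL d F := by
    intro g
    refine Subgroup.mem_inf.2 ⟨?_, ?_⟩
    · rw [Cfsg.Agent.Lib.Helper13.SP.mem_normalizer_iffI ι hι]
      intro k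
      refine ⟨k, ?_⟩
      rw [Matrix.ext_iff_mulVec]
      intro v
      rw [← Matrix.mulVec_mulVec, ← Matrix.mulVec_mulVec, hφv, hφv, ← hsmul, ← hsmul, map_smul,
        Matrix.mulVec_smul, map_smul]
    · rw [mem_spGL_iff]
      intro u v
      rw [hφv, hφv, ← hBf, ← hBf, ← hΘ, ← hΘ, LinearEquiv.apply_symm_apply,
        LinearEquiv.apply_symm_apply]
      congr 1
      exact (mem_spGL_iff N g.1).1 g.2 (Θ u) (Θ v)
  have hinj : Function.Injective (φ.codRestrict _ hmem) := by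
    intro g h hgh
    have h1 : φ g = φ h := congrArg Subtype.val hgh
    apply Subtype.ext
    apply Units.ext
    rw [Matrix.ext_iff_mulVec]
    intro m
    have h3 := hφv g (Θ.symm m)
    rw [h1, hφv, LinearEquiv.apply_symm_apply] at h3
    exact (Θ.symm.injective h3).symm
  exact Subgroup.card_dvd_of_injective _ hinj

/-- a prime dividing the index of the normalizer -/
theorem index_cases
    (hsa : ∀ (k : 𝕂) (u v : V), Cfsg.sympForm d F (ι k *ᵥ u) v = Cfsg.sympForm d F u (ι k *ᵥ v))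
    (halt : ∀ (k : 𝕂) (v : V), Cfsg.sympForm d F (ι k *ᵥ v) v = 0) (r : ℕ) (hr : r.Prime)
    (hΩ : r ∣ (Cfsg.Geo.subalgebraNormalizer ι.range).relIndex (Cfsg.spGL d F)) :
    r ∣ Fintype.card F ∨ ∃ j, 1 ≤ j ∧ j ≤ d ∧ ¬ finrank F 𝕂 ∣ j ∧
      r ∣ Fintype.card F ^ (2 * j) - 1 := by
  classical
  haveI : Module.Finite F 𝕂 := Module.Finite.of_finite
  set q := Fintype.card F with hq
  set k := finrank F 𝕂 with hk
  have hk1 : 1 ≤ k := Module.finrank_pos
  have hq2 : 2 ≤ q := Fintype.one_lt_card (α := F)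
  have hq1 : 1 ≤ q := by omega
  obtain ⟨N, hdN, h1⟩ := card_Sp_dvd d ι hι hsa halt
  have hdN' : d = k * N := hdN
  have e1 : Nat.card ↥(Cfsg.Geo.subalgebraNormalizer ι.range ⊓ Cfsg.spGL d F) *
      (Cfsg.Geo.subalgebraNormalizer ι.range).relIndex (Cfsg.spGL d F) =
        Nat.card (Cfsg.spGL d F) := by
    have := Subgroup.relIndex_mul_relIndex ⊥ (Cfsg.Geo.subalgebraNormalizer ι.range ⊓ Cfsg.spGL d F)
      (Cfsg.spGL d F) bot_le inf_le_right
    rw [Subgroup.relIndex_bot_left, Subgroup.relIndex_bot_left, Subgroup.inf_relIndex_right]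
      at this
    exact this
  have h3 : ((q ^ k) ^ (N ^ 2) * ∏ i ∈ Finset.range N, ((q ^ k) ^ (2 * (i + 1)) - 1)) * r ∣
      Nat.card (Cfsg.spGL d F) := by
    rw [← e1]
    exact Nat.mul_dvd_mul h1 hΩ
  rw [Cfsg.Agent.Lib.Helper8.card_spGL] at h3
  let f : ℕ → ℕ := fun j => q ^ (2 * j) - 1
  have hfpos : ∀ j, 1 ≤ j → 0 < f j := by
    intro j hj
    show 0 < q ^ (2 * j) - 1
    have : 2 ≤ q ^ (2 * j) := by
      calc 2 ≤ q := hq2
        _ = q ^ 1 := (pow_one q).symm
        _ ≤ q ^ (2 * j) := Nat.pow_le_pow_right hq1 (by omega)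
    omega
  have hPH : ∏ i ∈ Finset.range N, ((q ^ k) ^ (2 * (i + 1)) - 1) =
      ∏ i ∈ Finset.range N, f (k * (i + 1)) := by
    apply Finset.prod_congr rfl
    intro i _
    show (q ^ k) ^ (2 * (i + 1)) - 1 = q ^ (2 * (k * (i + 1))) - 1
    rw [← pow_mul]
    congr 2
    ring
  have hPG : ∏ i ∈ Finset.range d, (q ^ (2 * (i + 1)) - 1) =
      (∏ i ∈ Finset.range N, f (k * (i + 1))) *
        ∏ i ∈ (Finset.range d).filter (fun i => ¬ k ∣ i + 1), f (i + 1) := by
    have h5 : ∏ i ∈ Finset.range d, (q ^ (2 * (i + 1)) - 1) = ∏ i ∈ Finset.range d, f (i + 1) :=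
      rfl
    rw [h5, ← Finset.prod_filter_mul_prod_filter_not (Finset.range d) (fun i => k ∣ i + 1)]
    congr 1
    symm
    apply Finset.prod_nbij' (fun i => k * (i + 1) - 1) (fun i => (i + 1) / k - 1)
    · intro i hi
      rw [Finset.mem_range] at hi
      rw [Finset.mem_filter, Finset.mem_range]
      have h6 : 1 ≤ k * (i + 1) := Nat.mul_pos hk1 (by omega)
      have h7 : k * (i + 1) ≤ k * N := Nat.mul_le_mul_left k (by omega)
      refine ⟨by rw [hdN']; omega, ?_⟩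
      have : k * (i + 1) - 1 + 1 = k * (i + 1) := by omega
      rw [this]
      exact dvd_mul_right _ _
    · intro i hi
      rw [Finset.mem_filter, Finset.mem_range] at hi
      rw [Finset.mem_range]
      obtain ⟨hi1, m, hm⟩ := hi
      rw [hm, Nat.mul_div_cancel_left m (by omega : 0 < k)]
      have hm1 : 1 ≤ m := by
        rcases Nat.eq_zero_or_pos m with h | h
        · rw [h, mul_zero] at hm; omega
        · exact h
      have : k * m ≤ k * N := by rw [← hm, ← hdN']; omega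
      have : m ≤ N := Nat.le_of_mul_le_mul_left this (by omega)
      omega
    · intro i _
      have h6 : 1 ≤ k * (i + 1) := Nat.mul_pos hk1 (by omega)
      have : k * (i + 1) - 1 + 1 = k * (i + 1) := by omega
      rw [this, Nat.mul_div_cancel_left (i + 1) (by omega : 0 < k)]
      omega
    · intro i hi
      rw [Finset.mem_filter, Finset.mem_range] at hi
      obtain ⟨_, m, hm⟩ := hi
      rw [hm, Nat.mul_div_cancel_left m (by omega : 0 < k)]
      have hm1 : 1 ≤ m := by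
        rcases Nat.eq_zero_or_pos m with h | h
        · rw [h, mul_zero] at hm; omega
        · exact h
      have : m - 1 + 1 = m := by omega
      rw [this, ← hm]
      omega
    · intro i _
      have h6 : 1 ≤ k * (i + 1) := Nat.mul_pos hk1 (by omega)
      have : k * (i + 1) - 1 + 1 = k * (i + 1) := by omega
      rw [this]
  rw [hPH, hPG] at h3
  set PH := ∏ i ∈ Finset.range N, f (k * (i + 1)) with hPHdef
  set PR := ∏ i ∈ (Finset.range d).filter (fun i => ¬ k ∣ i + 1), f (i + 1) with hPRdef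
  have hPHpos : 0 < PH := by
    rw [hPHdef]
    apply Finset.prod_pos
    intro i _
    exact hfpos _ (Nat.mul_pos hk1 (by omega))
  have h4 : PH * ((q ^ k) ^ (N ^ 2) * r) ∣ PH * (q ^ d ^ 2 * PR) := by
    have e2 : PH * ((q ^ k) ^ (N ^ 2) * r) = (q ^ k) ^ (N ^ 2) * PH * r := by ring
    have e3 : PH * (q ^ d ^ 2 * PR) = q ^ d ^ 2 * (PH * PR) := by ring
    rw [e2, e3]
    exact h3
  have h5 : (q ^ k) ^ (N ^ 2) * r ∣ q ^ d ^ 2 * PR := (Nat.mul_dvd_mul_iff_left hPHpos).1 h4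
  have h6 : r ∣ q ^ d ^ 2 * PR := dvd_trans (dvd_mul_left r _) h5
  rcases (Nat.Prime.dvd_mul hr).1 h6 with h | h
  · exact Or.inl (hr.dvd_of_dvd_pow h)
  · right
    rw [hPRdef, Prime.dvd_finsetProd_iff (Nat.prime_iff.1 hr)] at h
    obtain ⟨i, hi, hri⟩ := h
    rw [Finset.mem_filter, Finset.mem_range] at hi
    exact ⟨i + 1, by omega, by omega, hi.2, hri⟩

end embedded

end Cfsg.Agent.Lib.Helper8.SpExt
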