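import Mathlib
import Cfsg.Agent.Lib.Helper8.SpExtIndex
import Cfsg.Agent.Lib.Helper8.SpExtElts

/-!
# Extension field subgroups of `Sp_{2d}(q)`: some element of prime order fixes no point
-/

set_option autoImplicit false
set_option linter.style.haveILetI false
set_option linter.unusedSectionVars false

namespace Cfsg.Agent.Lib.Helper8.SpExt

open Matrix Module
open Cfsg.Agent.Lib.Helper99

section transv

variable {F : Type*} [Field F] (d : ℕ)

local notation "V" => (Fin d ⊕ Fin d → F)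
local notation "Mat" => Matrix (Fin d ⊕ Fin d) (Fin d ⊕ Fin d) F

/-- a transvection of order `p` -/
theorem exists_transv (hd : 1 ≤ d) (p : ℕ) [Fact p.Prime] [CharP F p] :
    ∃ a : V, a ≠ 0 ∧ stv d a 1 ^ p = 1 ∧
      (∀ z : F, ((stv d a 1 : GL (Fin d ⊕ Fin d) F) : Mat) ≠ z • (1 : Mat)) := by
  classical
  obtain ⟨a, ha⟩ : ∃ a : V, a = Pi.single (Sum.inl ⟨0, hd⟩) 1 := ⟨_, rfl⟩
  have ha0 : a ≠ 0 := by
    intro h0
    have := congrFun h0 (Sum.inl ⟨0, hd⟩)
    rw [ha] at this
    simp at this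
  have haa : Cfsg.sympForm d F a a = 0 := Helper13.sympForm_self d a
  set x : GL (Fin d ⊕ Fin d) F := stv d a 1 with hxdef
  have hxv : ∀ u, (x : Mat) *ᵥ u = u + Cfsg.sympForm d F u a • a := by
    intro u
    rw [hxdef, stv_mulVec, one_mul]
  have hxn : ∀ (n : ℕ) u, ((x : Mat) ^ n) *ᵥ u = u + ((n : F) * Cfsg.sympForm d F u a) • a := by
    intro n
    induction n with
    | zero => intro u; simp
    | succ n ih =>
      intro u
      rw [pow_succ', ← Matrix.mulVec_mulVec, ih, hxv, Helper13.sympForm_add_left,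
        Helper13.sympForm_smul_left, haa, mul_zero, add_zero]
      push_cast
      module
  obtain ⟨u₀, hu₀⟩ : ∃ u₀ : V, Cfsg.sympForm d F u₀ a ≠ 0 := by
    by_contra hcon
    push Not at hcon
    apply ha0
    apply (sympB_nondegenerate d).2 a
    intro u
    rw [sympB_apply]
    exact hcon u
  refine ⟨a, ha0, ?_, ?_⟩
  · apply Units.ext
    rw [Units.val_pow_eq_pow_val, Units.val_one, Matrix.ext_iff_mulVec]
    intro v
    rw [hxn, CharP.cast_eq_zero F p, zero_mul, zero_smul, add_zero, Matrix.one_mulVec]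
  · intro z hz
    have h1 := hxv a
    rw [hz, Matrix.smul_mulVec, Matrix.one_mulVec, haa, zero_smul, add_zero] at h1
    have hz1 : z = 1 := by
      have h3 : (z - 1) • a = 0 := by rw [sub_smul, h1, one_smul, sub_self]
      rcases smul_eq_zero.1 h3 with h | h
      · exact sub_eq_zero.1 h
      · exact absurd h ha0
    have h4 := hxv u₀
    rw [hz, hz1, one_smul, Matrix.one_mulVec] at h4
    have h5 : Cfsg.sympForm d F u₀ a • a = 0 := by
      have := h4.symm
      rwa [add_eq_left] at this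
    rcases smul_eq_zero.1 h5 with h | h
    · exact hu₀ h
    · exact ha0 h

end transv

section embedded

variable {F : Type*} [Field F] [Fintype F] (d : ℕ) {𝕂 : Type*} [Field 𝕂] [Algebra F 𝕂]
  [Finite 𝕂] (ι : 𝕂 →ₐ[F] Matrix (Fin d ⊕ Fin d) (Fin d ⊕ Fin d) F)
  (hι : Function.Injective ι)

local notation "V" => (Fin d ⊕ Fin d → F)
local notation "Mat" => Matrix (Fin d ⊕ Fin d) (Fin d ⊕ Fin d) F

include hι

/-- if all elements of order `r` fix a point, then `r = 2`, `d = 2`, `k = 2` and `q` is odd -/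
theorem forward (hd : 2 ≤ d) (p : ℕ) [Fact p.Prime] [CharP F p] (hk : (finrank F 𝕂).Prime)
    (hsa : ∀ (k : 𝕂) (u v : V), Cfsg.sympForm d F (ι k *ᵥ u) v = Cfsg.sympForm d F u (ι k *ᵥ v))
    (halt : ∀ (k : 𝕂) (v : V), Cfsg.sympForm d F (ι k *ᵥ v) v = 0) (r : ℕ) [Fact r.Prime]
    (hΩ : r ∣ (Cfsg.Geo.subalgebraNormalizer ι.range).relIndex (Cfsg.spGL d F))
    (hall : ∀ x ∈ Cfsg.spGL d F,
      (∃ z : F, ((x ^ r : GL (Fin d ⊕ Fin d) F) : Mat) = z • (1 : Mat)) →
      (∀ z : F, (x : Mat) ≠ z • (1 : Mat)) →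
      ∃ g ∈ Cfsg.spGL d F, g⁻¹ * x * g ∈ Cfsg.Geo.subalgebraNormalizer ι.range) :
    r = 2 ∧ d = 2 ∧ finrank F 𝕂 = 2 ∧ Odd (Fintype.card F) := by
  classical
  have hrp : r.Prime := Fact.out
  have hpp : p.Prime := Fact.out
  have hd1 : 1 ≤ d := by omega
  obtain ⟨k, hkdef⟩ : ∃ k, k = finrank F 𝕂 := ⟨_, rfl⟩
  obtain ⟨N, hdN, _⟩ := card_Sp_dvd d ι hι hsa halt
  rw [← hkdef] at hdN hk
  have hN1 : 1 ≤ N := by
    rcases Nat.eq_zero_or_pos N with h | h
    · subst h; omega
    · exact h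
  have hkd : k ≤ d := by rw [hdN]; exact Nat.le_mul_of_pos_right k hN1
  have hk2 : 2 ≤ k := hk.two_le
  -- the key consequence of a fixed point
  have key : ∀ (x : GL (Fin d ⊕ Fin d) F) (j : ℕ) (W U : Submodule F V), x ∈ Cfsg.spGL d F →
      x ^ r = 1 → (∀ z : F, (x : Mat) ≠ z • (1 : Mat)) → FixData d j x W U →
      (4 * j < 2 * d ∨ r ≠ k) → k ∣ j := by
    intro x j W U hx hxr hxns hdata hc
    obtain ⟨g, hg, hgx⟩ := hall x hx ⟨1, by rw [hxr, one_smul]; rfl⟩ hxns
    have hdata' := hdata.conj g hg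
    rw [hkdef]
    apply dvd_of_fixData d ι hι hd1 (hkdef ▸ hk) hsa halt _ hgx j _ _ hdata'
    rcases hc with h | h
    · left; exact h
    · right
      refine ⟨r, hrp, hkdef ▸ h, ?_⟩
      have e : g⁻¹ * x * g = g⁻¹ * x * (g⁻¹)⁻¹ := by rw [inv_inv]
      rw [e, conj_pow, hxr, mul_one, mul_inv_cancel]
  obtain ⟨n, _, hn⟩ := FiniteField.card F p
  by_cases hrp' : r = p
  · -- transvections
    exfalso
    obtain ⟨a, ha0, hxp, hxns⟩ := exists_transv (F := F) d hd1 p
    rw [← hrp'] at hxp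
    obtain ⟨g, hg, hgx⟩ := hall (stv d a 1) (stv_mem_spGL d a 1)
      ⟨1, by rw [hxp, one_smul]; rfl⟩ hxns
    have hginv : g⁻¹ ∈ Cfsg.spGL d F := Subgroup.inv_mem _ hg
    have e : g⁻¹ * stv d a 1 * g =
        stv d (((g⁻¹ : GL (Fin d ⊕ Fin d) F) : Mat) *ᵥ a) 1 := by
      have := conj_stv d g⁻¹ hginv a 1
      rwa [inv_inv] at this
    rw [e] at hgx
    refine no_transvection d ι hι hd (hkdef ▸ hk2) _ ?_ 1 one_ne_zero hgx
    intro h0
    apply ha0
    have := mulVec_inv_mulVec d g a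
    rw [h0, Matrix.mulVec_zero] at this
    exact this.symm
  have hrq : ¬ r ∣ Fintype.card F := by
    intro h
    rw [hn] at h
    exact hrp' ((Nat.prime_dvd_prime_iff_eq hrp hpp).1 (hrp.dvd_of_dvd_pow h))
  by_cases hr2 : r = 2
  · have hp2 : p ≠ 2 := fun h => hrp' (by rw [hr2, h])
    have h2 : (2 : F) ≠ 0 := by
      intro h
      have h3 : ((2 : ℕ) : F) = 0 := by exact_mod_cast h
      rw [CharP.cast_eq_zero_iff F p 2] at h3
      exact hp2 ((Nat.prime_dvd_prime_iff_eq hpp Nat.prime_two).1 h3)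
    have hoddq : Odd (Fintype.card F) := by
      rw [hn]
      exact (hpp.odd_of_ne_two hp2).pow
    by_cases hd3 : 3 ≤ d
    · exfalso
      obtain ⟨x, hx, hx2, hxns, W, U, hdata⟩ := exists_involution (F := F) d h2 hd
      have h1 := key x 1 W U hx (by rw [hr2]; exact hx2) hxns hdata (Or.inl (by omega))
      have := Nat.le_of_dvd one_pos h1
      omega
    · have hd2 : d = 2 := by omega
      refine ⟨hr2, hd2, ?_, hoddq⟩
      rw [← hkdef]
      omega
  · exfalso
    by_cases hrk : r = k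
    · have hkodd : Odd k := hk.odd_of_ne_two (fun h => hr2 (by rw [hrk, h]))
      obtain ⟨j, hj⟩ := hkodd
      have hj1 : 1 ≤ j := by omega
      have hq1 : 1 ≤ Fintype.card F := Fintype.card_pos
      have hrj : r ∣ Fintype.card F ^ (2 * j) - 1 := by
        have hcop : Nat.Coprime (Fintype.card F) r :=
          (Nat.coprime_comm.1 ((Nat.Prime.coprime_iff_not_dvd hrp).2 hrq))
        have h1 := Nat.ModEq.pow_totient hcop
        rw [Nat.totient_prime hrp] at h1
        have h3 : r - 1 = 2 * j := by omega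
        rw [h3] at h1
        exact (Nat.modEq_iff_dvd' (Nat.one_le_pow _ _ hq1)).1 h1.symm
      obtain ⟨x, hx, hxr, hxns, W, U, hdata⟩ :=
        exists_semisimple (F := F) d p j hj1 (by omega) r hr2 hrj
      have h1 := key x j W U hx hxr hxns hdata (Or.inl (by omega))
      have := Nat.le_of_dvd (by omega) h1
      omega
    · rcases index_cases d ι hι hsa halt r hrp hΩ with h | ⟨j, hj1, hjd, hkj, hrj⟩
      · exact hrq h
      · obtain ⟨x, hx, hxr, hxns, W, U, hdata⟩ :=
          exists_semisimple (F := F) d p j hj1 hjd r hr2 hrj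
        apply hkj
        rw [← hkdef]
        exact key x j W U hx hxr hxns hdata (Or.inr hrk)

end embedded

end Cfsg.Agent.Lib.Helper8.SpExt
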