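import Mathlib
import Cfsg.Agent.Lib.Helper8.GUSpInvol
import Cfsg.Agent.Lib.Helper8.LagPairs

/-!
# Elements with scalar square of `Sp_4(q)` lie in a subgroup of type `Sp_2(q^2).2`
-/

set_option autoImplicit false

namespace Cfsg.Agent.Lib.Helper8.SpExt

open Matrix Module
open Cfsg.Agent.Lib.Helper99 Cfsg.Agent.Lib.Helper94 Cfsg.Agent.Lib.Helper8.GUSp

universe u v

section abstractA

variable {F : Type v} [Field F] {V : Type u} [AddCommGroup V] [Module F V]

/-- a self-adjoint square root of the scalar `ζ` -/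
structure IsA (ω : LinearMap.BilinForm F V) (ζ : F) (A : V →ₗ[F] V) : Prop where
  sq : ∀ v, A (A v) = ζ • v
  sa : ∀ u v, ω (A u) v = ω u (A v)

theorem fe_of_ef (ω : LinearMap.BilinForm F V) (halt : ω.IsAlt) {N : ℕ} (e f : Fin N → V)
    (hef : ∀ i k, ω (e i) (f k) = if i = k then 1 else 0) :
    ∀ i k, ω (f i) (e k) = if i = k then -1 else 0 := by
  intro i k
  rw [← halt.neg_eq, hef]
  by_cases h : i = k
  · rw [if_pos h, if_pos h.symm]
  · rw [if_neg h, if_neg (Ne.symm h), neg_zero]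

/-- the structure attached to a symplectic family of size two -/
theorem exists_A_of_family [FiniteDimensional F V] (ω : LinearMap.BilinForm F V) (halt : ω.IsAlt)
    (ζ : F) (hfr : finrank F V = 2 * 2) (e f : Fin 2 → V)
    (hee : ∀ i k, ω (e i) (e k) = 0) (hff : ∀ i k, ω (f i) (f k) = 0)
    (hef : ∀ i k, ω (e i) (f k) = if i = k then 1 else 0) :
    ∃ A : V →ₗ[F] V, IsA ω ζ A ∧ A (e 0) = e 1 ∧ A (e 1) = ζ • e 0 ∧ A (f 0) = ζ • f 1 ∧
      A (f 1) = f 0 ∧ ∃ b : Basis (Fin 2 ⊕ Fin 2) F V, ∀ x, b x = Sum.elim e f x := by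
  classical
  have hfe := fe_of_ef ω halt e f hef
  obtain ⟨b, hb⟩ := exists_basis_of_family ω 2 hfr e f hee hff hef hfe
  let A : V →ₗ[F] V := b.constr F (Sum.elim ![e 1, ζ • e 0] ![ζ • f 1, f 0])
  have hbl : ∀ i, b (Sum.inl i) = e i := fun i => by rw [hb]; rfl
  have hbr : ∀ i, b (Sum.inr i) = f i := fun i => by rw [hb]; rfl
  have hA0 : A (e 0) = e 1 := by
    rw [← hbl 0]
    show b.constr F _ (b (Sum.inl 0)) = _
    rw [Basis.constr_basis]
    rfl
  have hA1 : A (e 1) = ζ • e 0 := by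
    rw [← hbl 1]
    show b.constr F _ (b (Sum.inl 1)) = _
    rw [Basis.constr_basis]
    rfl
  have hA2 : A (f 0) = ζ • f 1 := by
    rw [← hbr 0]
    show b.constr F _ (b (Sum.inr 0)) = _
    rw [Basis.constr_basis]
    rfl
  have hA3 : A (f 1) = f 0 := by
    rw [← hbr 1]
    show b.constr F _ (b (Sum.inr 1)) = _
    rw [Basis.constr_basis]
    rfl
  have h01 : (0 : Fin 2) ≠ 1 := by decide
  have h10 : (1 : Fin 2) ≠ 0 := by decide
  refine ⟨A, ⟨?_, ?_⟩, hA0, hA1, hA2, hA3, b, hb⟩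
  · have h1 : A ∘ₗ A = ζ • LinearMap.id := by
      apply b.ext
      refine Sum.forall.2 ⟨Fin.forall_fin_two.2 ⟨?_, ?_⟩, Fin.forall_fin_two.2 ⟨?_, ?_⟩⟩
      · rw [hbl, LinearMap.comp_apply, hA0, hA1, LinearMap.smul_apply, LinearMap.id_apply]
      · rw [hbl, LinearMap.comp_apply, hA1, map_smul, hA0, LinearMap.smul_apply,
          LinearMap.id_apply]
      · rw [hbr, LinearMap.comp_apply, hA2, map_smul, hA3, LinearMap.smul_apply,
          LinearMap.id_apply]
      · rw [hbr, LinearMap.comp_apply, hA3, hA2, LinearMap.smul_apply, LinearMap.id_apply]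
    intro v
    have := congrArg (fun T : V →ₗ[F] V => T v) h1
    simpa using this
  · have h1 : ω.compl₁₂ A LinearMap.id = ω.compl₁₂ LinearMap.id A := by
      apply LinearMap.ext_basis b b
      intro x y
      simp only [LinearMap.compl₁₂_apply, LinearMap.id_apply]
      revert x y
      refine Sum.forall.2 ⟨Fin.forall_fin_two.2 ⟨?_, ?_⟩, Fin.forall_fin_two.2 ⟨?_, ?_⟩⟩ <;>
      refine Sum.forall.2 ⟨Fin.forall_fin_two.2 ⟨?_, ?_⟩, Fin.forall_fin_two.2 ⟨?_, ?_⟩⟩ <;>
      simp only [hbl, hbr, hA0, hA1, hA2, hA3, map_smul, LinearMap.smul_apply, hee, hff, hef,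
        hfe, smul_eq_mul, h01, h10, if_true, if_false, mul_zero, mul_one, mul_neg]
    intro u v
    have := congrArg (fun B : LinearMap.BilinForm F V => B u v) h1
    simpa [LinearMap.compl₁₂_apply] using this

/-- normal form of a self-adjoint square root of a nonsquare -/
theorem exists_family_of_A (h2 : (2 : F) ≠ 0) (ω : LinearMap.BilinForm F V)
    (halt : ω.IsAlt) (hnd : ω.Nondegenerate) (ζ : F) (hζ : ¬ IsSquare ζ) (A : V →ₗ[F] V)
    (hA : IsA ω ζ A) [Nontrivial V] :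
    ∃ e f : Fin 2 → V, (∀ i k, ω (e i) (e k) = 0) ∧ (∀ i k, ω (f i) (f k) = 0) ∧
      (∀ i k, ω (e i) (f k) = if i = k then 1 else 0) ∧
      A (e 0) = e 1 ∧ A (e 1) = ζ • e 0 ∧ A (f 0) = ζ • f 1 ∧ A (f 1) = f 0 := by
  have hanti : ∀ x y, ω x y = - ω y x := fun x y => by rw [halt.neg_eq]
  have hζ0 : ζ ≠ 0 := ne_zero_of_not_isSquare hζ
  have hvA : ∀ v, ω v (A v) = 0 := by
    intro v
    have h1 : ω (A v) v = ω v (A v) := hA.sa v v
    have h3 : ω (A v) v = - ω v (A v) := hanti _ _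
    have h4 : 2 * ω v (A v) = 0 := by linear_combination h3 - h1
    exact (mul_eq_zero.1 h4).resolve_left h2
  have hAv : ∀ v, ω (A v) v = 0 := fun v => by rw [hA.sa, hvA]
  have hAA : ∀ u v, ω (A u) (A v) = ζ * ω u v := by
    intro u v
    rw [hA.sa, hA.sq, map_smul, smul_eq_mul]
  obtain ⟨v, hv⟩ := exists_ne (0 : V)
  obtain ⟨w₀, hw₀⟩ : ∃ w₀, ω v w₀ ≠ 0 := by
    by_contra hcon
    push Not at hcon
    exact hv (hnd.1 v hcon)
  set α := ω v w₀ with hα
  set β := ω v (A w₀) with hβ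
  have hΔ : ζ * (α * α) - β * β ≠ 0 := by
    intro h0
    apply hζ
    refine ⟨β / α, ?_⟩
    field_simp
    linear_combination h0
  set Δ := ζ * (α * α) - β * β with hΔdef
  obtain ⟨w, hw⟩ : ∃ w : V, w = (ζ * α / Δ) • w₀ + (-β / Δ) • A w₀ := ⟨_, rfl⟩
  have hAw : A w = (ζ * α / Δ) • A w₀ + (-β / Δ * ζ) • w₀ := by
    rw [hw, map_add, map_smul, map_smul, hA.sq, smul_smul]
  have hvw : ω v w = 1 := by
    rw [hw, map_add, map_smul, map_smul, smul_eq_mul, smul_eq_mul, ← hα, ← hβ]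
    field_simp
    rw [hΔdef]
    ring
  have hvAw : ω v (A w) = 0 := by
    rw [hAw, map_add, map_smul, map_smul, smul_eq_mul, smul_eq_mul, ← hα, ← hβ]
    field_simp
    ring
  refine ⟨![v, A v], ![w, ζ⁻¹ • A w], ?_, ?_, ?_, ?_, ?_, ?_, ?_⟩
  · refine Fin.forall_fin_two.2 ⟨Fin.forall_fin_two.2 ⟨?_, ?_⟩, Fin.forall_fin_two.2 ⟨?_, ?_⟩⟩
    · exact halt v
    · exact hvA v
    · exact hAv v
    · exact halt _
  · refine Fin.forall_fin_two.2 ⟨Fin.forall_fin_two.2 ⟨?_, ?_⟩, Fin.forall_fin_two.2 ⟨?_, ?_⟩⟩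
    · exact halt w
    · show ω w (ζ⁻¹ • A w) = 0
      rw [map_smul, hvA, smul_zero]
    · show ω (ζ⁻¹ • A w) w = 0
      rw [map_smul, LinearMap.smul_apply, hAv, smul_zero]
    · exact halt _
  · refine Fin.forall_fin_two.2 ⟨Fin.forall_fin_two.2 ⟨?_, ?_⟩, Fin.forall_fin_two.2 ⟨?_, ?_⟩⟩
    · show ω v w = _
      rw [hvw, if_pos rfl]
    · show ω v (ζ⁻¹ • A w) = _
      rw [map_smul, hvAw, smul_zero, if_neg (by decide)]
    · show ω (A v) w = _
      rw [hA.sa, hvAw, if_neg (by decide)]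
    · show ω (A v) (ζ⁻¹ • A w) = _
      rw [map_smul, hAA, hvw, if_pos rfl, smul_eq_mul, mul_one, inv_mul_cancel₀ hζ0]
  · rfl
  · show A (A v) = ζ • v
    exact hA.sq v
  · show A w = ζ • ζ⁻¹ • A w
    rw [smul_smul, mul_inv_cancel₀ hζ0, one_smul]
  · show A (ζ⁻¹ • A w) = w
    rw [map_smul, hA.sq, smul_smul, inv_mul_cancel₀ hζ0, one_smul]

/-- any two such structures are related by an isometry -/
theorem exists_conj_A [FiniteDimensional F V] (h2 : (2 : F) ≠ 0) (ω : LinearMap.BilinForm F V)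
    (halt : ω.IsAlt) (hnd : ω.Nondegenerate) (ζ : F) (hζ : ¬ IsSquare ζ)
    (hfr : finrank F V = 2 * 2) (A : V →ₗ[F] V) (hA : IsA ω ζ A) (A' : V →ₗ[F] V)
    (hA' : IsA ω ζ A') :
    ∃ T : V ≃ₗ[F] V, (∀ u v, ω (T u) (T v) = ω u v) ∧ ∀ v, T (A v) = A' (T v) := by
  classical
  have hpos : 0 < finrank F V := by omega
  have : Nontrivial V := Module.finrank_pos_iff.1 hpos
  obtain ⟨e, f, hee, hff, hef, h0, h1, h2', h3⟩ := exists_family_of_A h2 ω halt hnd ζ hζ A hA
  obtain ⟨e', f', hee', hff', hef', h0', h1', h2'', h3'⟩ :=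
    exists_family_of_A h2 ω halt hnd ζ hζ A' hA'
  have hfe := fe_of_ef ω halt e f hef
  have hfe' := fe_of_ef ω halt e' f' hef'
  obtain ⟨b, hb⟩ := exists_basis_of_family ω 2 hfr e f hee hff hef hfe
  obtain ⟨b', hb'⟩ := exists_basis_of_family ω 2 hfr e' f' hee' hff' hef' hfe'
  have hbl : ∀ i, b (Sum.inl i) = e i := fun i => by rw [hb]; rfl
  have hbr : ∀ i, b (Sum.inr i) = f i := fun i => by rw [hb]; rfl
  have hbl' : ∀ i, b' (Sum.inl i) = e' i := fun i => by rw [hb']; rfl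
  have hbr' : ∀ i, b' (Sum.inr i) = f' i := fun i => by rw [hb']; rfl
  let T : V ≃ₗ[F] V := b.equiv b' (Equiv.refl _)
  have hT : ∀ x, T (b x) = b' x := by
    intro x
    show b.equiv b' (Equiv.refl _) (b x) = b' x
    rw [Basis.equiv_apply]
    rfl
  have hTe : ∀ i, T (e i) = e' i := fun i => by rw [← hbl, hT, hbl']
  have hTf : ∀ i, T (f i) = f' i := fun i => by rw [← hbr, hT, hbr']
  refine ⟨T, ?_, ?_⟩
  · have h1 : ω.compl₁₂ (T : V →ₗ[F] V) (T : V →ₗ[F] V) = ω := by
      apply LinearMap.ext_basis b b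
      intro x y
      rw [LinearMap.compl₁₂_apply]
      show ω (T (b x)) (T (b y)) = _
      rw [hT, hT]
      rcases x with i | i <;> rcases y with k | k
      · rw [hbl, hbl, hbl', hbl', hee, hee']
      · rw [hbl, hbr, hbl', hbr', hef, hef']
      · rw [hbr, hbl, hbr', hbl', hfe, hfe']
      · rw [hbr, hbr, hbr', hbr', hff, hff']
    intro u v
    have := congrArg (fun B : LinearMap.BilinForm F V => B u v) h1
    simpa [LinearMap.compl₁₂_apply] using this
  · have h5 : (T : V →ₗ[F] V) ∘ₗ A = A' ∘ₗ (T : V →ₗ[F] V) := by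
      apply b.ext
      refine Sum.forall.2 ⟨Fin.forall_fin_two.2 ⟨?_, ?_⟩, Fin.forall_fin_two.2 ⟨?_, ?_⟩⟩
      · simp only [LinearMap.comp_apply, LinearEquiv.coe_coe]
        rw [hbl, h0, hTe, hTe, h0']
      · simp only [LinearMap.comp_apply, LinearEquiv.coe_coe]
        rw [hbl, h1, map_smul, hTe, hTe, h1']
      · simp only [LinearMap.comp_apply, LinearEquiv.coe_coe]
        rw [hbr, h2', map_smul, hTf, hTf, h2'']
      · simp only [LinearMap.comp_apply, LinearEquiv.coe_coe]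
        rw [hbr, h3, hTf, hTf, h3']
    intro v
    have := congrArg (fun S : V →ₗ[F] V => S v) h5
    simpa using this

end abstractA

section concreteA

variable {F : Type*} [Field F]

local notation "V" => (Fin 2 ⊕ Fin 2 → F)
local notation "Mat" => Matrix (Fin 2 ⊕ Fin 2) (Fin 2 ⊕ Fin 2) F

theorem finrank_V4 : finrank F V = 2 * 2 := by
  rw [Module.finrank_fintype_fun_eq_card, Fintype.card_sum, Fintype.card_fin]

/-- a generator of the quadratic field whose square is a nonsquare scalar -/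
theorem exists_gen (h2 : (2 : F) ≠ 0) (K : Subalgebra F Mat)
    (hK : Cfsg.Geo.IsFieldSubalgebra 2 K)
    (hKf : Cfsg.Geo.IsSelfAdjointFor (Cfsg.sympForm 2 F) K) :
    ∃ (κ : Mat) (ζ : F), κ ∈ K ∧ (∀ a : F, κ ≠ a • (1 : Mat)) ∧ ¬ IsSquare ζ ∧
      IsA (sympB 2) ζ (Matrix.toLin' κ) := by
  obtain ⟨κ₀, hκ₀K, hκ₀⟩ := exists_nonscalar K hK
  have hdec₀ := dec_of_nonscalar K hK κ₀ hκ₀K hκ₀
  obtain ⟨a, b, hab⟩ := hdec₀ (κ₀ * κ₀) (K.mul_mem hκ₀K hκ₀K)
  obtain ⟨t, ht⟩ : ∃ t : F, 2 * t = b := ⟨b / 2, mul_div_cancel₀ b h2⟩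
  subst ht
  have hκK : κ₀ - t • (1 : Mat) ∈ K := K.sub_mem hκ₀K (K.smul_mem K.one_mem t)
  have hκns : ∀ c : F, κ₀ - t • (1 : Mat) ≠ c • (1 : Mat) := by
    intro c hc
    apply hκ₀ (c + t)
    rw [add_smul, ← hc]
    abel
  have hκκ : (κ₀ - t • (1 : Mat)) * (κ₀ - t • (1 : Mat)) = (a + t * t) • (1 : Mat) := by
    simp only [Matrix.sub_mul, Matrix.mul_sub, Matrix.smul_mul, Matrix.mul_smul, Matrix.one_mul,
      Matrix.mul_one, hab, smul_smul]
    module
  have hirr := irr_of_nonscalar K hK _ hκK hκns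
  refine ⟨κ₀ - t • (1 : Mat), a + t * t, hκK, hκns, ?_, ⟨?_, ?_⟩⟩
  · rintro ⟨c, hc⟩
    obtain ⟨x, hx⟩ : ∃ x : V, x ≠ 0 := by
      refine ⟨Pi.single (Sum.inl 0) 1, ?_⟩
      intro h0
      have := congrFun h0 (Sum.inl 0)
      simp at this
    have hsqv : ∀ v : V, (κ₀ - t • (1 : Mat)) *ᵥ ((κ₀ - t • (1 : Mat)) *ᵥ v) = (c * c) • v := by
      intro v
      rw [Matrix.mulVec_mulVec, hκκ, hc, Matrix.smul_mulVec, Matrix.one_mulVec]
    by_cases hy : (κ₀ - t • (1 : Mat)) *ᵥ x + c • x = 0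
    · exact hirr x hx (-c) (by rw [neg_smul]; exact eq_neg_of_add_eq_zero_left hy)
    · apply hirr _ hy c
      rw [Matrix.mulVec_add, Matrix.mulVec_smul, hsqv, smul_add, smul_smul, add_comm]
  · intro v
    rw [Matrix.toLin'_apply, Matrix.toLin'_apply, Matrix.mulVec_mulVec, hκκ, Matrix.smul_mulVec,
      Matrix.one_mulVec]
  · intro u v
    rw [Matrix.toLin'_apply, Matrix.toLin'_apply, sympB_apply, sympB_apply]
    exact hKf _ hκK u v

/-- an element semicommuting with some structure has a conjugate in the normaliser -/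
theorem conj_into_normalizer_A (h2 : (2 : F) ≠ 0) (K : Subalgebra F Mat)
    (hK : Cfsg.Geo.IsFieldSubalgebra 2 K) (κ : Mat) (ζ : F) (hζ : ¬ IsSquare ζ)
    (hκA : IsA (sympB 2) ζ (Matrix.toLin' κ)) (hκK : κ ∈ K)
    (hκns : ∀ a : F, κ ≠ a • (1 : Mat))
    (x : GL (Fin 2 ⊕ Fin 2) F) (A : V →ₗ[F] V) (hA : IsA (sympB 2) ζ A) (ε : F)
    (hx : ∀ v, (x : Mat) *ᵥ (A v) = ε • A ((x : Mat) *ᵥ v)) :
    ∃ g ∈ Cfsg.spGL 2 F, g⁻¹ * x * g ∈ Cfsg.Geo.subalgebraNormalizer K := by
  have hdec := dec_of_nonscalar K hK κ hκK hκns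
  obtain ⟨T, hTω, hTJ⟩ := exists_conj_A h2 (sympB (F := F) 2) (sympB_isAlt 2)
    (sympB_nondegenerate 2) ζ hζ finrank_V4 (Matrix.toLin' κ) hκA A hA
  refine ⟨glOfEquiv 2 T, glOfEquiv_mem_spGL 2 T hTω, ?_⟩
  have hTJ' : ∀ w, T.symm (A w) = κ *ᵥ (T.symm w) := by
    intro w
    apply T.injective
    rw [LinearEquiv.apply_symm_apply, ← Matrix.toLin'_apply, hTJ, LinearEquiv.apply_symm_apply]
  apply mem_normalizer_of_conj K κ hκK hκns hdec _ 0 ε
  rw [zero_smul, zero_add]
  have hsemi : (((glOfEquiv 2 T)⁻¹ * x * glOfEquiv 2 T : GL (Fin 2 ⊕ Fin 2) F) : Mat) * κ =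
      ε • (κ * (((glOfEquiv 2 T)⁻¹ * x * glOfEquiv 2 T : GL (Fin 2 ⊕ Fin 2) F) : Mat)) := by
    rw [Matrix.ext_iff_mulVec]
    intro v
    rw [Matrix.smul_mulVec, ← Matrix.mulVec_mulVec, ← Matrix.mulVec_mulVec, Units.val_mul,
      Units.val_mul, ← Matrix.mulVec_mulVec, ← Matrix.mulVec_mulVec, ← Matrix.mulVec_mulVec,
      ← Matrix.mulVec_mulVec, glOfEquiv_mulVec, glOfEquiv_mulVec, glOfEquiv_inv_mulVec,
      glOfEquiv_inv_mulVec, ← Matrix.toLin'_apply κ v, hTJ, hx, map_smul, hTJ']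
  set y : GL (Fin 2 ⊕ Fin 2) F := (glOfEquiv 2 T)⁻¹ * x * glOfEquiv 2 T with hy
  rw [hsemi, Matrix.smul_mul, Matrix.mul_assoc, GL_mul_inv, Matrix.mul_one]

/-- elements of `Sp_4` with scalar square have a conjugate in the normaliser -/
theorem invol_case_A [Fintype F] (hcard : Fintype.card F % 2 = 1) (h2 : (2 : F) ≠ 0)
    (K : Subalgebra F Mat) (hK : Cfsg.Geo.IsFieldSubalgebra 2 K)
    (hKf : Cfsg.Geo.IsSelfAdjointFor (Cfsg.sympForm 2 F) K)
    (x : GL (Fin 2 ⊕ Fin 2) F) (hx : x ∈ Cfsg.spGL 2 F) (z : F)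
    (hxz : (x : Mat) * (x : Mat) = z • (1 : Mat)) :
    ∃ g ∈ Cfsg.spGL 2 F, g⁻¹ * x * g ∈ Cfsg.Geo.subalgebraNormalizer K := by
  classical
  obtain ⟨κ, ζ, hκK, hκns, hζ, hκA⟩ := exists_gen h2 K hK hKf
  have hζ0 : ζ ≠ 0 := ne_zero_of_not_isSquare hζ
  have hxp := (mem_spGL_iff 2 x).1 hx
  set X : V →ₗ[F] V := Matrix.toLin' (x : Mat) with hXdef
  have hXv : ∀ v, X v = (x : Mat) *ᵥ v := fun v => Matrix.toLin'_apply _ _
  have hXω : ∀ u v, sympB 2 (X u) (X v) = sympB 2 u v := by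
    intro u v
    rw [hXv, hXv, sympB_apply, sympB_apply]
    exact hxp u v
  have hXX : ∀ v, X (X v) = z • v := by
    intro v
    rw [hXv, hXv, Matrix.mulVec_mulVec, hxz, Matrix.smul_mulVec, Matrix.one_mulVec]
  have halt := sympB_isAlt (F := F) 2
  have hnd := sympB_nondegenerate (F := F) 2
  have hanti : ∀ a b : V, sympB 2 a b = - sympB 2 b a := fun a b => by
    rw [LinearMap.IsAlt.neg halt]
  have h01 : (0 : Fin 2) ≠ 1 := by decide
  have h10 : (1 : Fin 2) ≠ 0 := by decide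
  -- z² = 1
  have hzz : z * z = 1 := by
    obtain ⟨u, v, huv⟩ : ∃ u v : V, sympB 2 u v ≠ 0 := by
      by_contra hcon
      push Not at hcon
      have h1 : (Pi.single (Sum.inl 0) 1 : V) = 0 := hnd.1 _ (fun v => hcon _ v)
      have := congrFun h1 (Sum.inl 0)
      simp at this
    have h1 := hXω (X u) (X v)
    rw [hXX, hXX, hXω, map_smul, map_smul, LinearMap.smul_apply, smul_eq_mul, smul_eq_mul] at h1
    have h3 : (z * z - 1) * sympB 2 u v = 0 := by linear_combination h1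
    exact sub_eq_zero.1 ((mul_eq_zero.1 h3).resolve_right huv)
  rcases mul_self_eq_one_iff.1 hzz with hz | hz
  · -- involution
    by_cases hsc : ∃ c : F, ∀ v, X v = c • v
    · obtain ⟨c, hc⟩ := hsc
      apply conj_into_normalizer_A h2 K hK κ ζ hζ hκA hκK hκns x (Matrix.toLin' κ) hκA 1
      intro v
      rw [one_smul, ← hXv, ← hXv, hc, hc, map_smul]
    have hXX1 : ∀ v, X (X v) = ((1 : F) * 1) • v := by
      intro v
      rw [hXX, hz, mul_one]
    have hc := eig_isCompl h2 X 1 one_ne_zero hXX1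
    have horth : ∀ a ∈ eigS X (1 : F), ∀ b ∈ eigS X (-1 : F), sympB 2 a b = 0 := by
      intro a ha b hb
      refine eig_orth (sympB 2) X hXω 1 (-1) ?_ a b ha hb
      intro h
      apply h2
      have : (2 : F) = 1 - 1 * -1 := by ring
      rw [this, h, sub_self]
    have hdec : ∀ u : V, ∃ a ∈ eigS X (1 : F), ∃ b ∈ eigS X (-1 : F), u = a + b := by
      intro u
      have hu : u ∈ eigS X (1 : F) ⊔ eigS X (-1 : F) := by
        rw [hc.sup_eq_top]; exact Submodule.mem_top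
      obtain ⟨a, ha, b, hb, hab⟩ := Submodule.mem_sup.1 hu
      exact ⟨a, ha, b, hb, hab.symm⟩
    obtain ⟨v, hv, hv0⟩ : ∃ v ∈ eigS X (1 : F), v ≠ 0 := by
      by_contra hcon
      push Not at hcon
      apply hsc
      refine ⟨-1, fun u => ?_⟩
      obtain ⟨a, ha, b, hb, rfl⟩ := hdec u
      rw [hcon a ha, zero_add]
      exact (mem_eigS X (-1) b).1 hb
    obtain ⟨v', hv', hv0'⟩ : ∃ v ∈ eigS X (-1 : F), v ≠ 0 := by
      by_contra hcon
      push Not at hcon
      apply hsc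
      refine ⟨1, fun u => ?_⟩
      obtain ⟨a, ha, b, hb, rfl⟩ := hdec u
      rw [hcon b hb, add_zero]
      exact (mem_eigS X 1 a).1 ha
    obtain ⟨w, hw, hvw⟩ : ∃ w ∈ eigS X (1 : F), sympB 2 v w = 1 := by
      obtain ⟨u, hu⟩ : ∃ u, sympB 2 v u ≠ 0 := by
        by_contra hcon
        push Not at hcon
        exact hv0 (hnd.1 v hcon)
      obtain ⟨a, ha, b, hb, rfl⟩ := hdec u
      rw [map_add, horth v hv b hb, add_zero] at hu
      refine ⟨(sympB 2 v a)⁻¹ • a, Submodule.smul_mem _ _ ha, ?_⟩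
      rw [map_smul, smul_eq_mul, inv_mul_cancel₀ hu]
    obtain ⟨w', hw', hvw'⟩ : ∃ w ∈ eigS X (-1 : F), sympB 2 v' w = 1 := by
      obtain ⟨u, hu⟩ : ∃ u, sympB 2 v' u ≠ 0 := by
        by_contra hcon
        push Not at hcon
        exact hv0' (hnd.1 v' hcon)
      obtain ⟨a, ha, b, hb, rfl⟩ := hdec u
      have h0 : sympB 2 v' a = 0 := by rw [hanti, horth a ha v' hv', neg_zero]
      rw [map_add, h0, zero_add] at hu
      refine ⟨(sympB 2 v' b)⁻¹ • b, Submodule.smul_mem _ _ hb, ?_⟩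
      rw [map_smul, smul_eq_mul, inv_mul_cancel₀ hu]
    have hee : ∀ i k, sympB 2 (![v, v'] i) (![v, v'] k) = 0 := by
      refine Fin.forall_fin_two.2 ⟨Fin.forall_fin_two.2 ⟨?_, ?_⟩, Fin.forall_fin_two.2 ⟨?_, ?_⟩⟩
      · exact halt v
      · exact horth v hv v' hv'
      · show sympB 2 v' v = 0
        rw [hanti, horth v hv v' hv', neg_zero]
      · exact halt v'
    have hff : ∀ i k, sympB 2 (![w, w'] i) (![w, w'] k) = 0 := by
      refine Fin.forall_fin_two.2 ⟨Fin.forall_fin_two.2 ⟨?_, ?_⟩, Fin.forall_fin_two.2 ⟨?_, ?_⟩⟩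
      · exact halt w
      · exact horth w hw w' hw'
      · show sympB 2 w' w = 0
        rw [hanti, horth w hw w' hw', neg_zero]
      · exact halt w'
    have hef : ∀ i k, sympB 2 (![v, v'] i) (![w, w'] k) = if i = k then 1 else 0 := by
      refine Fin.forall_fin_two.2 ⟨Fin.forall_fin_two.2 ⟨?_, ?_⟩, Fin.forall_fin_two.2 ⟨?_, ?_⟩⟩
      · show sympB 2 v w = _
        rw [hvw, if_pos rfl]
      · show sympB 2 v w' = _
        rw [horth v hv w' hw', if_neg h01]
      · show sympB 2 v' w = _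
        rw [hanti, horth w hw v' hv', neg_zero, if_neg h10]
      · show sympB 2 v' w' = _
        rw [hvw', if_pos rfl]
    obtain ⟨A, hA, hA0, hA1, hA2, hA3, b, hb⟩ :=
      exists_A_of_family (sympB (F := F) 2) halt ζ finrank_V4 ![v, v'] ![w, w'] hee hff hef
    have hA0' : A v = v' := hA0
    have hA1' : A v' = ζ • v := hA1
    have hA2' : A w = ζ • w' := hA2
    have hA3' : A w' = w := hA3
    have hbl0 : b (Sum.inl 0) = v := by rw [hb]; rfl
    have hbl1 : b (Sum.inl 1) = v' := by rw [hb]; rfl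
    have hbr0 : b (Sum.inr 0) = w := by rw [hb]; rfl
    have hbr1 : b (Sum.inr 1) = w' := by rw [hb]; rfl
    rw [mem_eigS] at hv hv' hw hw'
    have hanti' : X ∘ₗ A = (-1 : F) • (A ∘ₗ X) := by
      apply b.ext
      refine Sum.forall.2 ⟨Fin.forall_fin_two.2 ⟨?_, ?_⟩, Fin.forall_fin_two.2 ⟨?_, ?_⟩⟩
      · rw [hbl0, LinearMap.comp_apply, LinearMap.smul_apply, LinearMap.comp_apply, hA0', hv',
          hv, one_smul, hA0']
      · rw [hbl1, LinearMap.comp_apply, LinearMap.smul_apply, LinearMap.comp_apply, hA1',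
          map_smul, hv, hv', map_smul, hA1', one_smul, smul_smul, neg_one_mul, neg_neg, one_smul]
      · rw [hbr0, LinearMap.comp_apply, LinearMap.smul_apply, LinearMap.comp_apply, hA2',
          map_smul, hw', hw, one_smul, hA2', smul_comm]
      · rw [hbr1, LinearMap.comp_apply, LinearMap.smul_apply, LinearMap.comp_apply, hA3',
          hw, hw', map_smul, hA3', one_smul, smul_smul, neg_one_mul, neg_neg, one_smul]
    apply conj_into_normalizer_A h2 K hK κ ζ hζ hκA hκK hκns x A hA (-1)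
    intro u
    rw [← hXv, ← hXv]
    have := congrArg (fun T : V →ₗ[F] V => T u) hanti'
    simpa using this
  · -- square -1
    by_cases hsq : IsSquare (-1 : F)
    · obtain ⟨i, hi⟩ := hsq
      have hi0 : i ≠ 0 := by
        rintro rfl
        rw [mul_zero] at hi
        exact one_ne_zero (neg_eq_zero.1 hi)
      have hXXi : ∀ v, X (X v) = (i * i) • v := by
        intro v
        rw [hXX, hz, hi]
      have hc := eig_isCompl h2 X i hi0 hXXi
      have hne : i * i ≠ 1 := by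
        rw [← hi]
        intro h
        apply h2
        have : (2 : F) = 1 - -1 := by ring
        rw [this, h, sub_self]
      have hne' : -i * -i ≠ 1 := by rw [neg_mul_neg]; exact hne
      have hAi : ∀ u ∈ eigS X i, ∀ v ∈ eigS X i, Cfsg.sympForm 2 F u v = 0 := by
        intro u hu v hv
        rw [← sympB_apply]
        exact eig_orth (sympB 2) X hXω i i hne u v hu hv
      have hBi : ∀ u ∈ eigS X (-i), ∀ v ∈ eigS X (-i), Cfsg.sympForm 2 F u v = 0 := by
        intro u hu v hv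
        rw [← sympB_apply]
        exact eig_orth (sympB 2) X hXω (-i) (-i) hne' u v hu hv
      obtain ⟨g₀, hgA, hgB⟩ := exists_symp_of_lagPair 2 hc hAi hBi
      set G : Mat := (g₀ : Mat) with hG
      have hGω : ∀ u v, Cfsg.sympForm 2 F (G *ᵥ u) (G *ᵥ v) = Cfsg.sympForm 2 F u v :=
        Helper13.preserves_of_mem_symplectic 2 G g₀.2
      let e : Fin 2 → V := fun k => G *ᵥ (Pi.single (Sum.inr k) 1)
      let f : Fin 2 → V := fun k => G *ᵥ (Pi.single (Sum.inl k) 1)
      have heB : ∀ k, e k ∈ eigS X (-i) := by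
        intro k
        rw [← hgB]
        refine ⟨Pi.single (Sum.inr k) 1, ?_, Matrix.toLin'_apply _ _⟩
        exact Submodule.subset_span ⟨k, rfl⟩
      have hfA : ∀ k, f k ∈ eigS X i := by
        intro k
        rw [← hgA]
        refine ⟨Pi.single (Sum.inl k) 1, ?_, Matrix.toLin'_apply _ _⟩
        exact Submodule.subset_span ⟨k, rfl⟩
      have hee : ∀ j k, sympB 2 (e j) (e k) = 0 := by
        intro j k
        rw [sympB_apply]
        exact hBi _ (heB j) _ (heB k)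
      have hff : ∀ j k, sympB 2 (f j) (f k) = 0 := by
        intro j k
        rw [sympB_apply]
        exact hAi _ (hfA j) _ (hfA k)
      have hef : ∀ j k, sympB 2 (e j) (f k) = if j = k then 1 else 0 := by
        intro j k
        rw [sympB_apply]
        show Cfsg.sympForm 2 F (G *ᵥ _) (G *ᵥ _) = _
        rw [hGω, sympForm_single_inr_inl]
      obtain ⟨A, hA, hA0, hA1, hA2, hA3, b, hb⟩ :=
        exists_A_of_family (sympB (F := F) 2) halt ζ finrank_V4 e f hee hff hef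
      have hbl : ∀ k, b (Sum.inl k) = e k := fun k => by rw [hb]; rfl
      have hbr : ∀ k, b (Sum.inr k) = f k := fun k => by rw [hb]; rfl
      have hXe : ∀ k, X (e k) = (-i) • e k := fun k => (mem_eigS X (-i) _).1 (heB k)
      have hXf : ∀ k, X (f k) = i • f k := fun k => (mem_eigS X i _).1 (hfA k)
      have hcomm : X ∘ₗ A = (1 : F) • (A ∘ₗ X) := by
        apply b.ext
        refine Sum.forall.2 ⟨Fin.forall_fin_two.2 ⟨?_, ?_⟩, Fin.forall_fin_two.2 ⟨?_, ?_⟩⟩
        · rw [hbl, LinearMap.comp_apply, LinearMap.smul_apply, LinearMap.comp_apply, hA0, hXe,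
            hXe, map_smul, hA0, one_smul]
        · rw [hbl, LinearMap.comp_apply, LinearMap.smul_apply, LinearMap.comp_apply, hA1,
            map_smul, hXe, hXe, map_smul, hA1, one_smul, smul_comm]
        · rw [hbr, LinearMap.comp_apply, LinearMap.smul_apply, LinearMap.comp_apply, hA2,
            map_smul, hXf, hXf, map_smul, hA2, one_smul, smul_comm]
        · rw [hbr, LinearMap.comp_apply, LinearMap.smul_apply, LinearMap.comp_apply, hA3, hXf,
            hXf, map_smul, hA3, one_smul]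
      apply conj_into_normalizer_A h2 K hK κ ζ hζ hκA hκK hκns x A hA 1
      intro u
      rw [← hXv, ← hXv]
      have := congrArg (fun T : V →ₗ[F] V => T u) hcomm
      simpa using this
    · -- the element itself is a skew-adjoint structure
      have hXXm : ∀ v, X (X v) = (-1 : F) • v := by
        intro v
        rw [hXX, hz]
      have hJ : IsJ (sympB 2) (-1 : F) X := by
        refine ⟨hXXm, fun u v => ?_⟩
        have h3 : v = X (X (-v)) := by rw [hXX, hz, smul_neg, neg_smul, one_smul, neg_neg]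
        nth_rewrite 1 [h3]
        rw [hXω, map_neg, map_neg]
      obtain ⟨e, hee, heJ⟩ := exists_frame hcard h2 (-1 : F) hsq 2 V (sympB 2) X halt hnd hJ
        finrank_V4
      have hff : ∀ j k, sympB 2 (X (e j)) (X (e k)) = 0 := by
        intro j k
        rw [hXω, hee]
      obtain ⟨A, hA, hA0, hA1, hA2, hA3, b, hb⟩ :=
        exists_A_of_family (sympB (F := F) 2) halt (-1 : F) finrank_V4 e (fun k => X (e k))
          hee hff heJ
      have hA2' : A (X (e 0)) = (-1 : F) • X (e 1) := hA2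
      have hA3' : A (X (e 1)) = X (e 0) := hA3
      have hbl : ∀ k, b (Sum.inl k) = e k := fun k => by rw [hb]; rfl
      have hbr : ∀ k, b (Sum.inr k) = X (e k) := fun k => by rw [hb]; rfl
      have hanti' : X ∘ₗ A = (-1 : F) • (A ∘ₗ X) := by
        apply b.ext
        refine Sum.forall.2 ⟨Fin.forall_fin_two.2 ⟨?_, ?_⟩, Fin.forall_fin_two.2 ⟨?_, ?_⟩⟩
        · rw [hbl, LinearMap.comp_apply, LinearMap.smul_apply, LinearMap.comp_apply, hA0, hA2',
            smul_smul]
          simp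
        · rw [hbl, LinearMap.comp_apply, LinearMap.smul_apply, LinearMap.comp_apply, hA1, hA3',
            map_smul]
        · rw [hbr, LinearMap.comp_apply, LinearMap.smul_apply, LinearMap.comp_apply, hA2',
            map_smul, hXXm, hXXm, map_smul, hA0, smul_smul]
        · rw [hbr, LinearMap.comp_apply, LinearMap.smul_apply, LinearMap.comp_apply, hA3',
            hXXm, hXXm, map_smul, hA1, smul_smul, smul_smul]
          congr 1
          ring
      obtain ⟨s, hs⟩ := exists_sq_eq_mul h2 (-1) ζ hsq hζ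
      have hA' : IsA (sympB 2) ζ (s • A) := by
        refine ⟨fun v => ?_, fun u v => ?_⟩
        · rw [LinearMap.smul_apply, LinearMap.smul_apply, map_smul, hA.sq, smul_smul, smul_smul,
            hs]
          congr 1
          ring
        · rw [LinearMap.smul_apply, LinearMap.smul_apply, map_smul, map_smul,
            LinearMap.smul_apply, hA.sa]
      apply conj_into_normalizer_A h2 K hK κ ζ hζ hκA hκK hκns x (s • A) hA' (-1)
      intro u
      rw [← hXv, ← hXv, LinearMap.smul_apply, LinearMap.smul_apply, map_smul]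
      have := congrArg (fun T : V →ₗ[F] V => T u) hanti'
      simp only [LinearMap.comp_apply, LinearMap.smul_apply] at this
      rw [this, smul_comm]

end concreteA

end Cfsg.Agent.Lib.Helper8.SpExt
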