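import Mathlib
import Cfsg.Agent.Lib.Helper8.SpOrthF

set_option autoImplicit false

namespace Cfsg.Agent.Lib.Helper8

open Module QuadraticMap Cfsg.Agent.Lib.Helper43 Matrix

variable {F : Type*} [Field F] {m : ℕ}

/-- the linear automorphism of a matrix -/
noncomputable def glEquiv (g : GL (Fin m ⊕ Fin m) F) :
    (Fin m ⊕ Fin m → F) ≃ₗ[F] (Fin m ⊕ Fin m → F) :=
  { Matrix.toLin' (g : Matrix (Fin m ⊕ Fin m) (Fin m ⊕ Fin m) F) with
    invFun := fun v => ((g⁻¹ : GL (Fin m ⊕ Fin m) F) : Matrix (Fin m ⊕ Fin m) (Fin m ⊕ Fin m) F) *ᵥ v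
    left_inv := fun v => Cfsg.Agent.Lib.Helper99.inv_mulVec_mulVec m g v
    right_inv := fun v => Cfsg.Agent.Lib.Helper99.mulVec_inv_mulVec m g v }

theorem glEquiv_apply (g : GL (Fin m ⊕ Fin m) F) (v : Fin m ⊕ Fin m → F) :
    glEquiv g v = (g : Matrix (Fin m ⊕ Fin m) (Fin m ⊕ Fin m) F) *ᵥ v := rfl

theorem glEquiv_symm_apply (g : GL (Fin m ⊕ Fin m) F) (v : Fin m ⊕ Fin m → F) :
    (glEquiv g).symm v
      = ((g⁻¹ : GL (Fin m ⊕ Fin m) F) : Matrix (Fin m ⊕ Fin m) (Fin m ⊕ Fin m) F) *ᵥ v := rfl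

/-- the quadratic form `v ↦ Q(g⁻¹ v)` -/
noncomputable def conjForm (Q : QuadraticForm F (Fin m ⊕ Fin m → F)) (g : GL (Fin m ⊕ Fin m) F) :
    QuadraticForm F (Fin m ⊕ Fin m → F) :=
  Q.comp ((glEquiv g).symm : (Fin m ⊕ Fin m → F) →ₗ[F] (Fin m ⊕ Fin m → F))

theorem conjForm_apply (Q : QuadraticForm F (Fin m ⊕ Fin m → F)) (g : GL (Fin m ⊕ Fin m) F)
    (v : Fin m ⊕ Fin m → F) :
    conjForm Q g v
      = Q (((g⁻¹ : GL (Fin m ⊕ Fin m) F) : Matrix (Fin m ⊕ Fin m) (Fin m ⊕ Fin m) F) *ᵥ v) := rfl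

theorem polar_conjForm (Q : QuadraticForm F (Fin m ⊕ Fin m → F)) (g : GL (Fin m ⊕ Fin m) F)
    (hg : g ∈ Cfsg.spGL m F) (hpol : ∀ u v, polar (⇑Q) u v = Cfsg.sympForm m F u v)
    (u v : Fin m ⊕ Fin m → F) : polar (⇑(conjForm Q g)) u v = Cfsg.sympForm m F u v := by
  have h1 : polar (⇑(conjForm Q g)) u v
      = polar (⇑Q) (((g⁻¹ : GL (Fin m ⊕ Fin m) F) : Matrix _ _ F) *ᵥ u)
        (((g⁻¹ : GL (Fin m ⊕ Fin m) F) : Matrix _ _ F) *ᵥ v) := by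
    simp only [polar, conjForm_apply, Matrix.mulVec_add]
  rw [h1, hpol]
  exact (Cfsg.Agent.Lib.Helper99.mem_spGL_iff m _).1 ((Cfsg.spGL m F).inv_mem hg) u v

theorem card_zeros_conjForm (Q : QuadraticForm F (Fin m ⊕ Fin m → F)) (g : GL (Fin m ⊕ Fin m) F) :
    Nat.card {v : Fin m ⊕ Fin m → F // conjForm Q g v = 0}
      = Nat.card {v : Fin m ⊕ Fin m → F // Q v = 0} :=
  card_zeros_congr (⇑(conjForm Q g)) (⇑Q) (glEquiv g).symm (fun v => rfl)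

theorem conjForm_preserved (Q : QuadraticForm F (Fin m ⊕ Fin m → F))
    (g X : GL (Fin m ⊕ Fin m) F)
    (hY : ∀ v, Q (((g⁻¹ * X * g : GL (Fin m ⊕ Fin m) F) : Matrix _ _ F) *ᵥ v) = Q v)
    (v : Fin m ⊕ Fin m → F) :
    conjForm Q g ((X : Matrix (Fin m ⊕ Fin m) (Fin m ⊕ Fin m) F) *ᵥ v) = conjForm Q g v := by
  rw [conjForm_apply, conjForm_apply, Matrix.mulVec_mulVec, ← Units.val_mul]
  have : g⁻¹ * X = (g⁻¹ * X * g) * g⁻¹ := by group
  rw [this, Units.val_mul, ← Matrix.mulVec_mulVec, hY]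

/-- in characteristic two the polar form of the standard plus form is the symplectic form -/
theorem polar_plusForm_eq_sympForm (h2 : (2 : F) = 0) (u v : Fin m ⊕ Fin m → F) :
    polar (⇑(plusForm m F)) u v = Cfsg.sympForm m F u v := by
  rw [polar_plusForm, Cfsg.Agent.Lib.Helper99.sympForm_expand]
  apply Finset.sum_congr rfl
  intro i _
  linear_combination (u (Sum.inl i) * v (Sum.inr i)) * h2

/-- an isometry of a quadratic form whose polar form is the symplectic form is symplectic -/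
theorem mem_spGL_of_preserves (Q : QuadraticForm F (Fin m ⊕ Fin m → F))
    (hpol : ∀ u v, polar (⇑Q) u v = Cfsg.sympForm m F u v) (X : GL (Fin m ⊕ Fin m) F)
    (hX : ∀ v, Q ((X : Matrix (Fin m ⊕ Fin m) (Fin m ⊕ Fin m) F) *ᵥ v) = Q v) :
    X ∈ Cfsg.spGL m F := by
  rw [Cfsg.Agent.Lib.Helper99.mem_spGL_iff]
  intro u v
  rw [← hpol, ← hpol]
  simp only [polar, ← Matrix.mulVec_add, hX]

/-- a scalar symplectic matrix in characteristic two is the identity -/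
theorem eq_one_of_scalar_mem_spGL (h2 : (2 : F) = 0) (M : ℕ)
    (X : GL (Fin (M + 1) ⊕ Fin (M + 1)) F) (hX : X ∈ Cfsg.spGL (M + 1) F) (z : F)
    (hz : (X : Matrix (Fin (M + 1) ⊕ Fin (M + 1)) (Fin (M + 1) ⊕ Fin (M + 1)) F)
      = z • (1 : Matrix (Fin (M + 1) ⊕ Fin (M + 1)) (Fin (M + 1) ⊕ Fin (M + 1)) F)) : z = 1 := by
  have h1 := (Cfsg.Agent.Lib.Helper99.mem_spGL_iff (M + 1) X).1 hX
    (Pi.single (Sum.inr 0) 1) (Pi.single (Sum.inl 0) 1)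
  rw [hz, Matrix.smul_mulVec, Matrix.smul_mulVec, Matrix.one_mulVec, Matrix.one_mulVec] at h1
  have h3 : Cfsg.sympForm (M + 1) F
      (z • (Pi.single (Sum.inr 0) 1 : Fin (M + 1) ⊕ Fin (M + 1) → F))
      (z • (Pi.single (Sum.inl 0) 1 : Fin (M + 1) ⊕ Fin (M + 1) → F))
      = z * z * Cfsg.sympForm (M + 1) F (Pi.single (Sum.inr 0) 1) (Pi.single (Sum.inl 0) 1) := by
    rw [← Cfsg.Agent.Lib.Helper99.sympB_apply, ← Cfsg.Agent.Lib.Helper99.sympB_apply]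
    simp only [map_smul, LinearMap.smul_apply, smul_eq_mul]
    ring
  rw [h3, sympForm_basis_pair, mul_one] at h1
  exact eq_one_of_mul_self_char2 h2 z h1

end Cfsg.Agent.Lib.Helper8
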