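import Mathlib
import Cfsg.Prelude.Def_ClassicalGeometry
import Cfsg.Agent.Lib.Helper48.TiOdd
import Cfsg.Agent.Lib.Helper8.NdBak
import Cfsg.Agent.Lib.Helper13.Symp

/-!
# Backup of TI-D1 (S5955 hive): an element of order `r` with smallest possible fixed space

Same statement as `exists_smallfix_elt` in `tools/helper48/TiSkel.lean.txt`, in the namespace
`Cfsg.Agent.Lib.Helper8.TiD1Bak` (so that it cannot clash with the leaf of the hive).
-/

set_option autoImplicit false

namespace Cfsg.Agent.Lib.Helper8.TiD1Bak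

open Polynomial Module
open Cfsg.Agent.Lib.Helper2.BG Cfsg.Agent.Lib.Helper99 Cfsg.Agent.Lib.Helper48.Ti

section concrete

variable {F : Type*} [Field F]

/-- TI-D1 (backup): an element of order `r` with smallest possible fixed space -/
theorem exists_smallfix_elt [Fintype F] {p : ℕ} [Fact p.Prime] [CharP F p] (d : ℕ) (r : ℕ)
    [Fact r.Prime] (hr2 : r ≠ 2) (hrp : r ≠ p) (i c : ℕ)
    (hi : i = orderOf ((Fintype.card F : ℕ) : ZMod r))
    (hc : c = if Even i then i else 2 * i) (hcd : c ≤ 2 * d) :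
    ∃ x : ↥(Matrix.symplecticGroup (Fin d) F),
      ((x ^ r : ↥(Matrix.symplecticGroup (Fin d) F)) :
        Matrix (Fin d ⊕ Fin d) (Fin d ⊕ Fin d) F) = 1 ∧
      (∀ z : F, (x : Matrix (Fin d ⊕ Fin d) (Fin d ⊕ Fin d) F) ≠
        z • (1 : Matrix (Fin d ⊕ Fin d) (Fin d ⊕ Fin d) F)) ∧
      ∀ U : Submodule F (Fin d ⊕ Fin d → F),
        U.map (Matrix.toLin' (x : Matrix (Fin d ⊕ Fin d) (Fin d ⊕ Fin d) F)) ≤ U →
        (∀ u ∈ U, ∀ v ∈ U, Cfsg.sympForm d F u v = 0) →
        ∃ a j : ℕ, finrank F U = a + j * i ∧ 2 * a ≤ (2 * d) % c := by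
  classical
  have hrP : r.Prime := Fact.out
  have hi0 : 0 < i := by
    rw [hi]
    exact orderOf_card_pos hrp
  have hc0 : 0 < c := by
    rw [hc]
    split_ifs <;> omega
  have hd : 1 ≤ d := by omega
  have hfr : finrank F (Fin d ⊕ Fin d → F) = 2 * d :=
    Cfsg.Agent.Lib.Helper8.SpBlk.finrank_sympSpace d
  have hcc : Cfsg.Agent.Lib.Helper4.NdH.cOf (orderOf ((Fintype.card F : ℕ) : ZMod r)) = c := by
    rw [hc, hi]
    rfl
  obtain ⟨y, hyiso, hyr, hy1, hker⟩ := Cfsg.Agent.Lib.Helper8.NdBak.exists_isom_ss p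
    (sympB (F := F) d) (sympB_self d) (sympB_nd d) r hr2 hrp
    (by rw [hcc, hfr]; exact hcd)
  rw [hcc, hfr] at hker
  set M : Matrix (Fin d ⊕ Fin d) (Fin d ⊕ Fin d) F := LinearMap.toMatrix' y with hM
  have hMy : Matrix.toLin' M = y := Matrix.toLin'_toMatrix' y
  have hMmem : M ∈ Matrix.symplecticGroup (Fin d) F := by
    apply Cfsg.Agent.Lib.Helper13.mem_symplectic_of_preserves d M
    intro u v
    rw [← sympB_apply, ← sympB_apply, ← Matrix.toLin'_apply, ← Matrix.toLin'_apply, hMy]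
    exact hyiso u v
  have hMr : M ^ r = 1 := by
    apply Matrix.toLin'.injective
    rw [Matrix.toLin'_pow, hMy, Matrix.toLin'_one]
    exact hyr
  refine ⟨⟨M, hMmem⟩, ?_, ?_, ?_⟩
  · rw [SubmonoidClass.coe_pow]
    exact hMr
  · intro z hz
    have hz' : M = z • (1 : Matrix (Fin d ⊕ Fin d) (Fin d ⊕ Fin d) F) := hz
    have hzz : z * z = 1 := scalar_sq_eq_one d hd ⟨M, hMmem⟩ z hz'
    have hzr : z ^ r = 1 := by
      have h1 := hMr
      rw [hz', _root_.smul_pow, one_pow] at h1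
      have h2 := congrFun (congrFun h1 (Sum.inl ⟨0, hd⟩)) (Sum.inl ⟨0, hd⟩)
      simpa using h2
    obtain ⟨s, hs⟩ := hrP.odd_of_ne_two hr2
    have hz1 : z = 1 := by
      rw [hs, pow_succ, pow_mul, pow_two, hzz, one_pow, one_mul] at hzr
      exact hzr
    apply hy1
    rw [← hMy, hz', hz1, one_smul, Matrix.toLin'_one]
    rfl
  · intro U hUinv hUti
    have hrF : (r : F) ≠ 0 := natCast_ne_zero_of_ne_char hrp
    have hss : Module.End.IsSemisimple (y : Module.End F (Fin d ⊕ Fin d → F)) := by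
      have := isSemisimple_of_pow_eq d r hrF M 1 one_ne_zero (by rw [hMr, one_smul])
      rwa [hMy] at this
    have hkill : aeval (y : Module.End F (Fin d ⊕ Fin d → F))
        ((X - 1 : F[X]) * cyclotomic r F) = 0 := by
      rw [mul_comm, Polynomial.cyclotomic_prime_mul_X_sub_one, map_sub, map_pow, aeval_X, map_one,
        hyr, sub_self]
    have hcop : IsCoprime (X - 1 : F[X]) (cyclotomic r F) := isCoprime_X_sub_one_cyclotomic hrF
    have hdeg : AllIrrDeg (cyclotomic r F) i := by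
      rw [hi]
      exact allIrrDeg_cyclotomic hrp
    have hP0 : cyclotomic r F ≠ 0 := cyclotomic_ne_zero r F
    have hUf : Inv (y : Module.End F (Fin d ⊕ Fin d → F)) U := by
      intro v hv
      apply hUinv
      refine ⟨v, hv, ?_⟩
      show Matrix.toLin' M v = y v
      rw [hMy]
    have hU : TI (sympB (F := F) d) U := by
      intro u hu v hv
      rw [sympB_apply]
      exact hUti u hu v hv
    obtain ⟨a, j, h1, h2⟩ := nofix_dims (sympB_self d) (f := (y : Module.End F (Fin d ⊕ Fin d → F)))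
      hyiso hss hP0 hdeg hcop hkill (sympB_nd d) hUf hU
    refine ⟨a, j, h1, ?_⟩
    rw [← hker]
    exact h2

end concrete

end Cfsg.Agent.Lib.Helper8.TiD1Bak
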