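import Cfsg.Agent.Lib.Helper99.UnitaryND1
import Cfsg.Agent.Lib.Helper13.UParab1

/-!
# Pairs of complementary totally singular subspaces of a unitary space (for S5984)

Hyperbolic frames, dual families, and Witt maps between frames.
-/

set_option autoImplicit false
set_option linter.unusedSectionVars false
set_option linter.unusedVariables false

namespace Cfsg.Agent.Lib.Helper8.UPair

open Matrix Module Cfsg.Agent.Lib.Helper99

variable {F : Type*} [Field F] [Fintype F] {q n : ℕ}

local notation "hh" => Cfsg.hermForm n F q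

/-- a pair of complementary totally singular subspaces of dimension `m` -/
structure IsPolar (q m : ℕ) (U W : Submodule F (Fin n → F)) : Prop where
  compl : IsCompl U W
  tsU : ∀ u ∈ U, ∀ v ∈ U, Cfsg.hermForm n F q u v = 0
  tsW : ∀ u ∈ W, ∀ v ∈ W, Cfsg.hermForm n F q u v = 0
  rkU : finrank F U = m
  rkW : finrank F W = m

theorem IsPolar.dim {m : ℕ} {U W : Submodule F (Fin n → F)} (h : IsPolar q m U W) : n = 2 * m := by
  have := Submodule.finrank_add_eq_of_isCompl h.compl
  rw [h.rkU, h.rkW, Module.finrank_fin_fun] at this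
  omega

theorem IsPolar.symm {m : ℕ} {U W : Submodule F (Fin n → F)} (h : IsPolar q m U W) :
    IsPolar q m W U :=
  ⟨h.compl.symm, h.tsW, h.tsU, h.rkW, h.rkU⟩

/-- a vector of `W` orthogonal to `U` vanishes -/
theorem IsPolar.eq_zero_of_orth (hF : Fintype.card F = q ^ 2) {m : ℕ}
    {U W : Submodule F (Fin n → F)} (h : IsPolar q m U W) {x : Fin n → F} (hx : x ∈ W)
    (hxU : ∀ u ∈ U, hh x u = 0) : x = 0 := by
  apply hermForm_nd_left hF
  intro v
  have hv : v ∈ U ⊔ W := by rw [h.compl.sup_eq_top]; exact Submodule.mem_top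
  obtain ⟨a, ha, b, hb, rfl⟩ := Submodule.mem_sup.mp hv
  rw [Helper13.hermForm_add_right hF, hxU a ha, h.tsW x hx b hb, add_zero]

/-- a hyperbolic frame -/
structure IsFrame (q : ℕ) {ι : Type*} [DecidableEq ι] (e f : ι → (Fin n → F)) : Prop where
  ee : ∀ i j, Cfsg.hermForm n F q (e i) (e j) = 0
  ff : ∀ i j, Cfsg.hermForm n F q (f i) (f j) = 0
  ef : ∀ i j, Cfsg.hermForm n F q (e i) (f j) = if i = j then 1 else 0

section frame
variable {ι : Type*} [DecidableEq ι] {e f : ι → (Fin n → F)}

theorem IsFrame.fe (hF : Fintype.card F = q ^ 2) (h : IsFrame q e f) (i j : ι) :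
    hh (f i) (e j) = if i = j then 1 else 0 := by
  have hq := q_ge_two hF
  rw [← Helper13.hermForm_conj hF n (e j) (f i), h.ef]
  by_cases hij : i = j
  · rw [if_pos hij, if_pos hij.symm, one_pow]
  · rw [if_neg hij, if_neg (fun h => hij h.symm), zero_pow (by omega)]

theorem IsFrame.symm (hF : Fintype.card F = q ^ 2) (h : IsFrame q e f) : IsFrame q f e :=
  ⟨h.ff, h.ee, h.fe hF⟩

theorem IsFrame.li_sum [Fintype ι] (hF : Fintype.card F = q ^ 2) (h : IsFrame q e f) :
    LinearIndependent F (Sum.elim e f) := by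
  classical
  apply Helper13.linearIndependent_of_dual hF (Sum.elim e f) (Sum.elim f e)
  intro l i
  rcases l with l | l <;> rcases i with i | i
  · simp only [Sum.elim_inl, Sum.inl.injEq]
    exact h.fe hF l i
  · simp only [Sum.elim_inl, Sum.elim_inr, reduceCtorEq, if_false]
    exact h.ff l i
  · simp only [Sum.elim_inl, Sum.elim_inr, reduceCtorEq, if_false]
    exact h.ee l i
  · simp only [Sum.elim_inr, Sum.inr.injEq]
    exact h.ef l i

theorem IsFrame.li_left [Fintype ι] (hF : Fintype.card F = q ^ 2) (h : IsFrame q e f) :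
    LinearIndependent F e :=
  Helper13.linearIndependent_of_dual hF e f (fun l i => h.fe hF l i)

theorem IsFrame.li_right [Fintype ι] (hF : Fintype.card F = q ^ 2) (h : IsFrame q e f) :
    LinearIndependent F f := (h.symm hF).li_left hF

end frame

/-- orthogonality of spans -/
theorem orth_span (hF : Fintype.card F = q ^ 2) {ι κ : Type*} (e : ι → (Fin n → F))
    (f : κ → (Fin n → F)) (he : ∀ i j, hh (e i) (f j) = 0) :
    ∀ u ∈ Submodule.span F (Set.range e), ∀ v ∈ Submodule.span F (Set.range f), hh u v = 0 := by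
  intro u hu v hv
  have h1 : ∀ i, ∀ v ∈ Submodule.span F (Set.range f), hh (e i) v = 0 := by
    intro i v hv
    induction hv using Submodule.span_induction with
    | mem z hz => obtain ⟨j, rfl⟩ := hz; exact he i j
    | zero => exact hermForm_zero_right hF _
    | add a c _ _ ha hc => rw [Helper13.hermForm_add_right hF, ha, hc, add_zero]
    | smul c a _ ha => rw [Helper13.hermForm_smul_right, ha, mul_zero]
  induction hu using Submodule.span_induction with
  | mem z hz => obtain ⟨i, rfl⟩ := hz; exact h1 i v hv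
  | zero => exact hermForm_zero_left v
  | add a c _ _ ha hc => rw [Helper13.hermForm_add_left, ha, hc, add_zero]
  | smul c a _ ha => rw [Helper13.hermForm_smul_left, ha, mul_zero]

/-- a vector of the span of `e` orthogonal to all `f l` vanishes -/
theorem IsFrame.eq_zero_of_orth {ι : Type*} [DecidableEq ι] [Fintype ι] {e f : ι → (Fin n → F)}
    (hF : Fintype.card F = q ^ 2) (h : IsFrame q e f) {v : Fin n → F}
    (hv : v ∈ Submodule.span F (Set.range e)) (hvf : ∀ l, hh v (f l) = 0) : v = 0 := by
  obtain ⟨c, rfl⟩ := (Submodule.mem_span_range_iff_exists_fun F).mp hv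
  have hc : ∀ l, c l = 0 := by
    intro l
    have := hvf l
    rw [Helper13.hermForm_sum_left hF] at this
    rw [Finset.sum_eq_single l] at this
    · rw [h.ef, if_pos rfl, mul_one] at this
      exact this
    · intro i _ hil
      rw [h.ef, if_neg hil, mul_zero]
    · intro hl
      exact absurd (Finset.mem_univ l) hl
  apply Finset.sum_eq_zero
  intro i _
  rw [hc i, zero_smul]

/-- the spans of a hyperbolic frame of the right size form a polar pair -/
theorem IsFrame.isPolar {ι : Type*} [DecidableEq ι] [Fintype ι] {e f : ι → (Fin n → F)}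
    (hF : Fintype.card F = q ^ 2) (h : IsFrame q e f) {m : ℕ} (hm : Fintype.card ι = m)
    (hn : n = 2 * m) :
    IsPolar q m (Submodule.span F (Set.range e)) (Submodule.span F (Set.range f)) := by
  have rU : finrank F (Submodule.span F (Set.range e)) = m := by
    rw [finrank_span_eq_card (h.li_left hF), hm]
  have rW : finrank F (Submodule.span F (Set.range f)) = m := by
    rw [finrank_span_eq_card (h.li_right hF), hm]
  have tW := orth_span hF f f h.ff
  have hdisj : Submodule.span F (Set.range e) ⊓ Submodule.span F (Set.range f) = ⊥ := by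
    rw [eq_bot_iff]
    intro v hv
    rw [Submodule.mem_bot]
    apply h.eq_zero_of_orth hF hv.1
    intro l
    exact tW v hv.2 (f l) (Submodule.subset_span ⟨l, rfl⟩)
  refine ⟨⟨disjoint_iff.mpr hdisj, codisjoint_iff.mpr ?_⟩, orth_span hF e e h.ee, tW, rU, rW⟩
  apply Submodule.eq_top_of_finrank_eq
  have := Submodule.finrank_sup_add_finrank_inf_eq (Submodule.span F (Set.range e))
    (Submodule.span F (Set.range f))
  rw [hdisj, finrank_bot, rU, rW] at this
  rw [Module.finrank_fin_fun]
  omega

/-- a linearly independent family of the right size spans -/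
theorem span_eq_of_li {ι : Type*} [Fintype ι] {U : Submodule F (Fin n → F)}
    {u : ι → (Fin n → F)} (hu : LinearIndependent F u) (huU : ∀ i, u i ∈ U)
    (hc : Fintype.card ι = finrank F U) : Submodule.span F (Set.range u) = U := by
  apply Submodule.eq_of_le_of_finrank_eq
  · rw [Submodule.span_le]
    rintro _ ⟨i, rfl⟩
    exact huU i
  · rw [finrank_span_eq_card hu, hc]

/-- the dual family in `W` of a basis of `U` -/
theorem IsPolar.exists_frame (hF : Fintype.card F = q ^ 2) {m : ℕ} (hm : 0 < m)
    {U W : Submodule F (Fin n → F)} (h : IsPolar q m U W) (u : Fin m → (Fin n → F))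
    (hu : LinearIndependent F u) (huU : ∀ i, u i ∈ U) :
    ∃ w : Fin m → (Fin n → F), (∀ j, w j ∈ W) ∧ IsFrame q u w := by
  classical
  have hq := q_ge_two hF
  have : Nonempty (Fin m) := ⟨⟨0, hm⟩⟩
  let u' : Fin m → ↥U := fun i => ⟨u i, huU i⟩
  have hu' : LinearIndependent F u' := by
    apply LinearIndependent.of_comp U.subtype
    exact hu
  let b : Basis (Fin m) F ↥U := basisOfLinearIndependentOfCardEqFinrank hu'
    (by rw [Fintype.card_fin, h.rkU])
  have hb : ∀ i, ((b i : ↥U) : Fin n → F) = u i := by
    intro i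
    show ((basisOfLinearIndependentOfCardEqFinrank hu' _ i : ↥U) : Fin n → F) = u i
    rw [coe_basisOfLinearIndependentOfCardEqFinrank]
  have hx : ∀ j : Fin m, ∃ x : Fin n → F, ∀ i, hh x (u i) = if i = j then 1 else 0 := by
    intro j
    obtain ⟨x, hx⟩ := exists_hermForm_eq hF U b (fun i => if i = j then 1 else 0)
    exact ⟨x, fun i => by rw [← hb i]; exact hx i⟩
  choose x hx using hx
  have hdec : ∀ j : Fin m, ∃ a ∈ U, ∃ w ∈ W, a + w = x j := by
    intro j
    have hv : x j ∈ U ⊔ W := by rw [h.compl.sup_eq_top]; exact Submodule.mem_top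
    exact Submodule.mem_sup.mp hv
  choose a ha w hw haw using hdec
  have hwu : ∀ j i, hh (w j) (u i) = if i = j then 1 else 0 := by
    intro j i
    have h1 : w j = x j - a j := by rw [← haw j]; abel
    rw [h1, hermForm_sub_left, hx, h.tsU (a j) (ha j) (u i) (huU i), sub_zero]
  refine ⟨w, hw, ⟨fun i j => h.tsU _ (huU i) _ (huU j), fun i j => h.tsW _ (hw i) _ (hw j), ?_⟩⟩
  intro i j
  rw [← Helper13.hermForm_conj hF n (w j) (u i), hwu]
  by_cases hij : i = j
  · rw [if_pos hij, one_pow]
  · rw [if_neg hij, zero_pow (by omega)]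

/-- a polar pair has a hyperbolic frame spanning it -/
theorem IsPolar.exists_frame' (hF : Fintype.card F = q ^ 2) {m : ℕ} (hm : 0 < m)
    {U W : Submodule F (Fin n → F)} (h : IsPolar q m U W) :
    ∃ u w : Fin m → (Fin n → F), IsFrame q u w ∧ Submodule.span F (Set.range u) = U ∧
      Submodule.span F (Set.range w) = W := by
  classical
  let b : Basis (Fin m) F ↥U := (Module.finBasis F ↥U).reindex (finCongr h.rkU)
  let u : Fin m → (Fin n → F) := fun i => ((b i : ↥U) : Fin n → F)
  have hu : LinearIndependent F u := by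
    have := b.linearIndependent
    exact this.map' U.subtype (Submodule.ker_subtype U)
  have huU : ∀ i, u i ∈ U := fun i => (b i).2
  obtain ⟨w, hw, hfr⟩ := h.exists_frame hF hm u hu huU
  refine ⟨u, w, hfr, span_eq_of_li hu huU (by rw [Fintype.card_fin, h.rkU]),
    span_eq_of_li (hfr.li_right hF) hw (by rw [Fintype.card_fin, h.rkW])⟩

/-- Witt: an isometry between two hyperbolic frames -/
theorem exists_GU_frame_map (hF : Fintype.card F = q ^ 2) {ι : Type*} [DecidableEq ι] [Fintype ι]
    {e f e' f' : ι → (Fin n → F)} (h : IsFrame q e f) (h' : IsFrame q e' f') :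
    ∃ g : GL (Fin n) F, g ∈ Cfsg.GU n F q ∧
      (∀ i, (g : Matrix (Fin n) (Fin n) F) *ᵥ e i = e' i) ∧
      (∀ i, (g : Matrix (Fin n) (Fin n) F) *ᵥ f i = f' i) := by
  obtain ⟨g, hg⟩ := Helper13.exists_GU_map hF (Sum.elim e f) (Sum.elim e' f') (h.li_sum hF)
    (h'.li_sum hF) (by
      intro s t
      rcases s with i | i <;> rcases t with j | j
      · simp only [Sum.elim_inl]; rw [h.ee, h'.ee]
      · simp only [Sum.elim_inl, Sum.elim_inr]; rw [h.ef, h'.ef]
      · simp only [Sum.elim_inl, Sum.elim_inr]; rw [h.fe hF, h'.fe hF]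
      · simp only [Sum.elim_inr]; rw [h.ff, h'.ff])
  refine ⟨g.1, g.2, fun i => ?_, fun i => ?_⟩
  · have := hg (Sum.inl i)
    rw [Helper5.GU_smul_def] at this
    exact this
  · have := hg (Sum.inr i)
    rw [Helper5.GU_smul_def] at this
    exact this

/-- image of a span under a matrix -/
theorem map_span_range {ι : Type*} (M : Matrix (Fin n) (Fin n) F) (e e' : ι → (Fin n → F))
    (h : ∀ i, M *ᵥ e i = e' i) :
    (Submodule.span F (Set.range e)).map (Matrix.toLin' M) = Submodule.span F (Set.range e') := by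
  rw [Submodule.map_span, ← Set.range_comp]
  congr 2
  funext i
  rw [Function.comp_apply, Matrix.toLin'_apply, h]

end Cfsg.Agent.Lib.Helper8.UPair
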