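import Cfsg.Agent.Lib.Helper8.UPairTrans
import Cfsg.Agent.Lib.Helper8.U43Lin
import Cfsg.Agent.Lib.Helper44.HermSpace
import Cfsg.Agent.Lib.Helper13.UParab3

/-!
# Semi-involutions of `SU_n(q)` stabilize a polar pair (for S5984)
-/

set_option autoImplicit false
set_option linter.unusedSectionVars false
set_option linter.unusedVariables false

namespace Cfsg.Agent.Lib.Helper8.UPair

open Matrix Module Cfsg.Agent.Lib.Helper99

variable {F : Type*} [Field F] [Fintype F] {q n : ℕ}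

local notation "hh" => Cfsg.hermForm n F q

/-- a hyperbolic frame inside a nondegenerate subspace of even dimension -/
theorem exists_frame_in (hF : Fintype.card F = q ^ 2) (N : Submodule F (Fin n → F))
    (hN : NdOn q N) (k : ℕ) (hk : finrank F N = 2 * k) :
    ∃ e f : Fin k → (Fin n → F), (∀ i, e i ∈ N) ∧ (∀ i, f i ∈ N) ∧ IsFrame q e f := by
  classical
  let H : ↥N → ↥N → F := fun u v => hh (u : Fin n → F) (v : Fin n → F)
  have hH : Cfsg.Agent.Lib.Helper44.IsHermSpace q H := by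
    refine ⟨fun u u' v => ?_, fun c u v => ?_, fun u v => ?_, fun v hv => ?_⟩
    · exact Helper13.hermForm_add_left n q _ _ _
    · exact Helper13.hermForm_smul_left n q c _ _
    · exact Helper13.hermForm_conj hF n _ _
    · by_contra hv0
      have hv0' : (v : Fin n → F) ≠ 0 := fun h => hv0 (Subtype.ext h)
      obtain ⟨x, hx, hne⟩ := hN v.1 v.2 hv0'
      exact hne (hv ⟨x, hx⟩)
  obtain ⟨Θ, hΘ⟩ := Cfsg.Agent.Lib.Helper44.exists_herm_coords hF ↥N H hH (2 * k) hk
  obtain ⟨e₀, f₀, hee, hff, hef, -⟩ := Helper13.exists_std_frame (n := 2 * k) (F := F) hF k le_rfl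
  have key : ∀ a b : Fin (2 * k) → F, hh ((Θ.symm a : ↥N) : Fin n → F) ((Θ.symm b : ↥N) : Fin n → F) =
      Cfsg.hermForm (2 * k) F q a b := by
    intro a b
    have := hΘ (Θ.symm a) (Θ.symm b)
    rw [LinearEquiv.apply_symm_apply, LinearEquiv.apply_symm_apply] at this
    exact this.symm
  refine ⟨fun i => ((Θ.symm (e₀ i) : ↥N) : Fin n → F), fun i => ((Θ.symm (f₀ i) : ↥N) : Fin n → F),
    fun i => (Θ.symm (e₀ i)).2, fun i => (Θ.symm (f₀ i)).2, ⟨?_, ?_, ?_⟩⟩
  · intro i j
    rw [key, hee]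
  · intro i j
    rw [key, hff]
  · intro i j
    rw [key, hef]

/-- elements of norm one are squares when `q` is odd -/
theorem exists_sqrt_of_norm_one (hF : Fintype.card F = q ^ 2) (hq : Odd q) (l : F)
    (hl : l ^ (q + 1) = 1) : ∃ μ : F, μ * μ = l := by
  have hchar : ringChar F ≠ 2 := by
    intro h2
    have := FiniteField.even_card_of_char_two h2
    rw [hF] at this
    have hodd : Odd (q ^ 2) := hq.pow
    rw [Nat.odd_iff] at hodd
    omega
  have hl0 : l ≠ 0 := by
    rintro rfl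
    rw [zero_pow (by omega)] at hl
    exact zero_ne_one hl
  obtain ⟨t, ht⟩ := hq
  have hdiv : Fintype.card F / 2 = (q + 1) * t := by
    rw [hF, ht]
    have : (2 * t + 1) ^ 2 = 2 * ((2 * t + 1 + 1) * t) + 1 := by ring
    rw [this]
    omega
  have := (FiniteField.isSquare_iff hchar hl0).mpr (by rw [hdiv, pow_mul, hl, one_pow])
  obtain ⟨μ, hμ⟩ := this
  exact ⟨μ, hμ.symm⟩

theorem two_ne_zero_of_odd (hF : Fintype.card F = q ^ 2) (hq : Odd q) : (2 : F) ≠ 0 := by
  apply Ring.two_ne_zero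
  intro h2
  have := FiniteField.even_card_of_char_two h2
  rw [hF] at this
  have hodd : Odd (q ^ 2) := hq.pow
  rw [Nat.odd_iff] at hodd
  omega

/-- the parity lemma -/
theorem even_of_det (h2 : (2 : F) ≠ 0) (hs : padicValNat 2 (q + 1) ≤ padicValNat 2 n) (hn : n ≠ 0)
    (μ : F) (hμ : μ ^ (q + 1) = 1) (a b : ℕ) (hab : a + b = n)
    (hdet : μ ^ a * (-μ) ^ b = 1) : Even b := by
  have hne : (-1 : F) ≠ 1 := by
    intro h
    apply h2
    have : (2 : F) = 1 - (-1) := by ring
    rw [this, h, sub_self]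
  set s := padicValNat 2 (q + 1) with hsdef
  obtain ⟨k, hk⟩ : 2 ^ s ∣ q + 1 := pow_padicValNat_dvd
  obtain ⟨n', hn'⟩ : 2 ^ s ∣ n := dvd_trans (pow_dvd_pow 2 hs) pow_padicValNat_dvd
  have hkodd : Odd k := by
    rw [← Nat.not_even_iff_odd]
    rintro ⟨k', hk'⟩
    have := pow_succ_padicValNat_not_dvd (p := 2) (n := q + 1) (by omega)
    apply this
    rw [← hsdef, hk, hk', pow_succ]
    exact ⟨k', by ring⟩
  have h1 : μ ^ a * (-μ) ^ b = μ ^ n * (-1) ^ b := by
    rw [← hab, neg_pow μ b, pow_add]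
    ring
  rw [h1] at hdet
  have h3 : (μ ^ n) ^ k = 1 := by
    rw [hn', ← pow_mul, mul_assoc, mul_comm n' k, ← mul_assoc, ← hk, pow_mul, hμ, one_pow]
  have h4 : ((-1 : F) ^ b) ^ k = 1 := by
    have := congrArg (fun y => y ^ k) hdet
    simp only [mul_pow, h3, one_mul, one_pow] at this
    exact this
  rw [← pow_mul, neg_one_pow_eq_one_iff_even hne, Nat.even_mul] at h4
  rcases h4 with h5 | h5
  · exact h5
  · exact absurd h5 (Nat.not_even_iff_odd.mpr hkodd)

/-- eigenspace decomposition of a semi-involution -/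
theorem isCompl_eig (h2 : (2 : F) ≠ 0) (M : Matrix (Fin n) (Fin n) F) (μ : F) (hμ : μ ≠ 0)
    (hMM : M * M = (μ * μ) • (1 : Matrix (Fin n) (Fin n) F)) :
    IsCompl (eig M μ) (eig M (-μ)) := by
  have hMMv : ∀ v, M *ᵥ (M *ᵥ v) = (μ * μ) • v := by
    intro v
    rw [Matrix.mulVec_mulVec, hMM, Matrix.smul_mulVec, Matrix.one_mulVec]
  rw [isCompl_iff]
  constructor
  · rw [Submodule.disjoint_def]
    intro v hv hv'
    rw [mem_eig] at hv hv'
    have h3 : (2 * μ) • v = 0 := by
      rw [two_mul, add_smul]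
      nth_rewrite 1 [← hv]
      rw [hv', neg_smul, neg_add_cancel]
    rcases smul_eq_zero.mp h3 with h4 | h4
    · exact absurd h4 (mul_ne_zero h2 hμ)
    · exact h4
  · rw [codisjoint_iff, eq_top_iff]
    intro v _
    rw [Submodule.mem_sup]
    refine ⟨(2 : F)⁻¹ • (v + μ⁻¹ • (M *ᵥ v)), ?_, (2 : F)⁻¹ • (v - μ⁻¹ • (M *ᵥ v)), ?_, ?_⟩
    · have e : μ⁻¹ * (μ * μ) = μ := by field_simp
      rw [mem_eig, Matrix.mulVec_smul, Matrix.mulVec_add, Matrix.mulVec_smul, hMMv,
        smul_smul μ⁻¹, e, smul_comm μ (2 : F)⁻¹]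
      congr 1
      rw [smul_add, smul_smul, mul_inv_cancel₀ hμ]
      module
    · have e : μ⁻¹ * (μ * μ) = μ := by field_simp
      rw [mem_eig, Matrix.mulVec_smul, Matrix.mulVec_sub, Matrix.mulVec_smul, hMMv,
        smul_smul μ⁻¹, e, smul_comm (-μ) (2 : F)⁻¹]
      congr 1
      rw [smul_sub, smul_smul, neg_mul, mul_inv_cancel₀ hμ]
      module
    · rw [← smul_add, add_add_sub_cancel, ← two_smul F v, smul_smul, inv_mul_cancel₀ h2, one_smul]

/-- the determinant of a semi-involution -/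
theorem det_of_eig (M : Matrix (Fin n) (Fin n) F) (μ : F)
    (hc : IsCompl (eig M μ) (eig M (-μ))) :
    M.det = μ ^ finrank F (eig M μ) * (-μ) ^ finrank F (eig M (-μ)) := by
  have hU : ∀ x ∈ eig M μ, (Matrix.toLin' M) x ∈ eig M μ := by
    intro x hx
    rw [Matrix.toLin'_apply, (mem_eig M μ x).mp hx]
    exact (eig M μ).smul_mem _ hx
  have hW : ∀ x ∈ eig M (-μ), (Matrix.toLin' M) x ∈ eig M (-μ) := by
    intro x hx
    rw [Matrix.toLin'_apply, (mem_eig M (-μ) x).mp hx]
    exact (eig M (-μ)).smul_mem _ hx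
  have h1 := Cfsg.Agent.Lib.Helper8.U43.det_of_isCompl (eig M μ) (eig M (-μ)) hc
    (Matrix.toLin' M) hU hW
  rw [LinearMap.det_toLin'] at h1
  have h3 : (Matrix.toLin' M).restrict hU = μ • LinearMap.id := by
    apply LinearMap.ext
    intro x
    apply Subtype.ext
    rw [LinearMap.coe_restrict_apply, Matrix.toLin'_apply, (mem_eig M μ x.1).mp x.2]
    rfl
  have h4 : (Matrix.toLin' M).restrict hW = (-μ) • LinearMap.id := by
    apply LinearMap.ext
    intro x
    apply Subtype.ext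
    rw [LinearMap.coe_restrict_apply, Matrix.toLin'_apply, (mem_eig M (-μ) x.1).mp x.2]
    rfl
  rw [h1, h3, h4, LinearMap.det_smul, LinearMap.det_smul]
  simp only [LinearMap.det_id, mul_one]

theorem ndOn_top (hF : Fintype.card F = q ^ 2) : NdOn q (⊤ : Submodule F (Fin n → F)) := by
  intro u _ hu0
  by_contra hcon
  push Not at hcon
  exact hu0 (hermForm_nd_right hF (fun x => hcon x Submodule.mem_top))

end Cfsg.Agent.Lib.Helper8.UPair
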