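import Cfsg.Agent.Lib.Helper8.UPairConv

/-!
# Semi-involutions of `SU_n(q)` stabilize a polar pair, II (for S5984)
-/

set_option autoImplicit false
set_option linter.unusedSectionVars false
set_option linter.unusedVariables false

namespace Cfsg.Agent.Lib.Helper8.UPair

open Matrix Module Cfsg.Agent.Lib.Helper99

variable {F : Type*} [Field F] [Fintype F] {q n : ℕ}

local notation "hh" => Cfsg.hermForm n F q

/-- an element of `SU_n(q)` with scalar square fixes both members of some polar pair, when `q` is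
odd and `(q+1)_2 ≤ (n)_2` -/
theorem exists_invariant_polar (hF : Fintype.card F = q ^ 2) (hq : Odd q) {m : ℕ}
    (hn : n = 2 * m) (hm : 0 < m) (hs : padicValNat 2 (q + 1) ≤ padicValNat 2 n)
    (x : GL (Fin n) F) (hx : x ∈ Cfsg.GU n F q ⊓ Cfsg.Geo.specialLinear (Fin n) F) (z : F)
    (hz : ((x ^ 2 : GL (Fin n) F) : Matrix (Fin n) (Fin n) F) =
      z • (1 : Matrix (Fin n) (Fin n) F)) :
    ∃ U' W' : Submodule F (Fin n → F), IsPolar q m U' W' ∧
      U'.map (Matrix.toLin' (x : Matrix (Fin n) (Fin n) F)) = U' ∧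
      W'.map (Matrix.toLin' (x : Matrix (Fin n) (Fin n) F)) = W' := by
  classical
  have hq2 := q_ge_two hF
  have hq0 : q ≠ 0 := by omega
  have h2 := two_ne_zero_of_odd hF hq
  obtain ⟨hxGU, hxSL⟩ := Subgroup.mem_inf.mp hx
  set M : Matrix (Fin n) (Fin n) F := (x : Matrix (Fin n) (Fin n) F) with hM
  have hdet : M.det = 1 := (mem_specialLinear_iff x).mp hxSL
  have hpres : ∀ u v, hh (M *ᵥ u) (M *ᵥ v) = hh u v := fun u v => GU_preserves hxGU u v
  have hMM0 : M * M = z • (1 : Matrix (Fin n) (Fin n) F) := by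
    rw [← hz, Units.val_pow_eq_pow_val, pow_two]
  have hMMv0 : ∀ v, M *ᵥ (M *ᵥ v) = z • v := by
    intro v
    rw [Matrix.mulVec_mulVec, hMM0, Matrix.smul_mulVec, Matrix.one_mulVec]
  have hz1 : z ^ (q + 1) = 1 := by
    let i₀ : Fin n := ⟨0, by omega⟩
    have h1 := hpres (M *ᵥ Pi.single i₀ 1) (M *ᵥ Pi.single i₀ 1)
    rw [hMMv0, hpres, Helper13.hermForm_smul_left, Helper13.hermForm_smul_right,
      Helper13.hermForm_single_single n q hq0, if_pos rfl, mul_one] at h1
    rw [pow_succ, mul_comm]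
    exact h1
  obtain ⟨μ, hμz⟩ := exists_sqrt_of_norm_one hF hq z hz1
  have hz0 : z ≠ 0 := by
    rintro rfl
    rw [zero_pow (by omega)] at hz1
    exact zero_ne_one hz1
  have hμ0 : μ ≠ 0 := by
    rintro rfl
    rw [mul_zero] at hμz
    exact hz0 hμz.symm
  have hMM : M * M = (μ * μ) • (1 : Matrix (Fin n) (Fin n) F) := by rw [hμz]; exact hMM0
  have hc := isCompl_eig h2 M μ hμ0 hMM
  set c := μ ^ (q + 1) with hcdef
  have hcc : c * c = 1 := by rw [hcdef, ← mul_pow, hμz, hz1]
  have hform : ∀ (a b : F) (u v : Fin n → F), M *ᵥ u = a • u → M *ᵥ v = b • v →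
      hh u v = a * b ^ q * hh u v := by
    intro a b u v hu hv
    have := hpres u v
    rw [hu, hv, Helper13.hermForm_smul_left, Helper13.hermForm_smul_right] at this
    rw [mul_assoc]
    exact this.symm
  have hnegq : (-μ) ^ q = -(μ ^ q) := Odd.neg_pow hq μ
  have hpp : μ * μ ^ q = c := by rw [hcdef, pow_succ, mul_comm]
  have hmm : (-μ) * (-μ) ^ q = c := by rw [hnegq, neg_mul_neg, hpp]
  have hpm : μ * (-μ) ^ q = -c := by rw [hnegq, mul_neg, hpp]
  have hMmap : ∀ ζ : F, (eig M ζ).map (Matrix.toLin' M) = eig M ζ := by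
    intro ζ
    apply map_eq_of_le x
    intro v hv
    rw [← hM, (mem_eig M ζ v).mp hv]
    exact (eig M ζ).smul_mem _ hv
  have hzero : ∀ t : F, t = -t → t = 0 := by
    intro t ht
    have h3 : (2 : F) * t = 0 := by linear_combination ht
    rcases mul_eq_zero.mp h3 with h | h
    · exact absurd h h2
    · exact h
  have rs := Submodule.finrank_add_eq_of_isCompl hc
  rw [Module.finrank_fin_fun] at rs
  rcases mul_self_eq_one_iff.mp hcc with hc1 | hc1
  · -- `c = 1`: the eigenspaces are orthogonal and nondegenerate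
    have horth : ∀ u ∈ eig M μ, ∀ v ∈ eig M (-μ), hh u v = 0 := by
      intro u hu v hv
      have h1 := hform μ (-μ) u v ((mem_eig M μ u).mp hu) ((mem_eig M (-μ) v).mp hv)
      rw [hpm, hc1, neg_one_mul] at h1
      exact hzero _ h1
    have horth' : ∀ u ∈ eig M (-μ), ∀ v ∈ eig M μ, hh u v = 0 :=
      fun u hu v hv => hermForm_eq_zero_comm hF (horth v hv u hu)
    have hndp : NdOn q (eig M μ) := by
      intro u hu hu0
      by_contra hcon
      push Not at hcon
      apply hu0
      apply hermForm_nd_right hF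
      intro y
      have hy' : y ∈ eig M μ ⊔ eig M (-μ) := by rw [hc.sup_eq_top]; exact Submodule.mem_top
      obtain ⟨a, ha, b, hb, rfl⟩ := Submodule.mem_sup.mp hy'
      rw [Helper13.hermForm_add_left, hcon a ha, horth' b hb u hu, add_zero]
    have hndm : NdOn q (eig M (-μ)) := by
      intro u hu hu0
      by_contra hcon
      push Not at hcon
      apply hu0
      apply hermForm_nd_right hF
      intro y
      have hy' : y ∈ eig M μ ⊔ eig M (-μ) := by rw [hc.sup_eq_top]; exact Submodule.mem_top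
      obtain ⟨a, ha, b, hb, rfl⟩ := Submodule.mem_sup.mp hy'
      rw [Helper13.hermForm_add_left, hcon b hb, horth a ha u hu, add_zero]
    have hdetM := det_of_eig M μ hc
    rw [hdet] at hdetM
    have hbe : Even (finrank F (eig M (-μ))) :=
      even_of_det h2 hs (by omega) μ hc1 _ _ rs hdetM.symm
    have hae : Even (finrank F (eig M μ)) := by
      have hne : Even (finrank F (eig M μ) + finrank F (eig M (-μ))) := by
        rw [rs, hn]; exact even_two_mul m
      exact (Nat.even_add.mp hne).mpr hbe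
    obtain ⟨ka, hka⟩ := hae
    obtain ⟨kb, hkb⟩ := hbe
    obtain ⟨e₁, f₁, he₁, hf₁, hfr₁⟩ := exists_frame_in hF (eig M μ) hndp ka (by omega)
    obtain ⟨e₂, f₂, he₂, hf₂, hfr₂⟩ := exists_frame_in hF (eig M (-μ)) hndm kb (by omega)
    have hfr : IsFrame q (Sum.elim e₁ e₂) (Sum.elim f₁ f₂) := by
      refine ⟨?_, ?_, ?_⟩
      · rintro (i | i) (j | j)
        · exact hfr₁.ee i j
        · exact horth _ (he₁ i) _ (he₂ j)
        · exact horth' _ (he₂ i) _ (he₁ j)
        · exact hfr₂.ee i j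
      · rintro (i | i) (j | j)
        · exact hfr₁.ff i j
        · exact horth _ (hf₁ i) _ (hf₂ j)
        · exact horth' _ (hf₂ i) _ (hf₁ j)
        · exact hfr₂.ff i j
      · rintro (i | i) (j | j)
        · simp only [Sum.elim_inl, Sum.inl.injEq]
          exact hfr₁.ef i j
        · simp only [Sum.elim_inl, Sum.elim_inr, reduceCtorEq, if_false]
          exact horth _ (he₁ i) _ (hf₂ j)
        · simp only [Sum.elim_inl, Sum.elim_inr, reduceCtorEq, if_false]
          exact horth' _ (he₂ i) _ (hf₁ j)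
        · simp only [Sum.elim_inr, Sum.inr.injEq]
          exact hfr₂.ef i j
    have hpol := hfr.isPolar hF (m := m)
      (by rw [Fintype.card_sum, Fintype.card_fin, Fintype.card_fin]; omega) hn
    have hinv : ∀ g : Fin ka ⊕ Fin kb → (Fin n → F), (∀ s, ∃ ζ : F, M *ᵥ g s = ζ • g s) →
        (Submodule.span F (Set.range g)).map (Matrix.toLin' M) = Submodule.span F (Set.range g) := by
      intro g hg
      have hle : (Submodule.span F (Set.range g)).map (Matrix.toLin' M) ≤
          Submodule.span F (Set.range g) := by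
        rw [Submodule.map_span_le]
        rintro _ ⟨s, rfl⟩
        obtain ⟨ζ, hζ⟩ := hg s
        rw [Matrix.toLin'_apply, hζ]
        exact Submodule.smul_mem _ _ (Submodule.subset_span ⟨s, rfl⟩)
      apply map_eq_of_le x
      intro v hv
      exact hle ⟨v, hv, Matrix.toLin'_apply M v⟩
    refine ⟨_, _, hpol, hinv _ ?_, hinv _ ?_⟩
    · rintro (i | i)
      · exact ⟨μ, (mem_eig M μ _).mp (he₁ i)⟩
      · exact ⟨-μ, (mem_eig M (-μ) _).mp (he₂ i)⟩
    · rintro (i | i)
      · exact ⟨μ, (mem_eig M μ _).mp (hf₁ i)⟩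
      · exact ⟨-μ, (mem_eig M (-μ) _).mp (hf₂ i)⟩
  · -- `c = -1`: the eigenspaces are totally singular
    have hts : ∀ ζ : F, (ζ = μ ∨ ζ = -μ) → ∀ u ∈ eig M ζ, ∀ v ∈ eig M ζ, hh u v = 0 := by
      intro ζ hζ u hu v hv
      have h1 := hform ζ ζ u v ((mem_eig M ζ u).mp hu) ((mem_eig M ζ v).mp hv)
      have h3 : ζ * ζ ^ q = -1 := by
        rcases hζ with rfl | rfl
        · rw [hpp, hc1]
        · rw [hmm, hc1]
      rw [h3, neg_one_mul] at h1
      exact hzero _ h1
    have hnd := ndOn_top (n := n) hF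
    have ra := ti_finrank_le hF hnd (eig M μ) le_top (hts μ (Or.inl rfl))
    have rb := ti_finrank_le hF hnd (eig M (-μ)) le_top (hts (-μ) (Or.inr rfl))
    rw [finrank_top, Module.finrank_fin_fun] at ra rb
    exact ⟨eig M μ, eig M (-μ), ⟨hc, hts μ (Or.inl rfl), hts (-μ) (Or.inr rfl), by omega,
      by omega⟩, hMmap μ, hMmap (-μ)⟩

/-- the converse direction of S5984 -/
theorem exists_conj_mem (hF : Fintype.card F = q ^ 2) (hq : Odd q) {m : ℕ} (hm : 0 < m)
    (D : Fin 2 → Submodule F (Fin n → F)) (hP : IsPolar q m (D 0) (D 1))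
    (hs : padicValNat 2 (q + 1) ≤ padicValNat 2 n)
    (x : GL (Fin n) F) (hx : x ∈ Cfsg.GU n F q ⊓ Cfsg.Geo.specialLinear (Fin n) F) (z : F)
    (hz : ((x ^ 2 : GL (Fin n) F) : Matrix (Fin n) (Fin n) F) =
      z • (1 : Matrix (Fin n) (Fin n) F)) :
    ∃ g ∈ Cfsg.GU n F q ⊓ Cfsg.Geo.specialLinear (Fin n) F,
      g⁻¹ * x * g ∈ Cfsg.Geo.decompositionStabilizer D := by
  obtain ⟨U', W', hpol, hxU, hxW⟩ := exists_invariant_polar hF hq hP.dim hm hs x hx z hz
  obtain ⟨g, hg, hgU, hgW⟩ := exists_SU_map hF hm hP hpol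
  exact ⟨g, hg, conj_mem_stab D g x U' W' hgU hgW hxU hxW⟩

end Cfsg.Agent.Lib.Helper8.UPair
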