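import Cfsg.Agent.Lib.Helper8.UPairEven
import Cfsg.Agent.Lib.Helper13.UParab3

/-!
# Elements of prime order of `SU_n(q)` with an eigenspace of odd dimension (for S5984)
-/

set_option autoImplicit false
set_option linter.unusedSectionVars false
set_option linter.unusedVariables false

namespace Cfsg.Agent.Lib.Helper8.UPair

open Matrix Module Cfsg.Agent.Lib.Helper99

variable {F : Type*} [Field F] [Fintype F] {q n : ℕ}

local notation "hh" => Cfsg.hermForm n F q

/-! ### Unitary transvections -/

theorem utv_pow_mulVec (u : Fin n → F) (hu : hh u u = 0) (c : F) (k : ℕ) (v : Fin n → F) :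
    (((utv q u c) ^ k : GL (Fin n) F) : Matrix (Fin n) (Fin n) F) *ᵥ v =
      v + ((k : F) * c * hh v u) • u := by
  induction k generalizing v with
  | zero =>
    rw [pow_zero, Units.val_one, Matrix.one_mulVec, Nat.cast_zero, zero_mul, zero_mul, zero_smul,
      add_zero]
  | succ k ih =>
    rw [pow_succ, Units.val_mul, ← Matrix.mulVec_mulVec, utv_mulVec u hu, ih,
      Helper13.hermForm_add_left, Helper13.hermForm_smul_left, hu, mul_zero, add_zero, add_assoc,
      ← add_smul]
    congr 2
    push_cast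
    ring

theorem utv_pow_char {p : ℕ} [Fact p.Prime] [CharP F p] (u : Fin n → F) (hu : hh u u = 0)
    (c : F) : (((utv q u c) ^ p : GL (Fin n) F) : Matrix (Fin n) (Fin n) F) = 1 := by
  rw [Matrix.ext_iff_mulVec]
  intro v
  rw [utv_pow_mulVec u hu, CharP.cast_eq_zero, zero_mul, zero_mul, zero_smul, add_zero,
    Matrix.one_mulVec]

theorem utv_not_scalar (hF : Fintype.card F = q ^ 2) (u : Fin n → F) (hu0 : u ≠ 0)
    (hu : hh u u = 0) (c : F) (hc0 : c ≠ 0) (z : F) :
    ((utv q u c : GL (Fin n) F) : Matrix (Fin n) (Fin n) F) ≠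
      z • (1 : Matrix (Fin n) (Fin n) F) := by
  intro hz
  have h1 : ∀ v : Fin n → F, v + (c * hh v u) • u = z • v := by
    intro v
    rw [← utv_mulVec u hu, hz, Matrix.smul_mulVec, Matrix.one_mulVec]
  have hz1 : z = 1 := by
    have h2 := h1 u
    rw [hu, mul_zero, zero_smul, add_zero] at h2
    by_contra hne
    apply hu0
    have h3 : (1 - z) • u = 0 := by rw [sub_smul, one_smul, ← h2, sub_self]
    rcases smul_eq_zero.mp h3 with h4 | h4
    · exact absurd (sub_eq_zero.mp h4).symm hne
    · exact h4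
  apply hu0
  apply hermForm_nd_right hF
  intro v
  have h2 := h1 v
  rw [hz1, one_smul] at h2
  have h3 : (c * hh v u) • u = 0 := by
    have := congrArg (fun w => w - v) h2
    simpa using this
  rcases smul_eq_zero.mp h3 with h4 | h4
  · rcases mul_eq_zero.mp h4 with h5 | h5
    · exact absurd h5 hc0
    · exact h5
  · exact absurd h4 hu0

theorem finrank_eig_utv (hF : Fintype.card F = q ^ 2) (u : Fin n → F) (hu0 : u ≠ 0)
    (hu : hh u u = 0) (c : F) (hc0 : c ≠ 0) :
    finrank F (eig ((utv q u c : GL (Fin n) F) : Matrix (Fin n) (Fin n) F) 1) + 1 = n := by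
  have heq : eig ((utv q u c : GL (Fin n) F) : Matrix (Fin n) (Fin n) F) 1 =
      hperp q (Submodule.span F {u}) := by
    ext v
    rw [mem_eig, utv_mulVec u hu, one_smul, mem_hperp]
    constructor
    · intro h w hw
      obtain ⟨a, rfl⟩ := Submodule.mem_span_singleton.mp hw
      have h3 : (c * hh v u) • u = 0 := by
        have := congrArg (fun w => w - v) h
        simpa using this
      rcases smul_eq_zero.mp h3 with h4 | h4
      · rcases mul_eq_zero.mp h4 with h5 | h5
        · exact absurd h5 hc0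
        · rw [Helper13.hermForm_smul_right, h5, mul_zero]
      · exact absurd h4 hu0
    · intro h
      rw [h u (Submodule.mem_span_singleton_self u), mul_zero, zero_smul, add_zero]
  rw [heq]
  have := finrank_hperp hF (Submodule.span F {u})
  rw [finrank_span_singleton hu0] at this
  exact this

/-! ### Diagonal elements -/

theorem eig_diagonal (d : Fin n → F) (i₀ : Fin n) (hne : ∀ i, i ≠ i₀ → d i ≠ d i₀) :
    eig (Matrix.diagonal d) (d i₀) = Submodule.span F {(Pi.single i₀ 1 : Fin n → F)} := by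
  ext v
  rw [mem_eig, Submodule.mem_span_singleton]
  constructor
  · intro h
    refine ⟨v i₀, ?_⟩
    funext i
    by_cases hi : i = i₀
    · subst hi
      rw [Pi.smul_apply, Pi.single_eq_same, smul_eq_mul, mul_one]
    · rw [Pi.smul_apply, Pi.single_eq_of_ne hi, smul_zero]
      have h2 := congrFun h i
      rw [Matrix.mulVec_diagonal, Pi.smul_apply, smul_eq_mul] at h2
      have h3 : (d i - d i₀) * v i = 0 := by rw [sub_mul, h2, sub_self]
      rcases mul_eq_zero.mp h3 with h4 | h4
      · exact absurd (sub_eq_zero.mp h4) (hne i hi)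
      · exact h4.symm
  · rintro ⟨a, rfl⟩
    rw [Matrix.mulVec_smul, Matrix.diagonal_mulVec_single, mul_one, smul_comm]
    congr 1
    funext i
    by_cases hi : i = i₀
    · subst hi
      rw [Pi.single_eq_same, Pi.smul_apply, Pi.single_eq_same, smul_eq_mul, mul_one]
    · rw [Pi.single_eq_of_ne hi, Pi.smul_apply, Pi.single_eq_of_ne hi, smul_zero]

theorem finrank_eig_diagonal (d : Fin n → F) (i₀ : Fin n) (hne : ∀ i, i ≠ i₀ → d i ≠ d i₀) :
    finrank F (eig (Matrix.diagonal d) (d i₀)) = 1 := by
  rw [eig_diagonal d i₀ hne]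
  apply finrank_span_singleton
  intro h
  have := congrFun h i₀
  rw [Pi.single_eq_same, Pi.zero_apply] at this
  exact one_ne_zero this

theorem diagonal_not_scalar (d : Fin n → F) (i₀ i₁ : Fin n) (hi : i₁ ≠ i₀)
    (hne : ∀ i, i ≠ i₀ → d i ≠ d i₀) (z : F) :
    Matrix.diagonal d ≠ z • (1 : Matrix (Fin n) (Fin n) F) := by
  intro h
  have h0 := congrFun (congrFun h i₀) i₀
  have h1 := congrFun (congrFun h i₁) i₁
  rw [Matrix.diagonal_apply_eq, Matrix.smul_apply, Matrix.one_apply_eq, smul_eq_mul, mul_one]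
    at h0 h1
  exact hne i₁ hi (h1.trans h0.symm)

/-- the diagonal element of `SU` attached to a family of norm one with product one -/
theorem diagGU_mem (d : Fin n → F) (hd : ∀ i, d i ^ (q + 1) = 1) (hdet : ∏ i, d i = 1) :
    ((Helper13.diagGU n q d hd : Cfsg.GU n F q) : GL (Fin n) F) ∈
      Cfsg.GU n F q ⊓ Cfsg.Geo.specialLinear (Fin n) F := by
  refine Subgroup.mem_inf.mpr ⟨(Helper13.diagGU n q d hd).2, ?_⟩
  rw [mem_specialLinear_iff, Helper13.diagGU_val, Matrix.det_diagonal, hdet]

/-! ### Fixed points modulo `r` -/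

theorem card_modEq_eig_one (M : Matrix (Fin n) (Fin n) F) (r : ℕ) [Fact r.Prime]
    (hM : M ^ r = 1) :
    Nat.card (Fin n → F) ≡ Nat.card ↥(eig M 1) [MOD r] := by
  classical
  let f : Function.End (Fin n → F) := fun v => M *ᵥ v
  have hpow : ∀ (k : ℕ) (v : Fin n → F), (f ^ k) v = (M ^ k) *ᵥ v := by
    intro k
    induction k with
    | zero => intro v; rw [pow_zero, pow_zero, Matrix.one_mulVec]; rfl
    | succ k ih =>
      intro v
      rw [pow_succ, pow_succ]
      show (f ^ k) (f v) = _
      rw [ih, ← Matrix.mulVec_mulVec]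
  have hf : f ^ r ^ 1 = 1 := by
    rw [pow_one]
    funext v
    rw [hpow, hM, Matrix.one_mulVec]
    rfl
  have h := Equiv.Perm.card_fixedPoints_modEq (p := r) (n := 1) hf
  rw [Fintype.card_eq_nat_card, Fintype.card_eq_nat_card] at h
  have e : ↥(Function.fixedPoints (f : (Fin n → F) → (Fin n → F))) ≃ ↥(eig M 1) :=
    { toFun := fun w => ⟨w.1, by
        rw [mem_eig, one_smul]
        exact w.2⟩
      invFun := fun v => ⟨v.1, by
        have := (mem_eig M 1 v.1).mp v.2
        rw [one_smul] at this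
        exact this⟩
      left_inv := fun w => rfl
      right_inv := fun v => rfl }
  rw [Nat.card_congr e] at h
  exact h

/-! ### The arithmetic of the minimal odd exponent -/

theorem zmod_key (r : ℕ) [Fact r.Prime] (hr2 : r ≠ 2) (a : ZMod r) (i : ℕ) (hi : a ^ i = -1)
    (hiodd : Odd i) (hmin : ∀ k < i, Odd k → a ^ k ≠ -1) (t : ℕ) (ht0 : 0 < t) (hti : t ≤ i)
    (hat : a ^ (2 * t) = 1) : t = i := by
  have hne : (1 : ZMod r) ≠ -1 := by
    intro h
    have h2 : ((2 : ℕ) : ZMod r) = 0 := by
      have : (1 : ZMod r) + 1 = 0 := by linear_combination h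
      rw [← this]; norm_num
    rw [ZMod.natCast_eq_zero_iff] at h2
    have hr : r.Prime := Fact.out
    have := (Nat.prime_dvd_prime_iff_eq hr Nat.prime_two).mp h2
    exact hr2 this
  have hai : a ^ (2 * i) = 1 := by
    rw [mul_comm, pow_mul, hi]; norm_num
  have hg : a ^ (2 * Nat.gcd t i) = 1 := by
    rw [← Nat.gcd_mul_left]
    exact pow_gcd_eq_one.mpr ⟨hat, hai⟩
  have hgi : Nat.gcd t i ∣ i := Nat.gcd_dvd_right t i
  have hgt : Nat.gcd t i ∣ t := Nat.gcd_dvd_left t i
  have hgodd : Odd (Nat.gcd t i) := by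
    obtain ⟨c, hc⟩ := hgi
    rw [hc] at hiodd
    exact (Nat.odd_mul.mp hiodd).1
  have hsq : a ^ Nat.gcd t i * a ^ Nat.gcd t i = 1 := by
    rw [← pow_add, ← two_mul]; exact hg
  rcases mul_self_eq_one_iff.mp hsq with h1 | h1
  · exfalso
    obtain ⟨c, hc⟩ := hgi
    have : a ^ i = 1 := by rw [hc, pow_mul, h1, one_pow]
    rw [hi] at this
    exact hne this.symm
  · have hle : Nat.gcd t i ≤ t := Nat.le_of_dvd ht0 hgt
    have hge : ¬ Nat.gcd t i < i := fun hlt => hmin _ hlt hgodd h1
    omega

/-! ### The Cauchy element -/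

/-- an element of order `r` of `GU_{i+j}` fixing the first `j` coordinate vectors -/
theorem exists_cauchy_elt (hF : Fintype.card F = q ^ 2) (i j r : ℕ) [Fact r.Prime]
    (hr : r ∣ Nat.card (Cfsg.GU i F q)) :
    ∃ x : GL (Fin (i + j)) F, x ∈ Cfsg.GU (i + j) F q ∧ x ^ r = 1 ∧ x ≠ 1 ∧
      ∀ k : Fin (i + j), (k : ℕ) < j →
        (x : Matrix (Fin (i + j)) (Fin (i + j)) F) *ᵥ Pi.single k 1 = Pi.single k 1 := by
  have hcard := Helper13.card_fixCoords (F := F) hF i j
  have : Finite ↥(Helper13.fixCoords (i + j) q F j) := inferInstance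
  obtain ⟨x', hx'⟩ := exists_prime_orderOf_dvd_card' (G := ↥(Helper13.fixCoords (i + j) q F j)) r
    (by rw [hcard]; exact hr)
  have hr' : r.Prime := Fact.out
  refine ⟨((x' : ↥(Cfsg.GU (i + j) F q)) : GL (Fin (i + j)) F), (x' : ↥(Cfsg.GU (i + j) F q)).2,
    ?_, ?_, ?_⟩
  · have h1 : x' ^ r = 1 := by rw [← hx']; exact pow_orderOf_eq_one x'
    have h2 := congrArg (fun y : ↥(Helper13.fixCoords (i + j) q F j) =>
      ((y : ↥(Cfsg.GU (i + j) F q)) : GL (Fin (i + j)) F)) h1
    simpa using h2
  · intro h1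
    have h2 : x' = 1 := by
      apply Subtype.ext
      apply Subtype.ext
      exact h1
    rw [h2, orderOf_one] at hx'
    exact hr'.one_lt.ne hx'
  · intro k hk
    have := (Helper13.mem_fixCoords j (x' : ↥(Cfsg.GU (i + j) F q))).mp x'.2 k hk
    rw [Helper5.GU_smul_def] at this
    exact this

/-- the fixed space of the Cauchy element has dimension exactly `j` -/
theorem finrank_fix_cauchy (hF : Fintype.card F = q ^ 2) (i j r : ℕ) [Fact r.Prime] (hr2 : r ≠ 2)
    (hrq : Nat.Coprime r q) (hri : r ∣ q ^ i + 1) (hiodd : Odd i)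
    (hmin : ∀ k < i, Odd k → ¬ r ∣ q ^ k + 1)
    (x : GL (Fin (i + j)) F) (hxr : x ^ r = 1) (hx1 : x ≠ 1)
    (hfix : ∀ k : Fin (i + j), (k : ℕ) < j →
        (x : Matrix (Fin (i + j)) (Fin (i + j)) F) *ᵥ Pi.single k 1 = Pi.single k 1) :
    finrank F (eig (x : Matrix (Fin (i + j)) (Fin (i + j)) F) 1) = j := by
  classical
  set M : Matrix (Fin (i + j)) (Fin (i + j)) F := (x : Matrix (Fin (i + j)) (Fin (i + j)) F)
    with hM
  set f := finrank F (eig M 1) with hf
  -- lower bound
  have hlow : j ≤ f := by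
    let v : Fin j → ↥(eig M 1) := fun k =>
      ⟨Pi.single (Fin.castLE (Nat.le_add_left j i) k) 1, by
        rw [mem_eig, one_smul]
        exact hfix _ (by simp)⟩
    have hv : LinearIndependent F v := by
      apply LinearIndependent.of_comp (eig M 1).subtype
      have h1 := (Pi.basisFun F (Fin (i + j))).linearIndependent
      have h2 := h1.comp (Fin.castLE (Nat.le_add_left j i)) (Fin.castLE_injective _)
      convert h2 using 1
      funext k
      simp [v, Pi.basisFun_apply]
    have := hv.fintype_card_le_finrank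
    rw [Fintype.card_fin] at this
    exact this
  -- upper bound
  have hup : f < i + j := by
    by_contra hge
    have hle : f ≤ i + j := by
      have := Submodule.finrank_le (eig M 1)
      rw [Module.finrank_fin_fun] at this
      exact this
    have htop : eig M 1 = ⊤ := by
      apply Submodule.eq_top_of_finrank_eq
      rw [Module.finrank_fin_fun]
      omega
    apply hx1
    apply Units.ext
    rw [Units.val_one, Matrix.ext_iff_mulVec]
    intro v
    have hv : v ∈ eig M 1 := by rw [htop]; exact Submodule.mem_top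
    rw [mem_eig, one_smul] at hv
    rw [Matrix.one_mulVec]
    exact hv
  -- counting
  have hMr : M ^ r = 1 := by
    rw [hM, ← Units.val_pow_eq_pow_val, hxr, Units.val_one]
  have hcount := card_modEq_eig_one M r hMr
  rw [Module.natCard_eq_pow_finrank (K := F) (V := Fin (i + j) → F),
    Module.natCard_eq_pow_finrank (K := F) (V := ↥(eig M 1)), Nat.card_eq_fintype_card, hF,
    Module.finrank_fin_fun, ← hf] at hcount
  have hz := (ZMod.natCast_eq_natCast_iff _ _ _).mpr hcount
  push_cast at hz
  set a : ZMod r := (q : ZMod r) with ha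
  have ha0 : a ≠ 0 := by
    intro h0
    rw [ha, ZMod.natCast_eq_zero_iff] at h0
    have hr' : r.Prime := Fact.out
    have := Nat.Coprime.eq_one_of_dvd hrq h0
    exact hr'.one_lt.ne' this
  have hai : a ^ i = -1 := by
    have := (ZMod.natCast_eq_zero_iff (q ^ i + 1) r).mpr hri
    push_cast at this
    exact eq_neg_of_add_eq_zero_left this
  have hmin' : ∀ k < i, Odd k → a ^ k ≠ -1 := by
    intro k hk hodd h1
    apply hmin k hk hodd
    rw [← ZMod.natCast_eq_zero_iff]
    push_cast
    rw [← ha, h1]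
    ring
  have hat : a ^ (2 * (i + j - f)) = 1 := by
    have h1 : (a ^ 2) ^ (i + j) = (a ^ 2) ^ f * (a ^ 2) ^ (i + j - f) := by
      rw [← pow_add]
      congr 1
      omega
    rw [h1] at hz
    have h2 : (a ^ 2) ^ f ≠ 0 := pow_ne_zero _ (pow_ne_zero _ ha0)
    have h3 : (a ^ 2) ^ f * (a ^ 2) ^ (i + j - f) = (a ^ 2) ^ f * 1 := by rw [mul_one]; exact hz
    have h4 := mul_left_cancel₀ h2 h3
    rw [← pow_mul] at h4
    exact h4
  have := zmod_key r hr2 a i hai hiodd hmin' (i + j - f) (by omega) (by omega) hat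
  omega

end Cfsg.Agent.Lib.Helper8.UPair
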