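import Cfsg.Agent.Lib.Helper8.UPairBasics

/-!
# Eigenspaces of unitary matrices stabilizing a polar pair (for S5984)
-/

set_option autoImplicit false
set_option linter.unusedSectionVars false
set_option linter.unusedVariables false

namespace Cfsg.Agent.Lib.Helper8.UPair

open Matrix Module Cfsg.Agent.Lib.Helper99

variable {F : Type*} [Field F] [Fintype F] {q n : ℕ}

local notation "hh" => Cfsg.hermForm n F q

/-- the eigenspace of a matrix -/
def eig (M : Matrix (Fin n) (Fin n) F) (ζ : F) : Submodule F (Fin n → F) :=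
  LinearMap.ker (Matrix.toLin' M - ζ • LinearMap.id)

theorem mem_eig (M : Matrix (Fin n) (Fin n) F) (ζ : F) (v : Fin n → F) :
    v ∈ eig M ζ ↔ M *ᵥ v = ζ • v := by
  unfold eig
  rw [LinearMap.mem_ker, LinearMap.sub_apply, LinearMap.smul_apply, LinearMap.id_apply,
    Matrix.toLin'_apply, sub_eq_zero]

theorem map_mem {U U' : Submodule F (Fin n → F)} {M : Matrix (Fin n) (Fin n) F}
    (h : U.map (Matrix.toLin' M) = U') {u : Fin n → F} (hu : u ∈ U) : M *ᵥ u ∈ U' := by
  rw [← h]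
  exact ⟨u, hu, Matrix.toLin'_apply M u⟩

theorem map_surj {U U' : Submodule F (Fin n → F)} {M : Matrix (Fin n) (Fin n) F}
    (h : U.map (Matrix.toLin' M) = U') {u : Fin n → F} (hu : u ∈ U') :
    ∃ u' ∈ U, M *ᵥ u' = u := by
  rw [← h] at hu
  obtain ⟨u', hu', rfl⟩ := hu
  exact ⟨u', hu', (Matrix.toLin'_apply M u').symm⟩

/-- Lemma E: the eigenspaces (for eigenvalues of norm one) of a unitary matrix fixing both
members of a polar pair have even dimension. -/
theorem finrank_eig_of_fix (hF : Fintype.card F = q ^ 2) {m : ℕ} {U W : Submodule F (Fin n → F)}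
    (h : IsPolar q m U W) (y : GL (Fin n) F) (hy : y ∈ Cfsg.GU n F q)
    (hyU : U.map (Matrix.toLin' (y : Matrix (Fin n) (Fin n) F)) = U)
    (hyW : W.map (Matrix.toLin' (y : Matrix (Fin n) (Fin n) F)) = W)
    (ζ : F) (hζ : ζ ^ (q + 1) = 1) :
    finrank F (eig (y : Matrix (Fin n) (Fin n) F) ζ) =
      2 * finrank F ↥(eig (y : Matrix (Fin n) (Fin n) F) ζ ⊓ U) := by
  set M : Matrix (Fin n) (Fin n) F := (y : Matrix (Fin n) (Fin n) F) with hM
  set E := eig M ζ with hE
  set T : (Fin n → F) →ₗ[F] (Fin n → F) := Matrix.toLin' M - ζ • LinearMap.id with hT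
  have hTv : ∀ v, T v = M *ᵥ v - ζ • v := by
    intro v
    rw [hT, LinearMap.sub_apply, LinearMap.smul_apply, LinearMap.id_apply, Matrix.toLin'_apply]
  have hζq : ζ ^ q * ζ = 1 := by rw [← pow_succ]; exact hζ
  have hn := h.dim
  -- Step 1
  have hsup : (E ⊓ U) ⊔ (E ⊓ W) = E := by
    apply le_antisymm (sup_le inf_le_left inf_le_left)
    intro v hv
    have hv' : v ∈ U ⊔ W := by rw [h.compl.sup_eq_top]; exact Submodule.mem_top
    obtain ⟨a, ha, b, hb, rfl⟩ := Submodule.mem_sup.mp hv'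
    have hv2 := (mem_eig M ζ _).mp hv
    rw [Matrix.mulVec_add, smul_add] at hv2
    have hzU : M *ᵥ a - ζ • a ∈ U := U.sub_mem (map_mem hyU ha) (U.smul_mem _ ha)
    have hzW : M *ᵥ a - ζ • a ∈ W := by
      have : M *ᵥ a - ζ • a = -(M *ᵥ b - ζ • b) := by
        have : M *ᵥ a - ζ • a + (M *ᵥ b - ζ • b) = 0 := by
          rw [sub_add_sub_comm, hv2, sub_self]
        exact eq_neg_of_add_eq_zero_left this
      rw [this]
      exact W.neg_mem (W.sub_mem (map_mem hyW hb) (W.smul_mem _ hb))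
    have hz : M *ᵥ a - ζ • a = 0 := Submodule.disjoint_def.mp h.compl.disjoint _ hzU hzW
    have ha2 : M *ᵥ a = ζ • a := sub_eq_zero.mp hz
    have hb2 : M *ᵥ b = ζ • b := by
      rw [ha2] at hv2
      exact add_left_cancel hv2
    exact Submodule.add_mem_sup ⟨(mem_eig M ζ a).mpr ha2, ha⟩ ⟨(mem_eig M ζ b).mpr hb2, hb⟩
  have hinf : (E ⊓ U) ⊓ (E ⊓ W) = ⊥ := by
    rw [eq_bot_iff]
    intro v hv
    rw [Submodule.mem_bot]
    exact Submodule.disjoint_def.mp h.compl.disjoint _ hv.1.2 hv.2.2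
  have hstep1 : finrank F E = finrank F ↥(E ⊓ U) + finrank F ↥(E ⊓ W) := by
    have := Submodule.finrank_sup_add_finrank_inf_eq (E ⊓ U) (E ⊓ W)
    rw [hsup, hinf, finrank_bot, add_zero] at this
    exact this
  -- Step 2
  set R := U.map T with hR
  have hRU : R ≤ U := by
    rintro _ ⟨u, hu, rfl⟩
    rw [hTv]
    exact U.sub_mem (map_mem hyU hu) (U.smul_mem _ hu)
  have hrank : finrank F R + finrank F ↥(E ⊓ U) = m := by
    have h1 := LinearMap.finrank_range_add_finrank_ker (T.domRestrict U)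
    rw [LinearMap.range_domRestrict, LinearMap.ker_domRestrict, h.rkU] at h1
    have h2 : Submodule.comap U.subtype (LinearMap.ker T) = Submodule.comap U.subtype (E ⊓ U) := by
      rw [Submodule.comap_inf, Submodule.comap_subtype_self, inf_top_eq]
      rfl
    rw [h2, LinearEquiv.finrank_eq (Submodule.comapSubtypeEquivOfLe
      (inf_le_right : E ⊓ U ≤ U))] at h1
    exact h1
  have hUR : U ≤ hperp q R := by
    intro u hu
    rw [mem_hperp]
    intro r hr
    exact h.tsU u hu r (hRU hr)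
  have hkey : hperp q R ⊓ W = E ⊓ W := by
    ext w
    rw [Submodule.mem_inf, Submodule.mem_inf]
    constructor
    · rintro ⟨hwR, hwW⟩
      refine ⟨?_, hwW⟩
      rw [hE, mem_eig]
      have hz : M *ᵥ w - ζ • w = 0 := by
        apply h.eq_zero_of_orth hF (W.sub_mem (map_mem hyW hwW) (W.smul_mem _ hwW))
        intro u hu
        obtain ⟨u', hu', rfl⟩ := map_surj hyU hu
        have h3 : hh w (T u') = 0 := (mem_hperp R w).mp hwR _ ⟨u', hu', rfl⟩
        rw [hTv, hermForm_sub_right hF, Helper13.hermForm_smul_right, sub_eq_zero] at h3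
        rw [hermForm_sub_left, Helper13.hermForm_smul_left, GU_preserves hy, h3, ← mul_assoc,
          mul_comm ζ, hζq, one_mul, sub_self]
      exact sub_eq_zero.mp hz
    · rintro ⟨hwE, hwW⟩
      refine ⟨?_, hwW⟩
      rw [mem_hperp]
      rintro _ ⟨u, hu, rfl⟩
      have hw2 := (mem_eig M ζ w).mp hwE
      have h3 := GU_preserves hy w u
      rw [← hM, hw2, Helper13.hermForm_smul_left] at h3
      rw [hTv, hermForm_sub_right hF, Helper13.hermForm_smul_right, ← h3, ← mul_assoc, hζq,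
        one_mul, sub_self]
  have hstep2 : finrank F ↥(E ⊓ W) = finrank F ↥(E ⊓ U) := by
    have h1 := finrank_hperp hF R
    have h2 : hperp q R ⊔ W = ⊤ := by
      rw [eq_top_iff, ← h.compl.sup_eq_top]
      exact sup_le_sup_right hUR W
    have h3 := Submodule.finrank_sup_add_finrank_inf_eq (hperp q R) W
    rw [h2, hkey, finrank_top, Module.finrank_fin_fun, h.rkW] at h3
    omega
  omega

/-- swap case, lower bound -/
theorem le_finrank_eig_of_swap {m : ℕ} {U W : Submodule F (Fin n → F)}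
    (h : IsPolar q m U W) (M : Matrix (Fin n) (Fin n) F) (hMU : ∀ u ∈ U, M *ᵥ u ∈ W) (μ : F)
    (hμ : μ ≠ 0) (hMM : M * M = (μ * μ) • (1 : Matrix (Fin n) (Fin n) F)) :
    m ≤ finrank F (eig M μ) := by
  let ψ : ↥U →ₗ[F] (Fin n → F) := U.subtype + μ⁻¹ • (Matrix.toLin' M ∘ₗ U.subtype)
  have hψ : ∀ u : ↥U, ψ u = (u : Fin n → F) + μ⁻¹ • (M *ᵥ (u : Fin n → F)) := by
    intro u
    show (u : Fin n → F) + μ⁻¹ • (Matrix.toLin' M (u : Fin n → F)) = _
    rw [Matrix.toLin'_apply]
  have hmem : ∀ u : ↥U, ψ u ∈ eig M μ := by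
    intro u
    rw [mem_eig, hψ, Matrix.mulVec_add, Matrix.mulVec_smul, Matrix.mulVec_mulVec, hMM,
      Matrix.smul_mulVec, Matrix.one_mulVec, smul_add, smul_smul, smul_smul]
    rw [← mul_assoc, inv_mul_cancel₀ hμ, one_mul, mul_inv_cancel₀ hμ, one_smul, add_comm]
  let φ : ↥U →ₗ[F] ↥(eig M μ) := LinearMap.codRestrict (eig M μ) ψ hmem
  have hinj : Function.Injective φ := by
    rw [← LinearMap.ker_eq_bot, LinearMap.ker_codRestrict, LinearMap.ker_eq_bot']
    intro u hu
    rw [hψ] at hu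
    have h1 : (u : Fin n → F) = -(μ⁻¹ • (M *ᵥ (u : Fin n → F))) := eq_neg_of_add_eq_zero_left hu
    have h2 : (u : Fin n → F) ∈ W := by
      rw [h1]
      exact W.neg_mem (W.smul_mem _ (hMU _ u.2))
    have h3 : (u : Fin n → F) = 0 := Submodule.disjoint_def.mp h.compl.disjoint _ u.2 h2
    exact Subtype.ext h3
  have := LinearMap.finrank_le_finrank_of_injective hinj
  rw [h.rkU] at this
  exact this

/-- swap case, upper bound for the fixed space -/
theorem finrank_eig_one_of_swap {m : ℕ} {U W : Submodule F (Fin n → F)}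
    (h : IsPolar q m U W) (M : Matrix (Fin n) (Fin n) F) (hMU : ∀ u ∈ U, M *ᵥ u ∈ W) :
    finrank F (eig M 1) + m ≤ n := by
  have hinf : eig M 1 ⊓ U = ⊥ := by
    rw [eq_bot_iff]
    rintro v ⟨hvE, hvU⟩
    rw [Submodule.mem_bot]
    have h1 := (mem_eig M 1 v).mp hvE
    rw [one_smul] at h1
    have h2 : v ∈ W := by rw [← h1]; exact hMU v hvU
    exact Submodule.disjoint_def.mp h.compl.disjoint _ hvU h2
  have h1 := Submodule.finrank_sup_add_finrank_inf_eq (eig M 1) U
  rw [hinf, finrank_bot, h.rkU, add_zero] at h1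
  have h2 : finrank F ↥(eig M 1 ⊔ U) ≤ n := by
    have := Submodule.finrank_le (eig M 1 ⊔ U)
    rw [Module.finrank_fin_fun] at this
    exact this
  omega

/-- eigenspaces of conjugates -/
theorem finrank_eig_conj (g x : GL (Fin n) F) (ζ : F) :
    finrank F (eig ((g⁻¹ * x * g : GL (Fin n) F) : Matrix (Fin n) (Fin n) F) ζ) =
      finrank F (eig (x : Matrix (Fin n) (Fin n) F) ζ) := by
  rw [← gl_map_finrank g (eig ((g⁻¹ * x * g : GL (Fin n) F) : Matrix (Fin n) (Fin n) F) ζ)]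
  have hmap : (eig ((g⁻¹ * x * g : GL (Fin n) F) : Matrix (Fin n) (Fin n) F) ζ).map
      (Matrix.toLin' (g : Matrix (Fin n) (Fin n) F)) = eig (x : Matrix (Fin n) (Fin n) F) ζ := by
    ext v
    constructor
    · rintro ⟨w, hw, rfl⟩
      have hw2 := (mem_eig _ ζ w).mp hw
      rw [mem_eig, Matrix.toLin'_apply]
      rw [Units.val_mul, Units.val_mul, ← Matrix.mulVec_mulVec, ← Matrix.mulVec_mulVec] at hw2
      have h3 := congrArg (fun z => (g : Matrix (Fin n) (Fin n) F) *ᵥ z) hw2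
      simp only [gl_mulVec_inv_mulVec, Matrix.mulVec_smul] at h3
      exact h3
    · intro hv
      have hv2 := (mem_eig _ ζ v).mp hv
      refine ⟨((g⁻¹ : GL (Fin n) F) : Matrix (Fin n) (Fin n) F) *ᵥ v, ?_, ?_⟩
      · rw [SetLike.mem_coe, mem_eig, Units.val_mul, Units.val_mul, ← Matrix.mulVec_mulVec,
          ← Matrix.mulVec_mulVec, gl_mulVec_inv_mulVec, hv2, Matrix.mulVec_smul]
      · rw [Matrix.toLin'_apply, gl_mulVec_inv_mulVec]
  rw [hmap]

/-- the two ways an element can stabilize a pair -/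
theorem stab_cases (D : Fin 2 → Submodule F (Fin n → F)) (y : GL (Fin n) F)
    (hy : y ∈ Cfsg.Geo.decompositionStabilizer D) :
    ((D 0).map (Matrix.toLin' (y : Matrix (Fin n) (Fin n) F)) = D 0 ∧
      (D 1).map (Matrix.toLin' (y : Matrix (Fin n) (Fin n) F)) = D 1) ∨
    ((D 0).map (Matrix.toLin' (y : Matrix (Fin n) (Fin n) F)) = D 1 ∧
      (D 1).map (Matrix.toLin' (y : Matrix (Fin n) (Fin n) F)) = D 0) := by
  obtain ⟨σ, hσ⟩ := hy
  have hcases : ∀ a : Fin 2, a = 0 ∨ a = 1 := by decide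
  have hne : σ 0 ≠ σ 1 := fun h => absurd (σ.injective h) (by decide)
  rcases hcases (σ 0) with h0 | h0
  · left
    have h1 : σ 1 = 1 := by
      rcases hcases (σ 1) with h1 | h1
      · exact absurd (h0.trans h1.symm) hne
      · exact h1
    exact ⟨by rw [hσ 0, h0], by rw [hσ 1, h1]⟩
  · right
    have h1 : σ 1 = 0 := by
      rcases hcases (σ 1) with h1 | h1
      · exact h1
      · exact absurd (h0.trans h1.symm) hne
    exact ⟨by rw [hσ 0, h0], by rw [hσ 1, h1]⟩

/-- odd powers of a swapping matrix swap -/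
theorem pow_swap {U W : Submodule F (Fin n → F)} (M : Matrix (Fin n) (Fin n) F)
    (hMU : ∀ u ∈ U, M *ᵥ u ∈ W) (hMW : ∀ u ∈ W, M *ᵥ u ∈ U) (k : ℕ) :
    ∀ u ∈ U, (M ^ (2 * k + 1)) *ᵥ u ∈ W := by
  induction k with
  | zero =>
    intro u hu
    rw [Nat.mul_zero, zero_add, pow_one]
    exact hMU u hu
  | succ k ih =>
    intro u hu
    have : 2 * (k + 1) + 1 = (2 * k + 1) + 1 + 1 := by ring
    rw [this, pow_succ, pow_succ, mul_assoc, ← Matrix.mulVec_mulVec, ← Matrix.mulVec_mulVec]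
    exact ih _ (hMW _ (hMU u hu))

end Cfsg.Agent.Lib.Helper8.UPair
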