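import Cfsg.Agent.Lib.Helper8.UPairTrans
import Cfsg.Agent.Lib.Helper8.SpDerIndex

/-!
# The index of the stabilizer of a polar pair in `SU_n(q)` (for S5984)

The subgroup of `GU` fixing both members of a polar pair acts simply transitively on the bases of
the first member, so has the order of `GL_{n/2}(q²)`.
-/

set_option autoImplicit false
set_option linter.unusedSectionVars false
set_option linter.unusedVariables false

namespace Cfsg.Agent.Lib.Helper8.UPair

open Matrix Module Cfsg.Agent.Lib.Helper99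

variable {F : Type*} [Field F] [Fintype F] {q n : ℕ}

local notation "hh" => Cfsg.hermForm n F q

/-- the subgroup of `GU` fixing both members of a pair -/
def fixBoth (q : ℕ) (U W : Submodule F (Fin n → F)) : Subgroup (GL (Fin n) F) :=
  Cfsg.GU n F q ⊓ Cfsg.Geo.subspaceStabilizer U ⊓ Cfsg.Geo.subspaceStabilizer W

theorem mem_fixBoth (U W : Submodule F (Fin n → F)) (g : GL (Fin n) F) :
    g ∈ fixBoth q U W ↔ g ∈ Cfsg.GU n F q ∧ g ∈ Cfsg.Geo.subspaceStabilizer U ∧
      g ∈ Cfsg.Geo.subspaceStabilizer W := by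
  unfold fixBoth
  rw [Subgroup.mem_inf, Subgroup.mem_inf, and_assoc]

theorem stab_mem {U : Submodule F (Fin n → F)} {g : GL (Fin n) F}
    (hg : g ∈ Cfsg.Geo.subspaceStabilizer U) {v : Fin n → F} (hv : v ∈ U) :
    (g : Matrix (Fin n) (Fin n) F) *ᵥ v ∈ U :=
  ((mem_subspaceStabilizer_iff U g).mp hg v).mp hv

theorem stab_surj {U : Submodule F (Fin n → F)} {g : GL (Fin n) F}
    (hg : g ∈ Cfsg.Geo.subspaceStabilizer U) {v : Fin n → F} (hv : v ∈ U) :
    ∃ v' ∈ U, (g : Matrix (Fin n) (Fin n) F) *ᵥ v' = v := by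
  refine ⟨((g⁻¹ : GL (Fin n) F) : Matrix (Fin n) (Fin n) F) *ᵥ v, ?_, gl_mulVec_inv_mulVec g v⟩
  rw [(mem_subspaceStabilizer_iff U g).mp hg, gl_mulVec_inv_mulVec]
  exact hv

theorem stab_map {U : Submodule F (Fin n → F)} {g : GL (Fin n) F}
    (hg : g ∈ Cfsg.Geo.subspaceStabilizer U) :
    U.map (Matrix.toLin' (g : Matrix (Fin n) (Fin n) F)) = U :=
  map_eq_of_le g U (fun _ hx => stab_mem hg hx)

/-- an element fixing both members of a polar pair is determined by its action on a spanning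
family of the first member -/
theorem fixBoth_ext (hF : Fintype.card F = q ^ 2) {m : ℕ} {U W : Submodule F (Fin n → F)}
    (h : IsPolar q m U W) {ι : Type*} (u : ι → (Fin n → F))
    (hu : Submodule.span F (Set.range u) = U) (g g' : GL (Fin n) F) (hg : g ∈ fixBoth q U W)
    (hg' : g' ∈ fixBoth q U W)
    (hgg : ∀ i, (g : Matrix (Fin n) (Fin n) F) *ᵥ u i = (g' : Matrix (Fin n) (Fin n) F) *ᵥ u i) :
    g = g' := by
  rw [mem_fixBoth] at hg hg'
  obtain ⟨hgU, hgSU, hgSW⟩ := hg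
  obtain ⟨hgU', hgSU', hgSW'⟩ := hg'
  have hU : ∀ v ∈ U, (g : Matrix (Fin n) (Fin n) F) *ᵥ v =
      (g' : Matrix (Fin n) (Fin n) F) *ᵥ v := by
    intro v hv
    rw [← hu] at hv
    have := LinearMap.eqOn_span (f := Matrix.toLin' (g : Matrix (Fin n) (Fin n) F))
      (g := Matrix.toLin' (g' : Matrix (Fin n) (Fin n) F)) (s := Set.range u) (by
        rintro _ ⟨i, rfl⟩
        rw [Matrix.toLin'_apply, Matrix.toLin'_apply]
        exact hgg i) hv
    rw [Matrix.toLin'_apply, Matrix.toLin'_apply] at this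
    exact this
  have hW : ∀ w ∈ W, (g : Matrix (Fin n) (Fin n) F) *ᵥ w =
      (g' : Matrix (Fin n) (Fin n) F) *ᵥ w := by
    intro w hw
    have hz : (g : Matrix (Fin n) (Fin n) F) *ᵥ w - (g' : Matrix (Fin n) (Fin n) F) *ᵥ w = 0 := by
      apply h.eq_zero_of_orth hF (W.sub_mem (stab_mem hgSW hw) (stab_mem hgSW' hw))
      intro v hv
      obtain ⟨v', hv', rfl⟩ := stab_surj hgSU hv
      rw [hermForm_sub_left, GU_preserves hgU, hU v' hv', GU_preserves hgU', sub_self]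
    exact sub_eq_zero.mp hz
  apply Units.ext
  rw [Matrix.ext_iff_mulVec]
  intro v
  have hv : v ∈ U ⊔ W := by rw [h.compl.sup_eq_top]; exact Submodule.mem_top
  obtain ⟨a, ha, b, hb, rfl⟩ := Submodule.mem_sup.mp hv
  rw [Matrix.mulVec_add, Matrix.mulVec_add, hU a ha, hW b hb]

/-- the order of the subgroup fixing both members of a polar pair -/
theorem card_fixBoth (hF : Fintype.card F = q ^ 2) {m : ℕ} (hm : 0 < m)
    {U W : Submodule F (Fin n → F)} (h : IsPolar q m U W) :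
    Nat.card (fixBoth q U W) = ∏ i : Fin m, ((q ^ 2) ^ m - (q ^ 2) ^ (i : ℕ)) := by
  classical
  obtain ⟨u₀, w₀, hfr, hsu, hsw⟩ := h.exists_frame' hF hm
  have hu₀U : ∀ i, u₀ i ∈ U := fun i => by rw [← hsu]; exact Submodule.subset_span ⟨i, rfl⟩
  have hli₀ := hfr.li_left hF
  have hker : ∀ g : GL (Fin n) F,
      LinearMap.ker (Matrix.toLin' (g : Matrix (Fin n) (Fin n) F)) = ⊥ := by
    intro g
    rw [LinearMap.ker_eq_bot]
    intro a b hab
    rw [Matrix.toLin'_apply, Matrix.toLin'_apply] at hab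
    exact mulVec_injective_of_GL g hab
  let Φ : ↥(fixBoth q U W) → {s : Fin m → ↥U // LinearIndependent F s} := fun g =>
    ⟨fun i => ⟨((g : GL (Fin n) F) : Matrix (Fin n) (Fin n) F) *ᵥ u₀ i,
      stab_mem ((mem_fixBoth U W g.1).mp g.2).2.1 (hu₀U i)⟩, by
      apply LinearIndependent.of_comp U.subtype
      have := hli₀.map' (Matrix.toLin' ((g : GL (Fin n) F) : Matrix (Fin n) (Fin n) F))
        (hker g.1)
      exact this⟩
  have hΦ : ∀ (g : ↥(fixBoth q U W)) (i : Fin m), (((Φ g).1 i : ↥U) : Fin n → F) =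
      ((g : GL (Fin n) F) : Matrix (Fin n) (Fin n) F) *ᵥ u₀ i := fun g i => rfl
  have hinj : Function.Injective Φ := by
    intro g g' hgg
    apply Subtype.ext
    apply fixBoth_ext hF h u₀ hsu g.1 g'.1 g.2 g'.2
    intro i
    rw [← hΦ g i, ← hΦ g' i, hgg]
  have hsurj : Function.Surjective Φ := by
    rintro ⟨s, hs⟩
    let u : Fin m → (Fin n → F) := fun i => ((s i : ↥U) : Fin n → F)
    have hu : LinearIndependent F u := hs.map' U.subtype (Submodule.ker_subtype U)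
    have huU : ∀ i, u i ∈ U := fun i => (s i).2
    obtain ⟨w, hw, hfr'⟩ := h.exists_frame hF hm u hu huU
    obtain ⟨g, hgGU, hgu, hgw⟩ := exists_GU_frame_map hF hfr hfr'
    have hgSU : g ∈ Cfsg.Geo.subspaceStabilizer U := by
      apply mem_subspaceStabilizer_of_forall
      intro v hv
      have h1 := map_span_range (g : Matrix (Fin n) (Fin n) F) u₀ u hgu
      rw [hsu, span_eq_of_li hu huU (by rw [Fintype.card_fin, h.rkU])] at h1
      exact map_mem h1 hv
    have hgSW : g ∈ Cfsg.Geo.subspaceStabilizer W := by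
      apply mem_subspaceStabilizer_of_forall
      intro v hv
      have h1 := map_span_range (g : Matrix (Fin n) (Fin n) F) w₀ w hgw
      rw [hsw, span_eq_of_li (hfr'.li_right hF) hw (by rw [Fintype.card_fin, h.rkW])] at h1
      exact map_mem h1 hv
    refine ⟨⟨g, (mem_fixBoth U W g).mpr ⟨hgGU, hgSU, hgSW⟩⟩, ?_⟩
    apply Subtype.ext
    funext i
    apply Subtype.ext
    rw [hΦ]
    exact hgu i
  rw [Nat.card_congr (Equiv.ofBijective Φ ⟨hinj, hsurj⟩), card_linearIndependent (by rw [h.rkU]),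
    hF, h.rkU]

/-- Lagrange bookkeeping: `r ∣ |SU : H|` forces `r |GL_m(q²)| ∣ |GU_n(q)|`. -/
theorem mul_card_dvd_card_GU (hF : Fintype.card F = q ^ 2) {m : ℕ} (hm : 0 < m)
    (D : Fin 2 → Submodule F (Fin n → F)) (h : IsPolar q m (D 0) (D 1)) (r : ℕ)
    (hΩ : r ∣ (Cfsg.Geo.decompositionStabilizer D).relIndex
      (Cfsg.GU n F q ⊓ Cfsg.Geo.specialLinear (Fin n) F)) :
    r * ∏ i : Fin m, ((q ^ 2) ^ m - (q ^ 2) ^ (i : ℕ)) ∣ Nat.card (Cfsg.GU n F q) := by
  classical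
  set Hs := Cfsg.Geo.decompositionStabilizer D with hHs
  set GUn := Cfsg.GU n F q with hGUn
  set S := Cfsg.Geo.specialLinear (Fin n) F with hS
  set K := GUn ⊓ Hs with hK
  have hK0 : fixBoth q (D 0) (D 1) ≤ K := by
    intro g hg
    rw [mem_fixBoth] at hg
    refine Subgroup.mem_inf.mpr ⟨hg.1, 1, Fin.forall_fin_two.mpr ⟨?_, ?_⟩⟩
    · rw [Equiv.Perm.one_apply]; exact stab_map hg.2.1
    · rw [Equiv.Perm.one_apply]; exact stab_map hg.2.2
  have hcardK0 : (∏ i : Fin m, ((q ^ 2) ^ m - (q ^ 2) ^ (i : ℕ))) ∣ Nat.card K := by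
    rw [← card_fixBoth hF hm h]
    exact Subgroup.card_dvd_of_le hK0
  have heq : Hs ⊓ (GUn ⊓ S) = K ⊓ S := by
    rw [hK, ← inf_assoc, inf_comm Hs GUn]
  have e1 : Nat.card ↥(K ⊓ S) * Hs.relIndex (GUn ⊓ S) = Nat.card ↥(GUn ⊓ S) := by
    have := Subgroup.relIndex_mul_relIndex ⊥ (Hs ⊓ (GUn ⊓ S)) (GUn ⊓ S) bot_le inf_le_right
    rw [Subgroup.relIndex_bot_left, Subgroup.relIndex_bot_left, Subgroup.inf_relIndex_right,
      heq] at this
    exact this
  have e2 : Nat.card ↥(K ⊓ S) * S.relIndex K = Nat.card K := by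
    have := Subgroup.relIndex_mul_relIndex ⊥ (K ⊓ S) K bot_le inf_le_left
    rw [Subgroup.relIndex_bot_left, Subgroup.relIndex_bot_left, Subgroup.inf_relIndex_left] at this
    exact this
  have e3 : Nat.card ↥(GUn ⊓ S) * S.relIndex GUn = Nat.card GUn := by
    have := Subgroup.relIndex_mul_relIndex ⊥ (GUn ⊓ S) GUn bot_le inf_le_left
    rw [Subgroup.relIndex_bot_left, Subgroup.relIndex_bot_left, Subgroup.inf_relIndex_left] at this
    exact this
  have e4 : S.relIndex K ∣ S.relIndex GUn := by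
    have hSker : S = (Matrix.GeneralLinearGroup.det : GL (Fin n) F →* Fˣ).ker := rfl
    rw [hSker, Subgroup.relIndex_ker, Subgroup.relIndex_ker]
    exact Subgroup.card_dvd_of_le (Subgroup.map_mono inf_le_left)
  have h2 : r * Nat.card K ∣ Nat.card GUn := by
    rw [← e3, ← e1, ← e2]
    have : r * (Nat.card ↥(K ⊓ S) * S.relIndex K) =
        Nat.card ↥(K ⊓ S) * r * S.relIndex K := by ring
    rw [this]
    exact Nat.mul_dvd_mul (Nat.mul_dvd_mul (dvd_refl _) hΩ) e4
  exact dvd_trans (Nat.mul_dvd_mul (dvd_refl r) hcardK0) h2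

/-! ### Number theory -/

theorem card_GL_factor' (Q m : ℕ) (hQ : 1 ≤ Q) :
    ∏ i : Fin m, (Q ^ m - Q ^ (i : ℕ)) =
      Q ^ (∑ i ∈ Finset.range m, i) * ∏ j ∈ Finset.range m, (Q ^ (j + 1) - 1) := by
  rw [Fin.prod_univ_eq_prod_range (fun i => Q ^ m - Q ^ i) m]
  have h1 : ∀ i ∈ Finset.range m, Q ^ m - Q ^ i = Q ^ i * (Q ^ (m - i) - 1) := by
    intro i hi
    rw [Finset.mem_range] at hi
    rw [Nat.mul_sub, mul_one, ← pow_add]
    congr 2
    omega
  rw [Finset.prod_congr rfl h1, Finset.prod_mul_distrib, Finset.prod_pow_eq_pow_sum]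
  congr 1
  rw [← Finset.prod_range_reflect (fun k => Q ^ (k + 1) - 1) m]
  apply Finset.prod_congr rfl
  intro i hi
  rw [Finset.mem_range] at hi
  have : m - 1 - i + 1 = m - i := by omega
  rw [this]

theorem exists_odd_of_dvd_GU (q m r N : ℕ) (hq : 2 ≤ q) (hr : r.Prime) (hrq : Nat.Coprime r q)
    (h : r * ∏ i : Fin m, ((q ^ 2) ^ m - (q ^ 2) ^ (i : ℕ)) ∣
      q ^ N * ∏ i ∈ Finset.range (2 * m),
        (if Even i then q ^ (i + 1) + 1 else q ^ (i + 1) - 1)) :
    ∃ j < m, r ∣ q ^ (2 * j + 1) + 1 := by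
  rw [card_GL_factor' (q ^ 2) m (Nat.one_le_pow _ _ (by omega)),
    SpDer.prod_range_two_mul (fun i => if Even i then q ^ (i + 1) + 1 else q ^ (i + 1) - 1) m] at h
  have hB : ∏ j ∈ Finset.range m, (if Even (2 * j) then q ^ (2 * j + 1) + 1
      else q ^ (2 * j + 1) - 1) = ∏ j ∈ Finset.range m, (q ^ (2 * j + 1) + 1) := by
    apply Finset.prod_congr rfl
    intro j _
    rw [if_pos (even_two_mul j)]
  have hA : ∏ j ∈ Finset.range m, (if Even (2 * j + 1) then q ^ (2 * j + 1 + 1) + 1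
      else q ^ (2 * j + 1 + 1) - 1) = ∏ j ∈ Finset.range m, ((q ^ 2) ^ (j + 1) - 1) := by
    apply Finset.prod_congr rfl
    intro j _
    rw [if_neg (by rw [Nat.not_even_iff_odd]; exact odd_two_mul_add_one j), ← pow_mul]
    congr 2
  rw [hB, hA] at h
  set A := ∏ j ∈ Finset.range m, ((q ^ 2) ^ (j + 1) - 1) with hAdef
  set B := ∏ j ∈ Finset.range m, (q ^ (2 * j + 1) + 1) with hBdef
  have hApos : 0 < A := by
    apply Finset.prod_pos
    intro i _
    have : 2 ≤ (q ^ 2) ^ (i + 1) := by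
      calc 2 ≤ q := hq
        _ = q ^ 1 := (pow_one q).symm
        _ ≤ q ^ (2 * (i + 1)) := Nat.pow_le_pow_right (by omega) (by omega)
        _ = (q ^ 2) ^ (i + 1) := by rw [pow_mul]
    omega
  set M := ∑ i ∈ Finset.range m, i with hMdef
  have h1 : r * (q ^ 2) ^ M * A ∣ q ^ N * B * A := by
    have e1 : r * (q ^ 2) ^ M * A = r * ((q ^ 2) ^ M * A) := by ring
    have e2 : q ^ N * B * A = q ^ N * (B * A) := by ring
    rw [e1, e2]; exact h
  have h2 : r * (q ^ 2) ^ M ∣ q ^ N * B := Nat.dvd_of_mul_dvd_mul_right hApos h1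
  have h3 : r ∣ q ^ N * B := dvd_trans (dvd_mul_right r _) h2
  have h4 : r ∣ B := (Nat.Coprime.pow_right N hrq).dvd_of_dvd_mul_left h3
  obtain ⟨j, hj, hdvd⟩ := (Prime.dvd_finsetProd_iff hr.prime _).mp h4
  exact ⟨j, Finset.mem_range.mp hj, hdvd⟩

/-- A prime `r ≠ p` dividing the index of the stabilizer of a polar pair in `SU_{2m}(q)` divides
`q^i + 1` for some odd `i < 2m`. -/
theorem exists_odd_dvd_of_dvd_index (hF : Fintype.card F = q ^ 2) {p : ℕ} [Fact p.Prime]
    [CharP F p] {m : ℕ} (hm : 0 < m)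
    (D : Fin 2 → Submodule F (Fin n → F)) (h : IsPolar q m (D 0) (D 1)) (r : ℕ) [Fact r.Prime]
    (hrp : r ≠ p)
    (hΩ : r ∣ (Cfsg.Geo.decompositionStabilizer D).relIndex
      (Cfsg.GU n F q ⊓ Cfsg.Geo.specialLinear (Fin n) F)) :
    ∃ j < m, r ∣ q ^ (2 * j + 1) + 1 := by
  have h1 := mul_card_dvd_card_GU hF hm D h r hΩ
  rw [Cfsg.Agent.Lib.Helper5.card_GU hF n, h.dim] at h1
  have hq : 2 ≤ q := q_ge_two hF
  have hcop : Nat.Coprime r q := by
    obtain ⟨k, hk⟩ := FiniteField.card F p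
    have hrp' : Nat.Coprime r p :=
      (Nat.coprime_primes (Fact.out : r.Prime) (Fact.out : p.Prime)).mpr hrp
    have h2 : Nat.Coprime r (q ^ 2) := by
      rw [← hF, hk.2]
      exact Nat.Coprime.pow_right _ hrp'
    exact Nat.Coprime.coprime_dvd_right (dvd_pow_self q (by norm_num)) h2
  exact exists_odd_of_dvd_GU q m r _ hq Fact.out hcop h1

end Cfsg.Agent.Lib.Helper8.UPair
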