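import Cfsg.Agent.Lib.Helper8.UPairElts
import Cfsg.Agent.Lib.Helper8.UPairIndex
import Cfsg.Agent.Lib.Helper8.UPairConv

/-!
# Derangements of prime order of `SU_n(q)` on polar pairs (for S5984)
-/

set_option autoImplicit false
set_option linter.unusedSectionVars false
set_option linter.unusedVariables false

namespace Cfsg.Agent.Lib.Helper8.UPair

open Matrix Module Cfsg.Agent.Lib.Helper99

variable {F : Type*} [Field F] [Fintype F] {q n : ℕ}

local notation "hh" => Cfsg.hermForm n F q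

/-- an element with an odd-dimensional eigenspace can only have conjugates swapping the pair -/
theorem swap_of_odd_eig (hF : Fintype.card F = q ^ 2) {m : ℕ}
    (D : Fin 2 → Submodule F (Fin n → F)) (hP : IsPolar q m (D 0) (D 1)) (x g : GL (Fin n) F)
    (hx : x ∈ Cfsg.GU n F q) (hg : g ∈ Cfsg.GU n F q) (ζ : F) (hζ : ζ ^ (q + 1) = 1)
    (hodd : Odd (finrank F (eig (x : Matrix (Fin n) (Fin n) F) ζ)))
    (hmem : g⁻¹ * x * g ∈ Cfsg.Geo.decompositionStabilizer D) :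
    (∀ u ∈ D 0, ((g⁻¹ * x * g : GL (Fin n) F) : Matrix (Fin n) (Fin n) F) *ᵥ u ∈ D 1) ∧
    (∀ u ∈ D 1, ((g⁻¹ * x * g : GL (Fin n) F) : Matrix (Fin n) (Fin n) F) *ᵥ u ∈ D 0) := by
  rcases stab_cases D _ hmem with ⟨h0, h1⟩ | ⟨h0, h1⟩
  · exfalso
    have hy : g⁻¹ * x * g ∈ Cfsg.GU n F q :=
      Subgroup.mul_mem _ (Subgroup.mul_mem _ (Subgroup.inv_mem _ hg) hx) hg
    have h3 := finrank_eig_of_fix hF hP _ hy h0 h1 ζ hζ
    rw [finrank_eig_conj g x ζ] at h3
    obtain ⟨k, hk⟩ := hodd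
    omega
  · exact ⟨fun u hu => map_mem h0 hu, fun u hu => map_mem h1 hu⟩

theorem exists_ne_zero_mem {m : ℕ} (hm : 0 < m) {U W : Submodule F (Fin n → F)}
    (hP : IsPolar q m U W) : ∃ u ∈ U, u ≠ 0 := by
  apply Submodule.exists_mem_ne_zero_of_ne_bot
  intro h
  have := hP.rkU
  rw [h, finrank_bot] at this
  omega

/-! ### `r = p` -/

theorem no_conj_utv (hF : Fintype.card F = q ^ 2) {p : ℕ} [Fact p.Prime] [CharP F p] {m : ℕ}
    (hm : 2 ≤ m) (D : Fin 2 → Submodule F (Fin n → F)) (hP : IsPolar q m (D 0) (D 1)) :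
    ∃ x ∈ Cfsg.GU n F q ⊓ Cfsg.Geo.specialLinear (Fin n) F,
      ((x ^ p : GL (Fin n) F) : Matrix (Fin n) (Fin n) F) = 1 ∧
      (∀ z : F, (x : Matrix (Fin n) (Fin n) F) ≠ z • (1 : Matrix (Fin n) (Fin n) F)) ∧
      ∀ g ∈ Cfsg.GU n F q ⊓ Cfsg.Geo.specialLinear (Fin n) F,
        g⁻¹ * x * g ∉ Cfsg.Geo.decompositionStabilizer D := by
  obtain ⟨u, huU, hu0⟩ := exists_ne_zero_mem (by omega) hP
  have hu : hh u u = 0 := hP.tsU u huU u huU
  obtain ⟨τ, hτ0, hτ⟩ := exists_trace_zero hF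
  have hn := hP.dim
  refine ⟨utv q u τ, Subgroup.mem_inf.mpr ⟨utv_mem_GU hF u hu τ hτ, utv_mem_SL u hu τ⟩,
    utv_pow_char u hu τ, utv_not_scalar hF u hu0 hu τ hτ0, ?_⟩
  intro g hg hmem
  have hgGU := (Subgroup.mem_inf.mp hg).1
  have hfr := finrank_eig_utv hF u hu0 hu τ hτ0
  have hsw := swap_of_odd_eig hF D hP (utv q u τ) g (utv_mem_GU hF u hu τ hτ) hgGU 1
    (one_pow _) ⟨m - 1, by omega⟩ hmem
  have h1 := finrank_eig_one_of_swap hP _ hsw.1
  rw [finrank_eig_conj g (utv q u τ) 1] at h1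
  omega

/-! ### odd `r ≠ p` -/

theorem not_mem_of_odd_order (hF : Fintype.card F = q ^ 2) {m : ℕ} (hm : 2 ≤ m)
    (D : Fin 2 → Submodule F (Fin n → F)) (hP : IsPolar q m (D 0) (D 1)) (r : ℕ) (hrodd : Odd r)
    (x : GL (Fin n) F) (hx : x ∈ Cfsg.GU n F q) (hxr : x ^ r = 1) (ζ : F) (hζ : ζ ^ (q + 1) = 1)
    (hodd : Odd (finrank F (eig (x : Matrix (Fin n) (Fin n) F) ζ))) :
    ∀ g ∈ Cfsg.GU n F q, g⁻¹ * x * g ∉ Cfsg.Geo.decompositionStabilizer D := by
  intro g hg hmem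
  have hsw := swap_of_odd_eig hF D hP x g hx hg ζ hζ hodd hmem
  set y := g⁻¹ * x * g with hy
  have hyr : y ^ r = 1 := by
    have := conj_pow (a := g⁻¹) (b := x) (i := r)
    rw [inv_inv] at this
    rw [hy, this, hxr, mul_one, inv_mul_cancel]
  obtain ⟨k, hk⟩ := hrodd
  have h1 := pow_swap (y : Matrix (Fin n) (Fin n) F) hsw.1 hsw.2 k
  rw [← Units.val_pow_eq_pow_val, ← hk, hyr, Units.val_one] at h1
  obtain ⟨u, huU, hu0⟩ := exists_ne_zero_mem (by omega) hP
  have h2 := h1 u huU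
  rw [Matrix.one_mulVec] at h2
  exact hu0 (Submodule.disjoint_def.mp hP.compl.disjoint u huU h2)

/-- `r ∣ q + 1`: the element `diag(ζ, ζ⁻¹, 1, …, 1)` -/
theorem no_conj_diag_odd (hF : Fintype.card F = q ^ 2) {m : ℕ} (hm : 2 ≤ m)
    (D : Fin 2 → Submodule F (Fin n → F)) (hP : IsPolar q m (D 0) (D 1)) (r : ℕ) [Fact r.Prime]
    (hr2 : r ≠ 2) (hrq : r ∣ q + 1) :
    ∃ x ∈ Cfsg.GU n F q ⊓ Cfsg.Geo.specialLinear (Fin n) F, x ^ r = 1 ∧
      (∀ z : F, (x : Matrix (Fin n) (Fin n) F) ≠ z • (1 : Matrix (Fin n) (Fin n) F)) ∧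
      ∀ g ∈ Cfsg.GU n F q ⊓ Cfsg.Geo.specialLinear (Fin n) F,
        g⁻¹ * x * g ∉ Cfsg.Geo.decompositionStabilizer D := by
  classical
  have hrprime : r.Prime := Fact.out
  have hrodd : Odd r := hrprime.odd_of_ne_two hr2
  have hn := hP.dim
  obtain ⟨ζ', hζ'⟩ := exists_prime_orderOf_dvd_card' (G := ↥(Helper13.normOne F q)) r
    (by rw [Helper13.card_normOne hF]; exact hrq)
  set ζ : F := ((ζ' : Fˣ) : F) with hζdef
  have hζn : ζ ^ (q + 1) = 1 := by
    have := (Helper13.mem_normOne q (ζ' : Fˣ)).mp ζ'.2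
    rw [hζdef, ← Units.val_pow_eq_pow_val, this, Units.val_one]
  have hζr : ζ ^ r = 1 := by
    have h1 : ζ' ^ r = 1 := by rw [← hζ']; exact pow_orderOf_eq_one ζ'
    have h2 := congrArg (fun y : ↥(Helper13.normOne F q) => ((y : Fˣ) : F)) h1
    simpa using h2
  have hζ1 : ζ ≠ 1 := by
    intro h1
    have h2 : ζ' = 1 := by
      apply Subtype.ext
      apply Units.ext
      exact h1
    rw [h2, orderOf_one] at hζ'
    exact hrprime.one_lt.ne hζ'
  have hζ0 : ζ ≠ 0 := by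
    rintro h0
    rw [h0, zero_pow (by omega)] at hζn
    exact zero_ne_one hζn
  have hζinv : ζ⁻¹ ≠ ζ := by
    intro h
    have h2 : ζ * ζ = 1 := by
      nth_rewrite 1 [← h]
      exact inv_mul_cancel₀ hζ0
    obtain ⟨k, hk⟩ := hrodd
    apply hζ1
    rw [hk, pow_succ, pow_mul, pow_two, h2, one_pow, one_mul] at hζr
    exact hζr
  let i₀ : Fin n := ⟨0, by omega⟩
  let i₁ : Fin n := ⟨1, by omega⟩
  have hi : i₁ ≠ i₀ := by
    intro h
    have := congrArg Fin.val h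
    simp [i₀, i₁] at this
  let d : Fin n → F := fun i => (if i = i₀ then ζ else 1) * (if i = i₁ then ζ⁻¹ else 1)
  have hd : ∀ i, d i ^ (q + 1) = 1 := by
    intro i
    simp only [d]
    rw [mul_pow]
    split_ifs <;> simp [hζn, inv_pow]
  have hprod : ∏ i, d i = 1 := by
    simp only [d]
    rw [Finset.prod_mul_distrib, Finset.prod_ite_eq' Finset.univ i₀ (fun _ => ζ),
      Finset.prod_ite_eq' Finset.univ i₁ (fun _ => ζ⁻¹), if_pos (Finset.mem_univ _),
      if_pos (Finset.mem_univ _), mul_inv_cancel₀ hζ0]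
  have hd0 : d i₀ = ζ := by
    show (if i₀ = i₀ then ζ else 1) * (if i₀ = i₁ then ζ⁻¹ else 1) = ζ
    rw [if_pos rfl, if_neg (fun h => hi h.symm), mul_one]
  have hne : ∀ i, i ≠ i₀ → d i ≠ d i₀ := by
    intro i hii
    rw [hd0]
    simp only [d]
    rw [if_neg hii, one_mul]
    split_ifs
    · exact hζinv
    · exact fun h => hζ1 h.symm
  have hdr : ∀ i, d i ^ r = 1 := by
    intro i
    simp only [d]
    rw [mul_pow]
    split_ifs <;> simp [hζr, inv_pow]
  set x : GL (Fin n) F := ((Helper13.diagGU n q d hd : Cfsg.GU n F q) : GL (Fin n) F) with hx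
  have hxval : (x : Matrix (Fin n) (Fin n) F) = Matrix.diagonal d := Helper13.diagGU_val n q d hd
  have hxmem := diagGU_mem d hd hprod
  have hxr : x ^ r = 1 := by
    apply Units.ext
    rw [Units.val_pow_eq_pow_val, hxval, Matrix.diagonal_pow, Units.val_one]
    have : d ^ r = fun _ => (1 : F) := by
      funext i
      rw [Pi.pow_apply, hdr]
    rw [this, Matrix.diagonal_one]
  refine ⟨x, hxmem, hxr, ?_, ?_⟩
  · intro z
    rw [hxval]
    exact diagonal_not_scalar d i₀ i₁ hi hne z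
  · intro g hg
    apply not_mem_of_odd_order hF hm D hP r hrodd x (Subgroup.mem_inf.mp hxmem).1 hxr ζ hζn ?_ g
      (Subgroup.mem_inf.mp hg).1
    rw [hxval, ← hd0, finrank_eig_diagonal d i₀ hne]
    exact odd_one

/-- `r ∤ q + 1`: the Cauchy element of `GU_i(q)` for the minimal odd `i` -/
theorem no_conj_cauchy (hF : Fintype.card F = q ^ 2) {m : ℕ} (hm : 2 ≤ m) (i j : ℕ)
    (D : Fin 2 → Submodule F (Fin (i + j) → F)) (hP : IsPolar q m (D 0) (D 1)) (r : ℕ)
    [Fact r.Prime] (hr2 : r ≠ 2) (hrq : Nat.Coprime r q) (hrq1 : ¬ r ∣ q + 1)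
    (hri : r ∣ q ^ i + 1) (hiodd : Odd i) (hmin : ∀ k < i, Odd k → ¬ r ∣ q ^ k + 1)
    (hj : Odd j) :
    ∃ x ∈ Cfsg.GU (i + j) F q ⊓ Cfsg.Geo.specialLinear (Fin (i + j)) F, x ^ r = 1 ∧
      (∀ z : F, (x : Matrix (Fin (i + j)) (Fin (i + j)) F) ≠
        z • (1 : Matrix (Fin (i + j)) (Fin (i + j)) F)) ∧
      ∀ g ∈ Cfsg.GU (i + j) F q ⊓ Cfsg.Geo.specialLinear (Fin (i + j)) F,
        g⁻¹ * x * g ∉ Cfsg.Geo.decompositionStabilizer D := by
  classical
  have hrprime : r.Prime := Fact.out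
  have hrodd : Odd r := hrprime.odd_of_ne_two hr2
  have hcard : r ∣ Nat.card (Cfsg.GU i F q) := by
    rw [Cfsg.Agent.Lib.Helper5.card_GU hF i]
    apply dvd_mul_of_dvd_right
    obtain ⟨t, ht⟩ := hiodd
    have hmem : i - 1 ∈ Finset.range i := Finset.mem_range.mpr (by omega)
    have h1 := Finset.dvd_prod_of_mem
      (fun k => if Even k then q ^ (k + 1) + 1 else q ^ (k + 1) - 1) hmem
    have h2 : (if Even (i - 1) then q ^ (i - 1 + 1) + 1 else q ^ (i - 1 + 1) - 1) = q ^ i + 1 := by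
      rw [if_pos ⟨t, by omega⟩]
      congr 2
      omega
    rw [h2] at h1
    exact dvd_trans hri h1
  obtain ⟨x, hxGU, hxr, hx1, hfix⟩ := exists_cauchy_elt hF i j r hcard
  have hfr := finrank_fix_cauchy hF i j r hr2 hrq hri hiodd hmin x hxr hx1 hfix
  have hdet : (x : Matrix (Fin (i + j)) (Fin (i + j)) F).det = 1 := by
    have h1 : (x : Matrix (Fin (i + j)) (Fin (i + j)) F).det ^ r = 1 := by
      rw [← Matrix.det_pow, ← Units.val_pow_eq_pow_val, hxr, Units.val_one, Matrix.det_one]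
    have h2 := Helper13.GU_det_pow hF (i + j) x hxGU
    have h3 : Nat.gcd r (q + 1) = 1 := (Nat.Prime.coprime_iff_not_dvd hrprime).mpr hrq1
    have h4 := pow_gcd_eq_one.mpr ⟨h1, h2⟩
    rw [h3, pow_one] at h4
    exact h4
  have hj0 : 0 < j := by
    obtain ⟨t, ht⟩ := hj
    omega
  refine ⟨x, Subgroup.mem_inf.mpr ⟨hxGU, (mem_specialLinear_iff x).mpr hdet⟩, hxr, ?_, ?_⟩
  · intro z hz
    let k₀ : Fin (i + j) := ⟨0, by omega⟩
    have h1 := hfix k₀ hj0
    rw [hz, Matrix.smul_mulVec, Matrix.one_mulVec] at h1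
    have h2 := congrFun h1 k₀
    rw [Pi.smul_apply, Pi.single_eq_same, smul_eq_mul, mul_one] at h2
    apply hx1
    apply Units.ext
    rw [hz, h2, one_smul, Units.val_one]
  · intro g hg
    apply not_mem_of_odd_order hF hm D hP r hrodd x hxGU hxr 1 (one_pow _) ?_ g
      (Subgroup.mem_inf.mp hg).1
    rw [hfr]
    exact hj

theorem no_conj_odd (hF : Fintype.card F = q ^ 2) {p : ℕ} [Fact p.Prime] [CharP F p] {m : ℕ}
    (hm : 2 ≤ m) (D : Fin 2 → Submodule F (Fin n → F)) (hP : IsPolar q m (D 0) (D 1)) (r : ℕ)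
    [Fact r.Prime] (hr2 : r ≠ 2) (hrp : r ≠ p)
    (hΩ : r ∣ (Cfsg.Geo.decompositionStabilizer D).relIndex
      (Cfsg.GU n F q ⊓ Cfsg.Geo.specialLinear (Fin n) F)) :
    ∃ x ∈ Cfsg.GU n F q ⊓ Cfsg.Geo.specialLinear (Fin n) F, x ^ r = 1 ∧
      (∀ z : F, (x : Matrix (Fin n) (Fin n) F) ≠ z • (1 : Matrix (Fin n) (Fin n) F)) ∧
      ∀ g ∈ Cfsg.GU n F q ⊓ Cfsg.Geo.specialLinear (Fin n) F,
        g⁻¹ * x * g ∉ Cfsg.Geo.decompositionStabilizer D := by
  classical
  by_cases hrq1 : r ∣ q + 1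
  · exact no_conj_diag_odd hF hm D hP r hr2 hrq1
  · obtain ⟨j₀, hj₀, hdvd⟩ := exists_odd_dvd_of_dvd_index hF (by omega) D hP r hrp hΩ
    have hex : ∃ k, Odd k ∧ r ∣ q ^ k + 1 := ⟨2 * j₀ + 1, odd_two_mul_add_one j₀, hdvd⟩
    set i := Nat.find hex with hi
    have hispec := Nat.find_spec hex
    have himin : ∀ k < i, Odd k → ¬ r ∣ q ^ k + 1 := by
      intro k hk hodd hd
      exact Nat.find_min hex hk ⟨hodd, hd⟩
    have hile : i ≤ 2 * j₀ + 1 := Nat.find_min' hex ⟨odd_two_mul_add_one j₀, hdvd⟩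
    have hn := hP.dim
    have hcop : Nat.Coprime r q := by
      obtain ⟨k, hk⟩ := FiniteField.card F p
      have hrp' : Nat.Coprime r p :=
        (Nat.coprime_primes (Fact.out : r.Prime) (Fact.out : p.Prime)).mpr hrp
      have h2 : Nat.Coprime r (q ^ 2) := by
        rw [← hF, hk.2]
        exact Nat.Coprime.pow_right _ hrp'
      exact Nat.Coprime.coprime_dvd_right (dvd_pow_self q (by norm_num)) h2
    obtain ⟨j, hj⟩ : ∃ j, n = i + j := ⟨n - i, by omega⟩
    have hjodd : Odd j := by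
      obtain ⟨t, ht⟩ := hispec.1
      exact ⟨m - t - 1, by omega⟩
    subst hj
    exact no_conj_cauchy hF hm i j D hP r hr2 hcop hrq1 hispec.2 hispec.1 himin hjodd

/-! ### `r = 2`, `q` odd -/

theorem exists_nu (hF : Fintype.card F = q ^ 2) (hn0 : n ≠ 0)
    (hs : padicValNat 2 n < padicValNat 2 (q + 1)) :
    ∃ ν : F, ν ^ (q + 1) = 1 ∧ ν ^ n = -1 := by
  classical
  set s' := padicValNat 2 n with hs'
  have hdvd : 2 ^ (s' + 1) ∣ q + 1 := dvd_trans (pow_dvd_pow 2 (by omega)) pow_padicValNat_dvd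
  obtain ⟨e, he⟩ := hdvd
  have he0 : e ≠ 0 := by
    rintro rfl
    omega
  obtain ⟨g, hg⟩ := IsCyclic.exists_ofOrder_eq_natCard (α := ↥(Helper13.normOne F q))
  rw [Helper13.card_normOne hF] at hg
  set ν' := g ^ e with hν'
  have hord : orderOf ν' = 2 ^ (s' + 1) := by
    rw [hν', orderOf_pow_of_dvd he0 (by rw [hg, he]; exact dvd_mul_left e _), hg, he,
      Nat.mul_div_cancel _ (Nat.pos_of_ne_zero he0)]
  set ν : F := ((ν' : Fˣ) : F) with hνdef
  have hνn : ν ^ (q + 1) = 1 := by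
    have := (Helper13.mem_normOne q (ν' : Fˣ)).mp ν'.2
    rw [hνdef, ← Units.val_pow_eq_pow_val, this, Units.val_one]
  have hcoe : ∀ k : ℕ, ν ^ k = 1 → ν' ^ k = 1 := by
    intro k hk
    apply Subtype.ext
    apply Units.ext
    rw [Subgroup.coe_pow, Units.val_pow_eq_pow_val]
    exact hk
  have hw1 : ν ^ (2 ^ s') ≠ 1 := by
    intro h
    have := hcoe _ h
    exact pow_ne_one_of_lt_orderOf (by positivity) (by rw [hord]; exact Nat.pow_lt_pow_right (by norm_num) (by omega)) this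
  have hw2 : ν ^ (2 ^ s') * ν ^ (2 ^ s') = 1 := by
    rw [← pow_add, ← two_mul, ← pow_succ']
    have h1 : ν' ^ (2 ^ (s' + 1)) = 1 := by rw [← hord]; exact pow_orderOf_eq_one ν'
    have h2 := congrArg (fun y : ↥(Helper13.normOne F q) => ((y : Fˣ) : F)) h1
    simpa using h2
  have hw : ν ^ (2 ^ s') = -1 := by
    rcases mul_self_eq_one_iff.mp hw2 with h | h
    · exact absurd h hw1
    · exact h
  obtain ⟨n', hn'⟩ : 2 ^ s' ∣ n := pow_padicValNat_dvd
  have hn'odd : Odd n' := by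
    rw [← Nat.not_even_iff_odd]
    rintro ⟨k', hk'⟩
    have := pow_succ_padicValNat_not_dvd (p := 2) (n := n) hn0
    apply this
    rw [← hs']
    exact ⟨k', by rw [hn', hk', pow_succ]; ring⟩
  refine ⟨ν, hνn, ?_⟩
  rw [hn', pow_mul, hw, hn'odd.neg_one_pow]

theorem no_conj_semiinv (hF : Fintype.card F = q ^ 2) (hq : Odd q) {m : ℕ}
    (hm : 2 ≤ m) (D : Fin 2 → Submodule F (Fin n → F)) (hP : IsPolar q m (D 0) (D 1))
    (hs : padicValNat 2 n < padicValNat 2 (q + 1)) :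
    ∃ x ∈ Cfsg.GU n F q ⊓ Cfsg.Geo.specialLinear (Fin n) F, ∃ z : F,
      ((x ^ 2 : GL (Fin n) F) : Matrix (Fin n) (Fin n) F) = z • (1 : Matrix (Fin n) (Fin n) F) ∧
      (∀ z : F, (x : Matrix (Fin n) (Fin n) F) ≠ z • (1 : Matrix (Fin n) (Fin n) F)) ∧
      ∀ g ∈ Cfsg.GU n F q ⊓ Cfsg.Geo.specialLinear (Fin n) F,
        g⁻¹ * x * g ∉ Cfsg.Geo.decompositionStabilizer D := by
  classical
  have hn := hP.dim
  have h2 := two_ne_zero_of_odd hF hq
  obtain ⟨ν, hνn, hνneg⟩ := exists_nu (n := n) hF (by omega) hs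
  have hν0 : ν ≠ 0 := by
    rintro rfl
    rw [zero_pow (by omega)] at hνn
    exact zero_ne_one hνn
  have hq1even : Even (q + 1) := by
    obtain ⟨t, ht⟩ := hq
    exact ⟨t + 1, by omega⟩
  let i₀ : Fin n := ⟨0, by omega⟩
  let i₁ : Fin n := ⟨1, by omega⟩
  have hi : i₁ ≠ i₀ := by
    intro h
    have := congrArg Fin.val h
    simp [i₀, i₁] at this
  let d : Fin n → F := fun i => (-ν) * (if i = i₀ then -1 else 1)
  have hd : ∀ i, d i ^ (q + 1) = 1 := by
    intro i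
    simp only [d]
    rw [mul_pow, hq1even.neg_pow, hνn, one_mul]
    split_ifs
    · exact hq1even.neg_one_pow
    · exact one_pow _
  have hprod : ∏ i, d i = 1 := by
    simp only [d]
    rw [Finset.prod_mul_distrib, Finset.prod_const, Finset.card_univ, Fintype.card_fin,
      Finset.prod_ite_eq' Finset.univ i₀ (fun _ => (-1 : F)), if_pos (Finset.mem_univ _),
      Even.neg_pow ⟨m, by omega⟩, hνneg]
    ring
  have hd0 : d i₀ = ν := by
    show (-ν) * (if i₀ = i₀ then -1 else 1) = ν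
    rw [if_pos rfl]
    ring
  have hne : ∀ i, i ≠ i₀ → d i ≠ d i₀ := by
    intro i hii
    rw [hd0]
    simp only [d]
    rw [if_neg hii, mul_one]
    intro h
    have h3 : (2 : F) * ν = 0 := by linear_combination -h
    rcases mul_eq_zero.mp h3 with h4 | h4
    · exact h2 h4
    · exact hν0 h4
  have hdd : ∀ i, d i * d i = ν * ν := by
    intro i
    simp only [d]
    split_ifs <;> ring
  set x : GL (Fin n) F := ((Helper13.diagGU n q d hd : Cfsg.GU n F q) : GL (Fin n) F) with hx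
  have hxval : (x : Matrix (Fin n) (Fin n) F) = Matrix.diagonal d := Helper13.diagGU_val n q d hd
  have hxmem := diagGU_mem d hd hprod
  have hxx : (x : Matrix (Fin n) (Fin n) F) * (x : Matrix (Fin n) (Fin n) F) =
      (ν * ν) • (1 : Matrix (Fin n) (Fin n) F) := by
    rw [hxval, Matrix.diagonal_mul_diagonal]
    ext a b
    by_cases hab : a = b
    · subst hab
      rw [Matrix.diagonal_apply_eq, Matrix.smul_apply, Matrix.one_apply_eq, hdd, smul_eq_mul,
        mul_one]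
    · rw [Matrix.diagonal_apply_ne _ hab, Matrix.smul_apply, Matrix.one_apply_ne hab, smul_zero]
  refine ⟨x, hxmem, ν * ν, ?_, ?_, ?_⟩
  · rw [Units.val_pow_eq_pow_val, pow_two, hxx]
  · intro z
    rw [hxval]
    exact diagonal_not_scalar d i₀ i₁ hi hne z
  · intro g hg hmem
    have hfr : finrank F (eig (x : Matrix (Fin n) (Fin n) F) ν) = 1 := by
      rw [hxval, ← hd0, finrank_eig_diagonal d i₀ hne]
    have hsw := swap_of_odd_eig hF D hP x g (Subgroup.mem_inf.mp hxmem).1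
      (Subgroup.mem_inf.mp hg).1 ν hνn (by rw [hfr]; exact odd_one) hmem
    have hyy : ((g⁻¹ * x * g : GL (Fin n) F) : Matrix (Fin n) (Fin n) F) *
        ((g⁻¹ * x * g : GL (Fin n) F) : Matrix (Fin n) (Fin n) F) =
        (ν * ν) • (1 : Matrix (Fin n) (Fin n) F) := by
      have h3 : (g⁻¹ * x * g) * (g⁻¹ * x * g) = g⁻¹ * (x * x) * g := by group
      rw [← Units.val_mul, h3, Units.val_mul, Units.val_mul, Units.val_mul, hxx, Matrix.mul_smul,
        Matrix.mul_one, Matrix.smul_mul, ← Units.val_mul, inv_mul_cancel, Units.val_one]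
    have h4 := le_finrank_eig_of_swap hP _ hsw.1 ν hν0 hyy
    rw [finrank_eig_conj g x ν, hfr] at h4
    omega

end Cfsg.Agent.Lib.Helper8.UPair
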