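import Cfsg.Agent.Lib.Helper8.UPairEven

/-!
# `SU` is transitive on polar pairs (for S5984)
-/

set_option autoImplicit false
set_option linter.unusedSectionVars false
set_option linter.unusedVariables false

namespace Cfsg.Agent.Lib.Helper8.UPair

open Matrix Module Cfsg.Agent.Lib.Helper99

variable {F : Type*} [Field F] [Fintype F] {q n : ℕ}

local notation "hh" => Cfsg.hermForm n F q

/-- a torus element of `GU` fixing both members of a polar pair, with prescribed determinant -/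
theorem exists_det_fix (hF : Fintype.card F = q ^ 2) {m : ℕ} (hm : 0 < m)
    {U W : Submodule F (Fin n → F)} (h : IsPolar q m U W) (δ : F) (hδ : δ ^ (q + 1) = 1) :
    ∃ d : GL (Fin n) F, d ∈ Cfsg.GU n F q ∧ (d : Matrix (Fin n) (Fin n) F).det = δ⁻¹ ∧
      (∀ x ∈ U, (d : Matrix (Fin n) (Fin n) F) *ᵥ x ∈ U) ∧
      (∀ x ∈ W, (d : Matrix (Fin n) (Fin n) F) *ᵥ x ∈ W) := by
  obtain ⟨u, w, hfr, hsu, hsw⟩ := h.exists_frame' hF hm
  set u' : Fin n → F := u ⟨0, hm⟩ with hu'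
  set w₁ : Fin n → F := w ⟨0, hm⟩ with hw₁
  have hu'U : u' ∈ U := by rw [← hsu]; exact Submodule.subset_span ⟨_, rfl⟩
  have hw₁W : w₁ ∈ W := by rw [← hsw]; exact Submodule.subset_span ⟨_, rfl⟩
  have h1 : hh w₁ u' = 1 := by rw [hfr.fe hF, if_pos rfl]
  have h2 : hh u' w₁ = 1 := by rw [hfr.ef, if_pos rfl]
  have h3 : hh w₁ w₁ = 0 := hfr.ff _ _
  have hu'0 : hh u' u' = 0 := hfr.ee _ _
  obtain ⟨a, ha0, haq⟩ := exists_hilbert90 hF δ hδ
  have hδ0 : δ ≠ 0 := by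
    rintro rfl
    rw [zero_pow (by omega)] at hδ
    exact zero_ne_one hδ
  have haq0 : a ^ q ≠ 0 := pow_ne_zero _ ha0
  set b : F := (a ^ q)⁻¹ with hb
  have hb0 : b ≠ 0 := inv_ne_zero haq0
  have hbq : b ^ q = a⁻¹ := by rw [hb, inv_pow, Helper13.pow_q_pow_q hF]
  set d₁ : GL (Fin n) F := rk1GL w₁ (fun j => (a - 1) * (u' j) ^ q) with hd₁
  set d₂ : GL (Fin n) F := rk1GL u' (fun j => (b - 1) * (w₁ j) ^ q) with hd₂
  have hne₁ : 1 + (fun j => (a - 1) * (u' j) ^ q) ⬝ᵥ w₁ ≠ 0 := by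
    rw [utv_dot, h1, mul_one, add_sub_cancel]
    exact ha0
  have hne₂ : 1 + (fun j => (b - 1) * (w₁ j) ^ q) ⬝ᵥ u' ≠ 0 := by
    rw [utv_dot, h2, mul_one, add_sub_cancel]
    exact hb0
  have hd₁x : ∀ x, (d₁ : Matrix (Fin n) (Fin n) F) *ᵥ x = x + ((a - 1) * hh x u') • w₁ := by
    intro x
    rw [hd₁, coe_rk1GL _ _ hne₁, rk1_mulVec, utv_dot]
  have hd₂x : ∀ x, (d₂ : Matrix (Fin n) (Fin n) F) *ᵥ x = x + ((b - 1) * hh x w₁) • u' := by
    intro x
    rw [hd₂, coe_rk1GL _ _ hne₂, rk1_mulVec, utv_dot]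
  have hdx : ∀ x, ((d₁ * d₂ : GL (Fin n) F) : Matrix (Fin n) (Fin n) F) *ᵥ x =
      x + ((b - 1) * hh x w₁) • u' + ((a - 1) * hh x u') • w₁ := by
    intro x
    rw [Units.val_mul, ← mulVec_mulVec, hd₂x, hd₁x, Helper13.hermForm_add_left,
      Helper13.hermForm_smul_left, hu'0, mul_zero, add_zero]
  have hab1 : a * b ^ q = 1 := by rw [hbq, mul_inv_cancel₀ ha0]
  have hab2 : b * a ^ q = 1 := by rw [hb, inv_mul_cancel₀ haq0]
  refine ⟨d₁ * d₂, ?_, ?_, ?_, ?_⟩
  · rw [Helper13.mem_GU_iff]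
    intro x y
    rw [hdx, hdx]
    simp only [Helper13.hermForm_add_left, Helper13.hermForm_add_right hF,
      Helper13.hermForm_smul_left, Helper13.hermForm_smul_right, hu'0, h1, h2, h3, mul_pow]
    have e1 : (hh y w₁) ^ q = hh w₁ y := Helper13.hermForm_conj hF n y w₁
    have e2 : (hh y u') ^ q = hh u' y := Helper13.hermForm_conj hF n y u'
    rw [e1, e2, frob_sub hF, frob_sub hF, one_pow]
    linear_combination (hh x u' * hh w₁ y) * hab1 + (hh x w₁ * hh u' y) * hab2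
  · rw [Units.val_mul, Matrix.det_mul, hd₁, hd₂, coe_rk1GL _ _ hne₁, coe_rk1GL _ _ hne₂, det_rk1,
      det_rk1, utv_dot, utv_dot, h1, h2, mul_one, mul_one, add_sub_cancel, add_sub_cancel, hb, haq]
    field_simp
  · intro x hx
    rw [hdx, h.tsU x hx u' hu'U, mul_zero, zero_smul, add_zero]
    exact U.add_mem hx (U.smul_mem _ hu'U)
  · intro x hx
    rw [hdx, h.tsW x hx w₁ hw₁W, mul_zero, zero_smul, add_zero]
    exact W.add_mem hx (W.smul_mem _ hw₁W)

/-- an invertible matrix mapping a subspace into itself maps it onto itself -/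
theorem map_eq_of_le (g : GL (Fin n) F) (U : Submodule F (Fin n → F))
    (h : ∀ x ∈ U, (g : Matrix (Fin n) (Fin n) F) *ᵥ x ∈ U) :
    U.map (Matrix.toLin' (g : Matrix (Fin n) (Fin n) F)) = U := by
  apply Submodule.eq_of_le_of_finrank_eq
  · rintro _ ⟨x, hx, rfl⟩
    rw [Matrix.toLin'_apply]
    exact h x hx
  · exact gl_map_finrank g U

/-- `SU` is transitive on polar pairs -/
theorem exists_SU_map (hF : Fintype.card F = q ^ 2) {m : ℕ} (hm : 0 < m)
    {U W U' W' : Submodule F (Fin n → F)} (h : IsPolar q m U W) (h' : IsPolar q m U' W') :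
    ∃ g : GL (Fin n) F, g ∈ Cfsg.GU n F q ⊓ Cfsg.Geo.specialLinear (Fin n) F ∧
      U.map (Matrix.toLin' (g : Matrix (Fin n) (Fin n) F)) = U' ∧
      W.map (Matrix.toLin' (g : Matrix (Fin n) (Fin n) F)) = W' := by
  obtain ⟨u, w, hfr, hsu, hsw⟩ := h.exists_frame' hF hm
  obtain ⟨u', w', hfr', hsu', hsw'⟩ := h'.exists_frame' hF hm
  obtain ⟨g₀, hg₀, hg₀u, hg₀w⟩ := exists_GU_frame_map hF hfr hfr'
  have hδ := Helper13.GU_det_pow hF n g₀ hg₀
  obtain ⟨d, hd, hddet, hdU, hdW⟩ := exists_det_fix hF hm h _ hδ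
  have hδ0 : (g₀ : Matrix (Fin n) (Fin n) F).det ≠ 0 := by
    intro h0
    rw [h0, zero_pow (by omega)] at hδ
    exact zero_ne_one hδ
  have hsl : g₀ * d ∈ Cfsg.Geo.specialLinear (Fin n) F := by
    rw [mem_specialLinear_iff, Units.val_mul, Matrix.det_mul, hddet, mul_inv_cancel₀ hδ0]
  refine ⟨g₀ * d, Subgroup.mem_inf.mpr ⟨Subgroup.mul_mem _ hg₀ hd, hsl⟩, ?_, ?_⟩
  · rw [Units.val_mul, Matrix.toLin'_mul, Submodule.map_comp, map_eq_of_le d U hdU, ← hsu, ← hsu']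
    exact map_span_range _ u u' hg₀u
  · rw [Units.val_mul, Matrix.toLin'_mul, Submodule.map_comp, map_eq_of_le d W hdW, ← hsw, ← hsw']
    exact map_span_range _ w w' hg₀w

/-- a conjugate lies in the stabilizer of the pair as soon as the element fixes the image pair -/
theorem conj_mem_stab (D : Fin 2 → Submodule F (Fin n → F)) (g x : GL (Fin n) F)
    (U' W' : Submodule F (Fin n → F))
    (hgU : (D 0).map (Matrix.toLin' (g : Matrix (Fin n) (Fin n) F)) = U')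
    (hgW : (D 1).map (Matrix.toLin' (g : Matrix (Fin n) (Fin n) F)) = W')
    (hxU : U'.map (Matrix.toLin' (x : Matrix (Fin n) (Fin n) F)) = U')
    (hxW : W'.map (Matrix.toLin' (x : Matrix (Fin n) (Fin n) F)) = W') :
    g⁻¹ * x * g ∈ Cfsg.Geo.decompositionStabilizer D := by
  have key : ∀ (P P' : Submodule F (Fin n → F)),
      P.map (Matrix.toLin' (g : Matrix (Fin n) (Fin n) F)) = P' →
      P'.map (Matrix.toLin' (x : Matrix (Fin n) (Fin n) F)) = P' →
      P.map (Matrix.toLin' ((g⁻¹ * x * g : GL (Fin n) F) : Matrix (Fin n) (Fin n) F)) = P := by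
    intro P P' h1 h2
    rw [Units.val_mul, Units.val_mul, Matrix.toLin'_mul, Matrix.toLin'_mul, Submodule.map_comp,
      Submodule.map_comp, h1, h2, ← h1, ← Submodule.map_comp, ← Matrix.toLin'_mul,
      ← Units.val_mul, inv_mul_cancel, Units.val_one, Matrix.toLin'_one, Submodule.map_id]
  refine ⟨1, Fin.forall_fin_two.mpr ⟨?_, ?_⟩⟩
  · rw [Equiv.Perm.one_apply]
    exact key _ _ hgU hxU
  · rw [Equiv.Perm.one_apply]
    exact key _ _ hgW hxW

end Cfsg.Agent.Lib.Helper8.UPair
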