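import Cfsg.Agent.Lib.Helper8.UnitaryLagrange

/-!
# An isometry of order `r` commuting with a self-adjoint nilpotent operator

Let `V` be a nondegenerate hermitian space of dimension `m ≥ 4` over the field with `q ^ 2`
elements, `X` an isometry with `X ^ r = 1` (`r` a prime different from the characteristic) and
`T ≠ 0` a nilpotent self-adjoint operator commuting with `X`.  If `r` divides no `|GU_k(q)|`
with `1 ≤ k ≤ m - 2`, then `X = 1`.
-/

set_option autoImplicit false

namespace Cfsg.Agent.Lib.Helper8.ULag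

open Cfsg.Agent.Lib.Helper40.Herm

universe u

section core
variable {F : Type u} [Field F] [Fintype F] {q : ℕ}

/-- The square-zero case. -/
theorem eq_one_of_commute_sq_zero (hF : Fintype.card F = q ^ 2) {V : Type u} [AddCommGroup V]
    [Module F V] [FiniteDimensional F V] (H : V →ₗ[F] V →ₛₗ[tauHom hF] F) (hH : IsHermitian H)
    (hnd : HNondeg H) (m : ℕ) (hm : Module.finrank F V = m) (hm4 : 4 ≤ m) (r : ℕ)
    (hr : r.Prime) (hr0 : (r : F) ≠ 0)
    (hGU : ∀ k, 1 ≤ k → k + 2 ≤ m → ¬ r ∣ Nat.card (Cfsg.GU k F q))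
    (X M : Module.End F V) (hinv : HInv H X) (hXr : X ^ r = 1)
    (hM : ∀ u v, H (M u) v = H u (M v)) (hM0 : M ≠ 0) (hMM : M * M = 0)
    (hXM : X * M = M * X) : X = 1 := by
  classical
  have hXMv : ∀ v, X (M v) = M (X v) := fun v => by
    have := congrArg (fun f : Module.End F V => f v) hXM
    exact this
  have hMMv : ∀ v, M (M v) = 0 := fun v => by
    have := congrArg (fun f : Module.End F V => f v) hMM
    exact this
  -- a general tool: `X` is trivial on small nondegenerate invariant subspaces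
  have tool : ∀ (H' : V →ₗ[F] V →ₛₗ[tauHom hF] F), IsHermitian H' → HInv H' X →
      ∀ W : Submodule F V, HNondegOn H' W → Module.finrank F W + 2 ≤ m →
      (∀ x ∈ W, X x ∈ W) → ∀ w ∈ W, X w = w := by
    intro H' hH' hinv' W hW hWm hXW w hw
    by_contra hne
    have hk1 : 1 ≤ Module.finrank F W := by
      by_contra h0
      have h0' : Module.finrank F W = 0 := by omega
      have hbot : W = ⊥ := Submodule.finrank_eq_zero.mp h0'
      rw [hbot, Submodule.mem_bot] at hw
      apply hne
      rw [hw, map_zero]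
    exact hGU _ hk1 hWm
      (prime_dvd_card_GU_sub hF H' hH' W hW _ rfl r hr X hinv' hXr hXW w hw hne)
  set K : Submodule F V := LinearMap.ker M with hKdef
  set I : Submodule F V := LinearMap.range M with hIdef
  have hIK : I ≤ K := by
    rintro _ ⟨v, rfl⟩
    exact LinearMap.mem_ker.mpr (hMMv v)
  have hrank : Module.finrank F I + Module.finrank F K = m := by
    rw [← hm]; exact LinearMap.finrank_range_add_finrank_ker M
  have hI1 : 1 ≤ Module.finrank F I := by
    by_contra h0
    have h0' : Module.finrank F I = 0 := by omega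
    have hbot : I = ⊥ := Submodule.finrank_eq_zero.mp h0'
    apply hM0
    apply LinearMap.ext
    intro v
    have : M v ∈ I := LinearMap.mem_range_self M v
    rw [hbot, Submodule.mem_bot] at this
    rw [this]; rfl
  have hIKle : Module.finrank F I ≤ Module.finrank F K := Submodule.finrank_mono hIK
  -- the form `H (M u) v`
  set H₁ : V →ₗ[F] V →ₛₗ[tauHom hF] F := H.comp M with hH₁def
  have hH₁ : ∀ u v, H₁ u v = H (M u) v := fun u v => rfl
  have hH₁herm : IsHermitian H₁ := by
    intro u v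
    rw [hH₁, hH₁, hH, hM]
  have hH₁inv : HInv H₁ X := by
    intro u v
    rw [hH₁, hH₁, ← hXMv, hinv]
  have hXK : ∀ x ∈ K, X x ∈ K := by
    intro x hx
    rw [hKdef, LinearMap.mem_ker] at hx ⊢
    rw [← hXMv, hx, map_zero]
  obtain ⟨D', hXD', hcD'⟩ := exists_invariant_compl X r hr0 hXr K hXK
  have hD'dim : Module.finrank F D' = Module.finrank F I := by
    have := Submodule.finrank_add_eq_of_isCompl hcD'
    omega
  have hD'nd : HNondegOn H₁ D' := by
    intro x hx hxy
    have hMx : M x = 0 := by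
      apply hnd
      intro v
      have hv : v ∈ K ⊔ D' := by rw [hcD'.sup_eq_top]; trivial
      obtain ⟨k, hk, d, hd, rfl⟩ := Submodule.mem_sup.mp hv
      rw [map_add, ← hH₁ x d, hxy d hd, add_zero, hM]
      rw [hKdef, LinearMap.mem_ker] at hk
      rw [hk, map_zero]
    have hxK : x ∈ K := LinearMap.mem_ker.mpr hMx
    have : x ∈ K ⊓ D' := ⟨hxK, hx⟩
    rw [hcD'.inf_eq_bot, Submodule.mem_bot] at this
    exact this
  have hfixD' : ∀ w ∈ D', X w = w :=
    tool H₁ hH₁herm hH₁inv D' hD'nd (by omega) hXD'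
  have hMX : ∀ v, M (X v) = M v := by
    intro v
    have hv : v ∈ K ⊔ D' := by rw [hcD'.sup_eq_top]; trivial
    obtain ⟨k, hk, d, hd, rfl⟩ := Submodule.mem_sup.mp hv
    have hk' := hXK k hk
    rw [hKdef, LinearMap.mem_ker] at hk hk'
    rw [map_add, map_add, hk', hfixD' d hd, map_add, hk]
  have hXMfix : ∀ v, X (M v) = M v := fun v => by rw [hXMv, hMX]
  -- fixed space and commutator space
  set C : Submodule F V := LinearMap.ker (X - 1) with hCdef
  set D : Submodule F V := LinearMap.range (X - 1) with hDdef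
  have hCmem : ∀ v, v ∈ C ↔ X v = v := by
    intro v
    rw [hCdef, LinearMap.mem_ker, LinearMap.sub_apply, Module.End.one_apply, sub_eq_zero]
  have hXC : ∀ x ∈ C, X x ∈ C := by
    intro x hx
    rw [hCmem] at hx ⊢
    rw [hx, hx]
  have hXD : ∀ x ∈ D, X x ∈ D := by
    rintro _ ⟨v, rfl⟩
    refine ⟨X v, ?_⟩
    simp only [LinearMap.sub_apply, Module.End.one_apply, map_sub]
  have hDK : D ≤ K := by
    rintro _ ⟨v, rfl⟩
    rw [hKdef, LinearMap.mem_ker, LinearMap.sub_apply, Module.End.one_apply, map_sub, hMX,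
      sub_self]
  have hIC : I ≤ C := by
    rintro _ ⟨v, rfl⟩
    rw [hCmem]
    exact hXMfix v
  have hDC : ∀ x ∈ D, ∀ c ∈ C, H x c = 0 := by
    rintro _ ⟨v, rfl⟩ c hc
    rw [hCmem] at hc
    rw [LinearMap.sub_apply, Module.End.one_apply, map_sub, LinearMap.sub_apply]
    nth_rewrite 1 [← hc]
    rw [hinv, sub_self]
  have hdisj : Disjoint C D := by
    obtain ⟨D'', hXD'', hcD''⟩ := exists_invariant_compl X r hr0 hXr C hXC
    have hDD'' : D ≤ D'' := by
      rintro _ ⟨v, rfl⟩
      have hv : v ∈ C ⊔ D'' := by rw [hcD''.sup_eq_top]; trivial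
      obtain ⟨c, hc, d, hd, rfl⟩ := Submodule.mem_sup.mp hv
      rw [hCmem] at hc
      rw [LinearMap.sub_apply, Module.End.one_apply, map_add, hc]
      have : c + X d - (c + d) = X d - d := by abel
      rw [this]
      exact D''.sub_mem (hXD'' d hd) hd
    exact hcD''.disjoint.mono_right hDD''
  have hCD : C ⊔ D = ⊤ := by
    apply Submodule.eq_top_of_disjoint C D ?_ hdisj
    have := LinearMap.finrank_range_add_finrank_ker (X - 1)
    rw [← hCdef, ← hDdef] at this
    omega
  have hDnd : HNondegOn H D := by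
    intro x hx hxy
    apply hnd
    intro v
    have hv : v ∈ C ⊔ D := by rw [hCD]; trivial
    obtain ⟨c, hc, d, hd, rfl⟩ := Submodule.mem_sup.mp hv
    rw [map_add, hDC x hx c hc, hxy d hd, add_zero]
  have hDdim : Module.finrank F D + 2 ≤ m := by
    have hdisj2 : Disjoint D I := (hdisj.mono_left hIC).symm
    have h1 : Module.finrank F (D ⊔ I : Submodule F V) ≤ Module.finrank F K :=
      Submodule.finrank_mono (sup_le hDK hIK)
    have h2 := Submodule.finrank_sup_add_finrank_inf_eq D I
    rw [hdisj2.eq_bot, finrank_bot, add_zero] at h2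
    omega
  have hfixD : ∀ w ∈ D, X w = w := tool H hH hinv D hDnd hDdim hXD
  have hDC' : D ≤ C := fun w hw => (hCmem w).mpr (hfixD w hw)
  have hDbot : D = ⊥ := by
    rw [eq_bot_iff]
    intro w hw
    have : w ∈ C ⊓ D := ⟨hDC' hw, hw⟩
    rw [hdisj.eq_bot] at this
    exact this
  apply LinearMap.ext
  intro v
  have : (X - 1) v ∈ D := LinearMap.mem_range_self _ v
  rw [hDbot, Submodule.mem_bot, LinearMap.sub_apply, Module.End.one_apply, sub_eq_zero] at this
  rw [this]; rfl

/-- The general nilpotent case. -/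
theorem eq_one_of_commute_nilpotent (hF : Fintype.card F = q ^ 2) {V : Type u} [AddCommGroup V]
    [Module F V] [FiniteDimensional F V] (H : V →ₗ[F] V →ₛₗ[tauHom hF] F) (hH : IsHermitian H)
    (hnd : HNondeg H) (m : ℕ) (hm : Module.finrank F V = m) (hm4 : 4 ≤ m) (r : ℕ)
    (hr : r.Prime) (hr0 : (r : F) ≠ 0)
    (hGU : ∀ k, 1 ≤ k → k + 2 ≤ m → ¬ r ∣ Nat.card (Cfsg.GU k F q))
    (X T : Module.End F V) (hinv : HInv H X) (hXr : X ^ r = 1)
    (hT : ∀ u v, H (T u) v = H u (T v)) (hT0 : T ≠ 0) (hTn : ∃ e : ℕ, T ^ e = 0)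
    (hXT : X * T = T * X) : X = 1 := by
  classical
  have hpow : ∀ j : ℕ, ∀ u v, H ((T ^ j) u) v = H u ((T ^ j) v) := by
    intro j
    induction j with
    | zero => intro u v; rfl
    | succ j ih =>
      intro u v
      rw [pow_succ, Module.End.mul_apply, ih, hT, ← Module.End.mul_apply, ← pow_succ', pow_succ]
  have h10 : (1 : Module.End F V) ≠ 0 := by
    intro h
    apply hT0
    rw [← mul_one T, h, mul_zero]
  set e₀ := Nat.find hTn with he₀
  have he₀spec : T ^ e₀ = 0 := Nat.find_spec hTn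
  have he₀2 : 2 ≤ e₀ := by
    by_contra hlt
    have hcases : e₀ = 0 ∨ e₀ = 1 := by omega
    rcases hcases with h | h
    · rw [h, pow_zero] at he₀spec
      exact h10 he₀spec
    · rw [h, pow_one] at he₀spec
      exact hT0 he₀spec
  have hMne : T ^ (e₀ - 1) ≠ 0 := by
    intro h
    have := Nat.find_min' hTn h
    omega
  have hMM : T ^ (e₀ - 1) * T ^ (e₀ - 1) = 0 := by
    rw [← pow_add]
    have : e₀ - 1 + (e₀ - 1) = e₀ + (e₀ - 2) := by omega
    rw [this, pow_add, he₀spec, zero_mul]
  have hcomm : X * T ^ (e₀ - 1) = T ^ (e₀ - 1) * X :=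
    ((show Commute X T from hXT).pow_right (e₀ - 1)).eq
  exact eq_one_of_commute_sq_zero hF H hH hnd m hm hm4 r hr hr0 hGU X (T ^ (e₀ - 1)) hinv hXr
    (hpow (e₀ - 1)) hMne hMM hcomm

end core

end Cfsg.Agent.Lib.Helper8.ULag
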